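import Mathlib

/-!
# Ext and exact adjoint pairs (helper10)

Let `F ⊣ G` be an adjunction between abelian categories with `G` exact and `F` preserving
monomorphisms (so that `G` preserves injective objects), and assume the target of `F` has enough
injectives.  Then `Ext^n (F X) Z ≃+ Ext^n X (G Z)` for all `n`.
-/

open CategoryTheory Abelian Limits

namespace Groth.Agent.Lib.Helper10.ExtAdj

universe w w' v v' u u'

variable {C : Type u} [Category.{v} C] [Abelian C] {D : Type u'} [Category.{v'} D] [Abelian D]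
  [HasExt.{w} C] [HasExt.{w'} D]
  {F : C ⥤ D} {G : D ⥤ C} (adj : F ⊣ G) [G.Additive] [PreservesFiniteLimits G]
  [PreservesFiniteColimits G]

/-- the comparison map `Ext^n (F X) Z → Ext^n X (G Z)` -/
noncomputable def phi (X : C) (Z : D) (n : ℕ) : Ext.{w'} (F.obj X) Z n →+ Ext.{w} X (G.obj Z) n :=
  ((Ext.mk₀ (adj.unit.app X)).precomp (G.obj Z) (zero_add n)).comp (G.mapExtAddHom (F.obj X) Z n)

lemma phi_apply (X : C) (Z : D) (n : ℕ) (e : Ext.{w'} (F.obj X) Z n) :
    phi adj X Z n e = (Ext.mk₀ (adj.unit.app X)).comp (e.mapExactFunctor G) (zero_add n) := rfl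

lemma phi_comp_mk₀ (X : C) {Z Z' : D} (n : ℕ) (e : Ext.{w'} (F.obj X) Z n) (g : Z ⟶ Z') :
    phi adj X Z' n (e.comp (Ext.mk₀ g) (add_zero n)) =
      (phi adj X Z n e).comp (Ext.mk₀ (G.map g)) (add_zero n) := by
  rw [phi_apply, phi_apply, Ext.mapExactFunctor_comp, Ext.mapExactFunctor_mk₀, Ext.comp_assoc]
  all_goals omega

lemma phi_comp_extClass (X : C) {S : ShortComplex D} (hS : S.ShortExact) (n : ℕ)
    (e : Ext.{w'} (F.obj X) S.X₃ n) {m : ℕ} (h : n + 1 = m) :
    phi adj X S.X₁ m (e.comp hS.extClass h) =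
      (phi adj X S.X₃ n e).comp (hS.map_of_exact G).extClass h := by
  subst h
  rw [phi_apply, phi_apply, Ext.mapExactFunctor_comp, Ext.mapExactFunctor_extClass]
  exact (Ext.comp_assoc _ _ _ (zero_add n) rfl (by omega)).symm

lemma phi_zero_bijective (X : C) (Z : D) : Function.Bijective (phi adj X Z 0) := by
  have h : ∀ f : F.obj X ⟶ Z, phi adj X Z 0 (Ext.mk₀ f) = Ext.mk₀ (adj.homEquiv X Z f) := by
    intro f
    rw [phi_apply, Ext.mapExactFunctor_mk₀, Ext.mk₀_comp_mk₀, Adjunction.homEquiv_unit]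
  constructor
  · intro a b hab
    obtain ⟨f, rfl⟩ := (Ext.mk₀_bijective _ _).2 a
    obtain ⟨g, rfl⟩ := (Ext.mk₀_bijective _ _).2 b
    rw [h, h] at hab
    have := (adj.homEquiv X Z).injective ((Ext.mk₀_bijective _ _).1 hab)
    rw [this]
  · intro y
    obtain ⟨f, rfl⟩ := (Ext.mk₀_bijective _ _).2 y
    exact ⟨Ext.mk₀ ((adj.homEquiv X Z).symm f), by rw [h, Equiv.apply_symm_apply]⟩

/-- the short exact sequence `0 → Z → J → J/Z → 0` with `J` injective -/
noncomputable def injSC [EnoughInjectives D] (Z : D) : ShortComplex D :=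
  ShortComplex.mk (Injective.ι Z) (cokernel.π (Injective.ι Z)) (by simp)

lemma injSC_shortExact [EnoughInjectives D] (Z : D) : (injSC Z).ShortExact where
  exact := ShortComplex.exact_cokernel _
  mono_f := by dsimp [injSC]; infer_instance
  epi_g := by dsimp [injSC]; infer_instance

variable [EnoughInjectives D] [F.PreservesMonomorphisms]

include adj in
lemma injective_G_under (Z : D) : Injective (G.obj (injSC Z).X₂) := by
  have : Injective (injSC Z).X₂ := by dsimp [injSC]; infer_instance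
  exact Injective.injective_of_adjoint adj _

omit [EnoughInjectives D] [F.PreservesMonomorphisms] in
lemma phi_bijective_step (X : C) (n : ℕ) (S : ShortComplex D) (hS : S.ShortExact)
    (h₂ : Injective S.X₂) (hG₂ : Injective (G.obj S.X₂))
    (ih : ∀ (Z : D), Function.Bijective (phi adj X Z n)) :
    Function.Bijective (phi adj X S.X₁ (n + 1)) := by
  have hGS := hS.map_of_exact G
  have : Injective (S.map G).X₂ := hG₂
  constructor
  · rw [injective_iff_map_eq_zero]
    intro e he
    obtain ⟨e₃, rfl⟩ := Ext.covariant_sequence_exact₁ _ hS e (Ext.eq_zero_of_injective _) rfl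
    rw [phi_comp_extClass adj X hS n e₃ rfl] at he
    obtain ⟨y₂, hy₂⟩ := Ext.covariant_sequence_exact₃ _ hGS _ rfl he
    obtain ⟨e₂, rfl⟩ := (ih S.X₂).2 y₂
    have h1 : phi adj X S.X₃ n (e₂.comp (Ext.mk₀ S.g) (add_zero n)) =
        phi adj X S.X₃ n e₃ := by
      rw [phi_comp_mk₀]; exact hy₂
    have h2 := (ih S.X₃).1 h1
    rw [← h2, Ext.comp_assoc_of_second_deg_zero, hS.comp_extClass, Ext.comp_zero]
  · intro y
    obtain ⟨y₃, rfl⟩ := Ext.covariant_sequence_exact₁ _ hGS y (Ext.eq_zero_of_injective _) rfl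
    obtain ⟨e₃, rfl⟩ := (ih S.X₃).2 y₃
    exact ⟨e₃.comp hS.extClass rfl, phi_comp_extClass adj X hS n e₃ rfl⟩

theorem phi_bijective (n : ℕ) : ∀ (X : C) (Z : D), Function.Bijective (phi adj X Z n) := by
  induction n with
  | zero => exact fun X Z => phi_zero_bijective adj X Z
  | succ n ih =>
    intro X Z
    exact phi_bijective_step adj X n (injSC Z) (injSC_shortExact Z)
      (by dsimp [injSC]; infer_instance) (injective_G_under adj Z) (ih X)

/-- `Ext^n (F X) Z ≃+ Ext^n X (G Z)` for an exact right adjoint `G` whose left adjoint preserves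
monomorphisms. -/
noncomputable def extAddEquiv (X : C) (Z : D) (n : ℕ) :
    Ext.{w'} (F.obj X) Z n ≃+ Ext.{w} X (G.obj Z) n :=
  AddEquiv.ofBijective (phi adj X Z n) (phi_bijective adj n X Z)

include adj in
/-- if `F X = 0` then `Ext^n X (G Z) = 0` -/
theorem eq_zero_of_isZero {X : C} (hX : IsZero (F.obj X)) (Z : D) (n : ℕ)
    (e : Ext.{w} X (G.obj Z) n) : e = 0 := by
  obtain ⟨e', rfl⟩ := (phi_bijective adj n X Z).2 e
  have : e' = 0 := by
    have h1 : e' = (Ext.mk₀ (𝟙 (F.obj X))).comp e' (zero_add n) := (Ext.mk₀_id_comp e').symm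
    rw [h1, hX.eq_of_src (𝟙 (F.obj X)) 0, Ext.mk₀_zero, Ext.zero_comp]
  rw [this, map_zero]

end Groth.Agent.Lib.Helper10.ExtAdj
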