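import Mathlib

/-!
# Artin–Schreier basics (helper10)

* `wp_add`, `pow_pow_eq_add_wp`: additivity of `x ↦ x ^ p - x` and the telescoping identity.
* `exists_gen`: a Galois extension of degree `p` in characteristic `p` is generated by a root of
  `z ^ p - z = ξ`.
-/

set_option autoImplicit false
set_option linter.style.haveILetI false
set_option linter.unusedSectionVars false

namespace Groth.Agent.Lib.Helper10.AS1

open Finset

theorem wp_add {R : Type*} [CommRing R] (p : ℕ) [Fact p.Prime] [CharP R p] (x y : R) :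
    (x + y) ^ p - (x + y) = (x ^ p - x) + (y ^ p - y) := by
  rw [add_pow_char]; ring

theorem wp_sub {R : Type*} [CommRing R] (p : ℕ) [Fact p.Prime] [CharP R p] (x y : R) :
    (x - y) ^ p - (x - y) = (x ^ p - x) - (y ^ p - y) := by
  rw [sub_pow_char]; ring

theorem pow_pow_eq_add_wp {R : Type*} [CommRing R] (p : ℕ) [Fact p.Prime] [CharP R p] (y : R)
    (s : ℕ) :
    y ^ (p ^ s) = y + ((∑ k ∈ range s, y ^ (p ^ k)) ^ p - ∑ k ∈ range s, y ^ (p ^ k)) := by
  induction s with
  | zero => simp [zero_pow (Fact.out : p.Prime).ne_zero]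
  | succ s ih =>
    rw [sum_range_succ, add_pow_char, ← pow_mul, ← pow_succ]
    have := ih
    linear_combination ih

theorem exists_gen (p : ℕ) [hp : Fact p.Prime] {L M : Type*} [Field L] [Field M] [Algebra L M]
    [CharP L p] [IsGalois L M] (hdeg : Module.finrank L M = p) :
    ∃ (z : M) (ξ : L), z ^ p - z = algebraMap L M ξ ∧ Algebra.adjoin L {z} = ⊤ := by
  classical
  haveI : FiniteDimensional L M := Module.finite_of_finrank_pos (hdeg ▸ hp.out.pos)
  haveI : CharP M p := charP_of_injective_algebraMap (algebraMap L M).injective p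
  have hcard : Nat.card Gal(M/L) = p := (IsGalois.card_aut_eq_finrank L M).trans hdeg
  haveI : Nontrivial Gal(M/L) := by
    rw [← Finite.one_lt_card_iff_nontrivial, hcard]
    exact hp.out.one_lt
  obtain ⟨σ, hσ⟩ := exists_ne (1 : Gal(M/L))
  have hz : Subgroup.zpowers σ = ⊤ := zpowers_eq_top_of_prime_card hcard hσ
  have hord : orderOf σ = p := by
    rw [← Nat.card_zpowers, hz, Subgroup.card_top, hcard]
  obtain ⟨θ, hθ⟩ := Algebra.trace_surjective L M 1
  have htr : ∑ i ∈ range p, (σ ^ i) θ = 1 := by
    have h1 := trace_eq_sum_automorphisms (K := L) θ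
    rw [hθ, map_one] at h1
    have himg : (Finset.univ : Finset Gal(M/L)) = (range (orderOf σ)).image (fun i => σ ^ i) := by
      ext τ
      simp only [mem_univ, true_iff]
      have : τ ∈ Subgroup.zpowers σ := hz ▸ Subgroup.mem_top τ
      exact mem_zpowers_iff_mem_range_orderOf.mp this
    rw [himg, sum_image, hord] at h1
    · exact h1.symm
    · intro i hi j hj hij
      exact pow_injOn_Iio_orderOf (by simpa using hi) (by simpa using hj) hij
  set g : ℕ → M := fun i => (σ ^ i) θ with hg
  set f : ℕ → M := fun i => (i : M) * g i with hf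
  have hσg : ∀ i, σ (g i) = g (i + 1) := by
    intro i
    show σ ((σ ^ i) θ) = (σ ^ (i + 1)) θ
    rw [pow_succ']
    rfl
  have hgp : g p = g 0 := by
    show (σ ^ p) θ = (σ ^ 0) θ
    rw [← hord, pow_orderOf_eq_one, pow_zero]
  have hfp : f p = 0 := by
    show (p : M) * g p = 0
    rw [CharP.cast_eq_zero, zero_mul]
  have hf0 : f 0 = 0 := by
    show ((0 : ℕ) : M) * g 0 = 0
    rw [Nat.cast_zero, zero_mul]
  set z₀ : M := ∑ i ∈ range p, f i with hz₀
  have hσz₀ : σ z₀ = z₀ - 1 := by
    have e1 : σ z₀ = ∑ i ∈ range p, (f (i + 1) - g (i + 1)) := by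
      rw [hz₀, map_sum]
      refine sum_congr rfl fun i _ => ?_
      show σ ((i : M) * g i) = ((i + 1 : ℕ) : M) * g (i + 1) - g (i + 1)
      rw [map_mul, map_natCast, hσg]
      push_cast
      ring
    have e2 : ∑ i ∈ range p, f (i + 1) = z₀ := by
      have := sum_range_succ' f p
      rw [sum_range_succ, hfp, hf0, add_zero, add_zero] at this
      exact this.symm
    have e3 : ∑ i ∈ range p, g (i + 1) = 1 := by
      have := sum_range_succ' g p
      rw [sum_range_succ, hgp] at this
      have h4 : ∑ i ∈ range p, g (i + 1) = ∑ i ∈ range p, g i := by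
        linear_combination -this
      rw [h4]
      exact htr
    rw [e1, sum_sub_distrib, e2, e3]
  set z : M := -z₀ with hzdef
  have hσz : σ z = z + 1 := by
    rw [hzdef, map_neg, hσz₀]; ring
  have hfix : σ (z ^ p - z) = z ^ p - z := by
    rw [map_sub, map_pow, hσz, add_pow_char, one_pow]; ring
  have hall : ∀ τ : Gal(M/L), τ (z ^ p - z) = z ^ p - z := by
    intro τ
    have h1 : σ ∈ MulAction.stabilizer Gal(M/L) (z ^ p - z) := by
      rw [MulAction.mem_stabilizer_iff]
      exact hfix
    have h2 : Subgroup.zpowers σ ≤ MulAction.stabilizer Gal(M/L) (z ^ p - z) :=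
      (Subgroup.zpowers_le).mpr h1
    have h3 : τ ∈ MulAction.stabilizer Gal(M/L) (z ^ p - z) := h2 (hz ▸ Subgroup.mem_top τ)
    rw [MulAction.mem_stabilizer_iff] at h3
    exact h3
  have hbot : z ^ p - z ∈ (⊥ : IntermediateField L M) := (IsGalois.mem_bot_iff_fixed _).mpr hall
  obtain ⟨ξ, hξ⟩ := IntermediateField.mem_bot.mp hbot
  have hznot : z ∉ (⊥ : IntermediateField L M) := by
    intro hzb
    obtain ⟨l, hl⟩ := IntermediateField.mem_bot.mp hzb
    have h1 : σ z = z := by rw [← hl]; exact σ.commutes l
    rw [hσz] at h1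
    have h2 : (1 : M) = 0 := by linear_combination h1
    exact one_ne_zero h2
  refine ⟨z, ξ, hξ.symm, ?_⟩
  haveI hso : IsSimpleOrder (IntermediateField L M) :=
    IntermediateField.isSimpleOrder_of_finrank_prime L M (hdeg ▸ hp.out)
  have htop : IntermediateField.adjoin L {z} = ⊤ := by
    rcases hso.eq_bot_or_eq_top (IntermediateField.adjoin L {z}) with h | h
    · exfalso
      apply hznot
      rw [← h]
      exact IntermediateField.mem_adjoin_simple_self L z
    · exact h
  have hint : IsIntegral L z := Algebra.IsIntegral.isIntegral z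
  have := IntermediateField.adjoin_simple_toSubalgebra_of_isAlgebraic (hint.isAlgebraic)
  rw [htop, IntermediateField.top_toSubalgebra] at this
  exact this.symm

end Groth.Agent.Lib.Helper10.AS1
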