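import Mathlib
import Groth.Agent.Lib.Helper10.AS1

/-!
# Artin–Schreier normal form over a weakly unramified extension of DVRs (helper10)
-/

set_option autoImplicit false
set_option linter.style.haveILetI false
set_option linter.unusedSectionVars false
set_option linter.unusedVariables false

universe u

namespace Groth.Agent.Lib.Helper10.AS2

open Finset IsLocalRing Groth.Agent.Lib.Helper10.AS1

section

variable (p : ℕ) [hp : Fact p.Prime] {A B K L : Type u} [CommRing A] [IsDomain A]
  [IsDiscreteValuationRing A] [CommRing B] [IsDomain B] [IsDiscreteValuationRing B] [Algebra A B]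
  [IsLocalHom (algebraMap A B)]
  [Field K] [Field L] [Algebra A K] [IsFractionRing A K] [Algebra B L] [IsFractionRing B L]
  [Algebra K L] [Algebra A L] [IsScalarTower A K L] [IsScalarTower A B L] [CharP L p]
  (π : A) (hπA : Irreducible π) (hπB : Irreducible (algebraMap A B π))
  (hk : ∀ x : ResidueField B, (∀ n : ℕ, ∃ y : ResidueField B, y ^ (p ^ n) = x) ↔
    x ∈ Set.range (algebraMap (ResidueField A) (ResidueField B)))

theorem charP_resB [CharP B p] : CharP (ResidueField B) p := by
  have h0 : ((p : ℕ) : ResidueField B) = 0 := by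
    rw [← map_natCast (residue B), CharP.cast_eq_zero, map_zero]
  exact (CharP.charP_iff_prime_eq_zero hp.out).mpr h0

include hπB in
theorem exists_eq_add (a x : B) (h : residue B a = residue B x) :
    ∃ a' : B, a = x + algebraMap A B π * a' := by
  have h1 : a - x ∈ maximalIdeal B := by
    rw [← residue_eq_zero_iff, map_sub, h, sub_self]
  rw [hπB.maximalIdeal_eq, Ideal.mem_span_singleton'] at h1
  obtain ⟨a', ha'⟩ := h1
  exact ⟨a', by linear_combination -ha'⟩

include hπA hk in
theorem perfectA [CharP B p] (a : A) : ∃ a' a'' : A, a = a' ^ p + π * a'' := by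
  haveI := charP_resB (B := B) p
  have hx : algebraMap (ResidueField A) (ResidueField B) (residue A a) ∈
      Set.range (algebraMap (ResidueField A) (ResidueField B)) := ⟨_, rfl⟩
  have h1 := (hk _).mpr hx
  obtain ⟨y, hy⟩ := h1 1
  rw [pow_one] at hy
  have hyr : y ∈ Set.range (algebraMap (ResidueField A) (ResidueField B)) := by
    rw [← hk]
    intro n
    obtain ⟨y', hy'⟩ := h1 (n + 1)
    refine ⟨y', ?_⟩
    apply frobenius_inj (ResidueField B) p
    show (y' ^ p ^ n) ^ p = y ^ p
    rw [← pow_mul, ← pow_succ, hy', hy]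
  obtain ⟨r, hr⟩ := hyr
  obtain ⟨a', rfl⟩ := residue_surjective r
  have h2 : residue A a = residue A (a' ^ p) := by
    apply (algebraMap (ResidueField A) (ResidueField B)).injective
    rw [map_pow, map_pow, hr, hy]
  have h3 : a - a' ^ p ∈ maximalIdeal A := by
    rw [← residue_eq_zero_iff, map_sub, h2, sub_self]
  rw [hπA.maximalIdeal_eq, Ideal.mem_span_singleton'] at h3
  obtain ⟨a'', ha''⟩ := h3
  exact ⟨a', a'', by linear_combination -ha''⟩

include hk in
theorem exists_root_pow (x : ResidueField B)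
    (hx : x ∉ Set.range (algebraMap (ResidueField A) (ResidueField B))) :
    ∃ (s : ℕ) (μ : ResidueField B), μ ^ (p ^ s) = x ∧ ∀ r : ResidueField B, r ^ p ≠ μ := by
  classical
  have h1 : ∃ n : ℕ, ¬ ∃ y : ResidueField B, y ^ (p ^ n) = x := by
    by_contra hcon
    push Not at hcon
    exact hx ((hk x).mp hcon)
  have hmin : ∀ m, m < Nat.find h1 → ¬ ¬ ∃ y : ResidueField B, y ^ (p ^ m) = x :=
    fun m hm => Nat.find_min h1 hm
  have hspec := Nat.find_spec h1
  set n₀ := Nat.find h1 with hn₀
  have hn0 : n₀ ≠ 0 := by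
    intro h0
    rw [h0] at hspec
    exact hspec ⟨x, by simp⟩
  obtain ⟨s, hs⟩ := Nat.exists_eq_succ_of_ne_zero hn0
  have h2 : ∃ μ : ResidueField B, μ ^ (p ^ s) = x := by
    by_contra hcon
    exact hmin s (by omega) hcon
  obtain ⟨μ, hμ⟩ := h2
  refine ⟨s, μ, hμ, fun r hr => hspec ⟨r, ?_⟩⟩
  rw [hs, Nat.succ_eq_add_one, pow_succ', pow_mul, hr, hμ]

theorem step_aux (n : ℕ) (ξ X ϖ ia ix ia' : L) (hϖ : ϖ ≠ 0) (h1 : ξ * ϖ ^ (n + 1) = ia)
    (hX : X * ϖ ^ (n + 1) = ix) (h2 : ia = ix + ϖ * ia') : (ξ - X) * ϖ ^ n = ia' := by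
  apply mul_right_cancel₀ hϖ
  linear_combination h1 - hX + h2

/-- The data of a normal form with pole bound `n`. -/
def NF (n : ℕ) (ξ : L) : Prop :=
  ∃ (l : L) (η : K) (b : B) (J : Finset ℕ) (c : ℕ → B) (s : ℕ → ℕ),
    ξ = (l ^ p - l) + algebraMap K L η +
      (∑ j ∈ J, (algebraMap B L (c j)) ^ (p ^ (s j)) / (algebraMap A L π) ^ j) +
        algebraMap B L b ∧
    (∃ a₀ : A, η * (algebraMap A K π) ^ n = algebraMap A K a₀) ∧
    (η = 0 ∨ ∃ (n' : ℕ) (u : A), 0 < n' ∧ ¬ p ∣ n' ∧ IsUnit u ∧
      η * (algebraMap A K π) ^ n' = algebraMap A K u) ∧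
    ∀ j ∈ J, 1 ≤ j ∧ j ≤ n ∧ (∀ r : B, residue B (c j) ≠ residue B r ^ p) ∧
      (s j = 0 ∨ ¬ p ∣ j)

theorem NF.mono {n : ℕ} {ξ : L} (h : NF (A := A) (B := B) (K := K) p π n ξ) :
    NF (A := A) (B := B) (K := K) p π (n + 1) ξ := by
  obtain ⟨l, η, b, J, c, s, h1, ⟨a₀, h2⟩, h3, h4⟩ := h
  refine ⟨l, η, b, J, c, s, h1, ⟨a₀ * π, ?_⟩, h3, fun j hj => ?_⟩
  · rw [pow_succ, ← mul_assoc, h2, map_mul]
  · obtain ⟨h5, h6, h7, h8⟩ := h4 j hj
    exact ⟨h5, by omega, h7, h8⟩

theorem NF.add_wp {n : ℕ} {ξ : L} (y : L)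
    (h : NF (A := A) (B := B) (K := K) p π n (ξ - (y ^ p - y))) :
    NF (A := A) (B := B) (K := K) p π n ξ := by
  obtain ⟨l, η, b, J, c, s, h1, h2, h3, h4⟩ := h
  refine ⟨l + y, η, b, J, c, s, ?_, h2, h3, h4⟩
  rw [wp_add]
  linear_combination h1

include hπA hπB hk in
theorem nf (n : ℕ) : ∀ ξ : L, (∃ a : B, ξ * (algebraMap A L π) ^ n = algebraMap B L a) →
    NF (A := A) (B := B) (K := K) p π n ξ := by
  classical
  haveI : CharP B p :=
    (RingHom.charP_iff (algebraMap B L) (IsFractionRing.injective B L) p).mpr inferInstance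
  haveI := charP_resB (B := B) p
  have hp0 : p ≠ 0 := hp.out.ne_zero
  have hϖ : algebraMap A L π ≠ 0 := by
    rw [IsScalarTower.algebraMap_apply A B L]
    intro h
    exact hπB.ne_zero (IsFractionRing.injective B L (by rw [h, map_zero]))
  have hϖB : algebraMap B L (algebraMap A B π) = algebraMap A L π :=
    (IsScalarTower.algebraMap_apply A B L π).symm
  have hϖK : algebraMap K L (algebraMap A K π) = algebraMap A L π :=
    (IsScalarTower.algebraMap_apply A K L π).symm
  induction n with
  | zero =>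
    rintro ξ ⟨a, ha⟩
    rw [pow_zero, mul_one] at ha
    refine ⟨0, 0, a, ∅, fun _ => 0, fun _ => 0, ?_, ⟨0, by simp⟩, Or.inl rfl, fun j hj => ?_⟩
    · rw [zero_pow hp0, sub_zero, map_zero, sum_empty, ha]; ring
    · exact absurd hj (notMem_empty j)
  | succ n ih =>
    rintro ξ ⟨a, ha⟩
    by_cases ham : a ∈ maximalIdeal B
    · -- case (0)
      rw [hπB.maximalIdeal_eq, Ideal.mem_span_singleton'] at ham
      obtain ⟨a', ha'⟩ := ham
      apply NF.mono
      apply ih
      refine ⟨a', ?_⟩
      apply mul_right_cancel₀ hϖ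
      rw [mul_assoc, ← pow_succ, ha, ← ha', map_mul, hϖB]
    have hau : IsUnit a := by
      rw [mem_maximalIdeal, mem_nonunits_iff, not_not] at ham
      exact ham
    by_cases h1 : p ∣ n + 1 ∧ ∃ r : B, residue B a = residue B r ^ p
    · -- case (1)
      obtain ⟨⟨m, hm⟩, r, hr⟩ := h1
      have hm1 : 1 ≤ m := by
        rcases Nat.eq_zero_or_pos m with h | h
        · rw [h, mul_zero] at hm; omega
        · exact h
      have hmn : m ≤ n := by
        have : 2 * m ≤ p * m := Nat.mul_le_mul_right m hp.out.two_le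
        omega
      rw [← map_pow] at hr
      obtain ⟨a₁, ha₁⟩ := exists_eq_add π hπB a (r ^ p) hr
      set y : L := algebraMap B L r / (algebraMap A L π) ^ m with hy
      apply NF.add_wp p π y
      apply NF.mono
      apply ih
      refine ⟨a₁ + r * (algebraMap A B π) ^ (n - m), ?_⟩
      have hX : (y ^ p - y) * (algebraMap A L π) ^ (n + 1) =
          algebraMap B L (r ^ p) - (algebraMap A L π) * (algebraMap B L r *
            (algebraMap A L π) ^ (n - m)) := by
        have e1 : (algebraMap A L π) ^ (n + 1) = ((algebraMap A L π) ^ m) ^ p := by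
          rw [← pow_mul, mul_comm, ← hm]
        have e2 : (algebraMap A L π) ^ (n + 1) =
            (algebraMap A L π) ^ m * ((algebraMap A L π) * (algebraMap A L π) ^ (n - m)) := by
          rw [← pow_succ', ← pow_add]
          congr 1
          omega
        rw [sub_mul, hy, div_pow]
        congr 1
        · rw [e1, div_mul_cancel₀ _ (pow_ne_zero _ (pow_ne_zero _ hϖ)), map_pow]
        · rw [e2]
          field_simp
      refine step_aux n ξ _ _ _ _ _ hϖ ha hX ?_
      rw [ha₁]
      simp only [map_add, map_mul, map_pow, hϖB]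
      ring
    by_cases h2 : residue B a ∈ Set.range (algebraMap (ResidueField A) (ResidueField B))
    · -- case (2)
      obtain ⟨x, hx⟩ := h2
      obtain ⟨a₀, rfl⟩ := residue_surjective x
      rw [ResidueField.algebraMap_residue] at hx
      have hpn : ¬ p ∣ n + 1 := by
        intro hdvd
        apply h1
        refine ⟨hdvd, ?_⟩
        obtain ⟨a', a'', e⟩ := perfectA (B := B) p π hπA hk a₀
        refine ⟨algebraMap A B a', ?_⟩
        rw [← hx, e, map_add, map_add, map_mul, map_mul, map_pow, map_pow]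
        have : residue B (algebraMap A B π) = 0 := by
          rw [residue_eq_zero_iff, hπB.maximalIdeal_eq]
          exact Ideal.mem_span_singleton_self _
        rw [this, zero_mul, add_zero]
      have ha₀u : IsUnit a₀ := by
        by_contra hnu
        have h3 : residue A a₀ = 0 := by
          rw [residue_eq_zero_iff, mem_maximalIdeal, mem_nonunits_iff]
          exact hnu
        have h4 : residue B (algebraMap A B a₀) = 0 := by
          rw [← ResidueField.algebraMap_residue, h3, map_zero]
        rw [hx, residue_eq_zero_iff, mem_maximalIdeal, mem_nonunits_iff] at h4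
        exact h4 hau
      obtain ⟨a', ha'⟩ := exists_eq_add π hπB a (algebraMap A B a₀) hx.symm
      set X : L := algebraMap K L (algebraMap A K a₀ / (algebraMap A K π) ^ (n + 1)) with hX
      have hXmul : X * (algebraMap A L π) ^ (n + 1) = algebraMap B L (algebraMap A B a₀) := by
        rw [hX, map_div₀, map_pow, hϖK, div_mul_cancel₀ _ (pow_ne_zero _ hϖ),
          ← IsScalarTower.algebraMap_apply A K L, IsScalarTower.algebraMap_apply A B L]
      have hξ' : (ξ - X) * (algebraMap A L π) ^ n = algebraMap B L a' := by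
        refine step_aux n ξ X _ _ _ _ hϖ ha hXmul ?_
        rw [ha', map_add, map_mul, hϖB]
      obtain ⟨l, η, b, J, c, s, e1, ⟨a₁, e2⟩, e3, e4⟩ := ih (ξ - X) ⟨a', hξ'⟩
      have hπK0 : algebraMap A K π ≠ 0 := by
        intro h
        exact hπA.ne_zero (IsFractionRing.injective A K (by rw [h, map_zero]))
      have hηnew : (η + algebraMap A K a₀ / (algebraMap A K π) ^ (n + 1)) *
          (algebraMap A K π) ^ (n + 1) = algebraMap A K (a₁ * π + a₀) := by
        rw [add_mul, div_mul_cancel₀ _ (pow_ne_zero _ hπK0), pow_succ, ← mul_assoc, e2, map_add,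
          map_mul]
      refine ⟨l, η + algebraMap A K a₀ / (algebraMap A K π) ^ (n + 1), b, J, c, s, ?_,
        ⟨a₁ * π + a₀, hηnew⟩, Or.inr ⟨n + 1, a₁ * π + a₀, Nat.succ_pos n, hpn, ?_, hηnew⟩,
        fun j hj => ?_⟩
      · rw [map_add, ← hX]
        linear_combination e1
      · have hmem : a₁ * π ∈ maximalIdeal A := by
          rw [hπA.maximalIdeal_eq]
          exact Ideal.mul_mem_left _ _ (Ideal.mem_span_singleton_self _)
        by_contra hnu
        have h5 : a₁ * π + a₀ ∈ maximalIdeal A := by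
          rw [mem_maximalIdeal, mem_nonunits_iff]; exact hnu
        have h6 : a₀ ∈ maximalIdeal A := by
          have := Ideal.sub_mem _ h5 hmem
          rwa [add_sub_cancel_left] at this
        rw [mem_maximalIdeal, mem_nonunits_iff] at h6
        exact h6 ha₀u
      · obtain ⟨h5, h6, h7, h8⟩ := e4 j hj
        exact ⟨h5, by omega, h7, h8⟩
    · -- case (3)
      obtain ⟨s₀, μ, hμ, hμp⟩ := exists_root_pow p hk _ h2
      obtain ⟨c₀, rfl⟩ := residue_surjective μ
      rw [← map_pow] at hμ
      obtain ⟨a', ha'⟩ := exists_eq_add π hπB a (c₀ ^ p ^ s₀) hμ.symm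
      have hsj : s₀ = 0 ∨ ¬ p ∣ n + 1 := by
        by_contra hcon
        push Not at hcon
        obtain ⟨hs0, hdvd⟩ := hcon
        apply h1
        refine ⟨hdvd, c₀ ^ p ^ (s₀ - 1), ?_⟩
        rw [← hμ, map_pow, map_pow, ← pow_mul, ← pow_succ]
        congr 2
        omega
      set X : L := (algebraMap B L c₀) ^ (p ^ s₀) / (algebraMap A L π) ^ (n + 1) with hX
      have hXmul : X * (algebraMap A L π) ^ (n + 1) = algebraMap B L (c₀ ^ p ^ s₀) := by
        rw [hX, div_mul_cancel₀ _ (pow_ne_zero _ hϖ), map_pow]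
      have hξ' : (ξ - X) * (algebraMap A L π) ^ n = algebraMap B L a' := by
        refine step_aux n ξ X _ _ _ _ hϖ ha hXmul ?_
        rw [ha', map_add, map_mul, hϖB]
      obtain ⟨l, η, b, J, c, s, e1, ⟨a₁, e2⟩, e3, e4⟩ := ih (ξ - X) ⟨a', hξ'⟩
      have hnotin : n + 1 ∉ J := by
        intro hj
        have := (e4 _ hj).2.1
        omega
      refine ⟨l, η, b, insert (n + 1) J, Function.update c (n + 1) c₀,
        Function.update s (n + 1) s₀, ?_, ⟨a₁ * π, ?_⟩, e3, fun j hj => ?_⟩
      · rw [sum_insert hnotin, Function.update_self, Function.update_self]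
        have hsum : ∑ j ∈ J, (algebraMap B L (Function.update c (n + 1) c₀ j)) ^
            (p ^ (Function.update s (n + 1) s₀ j)) / (algebraMap A L π) ^ j =
            ∑ j ∈ J, (algebraMap B L (c j)) ^ (p ^ (s j)) / (algebraMap A L π) ^ j := by
          refine sum_congr rfl fun j hj => ?_
          have hne : j ≠ n + 1 := fun h => hnotin (h ▸ hj)
          rw [Function.update_of_ne hne, Function.update_of_ne hne]
        rw [hsum, ← hX]
        linear_combination e1
      · rw [pow_succ, ← mul_assoc, e2, map_mul]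
      · rcases mem_insert.mp hj with rfl | hj'
        · rw [Function.update_self, Function.update_self]
          refine ⟨Nat.succ_pos n, le_rfl, fun r hr => hμp (residue B r) hr.symm, hsj⟩
        · have hne : j ≠ n + 1 := fun h => hnotin (h ▸ hj')
          rw [Function.update_of_ne hne, Function.update_of_ne hne]
          obtain ⟨h5, h6, h7, h8⟩ := e4 j hj'
          exact ⟨h5, by omega, h7, h8⟩

end

end Groth.Agent.Lib.Helper10.AS2
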