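import Mathlib
import Groth.Agent.Lib.Helper10.AS1

/-!
# Expansions in a DVR with perfect residue field; comparison of `1/π` and `1/π₁^q` (helper10)
-/

set_option autoImplicit false
set_option linter.style.haveILetI false
set_option linter.unusedSectionVars false
set_option linter.unusedVariables false

universe u

namespace Groth.Agent.Lib.Helper10.AS3

open Finset

section Perfect

variable (p : ℕ) [hp : Fact p.Prime] {A : Type*} [CommRing A] [CharP A p] (π : A)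
  (hperf : ∀ a : A, ∃ a' a'' : A, a = a' ^ p + π * a'')

include hperf in
theorem perfect_pow (r : ℕ) : ∀ a : A, ∃ a' a'' : A, a = a' ^ (p ^ r) + π * a'' := by
  induction r with
  | zero => intro a; exact ⟨a, 0, by simp⟩
  | succ r ih =>
    intro a
    obtain ⟨a₁, a₂, h1⟩ := hperf a
    obtain ⟨b, b', h2⟩ := ih a₁
    have hp1 : p = (p - 1) + 1 := by have := hp.out.pos; omega
    have hπp : π ^ p = π * π ^ (p - 1) := by
      conv_lhs => rw [hp1]
      rw [pow_succ']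
    refine ⟨b, π ^ (p - 1) * b' ^ p + a₂, ?_⟩
    rw [h1, h2, add_pow_char, mul_pow, hπp, ← pow_mul, ← pow_succ]
    ring

end Perfect

section Expand

variable (p : ℕ) [hp : Fact p.Prime] {A K : Type*} [CommRing A] [IsDomain A] [Field K] [Algebra A K]
  [IsFractionRing A K] [CharP A p] (π : A) (hπ0 : π ≠ 0)
  (hperf : ∀ a : A, ∃ a' a'' : A, a = a' ^ p + π * a'')

include hπ0 hperf in
theorem expand (r : ℕ) (n : ℕ) : ∀ η : K, (∃ a₀ : A, η * (algebraMap A K π) ^ n = algebraMap A K a₀) →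
    ∃ (y : ℕ → A) (a : A), η = ∑ i ∈ range (n + 1),
      (algebraMap A K (y i)) ^ (p ^ r) / (algebraMap A K π) ^ i + algebraMap A K a := by
  classical
  have hπK : algebraMap A K π ≠ 0 := by
    intro h
    exact hπ0 (IsFractionRing.injective A K (by rw [h, map_zero]))
  have hq0 : p ^ r ≠ 0 := pow_ne_zero _ hp.out.ne_zero
  induction n with
  | zero =>
    rintro η ⟨a₀, h⟩
    rw [pow_zero, mul_one] at h
    refine ⟨fun _ => 0, a₀, ?_⟩
    simp [h, zero_pow hq0]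
  | succ n ih =>
    rintro η ⟨a₀, h⟩
    obtain ⟨y₀, a'', e⟩ := perfect_pow p π hperf r a₀
    have h' : (η - (algebraMap A K y₀) ^ (p ^ r) / (algebraMap A K π) ^ (n + 1)) *
        (algebraMap A K π) ^ n = algebraMap A K a'' := by
      apply mul_right_cancel₀ hπK
      rw [mul_assoc, ← pow_succ, sub_mul, div_mul_cancel₀ _ (pow_ne_zero _ hπK), h, e, map_add,
        map_mul, map_pow]
      ring
    obtain ⟨y, a, hy⟩ := ih _ ⟨a'', h'⟩
    refine ⟨Function.update y (n + 1) y₀, a, ?_⟩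
    rw [sum_range_succ, Function.update_self]
    have hsum : ∑ i ∈ range (n + 1), (algebraMap A K (Function.update y (n + 1) y₀ i)) ^ (p ^ r) /
        (algebraMap A K π) ^ i = ∑ i ∈ range (n + 1), (algebraMap A K (y i)) ^ (p ^ r) /
        (algebraMap A K π) ^ i := by
      refine sum_congr rfl fun i hi => ?_
      have : i ≠ n + 1 := by have := mem_range.mp hi; omega
      rw [Function.update_of_ne this]
    rw [hsum]
    linear_combination hy

end Expand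

section Compare

variable {F : Type*} [Field F] (T : Subring F) (ϖ P b₁ b₂ : F) (hϖT : ϖ ∈ T) (hPT : P ∈ T)
  (hb₁ : b₁ ∈ T) (hb₂ : b₂ ∈ T) (hϖ0 : ϖ ≠ 0) (hP0 : P ≠ 0) (N : ℕ) (hN : 2 ≤ N)
  (h1 : P = ϖ + ϖ ^ N * b₁) (h2 : P = ϖ + P ^ N * b₂)

include hϖT hPT hb₁ hb₂ hϖ0 hP0 hN h1 h2 in
theorem compare : ∀ j k : ℕ, j + k + 1 = N → ∃ t ∈ T, (ϖ⁻¹) ^ j - (P⁻¹) ^ j = ϖ ^ k * t := by
  set δ : F := 1 - P ^ (N - 1) * b₂ with hδ
  have hδT : δ ∈ T := T.sub_mem T.one_mem (T.mul_mem (T.pow_mem hPT _) hb₂)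
  have hN1 : N = (N - 1) + 1 := by omega
  have hN2 : N = (N - 2) + 2 := by omega
  have e1 : ϖ = P * δ := by
    rw [hδ, mul_sub, mul_one, ← mul_assoc, ← pow_succ', ← hN1]
    linear_combination -h2
  have eY : P⁻¹ = ϖ⁻¹ * δ := by
    rw [e1, mul_inv, mul_assoc, inv_mul_cancel₀, mul_one]
    intro h
    rw [h, mul_zero] at e1
    exact hϖ0 e1
  have eXY : ϖ⁻¹ - P⁻¹ = ϖ ^ (N - 2) * (δ * b₁) := by
    have h3 : P * (ϖ⁻¹ - P⁻¹) = ϖ ^ (N - 1) * b₁ := by
      rw [mul_sub, mul_inv_cancel₀ hP0]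
      conv_lhs => rw [h1]
      rw [add_mul, mul_inv_cancel₀ hϖ0]
      conv_lhs => rw [hN1, pow_succ, mul_assoc, mul_comm b₁, ← mul_assoc, mul_assoc _ ϖ,
        mul_inv_cancel₀ hϖ0]
      ring
    have h4 : ϖ⁻¹ - P⁻¹ = P⁻¹ * (ϖ ^ (N - 1) * b₁) := by
      rw [← h3, ← mul_assoc, inv_mul_cancel₀ hP0, one_mul]
    rw [h4, eY]
    have h5 : ϖ ^ (N - 1) = ϖ * ϖ ^ (N - 2) := by
      rw [← pow_succ']; congr 1; omega
    rw [h5]
    field_simp
  intro j
  induction j with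
  | zero =>
    intro k _
    exact ⟨0, T.zero_mem, by simp⟩
  | succ j ih =>
    intro k hk
    obtain ⟨t, ht, e⟩ := ih (k + 1) (by omega)
    refine ⟨t + δ ^ (j + 1) * b₁, T.add_mem ht (T.mul_mem (T.pow_mem hδT _) hb₁), ?_⟩
    have h6 : (ϖ⁻¹) ^ (j + 1) - (P⁻¹) ^ (j + 1) =
        ϖ⁻¹ * ((ϖ⁻¹) ^ j - (P⁻¹) ^ j) + (P⁻¹) ^ j * (ϖ⁻¹ - P⁻¹) := by ring
    have h7 : N - 2 = j + k := by omega
    rw [h6, e, eXY, eY, h7, mul_pow]
    have h8 : (ϖ⁻¹) ^ j * ϖ ^ j = 1 := by rw [← mul_pow, inv_mul_cancel₀ hϖ0, one_pow]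
    have h9 : ϖ⁻¹ * ϖ = 1 := inv_mul_cancel₀ hϖ0
    linear_combination (ϖ ^ k * t) * h9 + (δ ^ j * ϖ ^ k * (δ * b₁)) * h8

end Compare

end Groth.Agent.Lib.Helper10.AS3
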