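import Mathlib

/-!
# von Neumann regular rings and generation of DVRs (helper10)

* `IsVNR R`: every `x` is `x * x * y`.
* `isVNR_of_isReduced_of_isIntegral`: a reduced ring integral over a field is von Neumann regular.
* `DVRGen`: if a subring `S` of a DVR `W` contains a nonzero element `π` of the maximal ideal, is
  von Neumann regular modulo `π`, and every element of `W` is a quotient of elements of `S`, then
  `π` is a uniformizer of `W` and `W` is the localization of `S` at the centre.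
-/

set_option linter.unusedSectionVars false

namespace Groth.Agent.Lib.Helper10.VNRGen

/-- von Neumann regularity. -/
def IsVNR (R : Type*) [CommRing R] : Prop := ∀ x : R, ∃ y : R, x = x * x * y

theorem IsVNR.of_surjective {R S : Type*} [CommRing R] [CommRing S] (f : R →+* S)
    (hf : Function.Surjective f) (h : IsVNR R) : IsVNR S := by
  intro s
  obtain ⟨r, rfl⟩ := hf s
  obtain ⟨y, hy⟩ := h r
  exact ⟨f y, by rw [← map_mul, ← map_mul, ← hy]⟩

theorem IsVNR.isReduced {R : Type*} [CommRing R] (h : IsVNR R) : IsReduced R := by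
  refine ⟨fun x hx => ?_⟩
  obtain ⟨n, hn⟩ := hx
  obtain ⟨y, hy⟩ := h x
  have key : ∀ k : ℕ, x = x ^ (k + 1) * y ^ k := by
    intro k
    induction k with
    | zero => simp
    | succ k ih =>
      calc x = x * x * y := hy
        _ = (x ^ (k + 1) * y ^ k) * x * y := by rw [← ih]
        _ = x ^ (k + 1 + 1) * y ^ (k + 1) := by ring
  rw [key n, pow_succ, hn, zero_mul, zero_mul]

open Polynomial in
theorem isVNR_of_isReduced_of_isIntegral {k R : Type*} [Field k] [CommRing R] [IsReduced R]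
    (φ : k →+* R) (hφ : φ.IsIntegral) : IsVNR R := by
  intro x
  obtain ⟨p, hpm, hpx⟩ := hφ x
  have hp0 : p ≠ 0 := hpm.ne_zero
  obtain ⟨m, hm⟩ : ∃ m, m = p.natTrailingDegree := ⟨_, rfl⟩
  obtain ⟨q, hq⟩ : X ^ m ∣ p := by
    rw [X_pow_dvd_iff]
    intro d hd
    exact coeff_eq_zero_of_lt_natTrailingDegree (hm ▸ hd)
  have hq0 : q.coeff 0 ≠ 0 := by
    have h1 : p.coeff (0 + m) = q.coeff 0 := by
      have := congrArg (fun r => r.coeff (0 + m)) hq
      simpa only [coeff_X_pow_mul] using this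
    rw [zero_add, hm] at h1
    rw [← h1]
    exact (trailingCoeff_nonzero_iff_nonzero.mpr hp0)
  have hqd : q = divX q * X + C (q.coeff 0) := (divX_mul_X_add q).symm
  set t := eval₂ φ x q with ht
  have h2 : x ^ m * t = 0 := by
    rw [ht, ← hpx, hq, eval₂_mul, eval₂_pow, eval₂_X]
  have h3 : x * t = 0 := by
    have h4 : (x * t) ^ (m + 1) = 0 := by
      rw [mul_pow, pow_succ, pow_succ]
      calc x ^ m * x * (t ^ m * t) = (x ^ m * t) * (x * t ^ m) := by ring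
        _ = 0 := by rw [h2, zero_mul]
    exact (IsReduced.eq_zero _ ⟨_, h4⟩)
  have h5 : t = eval₂ φ x (divX q) * x + φ (q.coeff 0) := by
    rw [ht]
    conv_lhs => rw [hqd]
    rw [eval₂_add, eval₂_mul, eval₂_X, eval₂_C]
  refine ⟨-(φ (q.coeff 0)⁻¹) * eval₂ φ x (divX q), ?_⟩
  have h6 : φ (q.coeff 0) * φ (q.coeff 0)⁻¹ = 1 := by
    rw [← map_mul, mul_inv_cancel₀ hq0, map_one]
  rw [h5] at h3
  have h7 : x * φ (q.coeff 0) = -(x * x * eval₂ φ x (divX q)) := by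
    linear_combination h3
  calc x = x * φ (q.coeff 0) * φ (q.coeff 0)⁻¹ := by rw [mul_assoc, h6, mul_one]
    _ = x * x * (-φ (q.coeff 0)⁻¹ * eval₂ φ x (divX q)) := by rw [h7]; ring

section DVRGen

variable {W : Type*} [CommRing W] [IsDomain W] [IsDiscreteValuationRing W] (S : Subring W)
  (π : W) (hπS : π ∈ S) (hπm : π ∈ IsLocalRing.maximalIdeal W) (hπ0 : π ≠ 0)
  (hvnr : ∀ x ∈ S, ∃ y ∈ S, ∃ c ∈ S, x = x * x * y + π * c)
  (hfrac : ∀ w : W, ∃ c₁ ∈ S, ∃ c₂ ∈ S, c₂ ≠ 0 ∧ w * c₂ = c₁)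

include hπS hπm hπ0 hvnr

theorem exists_mul_eq_pow_mul {ϖ : W} (hϖ : Irreducible ϖ) {n₀ : ℕ} {u₀ : Wˣ}
    (hπ : π = u₀ * ϖ ^ n₀) :
    ∀ (n : ℕ) (c : W), c ∈ S → ∀ u : Wˣ, c = u * ϖ ^ n →
      ∃ (k : ℕ), ∃ s ∈ S, ∃ t ∈ S, IsUnit s ∧ IsUnit t ∧ s * c = π ^ k * t ∧ n = k * n₀ := by
  have hn₀ : 1 ≤ n₀ := by
    by_contra hcon
    have h0 : n₀ = 0 := by omega
    rw [h0, pow_zero, mul_one] at hπ
    rw [IsLocalRing.mem_maximalIdeal, mem_nonunits_iff] at hπm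
    exact hπm (hπ ▸ u₀.isUnit)
  intro n
  induction n using Nat.strong_induction_on with
  | _ n ih =>
    intro c hcS u hc
    rcases Nat.eq_zero_or_pos n with hn | hn
    · subst hn
      refine ⟨0, 1, S.one_mem, c, hcS, isUnit_one, ?_, by simp, by simp⟩
      rw [hc, pow_zero, mul_one]
      exact u.isUnit
    · have hcm : c ∈ IsLocalRing.maximalIdeal W := by
        rw [hc, hϖ.maximalIdeal_eq]
        exact Ideal.mul_mem_left _ _ (Ideal.pow_mem_of_mem _ (Ideal.mem_span_singleton_self ϖ) n hn)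
      have hc0 : c ≠ 0 := by
        rw [hc]
        exact mul_ne_zero u.ne_zero (pow_ne_zero _ hϖ.ne_zero)
      obtain ⟨y, hyS, c', hc'S, hcy⟩ := hvnr c hcS
      have hs₀ : IsUnit (1 - c * y) := by
        have hmem : c * y ∈ IsLocalRing.maximalIdeal W := Ideal.mul_mem_right _ _ hcm
        exact IsLocalRing.isUnit_one_sub_self_of_mem_nonunits _
          ((IsLocalRing.mem_maximalIdeal _).mp hmem)
      have h1 : (1 - c * y) * c = π * c' := by linear_combination hcy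
      have hc'0 : c' ≠ 0 := by
        rintro rfl
        rw [mul_zero] at h1
        rcases mul_eq_zero.mp h1 with h | h
        · exact hs₀.ne_zero h
        · exact hc0 h
      obtain ⟨n', u', hc'⟩ := IsDiscreteValuationRing.eq_unit_mul_pow_irreducible hc'0 hϖ
      obtain ⟨us, hus⟩ := hs₀
      have h2 : ((us * u : Wˣ) : W) * ϖ ^ n = ((u₀ * u' : Wˣ) : W) * ϖ ^ (n₀ + n') := by
        rw [Units.val_mul, Units.val_mul, hus, pow_add]
        calc (1 - c * y) * (u : W) * ϖ ^ n = (1 - c * y) * c := by rw [hc]; ring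
          _ = π * c' := h1
          _ = (u₀ : W) * (u' : W) * (ϖ ^ n₀ * ϖ ^ n') := by rw [hπ, hc']; ring
      have h3 : n = n₀ + n' :=
        IsDiscreteValuationRing.unit_mul_pow_congr_pow hϖ hϖ _ _ _ _ h2
      obtain ⟨k, s, hsS, t, htS, hsu, htu, hst, hk⟩ := ih n' (by omega) c' hc'S u' hc'
      refine ⟨k + 1, s * (1 - c * y), S.mul_mem hsS (S.sub_mem S.one_mem (S.mul_mem hcS hyS)),
        t, htS, hsu.mul (hus ▸ us.isUnit), htu, ?_, ?_⟩
      · calc s * (1 - c * y) * c = s * ((1 - c * y) * c) := by ring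
          _ = s * (π * c') := by rw [h1]
          _ = π * (s * c') := by ring
          _ = π * (π ^ k * t) := by rw [hst]
          _ = π ^ (k + 1) * t := by ring
      · rw [h3, hk]; ring

include hfrac

theorem maximalIdeal_eq_span : IsLocalRing.maximalIdeal W = Ideal.span {π} := by
  obtain ⟨ϖ, hϖ⟩ := IsDiscreteValuationRing.exists_irreducible W
  obtain ⟨n₀, u₀, hπ⟩ := IsDiscreteValuationRing.eq_unit_mul_pow_irreducible hπ0 hϖ
  have key := exists_mul_eq_pow_mul S π hπS hπm hπ0 hvnr hϖ hπ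
  obtain ⟨c₁, hc₁S, c₂, hc₂S, hc₂0, hc⟩ := hfrac ϖ
  have hc₁0 : c₁ ≠ 0 := by
    rw [← hc]
    exact mul_ne_zero hϖ.ne_zero hc₂0
  obtain ⟨n₁, u₁, h₁⟩ := IsDiscreteValuationRing.eq_unit_mul_pow_irreducible hc₁0 hϖ
  obtain ⟨n₂, u₂, h₂⟩ := IsDiscreteValuationRing.eq_unit_mul_pow_irreducible hc₂0 hϖ
  have h3 : n₁ = n₂ + 1 := by
    apply IsDiscreteValuationRing.unit_mul_pow_congr_pow hϖ hϖ u₁ u₂
    rw [← h₁, ← hc, h₂]
    ring
  obtain ⟨k₁, -, -, -, -, -, -, -, hk₁⟩ := key n₁ c₁ hc₁S u₁ h₁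
  obtain ⟨k₂, -, -, -, -, -, -, -, hk₂⟩ := key n₂ c₂ hc₂S u₂ h₂
  have hn₀ : n₀ = 1 := by
    have h4 : k₁ * n₀ = k₂ * n₀ + 1 := by rw [← hk₁, ← hk₂, h3]
    have h5 : n₀ ∣ 1 := by
      have h6 : n₀ ∣ k₂ * n₀ + 1 := h4 ▸ Dvd.intro_left k₁ rfl
      exact (Nat.dvd_add_right (Dvd.intro_left k₂ rfl)).mp h6
    exact Nat.dvd_one.mp h5
  rw [hϖ.maximalIdeal_eq, hπ, hn₀, pow_one]
  exact Ideal.span_singleton_eq_span_singleton.mpr ⟨u₀, mul_comm _ _⟩

theorem exists_fraction (w : W) : ∃ c ∈ S, ∃ s ∈ S, IsUnit s ∧ w * s = c := by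
  by_cases hw0 : w = 0
  · exact ⟨0, S.zero_mem, 1, S.one_mem, isUnit_one, by rw [hw0, zero_mul]⟩
  obtain ⟨ϖ, hϖ⟩ := IsDiscreteValuationRing.exists_irreducible W
  obtain ⟨n₀, u₀, hπ⟩ := IsDiscreteValuationRing.eq_unit_mul_pow_irreducible hπ0 hϖ
  have hn₀ : 1 ≤ n₀ := by
    by_contra hcon
    have h0 : n₀ = 0 := by omega
    rw [h0, pow_zero, mul_one] at hπ
    rw [IsLocalRing.mem_maximalIdeal, mem_nonunits_iff] at hπm
    exact hπm (hπ ▸ u₀.isUnit)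
  have key := exists_mul_eq_pow_mul S π hπS hπm hπ0 hvnr hϖ hπ
  obtain ⟨c₁, hc₁S, c₂, hc₂S, hc₂0, hc⟩ := hfrac w
  have hc₁0 : c₁ ≠ 0 := by
    rw [← hc]
    exact mul_ne_zero hw0 hc₂0
  obtain ⟨n₁, u₁, h₁⟩ := IsDiscreteValuationRing.eq_unit_mul_pow_irreducible hc₁0 hϖ
  obtain ⟨n₂, u₂, h₂⟩ := IsDiscreteValuationRing.eq_unit_mul_pow_irreducible hc₂0 hϖ
  obtain ⟨nw, uw, hw⟩ := IsDiscreteValuationRing.eq_unit_mul_pow_irreducible hw0 hϖ
  have h3 : n₁ = nw + n₂ := by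
    apply IsDiscreteValuationRing.unit_mul_pow_congr_pow hϖ hϖ u₁ (uw * u₂)
    rw [← h₁, ← hc, h₂, hw, Units.val_mul, pow_add]
    ring
  obtain ⟨k₁, s₁, hs₁S, t₁, ht₁S, hs₁u, ht₁u, hst₁, hk₁⟩ := key n₁ c₁ hc₁S u₁ h₁
  obtain ⟨k₂, s₂, hs₂S, t₂, ht₂S, hs₂u, ht₂u, hst₂, hk₂⟩ := key n₂ c₂ hc₂S u₂ h₂
  have hk : k₂ ≤ k₁ := by
    have h4 : k₂ * n₀ ≤ k₁ * n₀ := by rw [← hk₁, ← hk₂, h3]; omega
    exact Nat.le_of_mul_le_mul_right h4 (by omega)
  refine ⟨s₂ * π ^ (k₁ - k₂) * t₁,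
    S.mul_mem (S.mul_mem hs₂S (S.pow_mem hπS _)) ht₁S, s₁ * t₂, S.mul_mem hs₁S ht₂S,
    hs₁u.mul ht₂u, ?_⟩
  have hπk : π ^ k₂ ≠ 0 := pow_ne_zero _ hπ0
  apply mul_left_cancel₀ hπk
  have h5 : π ^ k₁ = π ^ k₂ * π ^ (k₁ - k₂) := by rw [← pow_add]; congr 1; omega
  calc π ^ k₂ * (w * (s₁ * t₂)) = w * s₁ * (π ^ k₂ * t₂) := by ring
    _ = w * s₁ * (s₂ * c₂) := by rw [hst₂]
    _ = s₂ * (s₁ * (w * c₂)) := by ring
    _ = s₂ * (s₁ * c₁) := by rw [hc]
    _ = s₂ * (π ^ k₁ * t₁) := by rw [hst₁]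
    _ = π ^ k₂ * (s₂ * π ^ (k₁ - k₂) * t₁) := by rw [h5]; ring

/-- Every residue class of `W` is represented by an element of `S`. -/
theorem exists_sub_mem (w : W) : ∃ c ∈ S, w - c ∈ IsLocalRing.maximalIdeal W := by
  obtain ⟨c, hcS, s, hsS, hsu, hws⟩ := exists_fraction S π hπS hπm hπ0 hvnr hfrac w
  obtain ⟨y, hyS, c', hc'S, hsy⟩ := hvnr s hsS
  -- s * (1 - s*y) = π c' ∈ m, s unit ⇒ 1 - s y ∈ m
  have h1 : 1 - s * y ∈ IsLocalRing.maximalIdeal W := by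
    have h2 : s * (1 - s * y) = π * c' := by linear_combination hsy
    have h3 : s * (1 - s * y) ∈ IsLocalRing.maximalIdeal W := by
      rw [h2]; exact Ideal.mul_mem_right _ _ hπm
    rcases (IsLocalRing.maximalIdeal.isMaximal W).isPrime.mem_or_mem h3 with h | h
    · exact absurd hsu ((IsLocalRing.mem_maximalIdeal _).mp h)
    · exact h
  refine ⟨c * y, S.mul_mem hcS hyS, ?_⟩
  have h4 : w - c * y = w * (1 - s * y) := by rw [← hws]; ring
  rw [h4]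
  exact Ideal.mul_mem_left _ _ h1

end DVRGen

end Groth.Agent.Lib.Helper10.VNRGen
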