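import Mathlib
import Groth.Agent.S9407
import Groth.Agent.Lib.Helper10.VNRGen

/-!
# Kummer-type étale extensions of von Neumann regular rings (helper10)

If `X` is reduced and integral over a field, `e` and `a` are units of `X`, then any `X`-algebra
generated by an element `y` with `y ^ e = a` is von Neumann regular
(it is a quotient of the standard étale algebra `X[T]/(T^e - a)`).
-/

set_option linter.unusedSectionVars false
set_option linter.style.haveILetI false

universe u

namespace Groth.Agent.Lib.Helper10.VNREtale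

open Polynomial Groth.Agent.Lib.Helper10.VNRGen

variable {X : Type u} [CommRing X]

/-- The standard étale pair `(T^e - a, 1)`. -/
noncomputable def kummerPair (e : ℕ) (he : 0 < e) (a : X) (heu : IsUnit (e : X)) (hau : IsUnit a) :
    StandardEtalePair X where
  f := Polynomial.X ^ e - C a
  monic_f := monic_X_pow_sub_C a (ne_of_gt he)
  g := 1
  cond := by
    refine ⟨Polynomial.X * C ((↑(heu.unit⁻¹) : X) * (↑(hau.unit⁻¹) : X)),
      -C ((↑(hau.unit⁻¹) : X)), 0, ?_⟩
    have hd : derivative (Polynomial.X ^ e - C a : X[X]) = C (e : X) * Polynomial.X ^ (e - 1) := by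
      rw [derivative_sub, derivative_C, sub_zero, derivative_X_pow]
    have hX : (Polynomial.X : X[X]) ^ (e - 1) * Polynomial.X = Polynomial.X ^ e :=
      pow_sub_one_mul (ne_of_gt he) _
    have h1 : (e : X) * (↑(heu.unit⁻¹) : X) = 1 := heu.mul_val_inv
    have h2 : a * (↑(hau.unit⁻¹) : X) = 1 := hau.mul_val_inv
    rw [hd, pow_zero]
    calc C (e : X) * Polynomial.X ^ (e - 1) *
          (Polynomial.X * C ((↑(heu.unit⁻¹) : X) * (↑(hau.unit⁻¹) : X))) +
          (Polynomial.X ^ e - C a) * -C ((↑(hau.unit⁻¹) : X))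
        = C ((e : X) * (↑(heu.unit⁻¹) : X)) * C (↑(hau.unit⁻¹) : X) *
            (Polynomial.X ^ (e - 1) * Polynomial.X)
          - Polynomial.X ^ e * C ((↑(hau.unit⁻¹) : X)) + C (a * (↑(hau.unit⁻¹) : X)) := by
          simp only [C_mul]; ring
      _ = 1 := by rw [h1, h2, hX, C_1]; ring

theorem isIntegral_ring (P : StandardEtalePair X) (hg : P.g = 1) :
    Algebra.IsIntegral X P.Ring := by
  have hX : IsIntegral X P.X := ⟨P.f, P.monic_f, P.hasMap_X.1⟩
  let x' : integralClosure X P.Ring := ⟨P.X, hX⟩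
  have hmap : P.HasMap x' := by
    refine ⟨?_, ?_⟩
    · apply Subtype.ext
      have h1 : ((aeval x' P.f : integralClosure X P.Ring) : P.Ring) = aeval P.X P.f := by
        rw [← Subalgebra.coe_val, ← aeval_algHom_apply]
        rfl
      rw [h1, P.hasMap_X.1]
      rfl
    · rw [hg, map_one]
      exact isUnit_one
  let ψ : P.Ring →ₐ[X] P.Ring := (integralClosure X P.Ring).val.comp (P.lift x' hmap)
  have hψ : ψ = AlgHom.id X P.Ring := by
    apply P.hom_ext
    show ((P.lift x' hmap P.X : integralClosure X P.Ring) : P.Ring) = P.X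
    rw [P.lift_X]
  refine ⟨fun z => ?_⟩
  have h2 : z = ψ z := by rw [hψ]; rfl
  rw [h2]
  exact (P.lift x' hmap z).2

theorem isVNR_of_kummer {k : Type*} [Field k] (φ : k →+* X) (hφ : φ.IsIntegral) [IsReduced X]
    {Y : Type*} [CommRing Y] [Algebra X Y] (e : ℕ) (he : 0 < e) (a : X) (heu : IsUnit (e : X))
    (hau : IsUnit a) (y : Y) (hy : y ^ e = algebraMap X Y a)
    (hgen : ∀ z : Y, z ∈ Subring.closure (Set.range (algebraMap X Y) ∪ {y})) : IsVNR Y := by
  let P := kummerPair e he a heu hau
  haveI : IsReduced P.Ring := Groth.Agent.S9407.result X P.Ring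
  haveI : Algebra.IsIntegral X P.Ring := isIntegral_ring P rfl
  have hψ : ((algebraMap X P.Ring).comp φ).IsIntegral :=
    RingHom.IsIntegral.trans φ (algebraMap X P.Ring) hφ (algebraMap_isIntegral_iff.mpr inferInstance)
  have hP : IsVNR P.Ring := isVNR_of_isReduced_of_isIntegral _ hψ
  have hmap : P.HasMap y := by
    refine ⟨?_, ?_⟩
    · show aeval y (Polynomial.X ^ e - C a : X[X]) = 0
      rw [map_sub, map_pow, aeval_X, aeval_C, hy, sub_self]
    · show IsUnit (aeval y (1 : X[X]))
      rw [map_one]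
      exact isUnit_one
  have hsurj : Function.Surjective (P.lift y hmap) := by
    intro z
    have hz := hgen z
    induction hz using Subring.closure_induction with
    | mem w hw =>
      rcases hw with ⟨x, rfl⟩ | hw
      · exact ⟨algebraMap X P.Ring x, AlgHom.commutes _ x⟩
      · rw [Set.mem_singleton_iff] at hw
        rw [hw]
        exact ⟨P.X, P.lift_X y hmap⟩
    | zero => exact ⟨0, map_zero _⟩
    | one => exact ⟨1, map_one _⟩
    | add x₁ x₂ _ _ hx₁ hx₂ =>
      obtain ⟨a₁, rfl⟩ := hx₁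
      obtain ⟨a₂, rfl⟩ := hx₂
      exact ⟨a₁ + a₂, map_add _ _ _⟩
    | neg x₁ _ hx₁ =>
      obtain ⟨a₁, rfl⟩ := hx₁
      exact ⟨-a₁, map_neg _ _⟩
    | mul x₁ x₂ _ _ hx₁ hx₂ =>
      obtain ⟨a₁, rfl⟩ := hx₁
      obtain ⟨a₂, rfl⟩ := hx₂
      exact ⟨a₁ * a₂, map_mul _ _ _⟩
  exact hP.of_surjective (P.lift y hmap).toRingHom hsurj

end Groth.Agent.Lib.Helper10.VNREtale
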