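import Mathlib
import Groth.Agent.S9407
import Groth.Agent.Lib.Helper10.VNRGen
import Groth.Agent.Lib.Helper10.VNREtale

/-!
# Local Artin–Schreier lemmas (helper10)

`final`: a DVR `W` containing the image of a local ring `B`, a subring `T` whose residues come from
`B`, an element `π₁ ∈ T` of the maximal ideal dividing the image of `m_B`, and an element `y` with
either `y ^ p - y ≡ φ b₀` (unramified case) or `y ^ p ≡ φ b₀` with `b₀` not a `p`-th power residue
(purely inseparable residue extension), modulo `π₁`; if `W` consists of fractions of the subring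
generated by all this, then `π₁` is a uniformizer of `W`.
-/

set_option autoImplicit false
set_option linter.style.haveILetI false
set_option linter.unusedSectionVars false

universe u

namespace Groth.Agent.Lib.Helper10.AS4

open Polynomial IsLocalRing Groth.Agent.Lib.Helper10.VNRGen Groth.Agent.Lib.Helper10.VNREtale

/-- The standard étale pair `(T^p - T - c, 1)` in characteristic `p`. -/
noncomputable def asPair {X : Type u} [CommRing X] [Nontrivial X] (p : ℕ) (hp : 2 ≤ p)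
    (hpX : (p : X) = 0) (c : X) : StandardEtalePair X where
  f := Polynomial.X ^ p - (Polynomial.X + C c)
  monic_f := by
    apply monic_X_pow_sub
    calc (Polynomial.X + C c : X[X]).degree ≤ 1 := by
          refine (degree_add_le _ _).trans (max_le degree_X_le ?_)
          exact (degree_C_le).trans (by norm_num)
      _ < (p : WithBot ℕ) := by exact_mod_cast hp
  g := 1
  cond := by
    refine ⟨-1, 0, 0, ?_⟩
    have hd : derivative (Polynomial.X ^ p - (Polynomial.X + C c) : X[X]) = -1 := by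
      rw [derivative_sub, derivative_add, derivative_C, add_zero, derivative_X, derivative_X_pow,
        hpX, C_0, zero_mul, zero_sub]
    rw [hd, pow_zero]
    ring

theorem isVNR_of_AS {k : Type u} [Field k] (p : ℕ) (hp : p.Prime) (hpk : (p : k) = 0)
    {Y : Type*} [CommRing Y] [Algebra k Y] (c : k) (y : Y) (hy : y ^ p - y = algebraMap k Y c)
    (hgen : ∀ z : Y, z ∈ Subring.closure (Set.range (algebraMap k Y) ∪ {y})) : IsVNR Y := by
  let P := asPair p hp.two_le hpk c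
  haveI : IsReduced P.Ring := Groth.Agent.S9407.result k P.Ring
  haveI : Algebra.IsIntegral k P.Ring := isIntegral_ring P rfl
  have hψ : (algebraMap k P.Ring).IsIntegral := algebraMap_isIntegral_iff.mpr inferInstance
  have hP : IsVNR P.Ring := isVNR_of_isReduced_of_isIntegral _ hψ
  have hmap : P.HasMap y := by
    refine ⟨?_, ?_⟩
    · show aeval y (Polynomial.X ^ p - (Polynomial.X + C c) : k[X]) = 0
      rw [map_sub, map_pow, map_add, aeval_X, aeval_C]
      linear_combination hy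
    · show IsUnit (aeval y (1 : k[X]))
      rw [map_one]
      exact isUnit_one
  have hsurj : Function.Surjective (P.lift y hmap) := by
    intro z
    have hz := hgen z
    induction hz using Subring.closure_induction with
    | mem w hw =>
      rcases hw with ⟨x, rfl⟩ | hw
      · exact ⟨algebraMap k P.Ring x, AlgHom.commutes _ x⟩
      · rw [Set.mem_singleton_iff] at hw
        rw [hw]
        exact ⟨P.X, P.lift_X y hmap⟩
    | zero => exact ⟨0, map_zero _⟩
    | one => exact ⟨1, map_one _⟩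
    | add x₁ x₂ _ _ hx₁ hx₂ =>
      obtain ⟨a₁, rfl⟩ := hx₁
      obtain ⟨a₂, rfl⟩ := hx₂
      exact ⟨a₁ + a₂, map_add _ _ _⟩
    | neg x₁ _ hx₁ =>
      obtain ⟨a₁, rfl⟩ := hx₁
      exact ⟨-a₁, map_neg _ _⟩
    | mul x₁ x₂ _ _ hx₁ hx₂ =>
      obtain ⟨a₁, rfl⟩ := hx₁
      obtain ⟨a₂, rfl⟩ := hx₂
      exact ⟨a₁ * a₂, map_mul _ _ _⟩
  exact hP.of_surjective (P.lift y hmap).toRingHom hsurj

theorem isVNR_of_field (F : Type*) [Field F] : IsVNR F := by
  intro x
  by_cases hx : x = 0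
  · exact ⟨0, by rw [hx]; ring⟩
  · exact ⟨x⁻¹, by field_simp⟩

theorem isVNR_of_insep {k : Type*} [Field k] (p : ℕ) (hp : p.Prime)
    {Y : Type*} [CommRing Y] [Algebra k Y] (c : k) (hc : ∀ r : k, r ^ p ≠ c) (y : Y)
    (hy : y ^ p = algebraMap k Y c)
    (hgen : ∀ z : Y, z ∈ Subring.closure (Set.range (algebraMap k Y) ∪ {y})) : IsVNR Y := by
  have hirr : Irreducible (Polynomial.X ^ p - C c : k[X]) := X_pow_sub_C_irreducible_of_prime hp hc
  haveI : Fact (Irreducible (Polynomial.X ^ p - C c : k[X])) := ⟨hirr⟩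
  have hroot : aeval y (Polynomial.X ^ p - C c : k[X]) = 0 := by
    rw [map_sub, map_pow, aeval_X, aeval_C, hy, sub_self]
  let ψ : AdjoinRoot (Polynomial.X ^ p - C c : k[X]) →ₐ[k] Y := AdjoinRoot.liftAlgHom _ (Algebra.ofId k Y) y hroot
  have hψroot : ψ (AdjoinRoot.root _) = y := by
    simp [ψ]
  have hsurj : Function.Surjective ψ := by
    intro z
    have hz := hgen z
    induction hz using Subring.closure_induction with
    | mem w hw =>
      rcases hw with ⟨x, rfl⟩ | hw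
      · exact ⟨algebraMap k _ x, AlgHom.commutes _ x⟩
      · rw [Set.mem_singleton_iff] at hw
        rw [hw]
        exact ⟨_, hψroot⟩
    | zero => exact ⟨0, map_zero _⟩
    | one => exact ⟨1, map_one _⟩
    | add x₁ x₂ _ _ hx₁ hx₂ =>
      obtain ⟨a₁, rfl⟩ := hx₁
      obtain ⟨a₂, rfl⟩ := hx₂
      exact ⟨a₁ + a₂, map_add _ _ _⟩
    | neg x₁ _ hx₁ =>
      obtain ⟨a₁, rfl⟩ := hx₁
      exact ⟨-a₁, map_neg _ _⟩
    | mul x₁ x₂ _ _ hx₁ hx₂ =>
      obtain ⟨a₁, rfl⟩ := hx₁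
      obtain ⟨a₂, rfl⟩ := hx₂
      exact ⟨a₁ * a₂, map_mul _ _ _⟩
  exact (isVNR_of_field _).of_surjective ψ.toRingHom hsurj

theorem final {W : Type*} [CommRing W] [IsDomain W] [IsDiscreteValuationRing W]
    (p : ℕ) (hp : p.Prime) {B : Type u} [CommRing B] [IsLocalRing B] (hpB : (p : B) = 0)
    (φ : B →+* W) (T : Subring W) (π₁ : W) (hπ₁T : π₁ ∈ T) (hπ₁m : π₁ ∈ maximalIdeal W)
    (hπ₁0 : π₁ ≠ 0) (hT : ∀ t ∈ T, ∃ b : B, ∃ t' ∈ T, t = φ b + π₁ * t')
    (y : W)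
    (hφm : ∀ b ∈ maximalIdeal B, ∃ t ∈ Subring.closure (Set.range φ ∪ (T : Set W) ∪ {y}),
      φ b = π₁ * t)
    (hy : (∃ b₀ : B, ∃ s ∈ Subring.closure (Set.range φ ∪ (T : Set W) ∪ {y}),
        y ^ p - y = φ b₀ + π₁ * s) ∨
      (∃ b₀ : B, (∀ r : B, residue B b₀ ≠ residue B r ^ p) ∧
        ∃ s ∈ Subring.closure (Set.range φ ∪ (T : Set W) ∪ {y}), y ^ p = φ b₀ + π₁ * s))
    (hfrac : ∀ w : W, ∃ c₁ ∈ Subring.closure (Set.range φ ∪ (T : Set W) ∪ {y}),
      ∃ c₂ ∈ Subring.closure (Set.range φ ∪ (T : Set W) ∪ {y}), c₂ ≠ 0 ∧ w * c₂ = c₁) :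
    maximalIdeal W = Ideal.span {π₁} := by
  classical
  set S : Subring W := Subring.closure (Set.range φ ∪ (T : Set W) ∪ {y}) with hS
  have hφS : ∀ b, φ b ∈ S := fun b => Subring.subset_closure (Or.inl (Or.inl ⟨b, rfl⟩))
  have hTS : ∀ t ∈ T, t ∈ S := fun t ht => Subring.subset_closure (Or.inl (Or.inr ht))
  have hyS : y ∈ S := Subring.subset_closure (Or.inr rfl)
  have hπS : π₁ ∈ S := hTS _ hπ₁T
  set π' : S := ⟨π₁, hπS⟩ with hπ'
  let g : B →+* S ⧸ Ideal.span {π'} := (Ideal.Quotient.mk _).comp (φ.codRestrict S hφS)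
  have hmk0 : ∀ (x : W) (hx : x ∈ S) (s : W) (hs : s ∈ S), x = π₁ * s →
      Ideal.Quotient.mk (Ideal.span {π'}) ⟨x, hx⟩ = 0 := by
    intro x hx s hs e
    rw [Ideal.Quotient.eq_zero_iff_mem, Ideal.mem_span_singleton']
    refine ⟨⟨s, hs⟩, Subtype.ext ?_⟩
    show s * π₁ = x
    rw [e, mul_comm]
  have hg : ∀ b ∈ maximalIdeal B, g b = 0 := by
    intro b hb
    obtain ⟨t, ht, e⟩ := hφm b hb
    exact hmk0 _ _ t ht e
  letI algQ : Algebra (ResidueField B) (S ⧸ Ideal.span {π'}) :=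
    (Ideal.Quotient.lift (maximalIdeal B) g hg).toAlgebra
  have halg : ∀ b : B, algebraMap (ResidueField B) (S ⧸ Ideal.span {π'}) (residue B b) =
      Ideal.Quotient.mk _ ⟨φ b, hφS b⟩ := fun b => rfl
  have hmkadd : ∀ (x : W) (hx : x ∈ S) (b : B) (s : W) (hs : s ∈ S), x = φ b + π₁ * s →
      Ideal.Quotient.mk (Ideal.span {π'}) ⟨x, hx⟩ =
        algebraMap (ResidueField B) (S ⧸ Ideal.span {π'}) (residue B b) := by
    intro x hx b s hs e
    rw [halg, Ideal.Quotient.eq, Ideal.mem_span_singleton']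
    refine ⟨⟨s, hs⟩, Subtype.ext ?_⟩
    show s * π₁ = x - φ b
    rw [e]; ring
  set ybar : S ⧸ Ideal.span {π'} := Ideal.Quotient.mk _ ⟨y, hyS⟩ with hybar
  have hgen : ∀ z : S ⧸ Ideal.span {π'},
      z ∈ Subring.closure (Set.range (algebraMap (ResidueField B) (S ⧸ Ideal.span {π'})) ∪
        {ybar}) := by
    intro z
    obtain ⟨⟨x, hx⟩, rfl⟩ := Ideal.Quotient.mk_surjective z
    induction hx using Subring.closure_induction with
    | mem w hw =>
      rcases hw with (⟨b, rfl⟩ | ht) | hw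
      · exact Subring.subset_closure (Or.inl ⟨residue B b, halg b⟩)
      · obtain ⟨b, t', ht', e⟩ := hT w ht
        refine Subring.subset_closure (Or.inl ⟨residue B b, ?_⟩)
        exact (hmkadd w _ b t' (hTS t' ht') e).symm
      · rw [Set.mem_singleton_iff] at hw
        subst hw
        exact Subring.subset_closure (Or.inr rfl)
    | zero => exact Subring.zero_mem _
    | one => exact Subring.one_mem _
    | add x₁ x₂ h₁ h₂ hx₁ hx₂ => exact Subring.add_mem _ hx₁ hx₂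
    | neg x₁ h₁ hx₁ => exact Subring.neg_mem _ hx₁
    | mul x₁ x₂ h₁ h₂ hx₁ hx₂ => exact Subring.mul_mem _ hx₁ hx₂
  have hpk : ((p : ℕ) : ResidueField B) = 0 := by
    rw [← map_natCast (residue B), hpB, map_zero]
  have hV : IsVNR (S ⧸ Ideal.span {π'}) := by
    rcases hy with ⟨b₀, s, hs, e⟩ | ⟨b₀, hb₀, s, hs, e⟩
    · refine isVNR_of_AS p hp hpk (residue B b₀) ybar ?_ hgen
      rw [hybar, ← map_pow, ← map_sub]
      exact hmkadd _ (S.sub_mem (S.pow_mem hyS p) hyS) b₀ s hs e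
    · refine isVNR_of_insep p hp (residue B b₀) ?_ ybar ?_ hgen
      · intro r hr
        obtain ⟨r', rfl⟩ := residue_surjective r
        exact hb₀ r' hr.symm
      · rw [hybar, ← map_pow]
        exact hmkadd _ (S.pow_mem hyS p) b₀ s hs e
  have hvnr : ∀ x ∈ S, ∃ y' ∈ S, ∃ c ∈ S, x = x * x * y' + π₁ * c := by
    intro x hx
    obtain ⟨y', hy'⟩ := hV (Ideal.Quotient.mk _ ⟨x, hx⟩)
    obtain ⟨⟨y'', hy''⟩, rfl⟩ := Ideal.Quotient.mk_surjective y'
    rw [← map_mul, ← map_mul, Ideal.Quotient.eq, Ideal.mem_span_singleton'] at hy'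
    obtain ⟨⟨c, hc⟩, hc'⟩ := hy'
    refine ⟨y'', hy'', c, hc, ?_⟩
    have this : c * π₁ = x - x * x * y'' := congrArg Subtype.val hc'
    linear_combination -this
  exact maximalIdeal_eq_span S π₁ hπS hπ₁m hπ₁0 hvnr hfrac

/-- Version of `final` for a valuation subring of a field, with data given in the field. -/
theorem final_F {F : Type*} [Field F] (W : ValuationSubring F) [IsDiscreteValuationRing W]
    (p : ℕ) (hp : p.Prime) {B : Type u} [CommRing B] [IsLocalRing B] (hpB : (p : B) = 0)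
    (φ : B →+* F) (hφW : ∀ b, φ b ∈ W) (T : Subring F) (hTW : ∀ t ∈ T, t ∈ W)
    (π₁ : F) (hπ₁T : π₁ ∈ T) (hπ₁m : W.valuation π₁ < 1) (hπ₁0 : π₁ ≠ 0)
    (hT : ∀ t ∈ T, ∃ b : B, ∃ t' ∈ T, t = φ b + π₁ * t')
    (y : F) (hyW : y ∈ W)
    (hφm : ∀ b ∈ maximalIdeal B, ∃ t ∈ Subring.closure (Set.range φ ∪ (T : Set F) ∪ {y}),
      φ b = π₁ * t)
    (hy : (∃ b₀ : B, ∃ s ∈ Subring.closure (Set.range φ ∪ (T : Set F) ∪ {y}),
        y ^ p - y = φ b₀ + π₁ * s) ∨
      (∃ b₀ : B, (∀ r : B, residue B b₀ ≠ residue B r ^ p) ∧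
        ∃ s ∈ Subring.closure (Set.range φ ∪ (T : Set F) ∪ {y}), y ^ p = φ b₀ + π₁ * s))
    (hfrac : ∀ x : F, x ∈ Subfield.closure (Set.range φ ∪ (T : Set F) ∪ {y})) :
    maximalIdeal W = Ideal.span {(⟨π₁, hTW _ hπ₁T⟩ : W)} := by
  classical
  let φW : B →+* W := φ.codRestrict W.toSubring hφW
  let TW : Subring W := T.comap W.subtype
  let yW : W := ⟨y, hyW⟩
  let πW : W := ⟨π₁, hTW _ hπ₁T⟩
  have hlift : ∀ s ∈ Subring.closure (Set.range φ ∪ (T : Set F) ∪ {y}),
      ∃ s' ∈ Subring.closure (Set.range φW ∪ (TW : Set W) ∪ {yW}), (s' : F) = s := by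
    intro s hs
    induction hs using Subring.closure_induction with
    | mem w hw =>
      rcases hw with (⟨b, rfl⟩ | ht) | hw
      · exact ⟨φW b, Subring.subset_closure (Or.inl (Or.inl ⟨b, rfl⟩)), rfl⟩
      · exact ⟨⟨w, hTW w ht⟩, Subring.subset_closure (Or.inl (Or.inr ht)), rfl⟩
      · rw [Set.mem_singleton_iff] at hw
        subst hw
        exact ⟨yW, Subring.subset_closure (Or.inr rfl), rfl⟩
    | zero => exact ⟨0, Subring.zero_mem _, rfl⟩
    | one => exact ⟨1, Subring.one_mem _, rfl⟩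
    | add x₁ x₂ _ _ h₁ h₂ =>
      obtain ⟨a₁, ha₁, rfl⟩ := h₁
      obtain ⟨a₂, ha₂, rfl⟩ := h₂
      exact ⟨a₁ + a₂, Subring.add_mem _ ha₁ ha₂, rfl⟩
    | neg x₁ _ h₁ =>
      obtain ⟨a₁, ha₁, rfl⟩ := h₁
      exact ⟨-a₁, Subring.neg_mem _ ha₁, rfl⟩
    | mul x₁ x₂ _ _ h₁ h₂ =>
      obtain ⟨a₁, ha₁, rfl⟩ := h₁
      obtain ⟨a₂, ha₂, rfl⟩ := h₂
      exact ⟨a₁ * a₂, Subring.mul_mem _ ha₁ ha₂, rfl⟩
  refine final (W := W) p hp hpB φW TW πW hπ₁T ?_ ?_ ?_ yW ?_ ?_ ?_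
  · rw [ValuationSubring.valuation_lt_one_iff]
    exact hπ₁m
  · intro h
    exact hπ₁0 (congrArg Subtype.val h)
  · intro t ht
    obtain ⟨b, t', ht', e⟩ := hT (t : F) ht
    exact ⟨b, ⟨t', hTW t' ht'⟩, ht', Subtype.ext e⟩
  · intro b hb
    obtain ⟨t, ht, e⟩ := hφm b hb
    obtain ⟨t', ht', rfl⟩ := hlift t ht
    exact ⟨t', ht', Subtype.ext e⟩
  · rcases hy with ⟨b₀, s, hs, e⟩ | ⟨b₀, hb₀, s, hs, e⟩
    · obtain ⟨s', hs', rfl⟩ := hlift s hs
      exact Or.inl ⟨b₀, s', hs', Subtype.ext e⟩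
    · obtain ⟨s', hs', rfl⟩ := hlift s hs
      exact Or.inr ⟨b₀, hb₀, s', hs', Subtype.ext e⟩
  · intro w
    have hw := hfrac (w : F)
    rw [Subfield.mem_closure_iff] at hw
    obtain ⟨c₁, hc₁, c₂, hc₂, e⟩ := hw
    by_cases h0 : c₂ = 0
    · refine ⟨0, Subring.zero_mem _, 1, Subring.one_mem _, one_ne_zero, ?_⟩
      rw [h0, div_zero] at e
      rw [mul_one]
      exact Subtype.ext e.symm
    · obtain ⟨c₁', hc₁', rfl⟩ := hlift c₁ hc₁
      obtain ⟨c₂', hc₂', rfl⟩ := hlift c₂ hc₂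
      refine ⟨c₁', hc₁', c₂', hc₂', fun h => h0 (by rw [h]; rfl), Subtype.ext ?_⟩
      show (w : F) * (c₂' : F) = (c₁' : F)
      rw [← e, div_mul_cancel₀ _ h0]

end Groth.Agent.Lib.Helper10.AS4
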