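import Mathlib
import Groth.Prelude.Def_EtRam
import Groth.Agent.Lib.Helper39.DimOneDVR
import Groth.Agent.Lib.Helper39.DimOneDominate

/-!
# Towers of valuation subrings over a DVR (helper10)

Infrastructure for the `EtRam` tame / unramified rows: valuation subrings dominating a DVR in a
finite extension are DVRs (Krull–Akizuki, helper39), extension of valuation subrings, and the
abstract tower lemmas for ramification indices and residue fields.
-/

set_option linter.style.haveILetI false
set_option linter.unusedSectionVars false
set_option linter.overlappingInstances false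

universe u

namespace Groth.Agent.Lib.Helper10.RamTower

open IsLocalRing

section Val

variable {L M : Type*} [Field L] [Field M]

theorem valuation_lt_one_iff' (V : ValuationSubring L) (x : L) :
    V.valuation x < 1 ↔ x = 0 ∨ x⁻¹ ∉ V := by
  rw [← ValuationSubring.mem_nonunits_iff, ValuationSubring.mem_nonunits_iff_or]

theorem valuation_comap_lt_one_iff (W : ValuationSubring M) (f : L →+* M) (x : L) :
    (W.comap f).valuation x < 1 ↔ W.valuation (f x) < 1 := by
  rw [valuation_lt_one_iff', valuation_lt_one_iff', ValuationSubring.mem_comap, map_inv₀,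
    map_eq_zero]

/-- Every valuation subring of `L` is the restriction of one of any field extension `M`. -/
theorem exists_comap_eq (f : L →+* M) (V : ValuationSubring L) :
    ∃ W : ValuationSubring M, W.comap f = V := by
  obtain ⟨W, h1, h2⟩ :=
    Groth.Agent.Lib.Helper39.KA.exists_valuationSubring_dominating (f.comp V.subtype)
  refine ⟨W, ?_⟩
  ext x
  rw [ValuationSubring.mem_comap]
  constructor
  · intro hx
    by_contra hxV
    have hinv : x⁻¹ ∈ V := (V.mem_or_inv_mem x).resolve_left hxV
    have hx0 : x ≠ 0 := fun h => hxV (h ▸ V.zero_mem)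
    have hmax : (⟨x⁻¹, hinv⟩ : V) ∈ maximalIdeal V := by
      rw [mem_maximalIdeal, mem_nonunits_iff]
      intro hu
      obtain ⟨u, hu⟩ := hu
      apply hxV
      have h3 : ((u⁻¹ : Vˣ) : V) * (⟨x⁻¹, hinv⟩ : V) = 1 := by rw [← hu]; exact u.inv_mul
      have h4 : (((u⁻¹ : Vˣ) : V) : L) * x⁻¹ = 1 := congrArg Subtype.val h3
      have h5 : (((u⁻¹ : Vˣ) : V) : L) = x := by
        field_simp at h4
        exact h4
      rw [← h5]
      exact ((u⁻¹ : Vˣ) : V).2
    have h6 := h2 _ hmax
    rw [ValuationSubring.mem_nonunits_iff] at h6
    have h7 : W.valuation (f x) ≤ 1 := (ValuationSubring.valuation_le_one_iff W _).mpr hx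
    have h8 : W.valuation (f x) * W.valuation (f x⁻¹) = 1 := by
      rw [← map_mul, ← map_mul, mul_inv_cancel₀ hx0, map_one, map_one]
    have h9 : W.valuation (f x) * W.valuation (f x⁻¹) < 1 := by
      calc W.valuation (f x) * W.valuation (f x⁻¹) ≤ 1 * W.valuation (f x⁻¹) :=
            mul_le_mul_left h7 _
        _ = W.valuation (f x⁻¹) := one_mul _
        _ < 1 := h6
    rw [h8] at h9
    exact lt_irrefl _ h9
  · intro hx
    exact h1 ⟨x, hx⟩

end Val

section Dominates

variable (A : Type u) [CommRing A] [IsLocalRing A] {L : Type u} [Field L] (g : A →+* L)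

theorem isLocalHom_of_dominates (V : ValuationSubring L) (h : EtRam.Dominates A g V) :
    letI : Algebra A V := (RingHom.codRestrict g V h.1).toAlgebra
    IsLocalHom (algebraMap A V) := by
  letI : Algebra A V := (RingHom.codRestrict g V h.1).toAlgebra
  constructor
  intro a ha
  by_contra hna
  have hm : a ∈ maximalIdeal A := hna
  have h1 := h.2 a hm
  have h2 : V.valuation ((algebraMap A V a : V) : L) = 1 :=
    (ValuationSubring.valuation_eq_one_iff V _).mp ha
  have h3 : ((algebraMap A V a : V) : L) = g a := rfl
  rw [h3] at h2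
  rw [h2] at h1
  exact lt_irrefl _ h1

end Dominates

section DVR

variable (A K : Type u) [CommRing A] [IsDomain A] [IsDiscreteValuationRing A] [Field K]
  [Algebra A K] [IsFractionRing A K] (L : Type u) [Field L] [Algebra K L] [FiniteDimensional K L]

/-- A valuation subring of a finite extension of `Frac A` dominating the DVR `A` is a DVR. -/
theorem isDiscreteValuationRing_of_dominates (V : ValuationSubring L)
    (h : EtRam.Dominates A ((algebraMap K L).comp (algebraMap A K)) V) :
    IsDiscreteValuationRing V := by
  letI : Algebra A L := ((algebraMap K L).comp (algebraMap A K)).toAlgebra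
  haveI : IsScalarTower A K L := IsScalarTower.of_algebraMap_eq (fun _ => rfl)
  letI : Algebra A V :=
    (RingHom.codRestrict ((algebraMap K L).comp (algebraMap A K)) V h.1).toAlgebra
  haveI : IsScalarTower A V L := IsScalarTower.of_algebraMap_eq (fun _ => rfl)
  have hinj : Function.Injective (algebraMap V L) := Subtype.val_injective
  haveI : IsNoetherianRing V :=
    Groth.Agent.Lib.Helper39.KA.isNoetherianRing_of_between A K (L := L) (A := V) hinj
  have hV : V ≠ ⊤ := by
    intro htop
    obtain ⟨ϖ, hϖ⟩ := IsDiscreteValuationRing.exists_irreducible A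
    have hm : ϖ ∈ maximalIdeal A := by
      rw [mem_maximalIdeal, mem_nonunits_iff]
      exact hϖ.not_isUnit
    have h1 := h.2 ϖ hm
    rw [valuation_lt_one_iff'] at h1
    rcases h1 with h1 | h1
    · have hinj' : Function.Injective ((algebraMap K L).comp (algebraMap A K)) :=
        (algebraMap K L).injective.comp (IsFractionRing.injective A K)
      exact hϖ.ne_zero (hinj' (by rw [h1, map_zero]))
    · apply h1
      rw [htop]
      exact ValuationSubring.mem_top _
  exact ((IsDiscreteValuationRing.TFAE V
    (Groth.Agent.Lib.Helper39.KA.valuationSubring_not_isField hV)).out 0 1).mpr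
    (inferInstance : ValuationRing V)

end DVR

section Abstract

variable {R S T : Type*} [CommRing R] [CommRing S] [CommRing T]
  [IsLocalRing R] [IsLocalRing S] [IsLocalRing T]
  [Algebra R S] [Algebra S T] [Algebra R T] [IsScalarTower R S T]
  [IsLocalHom (algebraMap R S)] [IsLocalHom (algebraMap S T)] [IsLocalHom (algebraMap R T)]

theorem isSeparable_trans
    (h1 : Algebra.IsSeparable (ResidueField R) (ResidueField S))
    (h2 : Algebra.IsSeparable (ResidueField S) (ResidueField T)) :
    Algebra.IsSeparable (ResidueField R) (ResidueField T) :=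
  Algebra.IsSeparable.trans (ResidueField R) (ResidueField S) (ResidueField T)

theorem isSeparable_bot
    (h : Algebra.IsSeparable (ResidueField R) (ResidueField T)) :
    Algebra.IsSeparable (ResidueField R) (ResidueField S) :=
  Algebra.isSeparable_tower_bot_of_isSeparable (ResidueField R) (ResidueField S) (ResidueField T)

theorem map_maximalIdeal_le : (maximalIdeal S).map (algebraMap S T) ≤ maximalIdeal T := by
  have h : IsLocalHom (algebraMap S T) := inferInstance
  exact ((local_hom_TFAE (algebraMap S T)).out 0 2).mp h

theorem ramificationIdx_tower [IsDomain R] [IsDomain S] [IsDomain T]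
    [IsDiscreteValuationRing S] [IsDiscreteValuationRing T]
    (hRT : Function.Injective (algebraMap R T)) (hST : Function.Injective (algebraMap S T))
    (hR : maximalIdeal R ≠ ⊥) :
    Ideal.ramificationIdx' (maximalIdeal R) (maximalIdeal T) =
      Ideal.ramificationIdx' (maximalIdeal R) (maximalIdeal S) *
        Ideal.ramificationIdx' (maximalIdeal S) (maximalIdeal T) := by
  apply Ideal.ramificationIdx'_algebra_tower
  · rw [Ne, Ideal.map_eq_bot_iff_of_injective hST]
    exact IsDiscreteValuationRing.not_a_field S
  · rw [Ne, Ideal.map_eq_bot_iff_of_injective hRT]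
    exact hR
  · exact map_maximalIdeal_le

theorem weaklyUnramified_trans
    (h1 : (maximalIdeal R).map (algebraMap R S) = maximalIdeal S)
    (h2 : (maximalIdeal S).map (algebraMap S T) = maximalIdeal T) :
    (maximalIdeal R).map (algebraMap R T) = maximalIdeal T := by
  rw [IsScalarTower.algebraMap_eq R S T, ← Ideal.map_map, h1, h2]

theorem weaklyUnramified_bot [IsDomain S] [IsDomain T]
    [IsDiscreteValuationRing S] [IsDiscreteValuationRing T]
    (hRS : Function.Injective (algebraMap R S)) (hR : maximalIdeal R ≠ ⊥)
    (h : (maximalIdeal R).map (algebraMap R T) = maximalIdeal T) :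
    (maximalIdeal R).map (algebraMap R S) = maximalIdeal S := by
  obtain ⟨ϖ, hϖ⟩ := IsDiscreteValuationRing.exists_irreducible S
  have hI0 : (maximalIdeal R).map (algebraMap R S) ≠ ⊥ := by
    rw [Ne, Ideal.map_eq_bot_iff_of_injective hRS]
    exact hR
  obtain ⟨n, hn⟩ := IsDiscreteValuationRing.ideal_eq_span_pow_irreducible hI0 hϖ
  have hmS : maximalIdeal S = Ideal.span {ϖ} := hϖ.maximalIdeal_eq
  have hle : (maximalIdeal R).map (algebraMap R S) ≤ maximalIdeal S := by
    have h : IsLocalHom (algebraMap R S) := inferInstance
    exact ((local_hom_TFAE (algebraMap R S)).out 0 2).mp h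
  rcases Nat.lt_or_ge n 2 with hlt | hge
  · interval_cases n
    · exfalso
      rw [hn, pow_zero, Ideal.span_singleton_one] at hle
      exact (Ideal.IsPrime.ne_top inferInstance) (top_le_iff.mp hle)
    · rw [hn, pow_one, hmS]
  · exfalso
    have h1 : (maximalIdeal R).map (algebraMap R S) ≤ (maximalIdeal S) ^ 2 := by
      rw [hn, hmS, Ideal.span_singleton_pow]
      exact Ideal.span_singleton_le_span_singleton.mpr (pow_dvd_pow ϖ hge)
    have h2 : maximalIdeal T ≤ (maximalIdeal T) ^ 2 := by
      calc maximalIdeal T = ((maximalIdeal R).map (algebraMap R S)).map (algebraMap S T) := by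
            rw [Ideal.map_map, ← IsScalarTower.algebraMap_eq, h]
        _ ≤ ((maximalIdeal S) ^ 2).map (algebraMap S T) := Ideal.map_mono h1
        _ = ((maximalIdeal S).map (algebraMap S T)) ^ 2 := Ideal.map_pow _ _ _
        _ ≤ (maximalIdeal T) ^ 2 := Ideal.pow_right_mono map_maximalIdeal_le 2
    obtain ⟨π, hπ⟩ := IsDiscreteValuationRing.exists_irreducible T
    have hmT : maximalIdeal T = Ideal.span {π} := hπ.maximalIdeal_eq
    rw [hmT, Ideal.span_singleton_pow, Ideal.span_singleton_le_span_singleton] at h2
    have h3 : π ^ 2 ∣ π ^ 1 := by simpa using h2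
    have := (pow_dvd_pow_iff hπ.ne_zero hπ.not_isUnit).mp h3
    omega

end Abstract

end Groth.Agent.Lib.Helper10.RamTower
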