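import Mathlib
import Groth.Prelude.Def_EtRam
import Groth.Agent.Lib.Helper10.RamTower
import Groth.Agent.Lib.Helper39.DimOneDominate

/-!
# Artin–Schreier extensions with pole order prime to `p` are totally ramified (helper10)
-/

set_option autoImplicit false
set_option linter.style.haveILetI false
set_option linter.unusedSectionVars false
set_option linter.unusedVariables false

universe u

namespace Groth.Agent.Lib.Helper10.AS5

open Finset IsLocalRing

section Core

variable (p : ℕ) [hp : Fact p.Prime] {A K K₁ : Type u} [CommRing A] [IsDomain A]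
  [IsDiscreteValuationRing A] [Field K] [Algebra A K] [IsFractionRing A K] [Field K₁]
  [Algebra K K₁]
  (π : A) (hπ : Irreducible π) (n' : ℕ) (hn' : 0 < n') (hpn : ¬ p ∣ n') (u : A) (hu : IsUnit u)
  (η : K) (hη : η * (algebraMap A K π) ^ n' = algebraMap A K u)
  (w : K₁) (hw : w ^ p - w = algebraMap K K₁ η)
  (V : ValuationSubring K₁)
  (hV : EtRam.Dominates A ((algebraMap K K₁).comp (algebraMap A K)) V)

include hV in
theorem val_unit (a : A) (ha : IsUnit a) :
    V.valuation (algebraMap K K₁ (algebraMap A K a)) = 1 := by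
  obtain ⟨b, hb⟩ := ha.exists_right_inv
  have h1 : V.valuation (algebraMap K K₁ (algebraMap A K a)) ≤ 1 :=
    (V.valuation_le_one_iff _).mpr (hV.1 a)
  have h2 : V.valuation (algebraMap K K₁ (algebraMap A K b)) ≤ 1 :=
    (V.valuation_le_one_iff _).mpr (hV.1 b)
  have h3 : V.valuation (algebraMap K K₁ (algebraMap A K a)) *
      V.valuation (algebraMap K K₁ (algebraMap A K b)) = 1 := by
    rw [← map_mul, ← map_mul, ← map_mul, hb, map_one, map_one, map_one]
  apply le_antisymm h1
  calc (1 : V.ValueGroup) = _ := h3.symm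
    _ ≤ V.valuation (algebraMap K K₁ (algebraMap A K a)) * 1 := mul_le_mul' le_rfl h2
    _ = _ := mul_one _

include hV hπ in
theorem val_pi_lt : V.valuation (algebraMap K K₁ (algebraMap A K π)) < 1 :=
  hV.2 π (by rw [mem_maximalIdeal, mem_nonunits_iff]; exact hπ.not_isUnit)

include hπ in
theorem val_pi_pos : 0 < V.valuation (algebraMap K K₁ (algebraMap A K π)) := by
  rw [zero_lt_iff, Valuation.ne_zero_iff]
  intro h
  have h1 : algebraMap A K π = 0 := (algebraMap K K₁).injective (by rw [h, map_zero])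
  exact hπ.ne_zero (IsFractionRing.injective A K (by rw [h1, map_zero]))

include hV hπ in
theorem val_K (c : K) (hc : c ≠ 0) :
    ∃ m : ℤ, V.valuation (algebraMap K K₁ c) =
      V.valuation (algebraMap K K₁ (algebraMap A K π)) ^ m := by
  obtain ⟨a, b, hb, rfl⟩ := IsFractionRing.div_surjective (A := A) c
  have hb0 : b ≠ 0 := nonZeroDivisors.ne_zero hb
  have ha0 : a ≠ 0 := by
    rintro rfl
    rw [map_zero, zero_div] at hc
    exact hc rfl
  obtain ⟨ma, ua, hua⟩ := IsDiscreteValuationRing.eq_unit_mul_pow_irreducible ha0 hπ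
  obtain ⟨mb, ub, hub⟩ := IsDiscreteValuationRing.eq_unit_mul_pow_irreducible hb0 hπ
  have hP0 := (val_pi_pos (K := K) π hπ V).ne'
  refine ⟨(ma : ℤ) - (mb : ℤ), ?_⟩
  have hva : V.valuation (algebraMap K K₁ (algebraMap A K a)) =
      V.valuation (algebraMap K K₁ (algebraMap A K π)) ^ ma := by
    rw [hua, map_mul, map_mul, map_mul, map_pow, map_pow, map_pow, val_unit V hV _ ua.isUnit,
      one_mul]
  have hvb : V.valuation (algebraMap K K₁ (algebraMap A K b)) =
      V.valuation (algebraMap K K₁ (algebraMap A K π)) ^ mb := by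
    rw [hub, map_mul, map_mul, map_mul, map_pow, map_pow, map_pow, val_unit V hV _ ub.isUnit,
      one_mul]
  rw [map_div₀, map_div₀, hva, hvb, zpow_sub₀ hP0, zpow_natCast, zpow_natCast]

include hV hπ hn' hu hη hw in
theorem val_w : 1 < V.valuation w ∧
    V.valuation w ^ p = V.valuation (algebraMap K K₁ η) ∧
    V.valuation (algebraMap K K₁ η) =
      V.valuation (algebraMap K K₁ (algebraMap A K π)) ^ (-(n' : ℤ)) := by
  have hP0 := val_pi_pos (K := K) π hπ V
  have hP1 := val_pi_lt π hπ V hV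
  have h1 : V.valuation (algebraMap K K₁ η) *
      V.valuation (algebraMap K K₁ (algebraMap A K π)) ^ n' = 1 := by
    rw [← map_pow, ← map_pow, ← map_mul, ← map_mul, hη, val_unit V hV u hu]
  have h2 : V.valuation (algebraMap K K₁ η) =
      V.valuation (algebraMap K K₁ (algebraMap A K π)) ^ (-(n' : ℤ)) := by
    rw [zpow_neg, zpow_natCast]
    exact eq_inv_of_mul_eq_one_left h1
  have h3 : 1 < V.valuation (algebraMap K K₁ η) := by
    rw [h2, zpow_neg, zpow_natCast, one_lt_inv₀ (pow_pos hP0 _)]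
    exact pow_lt_one₀ hP0.le hP1 hn'.ne'
  have h4 : 1 < V.valuation w := by
    by_contra hle
    rw [not_lt] at hle
    have h5 : V.valuation (w ^ p - w) ≤ 1 :=
      Valuation.map_sub_le _ (by rw [map_pow]; exact pow_le_one₀ zero_le hle) hle
    rw [hw] at h5
    exact absurd h3 (not_lt.mpr h5)
  refine ⟨h4, ?_, h2⟩
  have h6 : V.valuation w < V.valuation (w ^ p) := by
    rw [map_pow]
    exact lt_self_pow₀ h4 hp.out.one_lt
  have h7 := Valuation.map_sub_eq_of_lt_left (v := V.valuation) h6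
  rw [hw, map_pow] at h7
  exact h7.symm

include hV hπ hn' hpn hu hη hw in
theorem val_ne_aux (i j : ℕ) (hij : i < j) (hj : j < p) (a b : K) (ha : a ≠ 0) (hb : b ≠ 0) :
    V.valuation (algebraMap K K₁ a * w ^ i) ≠ V.valuation (algebraMap K K₁ b * w ^ j) := by
  intro heq
  obtain ⟨hw1, hwp, hηv⟩ := val_w p π hπ n' hn' u hu η hη w hw V hV
  have hP0 := val_pi_pos (K := K) π hπ V
  have hP1 := val_pi_lt π hπ V hV
  obtain ⟨ma, hma⟩ := val_K π hπ V hV a ha
  obtain ⟨mb, hmb⟩ := val_K π hπ V hV b hb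
  set P := V.valuation (algebraMap K K₁ (algebraMap A K π)) with hP
  rw [map_mul, map_mul, map_pow, map_pow, hma, hmb] at heq
  have h1 : (P ^ ma * V.valuation w ^ i) ^ p = (P ^ mb * V.valuation w ^ j) ^ p := by rw [heq]
  have e1 : ∀ (m : ℤ) (k : ℕ), (P ^ m * V.valuation w ^ k) ^ p =
      P ^ (m * p - (n' : ℤ) * k) := by
    intro m k
    rw [mul_pow, ← pow_mul, mul_comm k p, pow_mul, hwp, hηv, ← zpow_natCast (P ^ m) p,
      ← zpow_mul, ← zpow_natCast (P ^ (-(n' : ℤ))) k, ← zpow_mul, ← zpow_add₀ hP0.ne']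
    congr 1
    ring
  rw [e1, e1] at h1
  have h2 := (zpow_right_inj₀ hP0 hP1.ne).mp h1
  have h3 : ((n' * (j - i) : ℕ) : ℤ) = (p : ℤ) * (mb - ma) := by
    push_cast [Nat.cast_sub hij.le]
    linear_combination h2
  have h4 : (p : ℤ) ∣ ((n' * (j - i) : ℕ) : ℤ) := ⟨_, h3⟩
  rw [Int.natCast_dvd_natCast] at h4
  rcases (Nat.Prime.dvd_mul hp.out).mp h4 with h5 | h5
  · exact hpn h5
  · have : j - i < p := by omega
    exact absurd (Nat.le_of_dvd (by omega) h5) (by omega)

include hV hπ hn' hpn hu hη hw in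
theorem val_ne (i j : ℕ) (hij : i ≠ j) (hi : i < p) (hj : j < p) (a b : K) (ha : a ≠ 0)
    (hb : b ≠ 0) :
    V.valuation (algebraMap K K₁ a * w ^ i) ≠ V.valuation (algebraMap K K₁ b * w ^ j) := by
  rcases lt_or_gt_of_ne hij with h | h
  · exact val_ne_aux p π hπ n' hn' hpn u hu η hη w hw V hV i j h hj a b ha hb
  · exact (val_ne_aux p π hπ n' hn' hpn u hu η hη w hw V hV j i h hi b a hb ha).symm

include hV hπ hn' hpn hu hη hw in
theorem terms_le (k : ℕ → K)
    (hx : V.valuation (∑ i ∈ range p, algebraMap K K₁ (k i) * w ^ i) ≤ 1) :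
    ∀ i ∈ range p, V.valuation (algebraMap K K₁ (k i) * w ^ i) ≤ 1 := by
  classical
  obtain ⟨hw1, hwp, hηv⟩ := val_w p π hπ n' hn' u hu η hη w hw V hV
  have hw0 : w ≠ 0 := by
    intro h
    rw [h, map_zero] at hw1
    exact absurd hw1 (not_lt.mpr zero_le)
  set y : ℕ → K₁ := fun i => algebraMap K K₁ (k i) * w ^ i with hy
  set s := (range p).filter (fun i => k i ≠ 0) with hs
  rcases s.eq_empty_or_nonempty with hse | hsne
  · intro i hi
    have hki : k i = 0 := by
      by_contra h
      have : i ∈ s := mem_filter.mpr ⟨hi, h⟩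
      rw [hse] at this
      exact absurd this (notMem_empty i)
    rw [hki, map_zero, zero_mul, map_zero]
    exact zero_le
  · obtain ⟨m, hm, hmax⟩ := exists_max_image s (fun i => V.valuation (y i)) hsne
    obtain ⟨hmr, hkm⟩ := mem_filter.mp hm
    have hym0 : y m ≠ 0 := by
      show algebraMap K K₁ (k m) * w ^ m ≠ 0
      exact mul_ne_zero (by rwa [Ne, map_eq_zero]) (pow_ne_zero _ hw0)
    have hlt : ∀ i ∈ (range p).erase m, V.valuation (y i) < V.valuation (y m) := by
      intro i hi
      obtain ⟨him, hir⟩ := mem_erase.mp hi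
      by_cases hki : k i = 0
      · have : y i = 0 := by show algebraMap K K₁ (k i) * w ^ i = 0; rw [hki, map_zero, zero_mul]
        rw [this, map_zero, zero_lt_iff, Valuation.ne_zero_iff]
        exact hym0
      · have h1 := hmax i (mem_filter.mpr ⟨hir, hki⟩)
        exact lt_of_le_of_ne h1 (val_ne p π hπ n' hn' hpn u hu η hη w hw V hV i m him
          (mem_range.mp hir) (mem_range.mp hmr) _ _ hki hkm)
    have hsum : V.valuation (∑ i ∈ (range p).erase m, y i) < V.valuation (y m) :=
      Valuation.map_sum_lt _ ((Valuation.ne_zero_iff _).mpr hym0) hlt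
    have htot : V.valuation (∑ i ∈ range p, y i) = V.valuation (y m) := by
      rw [← add_sum_erase _ _ hmr]
      exact Valuation.map_add_eq_of_lt_left _ hsum
    rw [htot] at hx
    intro i hi
    by_cases him : i = m
    · rw [him]; exact hx
    · exact (hlt i (mem_erase.mpr ⟨him, hi⟩)).le.trans hx

include hV hπ hn' hu hη hw in
theorem term_pow (c : K) (i : ℕ) :
    V.valuation (algebraMap K K₁ c * w ^ i) ^ p = V.valuation (algebraMap K K₁ (c ^ p * η ^ i)) := by
  obtain ⟨hw1, hwp, hηv⟩ := val_w p π hπ n' hn' u hu η hη w hw V hV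
  rw [map_mul, map_pow, mul_pow, ← pow_mul, mul_comm i p, pow_mul, hwp, map_mul, map_mul,
    map_pow, map_pow, map_pow, map_pow]

include hV in
theorem mem_of_val_le (c : K) (hc : V.valuation (algebraMap K K₁ c) ≤ 1) :
    ∃ a : A, algebraMap A K a = c := by
  rcases ValuationRing.isInteger_or_isInteger A c with ⟨a, ha⟩ | ⟨a, ha⟩
  · exact ⟨a, ha⟩
  · by_cases hc0 : c = 0
    · exact ⟨0, by rw [hc0, map_zero]⟩
    by_cases hau : IsUnit a
    · obtain ⟨b, hb⟩ := hau.exists_right_inv
      refine ⟨b, ?_⟩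
      have h1 : algebraMap A K a * algebraMap A K b = 1 := by rw [← map_mul, hb, map_one]
      rw [ha] at h1
      have hci : c⁻¹ ≠ 0 := inv_ne_zero hc0
      field_simp at h1
      exact h1
    · exfalso
      have h1 := hV.2 a (by rw [mem_maximalIdeal, mem_nonunits_iff]; exact hau)
      simp only [RingHom.comp_apply] at h1
      rw [ha, map_inv₀, map_inv₀] at h1
      have h2 : 0 < V.valuation (algebraMap K K₁ c) := by
        rw [zero_lt_iff, Valuation.ne_zero_iff, Ne, map_eq_zero]
        exact hc0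
      rw [inv_lt_one₀ h2] at h1
      exact absurd hc (not_le.mpr h1)

/-- The `V`-independent description of membership. -/
def Good (x : K₁) : Prop :=
  ∃ k : ℕ → K, x = ∑ i ∈ range p, algebraMap K K₁ (k i) * w ^ i ∧
    ∀ i ∈ range p, ∃ a : A, algebraMap A K a = k i ^ p * η ^ i

include hV hπ hn' hpn hu hη hw in
theorem mem_iff (hgen : ∀ x : K₁, ∃ k : ℕ → K, x = ∑ i ∈ range p, algebraMap K K₁ (k i) * w ^ i)
    (x : K₁) : x ∈ V ↔ Good (A := A) p η w x := by
  constructor
  · intro hx
    obtain ⟨k, hk⟩ := hgen x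
    refine ⟨k, hk, fun i hi => ?_⟩
    rw [← V.valuation_le_one_iff, hk] at hx
    have h1 := terms_le p π hπ n' hn' hpn u hu η hη w hw V hV k hx i hi
    apply mem_of_val_le V hV
    rw [← term_pow p π hπ n' hn' u hu η hη w hw V hV]
    exact pow_le_one₀ zero_le h1
  · rintro ⟨k, hk, hgood⟩
    rw [hk]
    refine V.toSubring.sum_mem fun i hi => ?_
    obtain ⟨a, ha⟩ := hgood i hi
    show _ ∈ V
    rw [← V.valuation_le_one_iff, ← pow_le_one_iff hp.out.ne_zero,
      term_pow p π hπ n' hn' u hu η hη w hw V hV, ← ha, V.valuation_le_one_iff]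
    exact hV.1 a

include hV hπ hn' hpn hu hη hw in
theorem residue_eq (hgen : ∀ x : K₁, ∃ k : ℕ → K,
      x = ∑ i ∈ range p, algebraMap K K₁ (k i) * w ^ i)
    (x : K₁) (hx : x ∈ V) :
    ∃ a : A, V.valuation (x - algebraMap K K₁ (algebraMap A K a)) < 1 := by
  classical
  obtain ⟨k, hk⟩ := hgen x
  have hx' : V.valuation (∑ i ∈ range p, algebraMap K K₁ (k i) * w ^ i) ≤ 1 := by
    rw [← hk, V.valuation_le_one_iff]; exact hx
  have hterms := terms_le p π hπ n' hn' hpn u hu η hη w hw V hV k hx'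
  have hp0 : 0 ∈ range p := mem_range.mpr hp.out.pos
  have h0 := hterms 0 hp0
  rw [pow_zero, mul_one] at h0
  obtain ⟨a, ha⟩ := mem_of_val_le V hV _ h0
  refine ⟨a, ?_⟩
  have hsplit : x - algebraMap K K₁ (algebraMap A K a) =
      ∑ i ∈ (range p).erase 0, algebraMap K K₁ (k i) * w ^ i := by
    rw [hk, ← add_sum_erase _ _ hp0, pow_zero, mul_one, ha]
    ring
  rw [hsplit]
  apply Valuation.map_sum_lt _ one_ne_zero
  intro i hi
  obtain ⟨hi0, hir⟩ := mem_erase.mp hi
  by_cases hki : k i = 0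
  · rw [hki, map_zero, zero_mul, map_zero]
    exact zero_lt_one
  · refine lt_of_le_of_ne (hterms i hir) ?_
    have h1 := val_ne p π hπ n' hn' hpn u hu η hη w hw V hV i 0 hi0 (mem_range.mp hir)
      hp.out.pos (k i) 1 hki one_ne_zero
    rwa [pow_zero, mul_one, map_one, map_one] at h1

end Core

end Groth.Agent.Lib.Helper10.AS5
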