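import Mathlib

/-!
# `A[x]/(f)` for a DVR `A` and an Eisenstein-type monic polynomial `f` (helper10)

Abstract version of `KummerDVR`: `f` monic irreducible, `π ∈ (root)` and `root ^ m ∈ (π)` in
`A[x]/(f)`.  Then `A[x]/(f)` is a DVR with uniformizer `root`; if moreover
`root ^ m = π * unit` the ramification index is `m`.
-/

set_option autoImplicit false
set_option linter.unusedSectionVars false
set_option linter.style.haveILetI false
universe u
open Polynomial IsLocalRing

namespace Groth.Agent.Lib.Helper10.EisDVR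

variable (A : Type u) [CommRing A] [IsDomain A] [IsDiscreteValuationRing A] (π : A)
  (hπ : Irreducible π) (f : A[X]) (hmonic : f.Monic) (hirr : Irreducible f)
  (m : ℕ) (hm : 1 ≤ m) (c w : AdjoinRoot f)
  (h2 : AdjoinRoot.of f π = AdjoinRoot.root f * c)
  (h3 : AdjoinRoot.root f ^ m = AdjoinRoot.of f π * w)

theorem decomp (b : AdjoinRoot f) :
    ∃ (a0 : A) (b' : AdjoinRoot f), b = AdjoinRoot.of f a0 + AdjoinRoot.root f * b' := by
  obtain ⟨p, rfl⟩ := AdjoinRoot.mk_surjective b
  refine ⟨p.coeff 0, AdjoinRoot.mk _ p.divX, ?_⟩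
  conv_lhs => rw [← Polynomial.divX_mul_X_add p]
  rw [map_add, map_mul, AdjoinRoot.mk_X, AdjoinRoot.mk_C, add_comm, mul_comm]

include hirr in
theorem isDomain : IsDomain (AdjoinRoot f) := AdjoinRoot.isDomain_of_prime hirr.prime

include hπ hmonic hm h3 in
theorem root_mem_max (M : Ideal (AdjoinRoot f)) (hM : M.IsMaximal) : AdjoinRoot.root f ∈ M := by
  haveI : Module.Finite A (AdjoinRoot f) := hmonic.finite_adjoinRoot
  haveI : Algebra.IsIntegral A (AdjoinRoot f) := Algebra.IsIntegral.of_finite _ _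
  have h1 : (M.comap (algebraMap A (AdjoinRoot f))).IsMaximal :=
    Ideal.isMaximal_comap_of_isIntegral_of_isMaximal M
  have h2' := IsLocalRing.eq_maximalIdeal h1
  have h3' : π ∈ M.comap (algebraMap A (AdjoinRoot f)) := by
    rw [h2', IsLocalRing.mem_maximalIdeal, mem_nonunits_iff]
    exact hπ.not_isUnit
  rw [Ideal.mem_comap, AdjoinRoot.algebraMap_eq] at h3'
  have h4 : AdjoinRoot.root f ^ m ∈ M := by rw [h3]; exact M.mul_mem_right _ h3'
  exact hM.isPrime.mem_of_pow_mem m h4

include hπ hmonic hirr hm h2 h3 in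
theorem nonunit_iff (b : AdjoinRoot f) :
    ¬ IsUnit b ↔ b ∈ Ideal.span {AdjoinRoot.root f} := by
  haveI hdom : IsDomain (AdjoinRoot f) := isDomain A f hirr
  constructor
  · intro hb
    obtain ⟨M, hM, hbM⟩ := exists_max_ideal_of_mem_nonunits (mem_nonunits_iff.mpr hb)
    obtain ⟨a0, b', rfl⟩ := decomp A f b
    have hroot := root_mem_max A π hπ f hmonic m hm w h3 M hM
    have ha0M : AdjoinRoot.of f a0 ∈ M := by
      have := M.sub_mem hbM (M.mul_mem_right b' hroot)
      simpa using this
    have ha0 : ¬ IsUnit a0 := by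
      intro hu
      exact hM.ne_top (Ideal.eq_top_of_isUnit_mem _ ha0M (hu.map _))
    have ha0' : a0 ∈ IsLocalRing.maximalIdeal A := by
      rw [IsLocalRing.mem_maximalIdeal, mem_nonunits_iff]; exact ha0
    rw [hπ.maximalIdeal_eq, Ideal.mem_span_singleton] at ha0'
    obtain ⟨c', rfl⟩ := ha0'
    refine Ideal.add_mem _ ?_ (Ideal.mul_mem_right _ _ (Ideal.mem_span_singleton_self _))
    rw [map_mul, h2, mul_assoc]
    exact Ideal.mul_mem_right _ _ (Ideal.mem_span_singleton_self _)
  · intro hb hu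
    obtain ⟨c', rfl⟩ := Ideal.mem_span_singleton'.mp hb
    have hru : IsUnit (AdjoinRoot.root f) := isUnit_of_mul_isUnit_right hu
    obtain ⟨M, hM⟩ := Ideal.exists_maximal (AdjoinRoot f)
    exact hM.ne_top (Ideal.eq_top_of_isUnit_mem _
      (root_mem_max A π hπ f hmonic m hm w h3 M hM) hru)

include hπ hmonic hirr hm h2 h3 in
theorem isLocalRing : IsLocalRing (AdjoinRoot f) := by
  haveI := isDomain A f hirr
  apply IsLocalRing.of_nonunits_add
  intro a b ha hb
  rw [mem_nonunits_iff, nonunit_iff A π hπ f hmonic hirr m hm c w h2 h3] at ha hb ⊢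
  exact Ideal.add_mem _ ha hb

include hπ hmonic hirr hm h2 h3 in
theorem maxIdeal_eq [IsLocalRing (AdjoinRoot f)] :
    IsLocalRing.maximalIdeal (AdjoinRoot f) = Ideal.span {AdjoinRoot.root f} := by
  ext b
  rw [IsLocalRing.mem_maximalIdeal, mem_nonunits_iff]
  exact nonunit_iff A π hπ f hmonic hirr m hm c w h2 h3 b

include hmonic hirr in
theorem of_injective : Function.Injective (AdjoinRoot.of f) := by
  apply AdjoinRoot.of.injective_of_degree_ne_zero
  intro h0
  have h1 : f.natDegree = 0 := natDegree_eq_zero_iff_degree_le_zero.mpr h0.le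
  have h2' : f = 1 := by
    have h3' : f.coeff 0 = 1 := by
      have := hmonic.leadingCoeff
      rwa [leadingCoeff, h1] at this
    rw [eq_C_of_natDegree_eq_zero h1, h3', C_1]
  exact hirr.not_isUnit (h2' ▸ isUnit_one)

include hπ hmonic hirr h2 in
theorem root_ne_zero : AdjoinRoot.root f ≠ 0 := by
  intro h
  rw [h, zero_mul] at h2
  exact hπ.ne_zero (of_injective A f hmonic hirr (by rw [h2, map_zero]))

include hπ hmonic hirr hm h2 h3 in
theorem isDiscreteValuationRing [IsDomain (AdjoinRoot f)] :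
    IsDiscreteValuationRing (AdjoinRoot f) := by
  haveI := isLocalRing A π hπ f hmonic hirr m hm c w h2 h3
  have hmax := maxIdeal_eq A π hπ f hmonic hirr m hm c w h2 h3
  haveI : Module.Finite A (AdjoinRoot f) := hmonic.finite_adjoinRoot
  haveI hnoeth : IsNoetherianRing (AdjoinRoot f) := IsNoetherianRing.of_finite A _
  have hnf : ¬ IsField (AdjoinRoot f) := by
    rw [IsLocalRing.isField_iff_maximalIdeal_eq, hmax, Ideal.span_singleton_eq_bot]
    exact root_ne_zero A π hπ f hmonic hirr c h2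
  have hprinc : (IsLocalRing.maximalIdeal (AdjoinRoot f)).IsPrincipal :=
    ⟨⟨AdjoinRoot.root f, hmax⟩⟩
  exact ((IsDiscreteValuationRing.TFAE (AdjoinRoot f) hnf).out 4 0).mp hprinc

include hπ hmonic hirr hm h2 h3 in
theorem isLocalHom_algebraMap [IsLocalRing (AdjoinRoot f)] :
    IsLocalHom (algebraMap A (AdjoinRoot f)) := by
  constructor
  intro a ha
  by_contra hna
  have hmem : a ∈ maximalIdeal A := hna
  rw [hπ.maximalIdeal_eq, Ideal.mem_span_singleton] at hmem
  obtain ⟨c', rfl⟩ := hmem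
  rw [AdjoinRoot.algebraMap_eq, map_mul, h2, mul_assoc] at ha
  have h1 : IsUnit (AdjoinRoot.root f) := isUnit_of_mul_isUnit_left ha
  exact (nonunit_iff A π hπ f hmonic hirr m hm c w h2 h3 _).mpr
    (Ideal.mem_span_singleton_self _) h1

include hπ hmonic hirr hm h2 h3 in
theorem residue_surjective' [IsLocalRing (AdjoinRoot f)] (x : ResidueField (AdjoinRoot f)) :
    ∃ a : A, residue _ (algebraMap A (AdjoinRoot f) a) = x := by
  obtain ⟨b, rfl⟩ := residue_surjective x
  obtain ⟨a0, b', rfl⟩ := decomp A f b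
  refine ⟨a0, ?_⟩
  rw [map_add, AdjoinRoot.algebraMap_eq, left_eq_add, residue_eq_zero_iff,
    maxIdeal_eq A π hπ f hmonic hirr m hm c w h2 h3]
  exact Ideal.mul_mem_right _ _ (Ideal.mem_span_singleton_self _)

include hπ hmonic hirr hm h2 h3 in
theorem map_maximalIdeal [IsLocalRing (AdjoinRoot f)] (hw : IsUnit w) :
    (maximalIdeal A).map (algebraMap A (AdjoinRoot f)) = maximalIdeal (AdjoinRoot f) ^ m := by
  rw [hπ.maximalIdeal_eq, Ideal.map_span, Set.image_singleton, AdjoinRoot.algebraMap_eq,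
    maxIdeal_eq A π hπ f hmonic hirr m hm c w h2 h3, Ideal.span_singleton_pow, h3]
  obtain ⟨u, rfl⟩ := hw
  exact (Ideal.span_singleton_mul_right_unit u.isUnit _).symm

include hπ hmonic hirr hm h2 h3 in
theorem ramificationIdx_eq [IsDomain (AdjoinRoot f)] [IsDiscreteValuationRing (AdjoinRoot f)]
    (hw : IsUnit w) :
    Ideal.ramificationIdx' (maximalIdeal A) (maximalIdeal (AdjoinRoot f)) = m := by
  have hmap := map_maximalIdeal A π hπ f hmonic hirr m hm c w h2 h3 hw
  have hmax := maxIdeal_eq A π hπ f hmonic hirr m hm c w h2 h3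
  apply Ideal.ramificationIdx'_spec
  · rw [hmap]
  · rw [hmap, hmax, Ideal.span_singleton_pow, Ideal.span_singleton_pow,
      Ideal.span_singleton_le_span_singleton]
    intro hdvd
    have h0 := root_ne_zero A π hπ f hmonic hirr c h2
    have hnu : ¬ IsUnit (AdjoinRoot.root f) :=
      (nonunit_iff A π hπ f hmonic hirr m hm c w h2 h3 _).mpr (Ideal.mem_span_singleton_self _)
    have := (pow_dvd_pow_iff h0 hnu).mp hdvd
    omega

end Groth.Agent.Lib.Helper10.EisDVR
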