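import Mathlib

/-!
# Ramification index of an extension of DVRs via uniformizers (helper10)
-/

set_option linter.unusedSectionVars false

namespace Groth.Agent.Lib.Helper10.RamIdx

open IsLocalRing

variable {A B : Type*} [CommRing A] [IsDomain A] [IsDiscreteValuationRing A]
  [CommRing B] [IsDomain B] [IsDiscreteValuationRing B] [Algebra A B] [IsLocalHom (algebraMap A B)]

theorem exists_unit_mul_pow_ramificationIdx (hinj : Function.Injective (algebraMap A B))
    {πA : A} (hπA : Irreducible πA) {πB : B} (hπB : Irreducible πB) :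
    ∃ u : Bˣ, algebraMap A B πA =
        u * πB ^ (Ideal.ramificationIdx' (maximalIdeal A) (maximalIdeal B)) ∧
      0 < Ideal.ramificationIdx' (maximalIdeal A) (maximalIdeal B) := by
  have h0 : algebraMap A B πA ≠ 0 := fun h => hπA.ne_zero (hinj (by rw [h, map_zero]))
  obtain ⟨k, u, hk⟩ := IsDiscreteValuationRing.eq_unit_mul_pow_irreducible h0 hπB
  have hkpos : 0 < k := by
    by_contra hcon
    have hk0 : k = 0 := by omega
    rw [hk0, pow_zero, mul_one] at hk
    have hm : algebraMap A B πA ∈ maximalIdeal B :=
      map_nonunit (algebraMap A B) πA (by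
        rw [mem_maximalIdeal, mem_nonunits_iff]; exact hπA.not_isUnit)
    rw [hk] at hm
    exact (mem_maximalIdeal _).mp hm u.isUnit
  have hmap : (maximalIdeal A).map (algebraMap A B) = Ideal.span {πB ^ k} := by
    rw [hπA.maximalIdeal_eq, Ideal.map_span, Set.image_singleton, hk]
    exact Ideal.span_singleton_eq_span_singleton.mpr ⟨u⁻¹, by rw [mul_comm, ← mul_assoc]; simp⟩
  have hidx : Ideal.ramificationIdx' (maximalIdeal A) (maximalIdeal B) = k := by
    apply Ideal.ramificationIdx'_spec
    · rw [hmap, hπB.maximalIdeal_eq, Ideal.span_singleton_pow]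
    · rw [hmap, hπB.maximalIdeal_eq, Ideal.span_singleton_pow,
        Ideal.span_singleton_le_span_singleton]
      intro hdvd
      have := (pow_dvd_pow_iff hπB.ne_zero hπB.not_isUnit).mp hdvd
      omega
  rw [hidx]
  exact ⟨u, hk, hkpos⟩

end Groth.Agent.Lib.Helper10.RamIdx
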