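import Mathlib
import Groth.Prelude.Def_EtRam
import Groth.Agent.Lib.Helper10.RamIdx
import Groth.Agent.Lib.Helper10.RamTower
import Groth.Agent.Lib.Helper39.DVRIntersect

/-!
# A DVR integral over `A` with the same residue field is totally ramified (helper10)
-/

set_option autoImplicit false
set_option linter.unusedSectionVars false
set_option linter.style.haveILetI false
universe u
open IsLocalRing

namespace Groth.Agent.Lib.Helper10.TotRamDVR

open Groth.Agent.Lib.Helper10.RamIdx Groth.Agent.Lib.Helper10.RamTower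

theorem isTotallyRamified_of_dvr (A A' L : Type u) [CommRing A] [IsDomain A]
    [IsDiscreteValuationRing A] [CommRing A'] [IsDomain A'] [IsDiscreteValuationRing A']
    [Algebra A A'] [IsLocalHom (algebraMap A A')] [Algebra.IsIntegral A A']
    (hinj : Function.Injective (algebraMap A A'))
    [Field L] [Algebra A' L] [IsFractionRing A' L]
    (hsurj : ∀ x : ResidueField A', ∃ a : A, residue A' (algebraMap A A' a) = x) :
    EtRam.IsTotallyRamified A ((algebraMap A' L).comp (algebraMap A A')) := by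
  classical
  obtain ⟨ι, hι⟩ : ∃ ι : A' →+* L, ι = algebraMap A' L := ⟨_, rfl⟩
  obtain ⟨g, hg⟩ : ∃ g : A →+* L, g = (algebraMap A' L).comp (algebraMap A A') := ⟨_, rfl⟩
  rw [← hg]
  have hgι : ∀ a : A, g a = ι (algebraMap A A' a) := by
    intro a; rw [hg, hι]; rfl
  have hιinj : Function.Injective ι := by rw [hι]; exact IsFractionRing.injective _ _
  letI algAL : Algebra A L := g.toAlgebra
  haveI : IsScalarTower A A' L := IsScalarTower.of_algebraMap_eq (fun a => by
    show g a = _
    rw [hgι, hι])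
  obtain ⟨πA, hπA⟩ := IsDiscreteValuationRing.exists_irreducible A
  obtain ⟨πA', hπA'⟩ := IsDiscreteValuationRing.exists_irreducible A'
  obtain ⟨u, hu, hepos⟩ := exists_unit_mul_pow_ramificationIdx hinj hπA hπA'
  set e := Ideal.ramificationIdx' (maximalIdeal A) (maximalIdeal A') with he
  have hπAm : πA ∈ maximalIdeal A := by
    rw [hπA.maximalIdeal_eq]; exact Ideal.mem_span_singleton_self _
  -- characterisation of dominating valuation subrings
  have key : ∀ V : ValuationSubring L, EtRam.Dominates A g V →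
      (∀ y : L, y ∈ V ↔ ∃ b, ι b = y) ∧ ∀ b ∈ maximalIdeal A', V.valuation (ι b) < 1 := by
    intro V hV
    obtain ⟨h1, h2⟩ := hV
    have hsup : ∀ b, ι b ∈ V := by
      intro b
      have hb : IsIntegral A b := Algebra.IsIntegral.isIntegral b
      have hb' : IsIntegral A (algebraMap A' L b) := hb.algebraMap
      rw [hι]
      exact Groth.Agent.Lib.Helper39.KA.mem_valuationSubring_of_isIntegral V h1 hb'
    have hlt : ∀ b ∈ maximalIdeal A', V.valuation (ι b) < 1 := by
      intro b hb
      rw [hπA'.maximalIdeal_eq, Ideal.mem_span_singleton] at hb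
      obtain ⟨b₁, rfl⟩ := hb
      have h3 : (πA' * b₁) ^ e = algebraMap A A' πA * (((u⁻¹ : A'ˣ) : A') * b₁ ^ e) := by
        rw [hu, mul_pow]
        have : ((u : A') * πA' ^ e) * (((u⁻¹ : A'ˣ) : A') * b₁ ^ e) =
            ((u : A') * ((u⁻¹ : A'ˣ) : A')) * (πA' ^ e * b₁ ^ e) := by ring
        rw [this, Units.mul_inv, one_mul]
      have h4 : V.valuation (ι (πA' * b₁)) ^ e < 1 := by
        rw [← map_pow, ← map_pow, h3, map_mul, map_mul, ← hgι]
        calc V.valuation (g πA) * V.valuation (ι (((u⁻¹ : A'ˣ) : A') * b₁ ^ e))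
            ≤ V.valuation (g πA) * 1 :=
              mul_le_mul' le_rfl ((V.valuation_le_one_iff _).mpr (hsup _))
          _ = V.valuation (g πA) := mul_one _
          _ < 1 := h2 πA hπAm
      exact (pow_lt_one_iff (by omega)).mp h4
    refine ⟨fun y => ⟨fun hy => ?_, fun ⟨b, hb⟩ => hb ▸ hsup b⟩, hlt⟩
    by_cases hy0 : y = 0
    · exact ⟨0, by rw [hy0, map_zero]⟩
    have hint := ValuationRing.isInteger_or_isInteger A' y
    rcases hint with ⟨b, hb⟩ | ⟨b, hb⟩
    · exact ⟨b, by rw [hι]; exact hb⟩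
    · rw [← hι] at hb
      by_cases hbu : IsUnit b
      · obtain ⟨u', rfl⟩ := hbu
        refine ⟨((u'⁻¹ : A'ˣ) : A'), ?_⟩
        have hmul : ι ((u'⁻¹ : A'ˣ) : A') * ι (u' : A') = 1 := by
          rw [← map_mul, Units.inv_mul, map_one]
        rw [hb] at hmul
        have := eq_inv_of_mul_eq_one_left hmul
        rw [inv_inv] at this
        exact this
      · exfalso
        have hbm : b ∈ maximalIdeal A' := hbu
        have h5 := hlt b hbm
        rw [hb, map_inv₀] at h5
        have h6 : V.valuation y ≤ 1 := (V.valuation_le_one_iff _).mpr hy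
        have h7 : V.valuation y ≠ 0 := (Valuation.ne_zero_iff _).mpr hy0
        have h8 : 1 ≤ (V.valuation y)⁻¹ := (one_le_inv₀ (zero_lt_iff.mpr h7)).mpr h6
        exact absurd h5 (not_lt.mpr h8)
  refine ⟨?_, ?_, ?_⟩
  · -- existence
    obtain ⟨V0, hV0⟩ : ∃ V0 : ValuationSubring L, ∀ y : L, y ∈ V0 ↔ ∃ b, ι b = y := by
      refine ⟨(ValuationRing.valuation A' L).valuationSubring, fun y => ?_⟩
      rw [Valuation.mem_valuationSubring_iff, ← Valuation.mem_integer_iff,
        ValuationRing.mem_integer_iff, hι]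
    refine ⟨V0, fun a => (hV0 _).mpr ⟨_, (hgι a).symm⟩, fun a ha => ?_⟩
    rw [valuation_lt_one_iff']
    by_cases h0 : g a = 0
    · exact Or.inl h0
    · right
      intro hinv
      obtain ⟨b, hb⟩ := (hV0 _).mp hinv
      have h1 : ι (algebraMap A A' a * b) = ι 1 := by
        rw [map_mul, hb, ← hgι, map_one, mul_inv_cancel₀ h0]
      have h2 : IsUnit (algebraMap A A' a) := IsUnit.of_mul_eq_one b (hιinj h1)
      exact ha ((isUnit_map_iff (algebraMap A A') a).mp h2)
  · -- uniqueness
    intro V V' hV hV'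
    ext y
    rw [(key V hV).1 y, (key V' hV').1 y]
  · -- residue field
    intro V h r
    obtain ⟨⟨y, hy⟩, rfl⟩ := Ideal.Quotient.mk_surjective r
    obtain ⟨hmem, hlt⟩ := key V h
    obtain ⟨b, hb⟩ := (hmem y).mp hy
    obtain ⟨a0, ha0⟩ := hsurj (residue A' b)
    refine ⟨a0, ?_⟩
    show Ideal.Quotient.mk _ _ = Ideal.Quotient.mk _ _
    rw [Ideal.Quotient.eq, ValuationSubring.valuation_lt_one_iff]
    have hdiff : algebraMap A A' a0 - b ∈ maximalIdeal A' := by
      rw [← residue_eq_zero_iff, map_sub, ha0, sub_self]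
    have hval : ((RingHom.codRestrict g V h.1 a0 - ⟨y, hy⟩ : V) : L) =
        ι (algebraMap A A' a0 - b) := by
      rw [AddSubgroupClass.coe_sub]
      show g a0 - y = _
      rw [← hb, map_sub, hgι]
    rw [hval]
    exact hlt _ hdiff

end Groth.Agent.Lib.Helper10.TotRamDVR
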