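import Mathlib
import Groth.Prelude.Def_EtRam
import Groth.Agent.S7157
import Groth.Agent.Lib.Helper10.AS5

/-!
# Existence of the totally ramified Artin–Schreier extension (helper10)
-/

set_option autoImplicit false
set_option linter.style.haveILetI false
set_option linter.unusedSectionVars false
set_option linter.unusedVariables false

universe u

namespace Groth.Agent.Lib.Helper10.AS5b

open Finset IsLocalRing Polynomial Groth.Agent.Lib.Helper10.AS5

theorem exists_totRam (p : ℕ) [hp : Fact p.Prime] (A K : Type u) [CommRing A] [IsDomain A]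
    [IsDiscreteValuationRing A] [Field K] [Algebra A K] [IsFractionRing A K] [CharP K p]
    (π : A) (hπ : Irreducible π) (n' : ℕ) (hn' : 0 < n') (hpn : ¬ p ∣ n') (u : A) (hu : IsUnit u)
    (η : K) (hη : η * (algebraMap A K π) ^ n' = algebraMap A K u) :
    ∃ (K₁ : Type u) (_ : Field K₁) (_ : Algebra K K₁), FiniteDimensional K K₁ ∧
      Algebra.IsSeparable K K₁ ∧
      EtRam.IsTotallyRamified A ((algebraMap K K₁).comp (algebraMap A K)) ∧
      ∃ w : K₁, w ^ p - w = algebraMap K K₁ η := by
  classical
  have hdeg : (X + C η : K[X]).degree < (p : WithBot ℕ) := by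
    calc (X + C η : K[X]).degree ≤ 1 := by
          refine (degree_add_le _ _).trans (max_le degree_X_le ?_)
          exact (degree_C_le).trans (by norm_num)
      _ < (p : WithBot ℕ) := by exact_mod_cast hp.out.one_lt
  set f : K[X] := X ^ p - (X + C η) with hf
  have hfm : f.Monic := monic_X_pow_sub hdeg
  have hfnd : f.natDegree = p := by
    rw [hf, natDegree_sub_eq_left_of_natDegree_lt, natDegree_X_pow]
    rw [natDegree_X_pow, natDegree_X_add_C]
    exact hp.out.one_lt
  have hf0 : f ≠ 0 := hfm.ne_zero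
  have hfnu : ¬ IsUnit f := by
    intro h
    have := natDegree_eq_zero_of_isUnit h
    rw [hfnd] at this
    exact hp.out.ne_zero this
  have hfsep : f.Separable := by
    rw [separable_def]
    have hd : derivative f = -1 := by
      rw [hf, derivative_sub, derivative_add, derivative_C, add_zero, derivative_X,
        derivative_X_pow, CharP.cast_eq_zero, C_0, zero_mul, zero_sub]
    rw [hd]
    exact ⟨0, -1, by ring⟩
  obtain ⟨g, hgirr, hgf⟩ := WfDvdMonoid.exists_irreducible_factor hfnu hf0
  haveI : Fact (Irreducible g) := ⟨hgirr⟩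
  have hg0 : g ≠ 0 := hgirr.ne_zero
  haveI hfin : FiniteDimensional K (AdjoinRoot g) := (AdjoinRoot.powerBasis hg0).finite
  haveI hsep : Algebra.IsSeparable K (AdjoinRoot g) :=
    Groth.Agent.S7157.isSeparable_adjoinRoot_of_separable g (hfsep.of_dvd hgf)
  set w : AdjoinRoot g := AdjoinRoot.root g with hwdef
  have hfw : aeval w f = 0 := by
    obtain ⟨q, hq⟩ := hgf
    rw [hq, map_mul, AdjoinRoot.aeval_eq, AdjoinRoot.mk_self, zero_mul]
  have hw : w ^ p - w = algebraMap K (AdjoinRoot g) η := by
    rw [hf, map_sub, map_pow, map_add, aeval_X, aeval_C] at hfw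
    linear_combination hfw
  have hgen : ∀ x : AdjoinRoot g, ∃ k : ℕ → K,
      x = ∑ i ∈ range p, algebraMap K (AdjoinRoot g) (k i) * w ^ i := by
    intro x
    obtain ⟨q, rfl⟩ := AdjoinRoot.mk_surjective x
    refine ⟨fun i => (q %ₘ f).coeff i, ?_⟩
    have h1 : AdjoinRoot.mk g q = AdjoinRoot.mk g (q %ₘ f) := by
      conv_lhs => rw [← modByMonic_add_div q f]
      rw [map_add, map_mul]
      have : AdjoinRoot.mk g f = 0 := AdjoinRoot.mk_eq_zero.mpr hgf
      rw [this, zero_mul, add_zero]
    have h2 : (q %ₘ f).natDegree < p := by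
      rw [← hfnd]
      exact natDegree_modByMonic_lt q hfm (by
        intro h1'
        rw [h1'] at hfnd
        simp at hfnd
        exact hp.out.ne_zero hfnd.symm)
    rw [h1, ← AdjoinRoot.aeval_eq, aeval_eq_sum_range' h2]
    refine sum_congr rfl fun i _ => ?_
    rw [Algebra.smul_def]
  have hmem := fun (V : ValuationSubring (AdjoinRoot g))
      (hV : EtRam.Dominates A ((algebraMap K (AdjoinRoot g)).comp (algebraMap A K)) V) =>
    mem_iff p π hπ n' hn' hpn u hu η hη w hw V hV hgen
  refine ⟨AdjoinRoot g, inferInstance, inferInstance, hfin, hsep, ⟨?_, ?_, ?_⟩, w, hw⟩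
  · obtain ⟨V, hV1, hV2⟩ := Groth.Agent.Lib.Helper39.KA.exists_valuationSubring_dominating
      ((algebraMap K (AdjoinRoot g)).comp (algebraMap A K))
    exact ⟨V, hV1, fun a ha => (ValuationSubring.mem_nonunits_iff V).mp (hV2 a ha)⟩
  · intro V V' hV hV'
    ext x
    rw [hmem V hV, hmem V' hV']
  · intro V hV r
    obtain ⟨⟨x, hx⟩, rfl⟩ := residue_surjective r
    obtain ⟨a, ha⟩ := residue_eq p π hπ n' hn' hpn u hu η hη w hw V hV hgen x hx
    refine ⟨a, ?_⟩
    show residue V _ = residue V _
    rw [← sub_eq_zero, ← map_sub, residue_eq_zero_iff, ValuationSubring.valuation_lt_one_iff]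
    rw [← Valuation.map_sub_swap] at ha
    exact ha

end Groth.Agent.Lib.Helper10.AS5b
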