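import Mathlib
import Groth.Agent.Lib.Helper10.AS1

/-!
# The Artin–Schreier computation after the totally ramified base change (helper10)
-/

set_option autoImplicit false
set_option linter.style.haveILetI false
set_option linter.unusedSectionVars false
set_option linter.unusedVariables false

namespace Groth.Agent.Lib.Helper10.AS6

open Finset Groth.Agent.Lib.Helper10.AS1

section

variable (p : ℕ) [hp : Fact p.Prime] {F : Type*} [Field F] [CharP F p] {B : Type*} [CommRing B]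
  (φ : B →+* F) (T : Subring F) (π₁ : F) (n : ℕ)

/-- The subring generated by the image of `B` and `T`. -/
def S₀ : Subring F := Subring.closure (Set.range φ ∪ (T : Set F))

/-- The subfield generated by the image of `B` and `T`. -/
def F₀ : Subfield F := Subfield.closure (Set.range φ ∪ (T : Set F))

variable {φ T}

theorem S₀_le_F₀ {x : F} (hx : x ∈ S₀ φ T) : x ∈ F₀ φ T := by
  have : S₀ φ T ≤ (F₀ φ T).toSubring := Subring.closure_le.mpr Subfield.subset_closure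
  exact this hx

theorem φ_mem_S₀ (b : B) : φ b ∈ S₀ φ T := Subring.subset_closure (Or.inl ⟨b, rfl⟩)

theorem T_mem_S₀ {t : F} (ht : t ∈ T) : t ∈ S₀ φ T := Subring.subset_closure (Or.inr ht)

variable (φ T)

/-- Elements Artin–Schreier equivalent (over `F₀`) to an element with pole order `≤ n`. -/
def H : AddSubgroup F where
  carrier := {x | ∃ k ∈ F₀ φ T, ∃ ρ : F, ρ * π₁ ^ n ∈ S₀ φ T ∧ x = (k ^ p - k) + ρ}
  zero_mem' := ⟨0, zero_mem _, 0, by simp [zero_mem], by simp [zero_pow hp.out.ne_zero]⟩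
  add_mem' := by
    rintro x y ⟨k, hk, ρ, hρ, rfl⟩ ⟨k', hk', ρ', hρ', rfl⟩
    refine ⟨k + k', add_mem hk hk', ρ + ρ', ?_, ?_⟩
    · rw [add_mul]; exact add_mem hρ hρ'
    · rw [wp_add]; ring
  neg_mem' := by
    rintro x ⟨k, hk, ρ, hρ, rfl⟩
    refine ⟨-k, neg_mem hk, -ρ, ?_, ?_⟩
    · rw [neg_mul]; exact neg_mem hρ
    · have h0 : (0 : F) ^ p = 0 := zero_pow hp.out.ne_zero
      linear_combination -(wp_sub p (0 : F) k) - h0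

variable {φ T π₁ n}

theorem mem_H_iff {x : F} : x ∈ H p φ T π₁ n ↔
    ∃ k ∈ F₀ φ T, ∃ ρ : F, ρ * π₁ ^ n ∈ S₀ φ T ∧ x = (k ^ p - k) + ρ := Iff.rfl

theorem mem_H_of_pole (hπ₁T : π₁ ∈ T) {x : F} {m : ℕ} (hm : m ≤ n) (hx : x * π₁ ^ m ∈ S₀ φ T) :
    x ∈ H p φ T π₁ n := by
  refine ⟨0, zero_mem _, x, ?_, by simp [zero_pow hp.out.ne_zero]⟩
  obtain ⟨d, rfl⟩ := Nat.exists_eq_add_of_le hm
  rw [pow_add, ← mul_assoc]
  exact mul_mem hx (pow_mem (T_mem_S₀ hπ₁T) _)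

theorem mem_H_of_S₀ (hπ₁T : π₁ ∈ T) {x : F} (hx : x ∈ S₀ φ T) : x ∈ H p φ T π₁ n :=
  mem_H_of_pole p hπ₁T (Nat.zero_le n) (by rwa [pow_zero, mul_one])

theorem wp_mem_H {k : F} (hk : k ∈ F₀ φ T) : k ^ p - k ∈ H p φ T π₁ n :=
  ⟨k, hk, 0, by simp [zero_mem], by ring⟩

theorem pow_sub_mem_H {X : F} (hX : X ∈ F₀ φ T) (s : ℕ) : X ^ (p ^ s) - X ∈ H p φ T π₁ n := by
  rw [pow_pow_eq_add_wp p X s, add_sub_cancel_left]
  exact wp_mem_H p (sum_mem fun k _ => pow_mem hX _)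

theorem π₁_mem_F₀ (hπ₁T : π₁ ∈ T) : π₁ ∈ F₀ φ T := S₀_le_F₀ (T_mem_S₀ hπ₁T)

theorem iterm_mem_H (hπ₁T : π₁ ∈ T) (hπ₁0 : π₁ ≠ 0) (r : ℕ) {τ : F} (hτ : τ ∈ T) {i : ℕ}
    (hi : i ≤ n) (ϖ : F) {d : F} (hd : d ∈ T)
    (hcmp : (ϖ⁻¹) ^ i = ((π₁ ^ (p ^ r))⁻¹) ^ i + d) :
    τ ^ (p ^ r) / ϖ ^ i ∈ H p φ T π₁ n := by
  set X : F := τ / π₁ ^ i with hX
  have hXF : X ∈ F₀ φ T :=
    div_mem (S₀_le_F₀ (T_mem_S₀ hτ)) (pow_mem (π₁_mem_F₀ hπ₁T) _)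
  have hXq : X ^ (p ^ r) = τ ^ (p ^ r) * ((π₁ ^ (p ^ r))⁻¹) ^ i := by
    rw [hX, div_pow, ← pow_mul, mul_comm i, pow_mul, div_eq_mul_inv, inv_pow]
  have e : τ ^ (p ^ r) / ϖ ^ i = (X ^ (p ^ r) - X) + X + τ ^ (p ^ r) * d := by
    rw [hXq, div_eq_mul_inv, ← inv_pow, hcmp]
    ring
  rw [e]
  refine add_mem (add_mem (pow_sub_mem_H p hXF r) ?_) ?_
  · apply mem_H_of_pole p hπ₁T hi
    rw [hX, div_mul_cancel₀ _ (pow_ne_zero _ hπ₁0)]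
    exact T_mem_S₀ hτ
  · exact mem_H_of_S₀ p hπ₁T (T_mem_S₀ (T.mul_mem (T.pow_mem hτ _) hd))

theorem jterm_mem_H (hπ₁T : π₁ ∈ T) (hπ₁0 : π₁ ≠ 0) (r s j : ℕ) (hs : s ≤ r) (c : B) (ϖ : F)
    {d : F} (hd : d ∈ T) (hcmp : (ϖ⁻¹) ^ j = ((π₁ ^ (p ^ r))⁻¹) ^ j + d) :
    (φ c) ^ (p ^ s) / ϖ ^ j - φ c / π₁ ^ (j * p ^ (r - s)) ∈ H p φ T π₁ n := by
  set Y : F := φ c / π₁ ^ (j * p ^ (r - s)) with hY
  have hYF : Y ∈ F₀ φ T :=
    div_mem (S₀_le_F₀ (φ_mem_S₀ c)) (pow_mem (π₁_mem_F₀ hπ₁T) _)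
  have hexp : j * p ^ (r - s) * p ^ s = p ^ r * j := by
    rw [mul_assoc, ← pow_add, Nat.sub_add_cancel hs, mul_comm]
  have hYq : Y ^ (p ^ s) = (φ c) ^ (p ^ s) * ((π₁ ^ (p ^ r))⁻¹) ^ j := by
    rw [hY, div_pow, ← pow_mul, hexp, pow_mul, div_eq_mul_inv, inv_pow]
  have e : (φ c) ^ (p ^ s) / ϖ ^ j - Y = (Y ^ (p ^ s) - Y) + (φ c) ^ (p ^ s) * d := by
    rw [hYq, div_eq_mul_inv, ← inv_pow, hcmp]
    ring
  rw [e]
  refine add_mem (pow_sub_mem_H p hYF s) ?_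
  exact mem_H_of_S₀ p hπ₁T (mul_mem (pow_mem (φ_mem_S₀ c) _) (T_mem_S₀ hd))

theorem main (r : ℕ) (hπ₁T : π₁ ∈ T) (hπ₁0 : π₁ ≠ 0) (ϖ : F)
    (hcmp : ∀ j ≤ n, ∃ d ∈ T, (ϖ⁻¹) ^ j = ((π₁ ^ (p ^ r))⁻¹) ^ j + d)
    (Z Ξ l ηF : F) (b : B) (J : Finset ℕ) (c : ℕ → B) (s : ℕ → ℕ)
    (hZ : Z ^ p - Z = Ξ)
    (hΞ : Ξ = (l ^ p - l) + ηF + (∑ j ∈ J, (φ (c j)) ^ (p ^ (s j)) / ϖ ^ j) + φ b)
    (hl : l ∈ F₀ φ T)
    (τ : ℕ → F) (hτ : ∀ i, τ i ∈ T) (a : F) (ha : a ∈ T)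
    (hη : ηF = ∑ i ∈ range (n + 1), (τ i) ^ (p ^ r) / ϖ ^ i + a)
    (hJ : ∀ j ∈ J, 1 ≤ j ∧ j ≤ n ∧ (s j = 0 ∨ ¬ p ∣ j))
    (hr : ∀ j ∈ J, s j < r ∧ n < j * p ^ (r - s j))
    (hne : J.Nonempty) :
    ∃ j₀ ∈ J, ∃ (y k : F) (m' e : ℕ) (s' : F), k ∈ F₀ φ T ∧ s' ∈ S₀ φ T ∧
      Z = y / π₁ ^ m' + k ∧ y ^ p = φ (c j₀) + π₁ * (s' + π₁ ^ e * y) := by
  classical
  have hpp := hp.out
  set m : ℕ → ℕ := fun j => j * p ^ (r - s j) with hm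
  -- Step A
  have hA : Ξ - ∑ j ∈ J, φ (c j) / π₁ ^ (m j) ∈ H p φ T π₁ n := by
    have e : Ξ - ∑ j ∈ J, φ (c j) / π₁ ^ (m j) = (l ^ p - l) + ηF +
        (∑ j ∈ J, ((φ (c j)) ^ (p ^ (s j)) / ϖ ^ j - φ (c j) / π₁ ^ (m j))) + φ b := by
      rw [hΞ, sum_sub_distrib]; ring
    rw [e]
    refine add_mem (add_mem (add_mem (wp_mem_H p hl) ?_) ?_) (mem_H_of_S₀ p hπ₁T (φ_mem_S₀ b))
    · rw [hη]
      refine add_mem (sum_mem fun i hi => ?_) (mem_H_of_S₀ p hπ₁T (T_mem_S₀ ha))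
      have hi' : i ≤ n := by have := mem_range.mp hi; omega
      obtain ⟨d, hd, hc⟩ := hcmp i hi'
      exact iterm_mem_H p hπ₁T hπ₁0 r (hτ i) hi' ϖ hd hc
    · refine sum_mem fun j hj => ?_
      obtain ⟨d, hd, hc⟩ := hcmp j (hJ j hj).2.1
      exact jterm_mem_H p hπ₁T hπ₁0 r (s j) j (hr j hj).1.le (c j) ϖ hd hc
  obtain ⟨k, hk, ρ, hρ, e⟩ := hA
  -- injectivity of `m`
  have hinj : ∀ j ∈ J, ∀ j' ∈ J, m j = m j' → j = j' := by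
    have key : ∀ j ∈ J, ∀ j' ∈ J, r - s j < r - s j' → m j ≠ m j' := by
      intro j hj j' hj' hlt heq
      obtain ⟨t, ht⟩ := Nat.exists_eq_add_of_lt hlt
      have h1 : j * p ^ (r - s j) = j' * p ^ (t + 1) * p ^ (r - s j) := by
        have : m j = m j' := heq
        simp only [hm] at this
        rw [this, ht, mul_assoc, ← pow_add]
        congr 2
        omega
      have h2 : j = j' * p ^ (t + 1) :=
        Nat.eq_of_mul_eq_mul_right (pow_pos hpp.pos _) h1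
      have h3 : p ∣ j := ⟨j' * p ^ t, by rw [h2, pow_succ]; ring⟩
      rcases (hJ j hj).2.2 with h4 | h4
      · have := (hr j' hj').1
        omega
      · exact h4 h3
    intro j hj j' hj' heq
    rcases lt_trichotomy (r - s j) (r - s j') with h | h | h
    · exact absurd heq (key j hj j' hj' h)
    · have h1 : j * p ^ (r - s j) = j' * p ^ (r - s j) := by
        have : m j = m j' := heq
        simp only [hm] at this
        rw [this, h]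
      exact Nat.eq_of_mul_eq_mul_right (pow_pos hpp.pos _) h1
    · exact absurd heq.symm (key j' hj' j hj h)
  obtain ⟨j₀, hj₀, hmax⟩ := exists_max_image J m hne
  have hlt : ∀ j ∈ J.erase j₀, m j < m j₀ := by
    intro j hj
    obtain ⟨hne', hjJ⟩ := mem_erase.mp hj
    exact lt_of_le_of_ne (hmax j hjJ) (fun h => hne' (hinj j hjJ j₀ hj₀ h))
  obtain ⟨hsr, hnm0⟩ := hr j₀ hj₀
  have hnm : n < m j₀ := hnm0
  set m' : ℕ := j₀ * p ^ (r - s j₀ - 1) with hm'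
  have hm₀ : m j₀ = m' * p := by
    show j₀ * p ^ (r - s j₀) = j₀ * p ^ (r - s j₀ - 1) * p
    rw [mul_assoc, ← pow_succ]
    congr 2
    omega
  have hm'1 : 1 ≤ m' := Nat.mul_pos (hJ j₀ hj₀).1 (pow_pos hpp.pos _)
  have hm'lt : m' + 1 ≤ m j₀ := by
    rw [hm₀]
    have : m' * 2 ≤ m' * p := Nat.mul_le_mul_left m' hpp.two_le
    omega
  set Z' : F := Z - k with hZ'
  have hwpZ' : Z' ^ p - Z' = (∑ j ∈ J, φ (c j) / π₁ ^ (m j)) + ρ := by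
    rw [hZ', wp_sub, hZ]
    linear_combination e
  set s' : F := (∑ j ∈ J.erase j₀, φ (c j) * π₁ ^ (m j₀ - m j - 1)) +
    ρ * π₁ ^ n * π₁ ^ (m j₀ - n - 1) with hs'
  have hs'S : s' ∈ S₀ φ T := by
    refine add_mem (sum_mem fun j _ => mul_mem (φ_mem_S₀ _) (pow_mem (T_mem_S₀ hπ₁T) _)) ?_
    exact mul_mem hρ (pow_mem (T_mem_S₀ hπ₁T) _)
  have hmul : (Z' ^ p - Z') * π₁ ^ (m j₀) = φ (c j₀) + π₁ * s' := by
    rw [hwpZ', add_mul, sum_mul, ← add_sum_erase J _ hj₀,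
      div_mul_cancel₀ _ (pow_ne_zero _ hπ₁0), hs', mul_add, mul_sum]
    have h1 : ∑ j ∈ J.erase j₀, φ (c j) / π₁ ^ (m j) * π₁ ^ (m j₀) =
        ∑ j ∈ J.erase j₀, π₁ * (φ (c j) * π₁ ^ (m j₀ - m j - 1)) := by
      refine sum_congr rfl fun j hj => ?_
      have h2 := hlt j hj
      have h3 : π₁ ^ (m j₀) = π₁ ^ (m j) * (π₁ * π₁ ^ (m j₀ - m j - 1)) := by
        rw [← pow_succ', ← pow_add]
        congr 1
        omega
      rw [h3]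
      field_simp
    have h4 : ρ * π₁ ^ (m j₀) = π₁ * (ρ * π₁ ^ n * π₁ ^ (m j₀ - n - 1)) := by
      have h5 : π₁ ^ (m j₀) = π₁ ^ n * (π₁ * π₁ ^ (m j₀ - n - 1)) := by
        rw [← pow_succ', ← pow_add]
        congr 1
        omega
      rw [h5]; ring
    rw [h1, h4]
    ring
  refine ⟨j₀, hj₀, π₁ ^ m' * Z', k, m', m j₀ - m' - 1, s', hk, hs'S, ?_, ?_⟩
  · rw [mul_div_assoc, mul_comm, div_mul_cancel₀ _ (pow_ne_zero _ hπ₁0), hZ']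
    ring
  · have h6 : (π₁ ^ m' * Z') ^ p = π₁ ^ (m j₀) * Z' ^ p := by
      rw [mul_pow, ← pow_mul, ← hm₀]
    have h7 : π₁ ^ (m j₀) = π₁ * π₁ ^ (m j₀ - m' - 1) * π₁ ^ m' := by
      rw [← pow_succ', ← pow_add]
      congr 1
      omega
    rw [h6]
    have h8 : π₁ ^ (m j₀) * Z' ^ p = (Z' ^ p - Z') * π₁ ^ (m j₀) + π₁ ^ (m j₀) * Z' := by ring
    rw [h8, hmul]
    conv_lhs => rw [h7]
    ring

end

end Groth.Agent.Lib.Helper10.AS6
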