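import Mathlib
import Groth.Prelude.Def_EtRam
import Groth.Agent.Lib.Helper10.RamTower
import Groth.Agent.Lib.Helper10.AS4

/-!
# Bridge: from a local Artin–Schreier presentation to weak unramifiedness (helper10)
-/

set_option autoImplicit false
set_option linter.style.haveILetI false
set_option linter.unusedSectionVars false
set_option linter.unusedVariables false

universe u

namespace Groth.Agent.Lib.Helper10.AS7

open IsLocalRing Groth.Agent.Lib.Helper10.RamTower

/-- The map `B → M'`. -/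
def φF (B M M' : Type u) [CommRing B] [Field M] [Field M'] [Algebra B M] [Algebra M M'] : B →+* M' :=
  (algebraMap M M').comp (algebraMap B M)

/-- The image of `W ∩ K₁` in `M'`. -/
def TF (K₁ M' : Type u) [Field K₁] [Field M'] [Algebra K₁ M'] (W : ValuationSubring M') : Subring M' :=
  (W.comap (algebraMap K₁ M')).toSubring.map (algebraMap K₁ M')

theorem mem_TF {K₁ M' : Type u} [Field K₁] [Field M'] [Algebra K₁ M'] {W : ValuationSubring M'}
    {t : M'} : t ∈ TF K₁ M' W ↔ ∃ v : K₁, algebraMap K₁ M' v ∈ W ∧ algebraMap K₁ M' v = t := by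
  constructor
  · rintro ⟨v, hv, rfl⟩
    exact ⟨v, hv, rfl⟩
  · rintro ⟨v, hv, rfl⟩
    exact ⟨v, hv, rfl⟩

open TensorProduct in
set_option maxHeartbeats 1600000 in
theorem bridge (p : ℕ) (hp : p.Prime) (A B C K L M : Type u)
    [CommRing A] [IsDomain A] [IsDiscreteValuationRing A] [CommRing B] [IsDomain B] [IsDiscreteValuationRing B]
    [CommRing C] [IsDomain C] [IsDiscreteValuationRing C]
    [Algebra A B] [Algebra B C] [Algebra A C] [IsScalarTower A B C]
    (hAB : Function.Injective (algebraMap A B)) (hBC : Function.Injective (algebraMap B C))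
    [IsLocalHom (algebraMap A B)] [IsLocalHom (algebraMap B C)]
    [Field K] [Field L] [Field M] [Algebra A K] [IsFractionRing A K] [Algebra B L] [IsFractionRing B L]
    [Algebra C M] [IsFractionRing C M] [Algebra K L] [Algebra L M] [Algebra K M] [IsScalarTower K L M]
    [Algebra A L] [IsScalarTower A K L] [IsScalarTower A B L] [Algebra B M] [IsScalarTower B L M] [IsScalarTower B C M]
    [Algebra A M] [IsScalarTower A K M] [IsScalarTower A C M]
    (hw : EtRam.IsWeaklyUnramified A B) [CharP K p]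
    (z : M) (hzgen : Algebra.adjoin L {z} = ⊤)
    (K₁ : Type u) [Field K₁] [Algebra K K₁] [FiniteDimensional K K₁]
    (ht : EtRam.IsTotallyRamified A ((algebraMap K K₁).comp (algebraMap A K)))
    (M' : Type u) [Field M'] [Algebra K M'] [Algebra M M'] [Algebra K₁ M'] [IsScalarTower K M M']
    [IsScalarTower K K₁ M']
    (hM' : Algebra.adjoin M (Set.range (algebraMap K₁ M')) = ⊤) (W : ValuationSubring M')
    (hW : EtRam.Dominates C ((algebraMap M M').comp (algebraMap C M)) W)
    (π₁ : K₁) (hπ₁W : algebraMap K₁ M' π₁ ∈ W)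
    (hπ₁irr : Irreducible (⟨π₁, hπ₁W⟩ : W.comap (algebraMap K₁ M')))
    (y : M') (hyW : y ∈ W)
    (hy : (∃ b₀ : B, ∃ s ∈ Subring.closure (Set.range (φF B M M') ∪ (TF K₁ M' W : Set M') ∪ {y}),
        y ^ p - y = φF B M M' b₀ + algebraMap K₁ M' π₁ * s) ∨
      (∃ b₀ : B, (∀ r : B, residue B b₀ ≠ residue B r ^ p) ∧
        ∃ s ∈ Subring.closure (Set.range (φF B M M') ∪ (TF K₁ M' W : Set M') ∪ {y}),
          y ^ p = φF B M M' b₀ + algebraMap K₁ M' π₁ * s))
    (hZ : (∀ l : L, algebraMap M M' (algebraMap L M l) ∈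
        Subfield.closure (Set.range (φF B M M') ∪ (TF K₁ M' W : Set M') ∪ {y})) →
      (∀ k : K₁, algebraMap K₁ M' k ∈
        Subfield.closure (Set.range (φF B M M') ∪ (TF K₁ M' W : Set M') ∪ {y})) →
      algebraMap M M' z ∈
        Subfield.closure (Set.range (φF B M M') ∪ (TF K₁ M' W : Set M') ∪ {y})) :
    (maximalIdeal (W.comap (algebraMap K₁ M'))).map (EtRam.inclOfComap W (algebraMap K₁ M')) =
      maximalIdeal W := by
  classical
  have hfA : ∀ a : A, algebraMap K₁ M' (((algebraMap K K₁).comp (algebraMap A K)) a) =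
      ((algebraMap M M').comp (algebraMap C M)) (algebraMap A C a) := by
    intro a
    simp only [RingHom.comp_apply]
    rw [← IsScalarTower.algebraMap_apply K K₁ M', IsScalarTower.algebraMap_apply K M M',
      ← IsScalarTower.algebraMap_apply A K M, ← IsScalarTower.algebraMap_apply A C M]
  have hφB : ∀ b : B, φF B M M' b = ((algebraMap M M').comp (algebraMap C M)) (algebraMap B C b) := by
    intro b
    show algebraMap M M' (algebraMap B M b) = algebraMap M M' (algebraMap C M (algebraMap B C b))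
    rw [← IsScalarTower.algebraMap_apply B C M]
  have hφA : ∀ a : A, φF B M M' (algebraMap A B a) =
      algebraMap K₁ M' (((algebraMap K K₁).comp (algebraMap A K)) a) := by
    intro a
    rw [hfA, hφB, ← IsScalarTower.algebraMap_apply A B C]
  have hV₁ : EtRam.Dominates A ((algebraMap K K₁).comp (algebraMap A K))
      (W.comap (algebraMap K₁ M')) :=
    ⟨fun a => by
      show algebraMap K₁ M' _ ∈ W
      rw [hfA]; exact hW.1 _,
    fun a ha => by
      rw [valuation_comap_lt_one_iff, hfA]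
      have hAC : IsLocalHom (algebraMap A C) := by
        rw [IsScalarTower.algebraMap_eq A B C]
        infer_instance
      exact hW.2 _ (map_nonunit (algebraMap A C) a ha)⟩
  haveI dvrV : IsDiscreteValuationRing (W.comap (algebraMap K₁ M')) :=
    isDiscreteValuationRing_of_dominates A K K₁ _ hV₁
  -- the surjection `M ⊗ K₁ → M'`
  let Ψ : M ⊗[K] K₁ →ₐ[M] M' :=
    Algebra.TensorProduct.productLeftAlgHom (Algebra.ofId M M') (IsScalarTower.toAlgHom K K₁ M')
  have hΨ : Function.Surjective Ψ := by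
    have hrange : Ψ.range = ⊤ := by
      rw [eq_top_iff, ← hM']
      apply Algebra.adjoin_le
      rintro _ ⟨k, rfl⟩
      exact ⟨1 ⊗ₜ k, by simp [Ψ]⟩
    intro x
    have hx : x ∈ Ψ.range := hrange ▸ Algebra.mem_top
    exact hx
  haveI finMT : Module.Finite M (M ⊗[K] K₁) := inferInstance
  haveI finMM' : FiniteDimensional M M' := Module.Finite.of_surjective Ψ.toLinearMap hΨ
  haveI dvrW : IsDiscreteValuationRing W := isDiscreteValuationRing_of_dominates C M M' W hW
  haveI charL : CharP L p := charP_of_injective_algebraMap (algebraMap K L).injective p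
  have hpB : ((p : ℕ) : B) = 0 := by
    apply IsFractionRing.injective B L
    rw [map_natCast, map_zero, CharP.cast_eq_zero]
  obtain ⟨π, hπA⟩ := IsDiscreteValuationRing.exists_irreducible A
  have hmB : maximalIdeal B = Ideal.span {algebraMap A B π} := by
    have hw' : (maximalIdeal A).map (algebraMap A B) = maximalIdeal B := hw
    rw [← hw', hπA.maximalIdeal_eq, Ideal.map_span, Set.image_singleton]
  have hmV : maximalIdeal (W.comap (algebraMap K₁ M')) = Ideal.span {⟨π₁, hπ₁W⟩} :=
    hπ₁irr.maximalIdeal_eq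
  have hφW : ∀ b, φF B M M' b ∈ W := fun b => by rw [hφB]; exact hW.1 _
  have hTW : ∀ t ∈ TF K₁ M' W, t ∈ W := by
    intro t ht
    obtain ⟨v, hv, rfl⟩ := mem_TF.mp ht
    exact hv
  have hπ₁T : algebraMap K₁ M' π₁ ∈ TF K₁ M' W := mem_TF.mpr ⟨π₁, hπ₁W, rfl⟩
  have hπ₁m : W.valuation (algebraMap K₁ M' π₁) < 1 := by
    rw [← valuation_comap_lt_one_iff]
    have h1 : (⟨π₁, hπ₁W⟩ : W.comap (algebraMap K₁ M')) ∈
        maximalIdeal (W.comap (algebraMap K₁ M')) := by
      rw [mem_maximalIdeal, mem_nonunits_iff]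
      exact hπ₁irr.not_isUnit
    exact (ValuationSubring.valuation_lt_one_iff _ _).mp h1
  have hπ₁0 : algebraMap K₁ M' π₁ ≠ 0 := by
    intro h
    have h1 : π₁ = 0 := (algebraMap K₁ M').injective (by rw [h, map_zero])
    exact hπ₁irr.ne_zero (Subtype.ext h1)
  -- elements of the maximal ideal of `V₁`
  have hmemV : ∀ (v : K₁) (hv : algebraMap K₁ M' v ∈ W),
      (⟨v, hv⟩ : W.comap (algebraMap K₁ M')) ∈ maximalIdeal (W.comap (algebraMap K₁ M')) →
      ∃ v' : K₁, algebraMap K₁ M' v' ∈ W ∧ v = v' * π₁ := by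
    intro v hv hm
    rw [hmV, Ideal.mem_span_singleton'] at hm
    obtain ⟨⟨v', hv'⟩, e⟩ := hm
    exact ⟨v', hv', (congrArg Subtype.val e).symm⟩
  have hT : ∀ t ∈ TF K₁ M' W, ∃ b : B, ∃ t' ∈ TF K₁ M' W,
      t = φF B M M' b + algebraMap K₁ M' π₁ * t' := by
    intro t htt
    obtain ⟨v, hv, rfl⟩ := mem_TF.mp htt
    obtain ⟨a, ha⟩ := ht.2.2 _ hV₁ (residue _ (⟨v, hv⟩ : W.comap (algebraMap K₁ M')))
    have h1 : (⟨v, hv⟩ : W.comap (algebraMap K₁ M')) -
        RingHom.codRestrict ((algebraMap K K₁).comp (algebraMap A K)) _ hV₁.1 a ∈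
        maximalIdeal (W.comap (algebraMap K₁ M')) := by
      rw [← residue_eq_zero_iff, map_sub]
      have ha' : residue _ (RingHom.codRestrict ((algebraMap K K₁).comp (algebraMap A K))
        (W.comap (algebraMap K₁ M')) hV₁.1 a) = residue _ (⟨v, hv⟩ : W.comap (algebraMap K₁ M')) := ha
      rw [ha', sub_self]
    obtain ⟨v', hv', e⟩ := hmemV (v - ((algebraMap K K₁).comp (algebraMap A K)) a)
      ((W.comap (algebraMap K₁ M')).toSubring.sub_mem hv (hV₁.1 a)) h1
    refine ⟨algebraMap A B a, algebraMap K₁ M' v', mem_TF.mpr ⟨v', hv', rfl⟩, ?_⟩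
    rw [hφA, ← map_mul, ← map_add]
    congr 1
    linear_combination e
  have hφm : ∀ b ∈ maximalIdeal B, ∃ t ∈ Subring.closure (Set.range (φF B M M') ∪
      (TF K₁ M' W : Set M') ∪ {y}), φF B M M' b = algebraMap K₁ M' π₁ * t := by
    intro b hb
    rw [hmB, Ideal.mem_span_singleton'] at hb
    obtain ⟨b', rfl⟩ := hb
    have hπm : π ∈ maximalIdeal A := by
      rw [mem_maximalIdeal, mem_nonunits_iff]; exact hπA.not_isUnit
    have h1 : (⟨((algebraMap K K₁).comp (algebraMap A K)) π, hV₁.1 π⟩ :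
        W.comap (algebraMap K₁ M')) ∈ maximalIdeal (W.comap (algebraMap K₁ M')) :=
      (ValuationSubring.valuation_lt_one_iff _ _).mpr (hV₁.2 π hπm)
    obtain ⟨v', hv', e⟩ := hmemV _ (hV₁.1 π) h1
    refine ⟨algebraMap K₁ M' v' * φF B M M' b', ?_, ?_⟩
    · exact Subring.mul_mem _
        (Subring.subset_closure (Or.inl (Or.inr (mem_TF.mpr ⟨v', hv', rfl⟩))))
        (Subring.subset_closure (Or.inl (Or.inl ⟨b', rfl⟩)))
    · rw [map_mul, hφA, e, map_mul]
      ring
  -- the fraction property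
  set G : Set M' := Set.range (φF B M M') ∪ (TF K₁ M' W : Set M') ∪ {y} with hG
  have hφG : ∀ b, φF B M M' b ∈ Subfield.closure G :=
    fun b => Subfield.subset_closure (Or.inl (Or.inl ⟨b, rfl⟩))
  have hLG : ∀ l : L, algebraMap M M' (algebraMap L M l) ∈ Subfield.closure G := by
    intro l
    obtain ⟨b₁, b₂, hb₂, rfl⟩ := IsFractionRing.div_surjective (A := B) l
    rw [map_div₀, map_div₀, ← IsScalarTower.algebraMap_apply B L M,
      ← IsScalarTower.algebraMap_apply B L M]
    exact div_mem (hφG b₁) (hφG b₂)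
  have hK₁G : ∀ k : K₁, algebraMap K₁ M' k ∈ Subfield.closure G := by
    intro k
    rcases (W.comap (algebraMap K₁ M')).mem_or_inv_mem k with hk | hk
    · exact Subfield.subset_closure (Or.inl (Or.inr (mem_TF.mpr ⟨k, hk, rfl⟩)))
    · have h1 : algebraMap K₁ M' k⁻¹ ∈ Subfield.closure G :=
        Subfield.subset_closure (Or.inl (Or.inr (mem_TF.mpr ⟨k⁻¹, hk, rfl⟩)))
      have h2 := inv_mem h1
      rwa [map_inv₀, inv_inv] at h2
  have hMG : ∀ m : M, algebraMap M M' m ∈ Subfield.closure G := by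
    intro m
    have hm : m ∈ Algebra.adjoin L {z} := hzgen ▸ Algebra.mem_top
    induction hm using Algebra.adjoin_induction with
    | mem x hx =>
      rw [Set.mem_singleton_iff] at hx
      rw [hx]; exact hZ hLG hK₁G
    | algebraMap l => exact hLG l
    | add x₁ x₂ _ _ h₁ h₂ => rw [map_add]; exact add_mem h₁ h₂
    | mul x₁ x₂ _ _ h₁ h₂ => rw [map_mul]; exact mul_mem h₁ h₂
  have hfrac : ∀ x : M', x ∈ Subfield.closure G := by
    intro x
    have hx : x ∈ Algebra.adjoin M (Set.range (algebraMap K₁ M')) := hM' ▸ Algebra.mem_top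
    induction hx using Algebra.adjoin_induction with
    | mem x hx =>
      obtain ⟨k, rfl⟩ := hx
      exact hK₁G k
    | algebraMap m => exact hMG m
    | add x₁ x₂ _ _ h₁ h₂ => exact add_mem h₁ h₂
    | mul x₁ x₂ _ _ h₁ h₂ => exact mul_mem h₁ h₂
  have hfin := Groth.Agent.Lib.Helper10.AS4.final_F W p hp hpB (φF B M M') hφW (TF K₁ M' W) hTW
    (algebraMap K₁ M' π₁) hπ₁T hπ₁m hπ₁0 hT y hyW hφm hy hfrac
  rw [hmV, Ideal.map_span, Set.image_singleton, hfin]
  rfl

end Groth.Agent.Lib.Helper10.AS7
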