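import Mathlib
import Groth.Prelude.Def_EtRam
import Groth.Agent.Lib.Helper10.RamTower
import Groth.Agent.Lib.Helper39.DVRIntersect

/-!
# Totally ramified extensions: `e = n` (helper10)

For a DVR `A` with fraction field `K` and a finite separable `K₁/K` in which exactly one valuation
subring `V` dominates `A`: `V` is the integral closure of `A`, finite over `A`, and
`e(V/A) * f(V/A) = [K₁ : K]`.
-/

set_option linter.style.haveILetI false
set_option linter.unusedSectionVars false
set_option linter.overlappingInstances false
set_option linter.deprecated false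

universe u

namespace Groth.Agent.Lib.Helper10.TotRam

open IsLocalRing IsDedekindDomain Groth.Agent.Lib.Helper10.RamTower

section Abstract

variable {A S K₁ : Type u} [CommRing A] [IsLocalRing A] [CommRing S] [IsDedekindDomain S]
  [Field K₁] [Algebra A S] [Algebra S K₁] [Algebra A K₁] [IsScalarTower A S K₁]
  [IsFractionRing S K₁] [Algebra.IsIntegral A S]

/-- The valuation subring of a height-one prime of an integral Dedekind extension dominates `A`. -/
theorem dominates_heightOne (v : HeightOneSpectrum S) :
    EtRam.Dominates A (algebraMap A K₁) (v.valuation K₁).valuationSubring := by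
  have hmap : ∀ a : A, algebraMap A K₁ a = algebraMap S K₁ (algebraMap A S a) :=
    fun a => IsScalarTower.algebraMap_apply A S K₁ a
  refine ⟨fun a => ?_, fun a ha => ?_⟩
  · rw [Valuation.mem_valuationSubring_iff, hmap]
    exact v.valuation_le_one _
  · haveI : v.asIdeal.IsMaximal := v.isMaximal
    have hmax : (v.asIdeal.comap (algebraMap A S)).IsMaximal :=
      Ideal.isMaximal_comap_of_isIntegral_of_isMaximal (R := A) v.asIdeal
    have heq := IsLocalRing.eq_maximalIdeal hmax
    have hmem : algebraMap A S a ∈ v.asIdeal := by
      have : a ∈ v.asIdeal.comap (algebraMap A S) := heq ▸ ha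
      exact this
    have hlt : v.valuation K₁ (algebraMap A K₁ a) < 1 := by
      rw [hmap]
      exact (v.valuation_lt_one_iff_mem _).mpr hmem
    rw [valuation_lt_one_iff']
    by_cases h0 : algebraMap A K₁ a = 0
    · exact Or.inl h0
    · right
      rw [Valuation.mem_valuationSubring_iff, map_inv₀]
      intro hle
      have h1 : v.valuation K₁ (algebraMap A K₁ a) ≠ 0 := (Valuation.ne_zero_iff _).mpr h0
      have h2 : 1 ≤ v.valuation K₁ (algebraMap A K₁ a) := by
        rwa [inv_le_one₀ (zero_lt_iff.mpr h1)] at hle
      exact absurd hlt (not_lt.mpr h2)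

/-- If only one valuation subring `V` dominates `A`, every element of `V` comes from `S`. -/
theorem mem_range_of_unique (V : ValuationSubring K₁)
    (huniq : ∀ V' : ValuationSubring K₁, EtRam.Dominates A (algebraMap A K₁) V' → V' = V)
    {x : K₁} (hx : x ∈ V) : x ∈ (algebraMap S K₁).range := by
  apply HeightOneSpectrum.mem_integers_of_valuation_le_one
  intro v
  have h1 := huniq _ (dominates_heightOne (A := A) (K₁ := K₁) v)
  rw [← h1] at hx
  exact (Valuation.mem_valuationSubring_iff _ _).mp hx

end Abstract

section EF

variable (A B K L : Type u) [CommRing A] [IsDomain A] [IsDiscreteValuationRing A]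
  [CommRing B] [IsDomain B] [IsDiscreteValuationRing B] [Algebra A B] [IsLocalHom (algebraMap A B)]
  [Field K] [Field L] [Algebra A K] [IsFractionRing A K] [Algebra B L] [IsFractionRing B L]
  [Algebra K L] [Algebra A L] [IsScalarTower A K L] [IsScalarTower A B L]

/-- `e f = n` for a finite extension of DVRs. -/
theorem ramificationIdx_mul_finrank_of_finite (hinj : Function.Injective (algebraMap A B))
    [Module.Finite A B] :
    Ideal.ramificationIdx' (maximalIdeal A) (maximalIdeal B) *
      Module.finrank (ResidueField A) (ResidueField B) = Module.finrank K L := by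
  classical
  haveI : Module.IsTorsionFree A B := by
    rw [Module.isTorsionFree_iff_algebraMap_injective]
    exact hinj
  have hp0 : maximalIdeal A ≠ ⊥ := IsDiscreteValuationRing.not_a_field A
  have hsum := Ideal.sum_ramification_inertia B K L (p := maximalIdeal A) hp0
  have hsingle : IsDedekindDomain.primesOverFinset (maximalIdeal A) B = {maximalIdeal B} := by
    rw [Finset.eq_singleton_iff_unique_mem]
    constructor
    · rw [IsDedekindDomain.mem_primesOverFinset_iff hp0]
      exact ⟨inferInstance, inferInstance⟩
    · intro P hP
      rw [IsDedekindDomain.mem_primesOverFinset_iff hp0] at hP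
      obtain ⟨hPp, hPo⟩ := hP
      have hP0 : P ≠ ⊥ := by
        rintro rfl
        have h1 := hPo.over
        rw [Ideal.under_def, Ideal.comap_bot_of_injective _ hinj] at h1
        exact hp0 h1
      exact IsLocalRing.eq_maximalIdeal (hPp.isMaximal hP0)
  rw [hsingle, Finset.sum_singleton, Ideal.inertiaDeg'_algebraMap] at hsum
  exact hsum

end EF

section Concrete

variable (A K K₁ : Type u) [CommRing A] [IsDomain A] [IsDiscreteValuationRing A] [Field K]
  [Algebra A K] [IsFractionRing A K] [Field K₁] [Algebra K K₁] [FiniteDimensional K K₁]
  [Algebra.IsSeparable K K₁]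

theorem finite_of_unique (V : ValuationSubring K₁)
    (h : EtRam.Dominates A ((algebraMap K K₁).comp (algebraMap A K)) V)
    (huniq : ∀ V' : ValuationSubring K₁,
      EtRam.Dominates A ((algebraMap K K₁).comp (algebraMap A K)) V' → V' = V) :
    letI : Algebra A V :=
      (RingHom.codRestrict ((algebraMap K K₁).comp (algebraMap A K)) V h.1).toAlgebra
    Module.Finite A V := by
  letI : Algebra A K₁ := ((algebraMap K K₁).comp (algebraMap A K)).toAlgebra
  haveI : IsScalarTower A K K₁ := IsScalarTower.of_algebraMap_eq (fun _ => rfl)
  letI : Algebra A V :=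
    (RingHom.codRestrict ((algebraMap K K₁).comp (algebraMap A K)) V h.1).toAlgebra
  haveI : IsScalarTower A V K₁ := IsScalarTower.of_algebraMap_eq (fun _ => rfl)
  haveI : IsDedekindDomain (integralClosure A K₁) :=
    IsIntegralClosure.isDedekindDomain A K K₁ (integralClosure A K₁)
  haveI : IsFractionRing (integralClosure A K₁) K₁ :=
    integralClosure.isFractionRing_of_finite_extension K K₁
  haveI : Module.Finite A (integralClosure A K₁) :=
    IsIntegralClosure.finite A K K₁ (integralClosure A K₁)
  let φ : (integralClosure A K₁) →ₗ[A] V :=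
    { toFun := fun s => ⟨s.1,
        Groth.Agent.Lib.Helper39.KA.mem_valuationSubring_of_isIntegral V h.1 s.2⟩
      map_add' := fun _ _ => rfl
      map_smul' := fun a s => Subtype.ext (by
        simp only [Algebra.smul_def, RingHom.id_apply]
        rfl) }
  have hφ : Function.Surjective φ := by
    intro x
    obtain ⟨s, hs⟩ := mem_range_of_unique (A := A) (S := integralClosure A K₁) V huniq x.2
    exact ⟨s, Subtype.ext hs⟩
  exact Module.Finite.of_surjective φ hφ

theorem ramificationIdx_eq_finrank (V : ValuationSubring K₁)
    (h : EtRam.Dominates A ((algebraMap K K₁).comp (algebraMap A K)) V)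
    (ht : EtRam.IsTotallyRamified A ((algebraMap K K₁).comp (algebraMap A K))) :
    letI : Algebra A V :=
      (RingHom.codRestrict ((algebraMap K K₁).comp (algebraMap A K)) V h.1).toAlgebra
    Ideal.ramificationIdx' (maximalIdeal A) (maximalIdeal V) = Module.finrank K K₁ := by
  letI : Algebra A K₁ := ((algebraMap K K₁).comp (algebraMap A K)).toAlgebra
  haveI : IsScalarTower A K K₁ := IsScalarTower.of_algebraMap_eq (fun _ => rfl)
  letI : Algebra A V :=
    (RingHom.codRestrict ((algebraMap K K₁).comp (algebraMap A K)) V h.1).toAlgebra
  haveI : IsScalarTower A V K₁ := IsScalarTower.of_algebraMap_eq (fun _ => rfl)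
  haveI : IsLocalHom (algebraMap A V) := isLocalHom_of_dominates A _ V h
  haveI : IsDiscreteValuationRing V := isDiscreteValuationRing_of_dominates A K K₁ V h
  haveI : Module.Finite A V := finite_of_unique A K K₁ V h (fun V' h' => ht.2.1 V' V h' h)
  have hinj : Function.Injective (algebraMap A V) := fun a b hab =>
    ((algebraMap K K₁).injective.comp (IsFractionRing.injective A K)) (congrArg Subtype.val hab)
  have hef := ramificationIdx_mul_finrank_of_finite A V K K₁ hinj
  have hf : Module.finrank (ResidueField A) (ResidueField V) = 1 := by
    rw [finrank_eq_one_iff_of_nonzero' (1 : ResidueField V) one_ne_zero]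
    intro w
    obtain ⟨a, ha⟩ := ht.2.2 V h w
    refine ⟨residue A a, ?_⟩
    rw [Algebra.smul_def, mul_one, ResidueField.algebraMap_residue]
    exact ha
  rw [hf, mul_one] at hef
  exact hef

end Concrete

end Groth.Agent.Lib.Helper10.TotRam
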