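import Mathlib
import Groth.Prelude.Def_EtRam
import Groth.Agent.Lib.Helper10.RamTower
import Groth.Agent.Lib.Helper10.RamIdx
import Groth.Agent.Lib.Helper10.TotRam
import Groth.Agent.Lib.Helper10.AS1
import Groth.Agent.Lib.Helper10.AS3
import Groth.Agent.Lib.Helper10.AS6
import Groth.Agent.Lib.Helper10.AS7

/-!
# Weak solutions from Artin–Schreier presentations (helper10)
-/

set_option autoImplicit false
set_option linter.style.haveILetI false
set_option linter.unusedSectionVars false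
set_option linter.unusedVariables false

universe u

namespace Groth.Agent.Lib.Helper10.AS8

open IsLocalRing Finset Groth.Agent.Lib.Helper10.RamTower Groth.Agent.Lib.Helper10.AS1
  Groth.Agent.Lib.Helper10.AS7

theorem mem_of_pow_eq {F : Type*} [Field F] (W : ValuationSubring F) (p : ℕ) (hp : 2 ≤ p)
    (y a b : F) (ha : a ∈ W) (hb : b ∈ W) (h : y ^ p = a + b * y) : y ∈ W := by
  by_contra hy
  rw [← W.valuation_le_one_iff, not_le] at hy
  have h1 : W.valuation (a + b * y) ≤ W.valuation y := by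
    apply Valuation.map_add_le
    · exact ((W.valuation_le_one_iff _).mpr ha).trans hy.le
    · rw [map_mul]
      calc W.valuation b * W.valuation y ≤ 1 * W.valuation y :=
            mul_le_mul' ((W.valuation_le_one_iff _).mpr hb) le_rfl
        _ = W.valuation y := one_mul _
  rw [← h, map_pow] at h1
  exact absurd h1 (not_le.mpr (lt_self_pow₀ hy (by omega)))

theorem irreducible_of_pow_eq {V : Type*} [CommRing V] [IsDomain V] [IsDiscreteValuationRing V]
    (ϖ₁ : V) (hϖ₁ : Irreducible ϖ₁) (q : ℕ) (hq : 0 < q) (x g : V) (u ε : Vˣ)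
    (hg : g = u * ϖ₁ ^ q) (hx : x ^ q = g * ε) : Irreducible x := by
  have hx0 : x ≠ 0 := by
    rintro rfl
    rw [zero_pow hq.ne', hg] at hx
    have : ϖ₁ ^ q = 0 := by
      have h1 : (u : V) * ϖ₁ ^ q * ε = 0 := hx.symm
      have h2 := (mul_eq_zero.mp h1).resolve_right ε.ne_zero
      exact (mul_eq_zero.mp h2).resolve_left u.ne_zero
    exact hϖ₁.ne_zero (pow_eq_zero_iff hq.ne' |>.mp this)
  obtain ⟨a, u', hu'⟩ := IsDiscreteValuationRing.eq_unit_mul_pow_irreducible hx0 hϖ₁
  have h1 : ((u' ^ q : Vˣ) : V) * ϖ₁ ^ (a * q) = ((u * ε : Vˣ) : V) * ϖ₁ ^ q := by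
    rw [Units.val_pow_eq_pow_val, Units.val_mul, pow_mul, ← mul_pow, ← hu', hx, hg]
    ring
  have h2 := IsDiscreteValuationRing.unit_mul_pow_congr_pow hϖ₁ hϖ₁ _ _ _ _ h1
  have ha : a = 1 := by
    have : a * q = 1 * q := by rw [one_mul]; exact h2
    exact Nat.eq_of_mul_eq_mul_right hq this
  rw [hu', ha, pow_one]
  exact (irreducible_units_mul u').mpr hϖ₁

section Sol

variable (p : ℕ) (hp : p.Prime) (A B C K L M : Type u)
  [CommRing A] [IsDomain A] [IsDiscreteValuationRing A] [CommRing B] [IsDomain B]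
  [IsDiscreteValuationRing B] [CommRing C] [IsDomain C] [IsDiscreteValuationRing C]
  [Algebra A B] [Algebra B C] [Algebra A C] [IsScalarTower A B C]
  (hAB : Function.Injective (algebraMap A B)) (hBC : Function.Injective (algebraMap B C))
  [IsLocalHom (algebraMap A B)] [IsLocalHom (algebraMap B C)]
  [Field K] [Field L] [Field M] [Algebra A K] [IsFractionRing A K] [Algebra B L]
  [IsFractionRing B L] [Algebra C M] [IsFractionRing C M] [Algebra K L] [Algebra L M] [Algebra K M]
  [IsScalarTower K L M] [Algebra A L] [IsScalarTower A K L] [IsScalarTower A B L] [Algebra B M]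
  [IsScalarTower B L M] [IsScalarTower B C M] [Algebra A M] [IsScalarTower A K M]
  [IsScalarTower A C M]
  (hw : EtRam.IsWeaklyUnramified A B) [CharP K p]
  (z : M) (hzgen : Algebra.adjoin L {z} = ⊤) (ξ : L) (hz : z ^ p - z = algebraMap L M ξ)

include hAB hBC in
theorem dominates_comap (K₁ : Type u) [Field K₁] [Algebra K K₁]
    (M' : Type u) [Field M'] [Algebra K M'] [Algebra M M'] [Algebra K₁ M'] [IsScalarTower K M M']
    [IsScalarTower K K₁ M'] (W : ValuationSubring M')
    (hW : EtRam.Dominates C ((algebraMap M M').comp (algebraMap C M)) W) :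
    (∀ a : A, algebraMap K₁ M' (((algebraMap K K₁).comp (algebraMap A K)) a) =
      ((algebraMap M M').comp (algebraMap C M)) (algebraMap A C a)) ∧
    EtRam.Dominates A ((algebraMap K K₁).comp (algebraMap A K)) (W.comap (algebraMap K₁ M')) := by
  have hfA : ∀ a : A, algebraMap K₁ M' (((algebraMap K K₁).comp (algebraMap A K)) a) =
      ((algebraMap M M').comp (algebraMap C M)) (algebraMap A C a) := by
    intro a
    simp only [RingHom.comp_apply]
    rw [← IsScalarTower.algebraMap_apply K K₁ M', IsScalarTower.algebraMap_apply K M M',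
      ← IsScalarTower.algebraMap_apply A K M, ← IsScalarTower.algebraMap_apply A C M]
  refine ⟨hfA, fun a => ?_, fun a ha => ?_⟩
  · show algebraMap K₁ M' _ ∈ W
    rw [hfA]; exact hW.1 _
  · rw [valuation_comap_lt_one_iff, hfA]
    have hAC : IsLocalHom (algebraMap A C) := by
      rw [IsScalarTower.algebraMap_eq A B C]
      infer_instance
    exact hW.2 _ (map_nonunit (algebraMap A C) a ha)

include hp hAB hBC hw hzgen hz in
theorem weakSolution_A (l : L) (η : K) (b : B)
    (hξ : ξ = (l ^ p - l) + algebraMap K L η + algebraMap B L b)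
    (K₁ : Type u) [Field K₁] [Algebra K K₁] [FiniteDimensional K K₁]
    (ht : EtRam.IsTotallyRamified A ((algebraMap K K₁).comp (algebraMap A K)))
    (w : K₁) (hwη : w ^ p - w = algebraMap K K₁ η) : EtRam.IsWeakSolution C K M K₁ := by
  haveI : Fact p.Prime := ⟨hp⟩
  intro M' _ _ _ _ _ _ hM' W hW
  show (maximalIdeal (W.comap (algebraMap K₁ M'))).map
    (EtRam.inclOfComap W (algebraMap K₁ M')) = maximalIdeal W
  obtain ⟨hfA, hV₁⟩ := dominates_comap A B C K M hAB hBC K₁ M' W hW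
  haveI dvrV : IsDiscreteValuationRing (W.comap (algebraMap K₁ M')) :=
    isDiscreteValuationRing_of_dominates A K K₁ _ hV₁
  obtain ⟨⟨π₁, hπ₁W⟩, hπ₁irr⟩ :=
    IsDiscreteValuationRing.exists_irreducible (W.comap (algebraMap K₁ M'))
  haveI charM : CharP M p := charP_of_injective_algebraMap (algebraMap K M).injective p
  haveI charM' : CharP M' p := charP_of_injective_algebraMap (algebraMap K M').injective p
  set Zl : M' := algebraMap M M' (z - algebraMap L M l) with hZl
  set y : M' := Zl - algebraMap K₁ M' w with hy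
  have e1 : Zl ^ p - Zl =
      algebraMap M M' (algebraMap L M (algebraMap K L η + algebraMap B L b)) := by
    rw [hZl, ← map_pow, ← map_sub, wp_sub p, hz, ← map_pow, ← map_sub, ← map_sub]
    congr 2
    rw [hξ]; ring
  have e2 : (algebraMap K₁ M' w) ^ p - algebraMap K₁ M' w =
      algebraMap M M' (algebraMap L M (algebraMap K L η)) := by
    rw [← map_pow, ← map_sub, hwη, ← IsScalarTower.algebraMap_apply K K₁ M',
      IsScalarTower.algebraMap_apply K M M', IsScalarTower.algebraMap_apply K L M]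
  have hwp : y ^ p - y = φF B M M' b := by
    rw [hy, wp_sub p, e1, e2, map_add, map_add, add_sub_cancel_left,
      ← IsScalarTower.algebraMap_apply B L M]
    rfl
  have hφW : φF B M M' b ∈ W := by
    show algebraMap M M' (algebraMap B M b) ∈ W
    rw [IsScalarTower.algebraMap_apply B C M]
    exact hW.1 _
  have hyW : y ∈ W := by
    apply mem_of_pow_eq W p hp.two_le y (y ^ p - y) 1 (hwp ▸ hφW) W.one_mem
    ring
  refine bridge p hp A B C K L M hAB hBC hw z hzgen K₁ ht M' hM' W hW π₁ hπ₁W hπ₁irr y hyW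
    (Or.inl ⟨b, 0, Subring.zero_mem _, by rw [mul_zero, add_zero]; exact hwp⟩) ?_
  intro hLG hK₁G
  have hzeq : algebraMap M M' z = y + algebraMap M M' (algebraMap L M l) + algebraMap K₁ M' w := by
    rw [hy, hZl, map_sub]; ring
  rw [hzeq]
  exact add_mem (add_mem (Subfield.subset_closure (Or.inr rfl)) (hLG l)) (hK₁G w)

include hp hAB hBC hw hzgen hz in
theorem weakSolution_C (π : A) (hπA : Irreducible π) (n : ℕ) (l : L) (η : K) (b : B)
    (J : Finset ℕ) (c : ℕ → B) (s : ℕ → ℕ)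
    (hξ : ξ = (l ^ p - l) + algebraMap K L η +
      (∑ j ∈ J, (algebraMap B L (c j)) ^ (p ^ (s j)) / (algebraMap A L π) ^ j) +
        algebraMap B L b)
    (hJ : ∀ j ∈ J, 1 ≤ j ∧ j ≤ n ∧ (∀ r : B, residue B (c j) ≠ residue B r ^ p) ∧
      (s j = 0 ∨ ¬ p ∣ j))
    (hne : J.Nonempty) (r : ℕ) (hr : ∀ j ∈ J, s j < r ∧ n < j * p ^ (r - s j))
    (y' : ℕ → A) (a' : A)
    (hexp : η = ∑ i ∈ range (n + 1),
      (algebraMap A K (y' i)) ^ (p ^ r) / (algebraMap A K π) ^ i + algebraMap A K a')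
    (K₁ : Type u) [Field K₁] [Algebra K K₁] [FiniteDimensional K K₁] [Algebra.IsSeparable K K₁]
    (hdeg1 : Module.finrank K K₁ = p ^ r)
    (ht : EtRam.IsTotallyRamified A ((algebraMap K K₁).comp (algebraMap A K)))
    (π₁ b₁ b₂ : K₁) [Algebra A K₁] [IsScalarTower A K K₁]
    (hπ₁int : IsIntegral A π₁) (hb₁ : IsIntegral A b₁) (hb₂ : IsIntegral A b₂)
    (hrel1 : π₁ ^ (p ^ r) = algebraMap A K₁ π + algebraMap A K₁ π ^ (n + 2) * b₁)
    (hrel2 : π₁ ^ (p ^ r) = algebraMap A K₁ π + π₁ ^ ((n + 2) * p ^ r) * b₂) :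
    EtRam.IsWeakSolution C K M K₁ := by
  haveI : Fact p.Prime := ⟨hp⟩
  intro M' _ _ _ _ _ _ hM' W hW
  show (maximalIdeal (W.comap (algebraMap K₁ M'))).map
    (EtRam.inclOfComap W (algebraMap K₁ M')) = maximalIdeal W
  obtain ⟨hfA, hV₁⟩ := dominates_comap A B C K M hAB hBC K₁ M' W hW
  haveI dvrV : IsDiscreteValuationRing (W.comap (algebraMap K₁ M')) :=
    isDiscreteValuationRing_of_dominates A K K₁ _ hV₁
  haveI charM' : CharP M' p := charP_of_injective_algebraMap (algebraMap K M').injective p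
  have hgA : ∀ a : A, algebraMap A K₁ a = ((algebraMap K K₁).comp (algebraMap A K)) a :=
    fun a => IsScalarTower.algebraMap_apply A K K₁ a
  -- integral elements of `K₁` lie in `V₁`
  have hintV : ∀ x : K₁, IsIntegral A x → x ∈ W.comap (algebraMap K₁ M') := by
    intro x hx
    refine Groth.Agent.Lib.Helper39.KA.mem_valuationSubring_of_isIntegral (A := A) _ ?_ hx
    intro a
    rw [hgA]
    exact hV₁.1 a
  letI algAV : Algebra A (W.comap (algebraMap K₁ M')) :=
    (RingHom.codRestrict ((algebraMap K K₁).comp (algebraMap A K)) _ hV₁.1).toAlgebra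
  haveI locAV : IsLocalHom (algebraMap A (W.comap (algebraMap K₁ M'))) :=
    isLocalHom_of_dominates A _ _ hV₁
  have hAVinj : Function.Injective (algebraMap A (W.comap (algebraMap K₁ M'))) := by
    intro a a' h
    have h1 := congrArg Subtype.val h
    exact ((algebraMap K K₁).injective.comp (IsFractionRing.injective A K)) h1
  obtain ⟨ϖ₁, hϖ₁⟩ := IsDiscreteValuationRing.exists_irreducible (W.comap (algebraMap K₁ M'))
  obtain ⟨u, hu, -⟩ := Groth.Agent.Lib.Helper10.RamIdx.exists_unit_mul_pow_ramificationIdx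
    hAVinj hπA hϖ₁
  have heAV := Groth.Agent.Lib.Helper10.TotRam.ramificationIdx_eq_finrank A K K₁
    (W.comap (algebraMap K₁ M')) hV₁ ht
  rw [heAV, hdeg1] at hu
  -- `π₁` as an element of `V₁`
  set P₁ : W.comap (algebraMap K₁ M') := ⟨π₁, hintV π₁ hπ₁int⟩ with hP₁
  set B₁ : W.comap (algebraMap K₁ M') := ⟨b₁, hintV b₁ hb₁⟩ with hB₁
  have hgm : algebraMap A (W.comap (algebraMap K₁ M')) π ∈
      maximalIdeal (W.comap (algebraMap K₁ M')) :=
    map_nonunit _ π (by rw [mem_maximalIdeal, mem_nonunits_iff]; exact hπA.not_isUnit)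
  have hεu : IsUnit (1 + algebraMap A (W.comap (algebraMap K₁ M')) π ^ (n + 1) * B₁) := by
    by_contra hnu
    have h1 : 1 + algebraMap A (W.comap (algebraMap K₁ M')) π ^ (n + 1) * B₁ ∈
        maximalIdeal (W.comap (algebraMap K₁ M')) := by
      rw [mem_maximalIdeal, mem_nonunits_iff]; exact hnu
    have h2 : algebraMap A (W.comap (algebraMap K₁ M')) π ^ (n + 1) * B₁ ∈
        maximalIdeal (W.comap (algebraMap K₁ M')) :=
      Ideal.mul_mem_right _ _ (Ideal.pow_mem_of_mem _ hgm _ (Nat.succ_pos n))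
    have h3 := Ideal.sub_mem _ h1 h2
    rw [add_sub_cancel_right] at h3
    exact (mem_maximalIdeal _).mp h3 isUnit_one
  have hP₁pow : P₁ ^ (p ^ r) = algebraMap A (W.comap (algebraMap K₁ M')) π * hεu.unit := by
    apply Subtype.ext
    show π₁ ^ (p ^ r) = ((algebraMap K K₁).comp (algebraMap A K)) π *
      (1 + ((algebraMap K K₁).comp (algebraMap A K)) π ^ (n + 1) * b₁)
    rw [hrel1, ← hgA]
    ring
  have hP₁irr : Irreducible P₁ :=
    irreducible_of_pow_eq ϖ₁ hϖ₁ (p ^ r) (pow_pos hp.pos r) P₁ _ u hεu.unit hu hP₁pow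
  -- data in `M'`
  set f := algebraMap K₁ M' with hf
  have hπ₁W : f π₁ ∈ W := hintV π₁ hπ₁int
  have hmemT : ∀ x : K₁, IsIntegral A x → f x ∈ TF K₁ M' W :=
    fun x hx => mem_TF.mpr ⟨x, hintV x hx, rfl⟩
  have hAT : ∀ a : A, f (algebraMap A K₁ a) ∈ TF K₁ M' W :=
    fun a => hmemT _ isIntegral_algebraMap
  have hπ₁T : f π₁ ∈ TF K₁ M' W := hmemT π₁ hπ₁int
  have hπ₁0 : f π₁ ≠ 0 := by
    intro h
    have h1 : π₁ = 0 := (algebraMap K₁ M').injective (by rw [h, map_zero])
    exact hP₁irr.ne_zero (Subtype.ext h1)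
  set ϖ : M' := f (algebraMap A K₁ π) with hϖ
  have hϖ0 : ϖ ≠ 0 := by
    intro h
    have h1 : algebraMap A K₁ π = 0 := (algebraMap K₁ M').injective (by rw [map_zero]; exact h)
    rw [hgA] at h1
    have hinj : Function.Injective ((algebraMap K K₁).comp (algebraMap A K)) :=
      (algebraMap K K₁).injective.comp (IsFractionRing.injective A K)
    exact hπA.ne_zero (hinj (by rw [h1, map_zero]))
  have hcmp0 := Groth.Agent.Lib.Helper10.AS3.compare (TF K₁ M' W) ϖ (f π₁ ^ (p ^ r)) (f b₁)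
    (f b₂) (hAT π) (Subring.pow_mem _ hπ₁T _) (hmemT b₁ hb₁) (hmemT b₂ hb₂) hϖ0
    (pow_ne_zero _ hπ₁0) (n + 2) (by omega)
    (by rw [hϖ, ← map_pow, ← map_pow, ← map_mul, ← map_add, hrel1])
    (by
      have h := congrArg f hrel2
      rw [map_add, map_mul, map_pow, map_pow] at h
      rw [← pow_mul, mul_comm (p ^ r) (n + 2)]
      exact h)
  have hcmp : ∀ j ≤ n, ∃ d ∈ TF K₁ M' W, (ϖ⁻¹) ^ j = ((f π₁ ^ (p ^ r))⁻¹) ^ j + d := by
    intro j hj
    obtain ⟨t, ht', e⟩ := hcmp0 j (n + 1 - j) (by omega)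
    exact ⟨ϖ ^ (n + 1 - j) * t, Subring.mul_mem _ (Subring.pow_mem _ (hAT π) _) ht',
      by linear_combination e⟩
  -- transport of the normal form
  set ψ : L →+* M' := (algebraMap M M').comp (algebraMap L M) with hψ
  have hψB : ∀ b' : B, ψ (algebraMap B L b') = φF B M M' b' := by
    intro b'
    show algebraMap M M' (algebraMap L M (algebraMap B L b')) = algebraMap M M' (algebraMap B M b')
    rw [← IsScalarTower.algebraMap_apply B L M]
  have hψK : ∀ k : K, ψ (algebraMap K L k) = f (algebraMap K K₁ k) := by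
    intro k
    show algebraMap M M' (algebraMap L M (algebraMap K L k)) = algebraMap K₁ M' (algebraMap K K₁ k)
    rw [← IsScalarTower.algebraMap_apply K L M, ← IsScalarTower.algebraMap_apply K M M',
      ← IsScalarTower.algebraMap_apply K K₁ M']
  have hψA : ∀ a : A, ψ (algebraMap A L a) = f (algebraMap A K₁ a) := by
    intro a
    rw [IsScalarTower.algebraMap_apply A K L, hψK, ← IsScalarTower.algebraMap_apply A K K₁]
  have hZ : (algebraMap M M' z) ^ p - algebraMap M M' z = ψ ξ := by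
    rw [← map_pow, ← map_sub, hz]; rfl
  have hΞ : ψ ξ = ((ψ l) ^ p - ψ l) + f (algebraMap K K₁ η) +
      (∑ j ∈ J, (φF B M M' (c j)) ^ (p ^ (s j)) / ϖ ^ j) + φF B M M' b := by
    conv_lhs => rw [hξ]
    simp only [map_add, map_sub, map_pow, map_sum, map_div₀, hψB, hψK, hψA]
    rfl
  have hlF : ψ l ∈ Groth.Agent.Lib.Helper10.AS6.F₀ (φF B M M') (TF K₁ M' W) := by
    obtain ⟨b₁', b₂', hb₂', rfl⟩ := IsFractionRing.div_surjective (A := B) l
    rw [map_div₀, hψB, hψB]
    exact div_mem (Groth.Agent.Lib.Helper10.AS6.S₀_le_F₀ (Groth.Agent.Lib.Helper10.AS6.φ_mem_S₀ _))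
      (Groth.Agent.Lib.Helper10.AS6.S₀_le_F₀ (Groth.Agent.Lib.Helper10.AS6.φ_mem_S₀ _))
  have hηF : f (algebraMap K K₁ η) = ∑ i ∈ range (n + 1),
      (f (algebraMap A K₁ (y' i))) ^ (p ^ r) / ϖ ^ i + f (algebraMap A K₁ a') := by
    conv_lhs => rw [hexp]
    simp only [map_add, map_pow, map_sum, map_div₀, ← IsScalarTower.algebraMap_apply A K K₁, hϖ]
  obtain ⟨j₀, hj₀, y, k, m', e, s', hk, hs', hZeq, hyp⟩ :=
    Groth.Agent.Lib.Helper10.AS6.main p r hπ₁T hπ₁0 ϖ hcmp (algebraMap M M' z) (ψ ξ) (ψ l)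
      (f (algebraMap K K₁ η)) b J c s hZ hΞ hlF (fun i => f (algebraMap A K₁ (y' i)))
      (fun i => hAT _) (f (algebraMap A K₁ a')) (hAT _) hηF
      (fun j hj => ⟨(hJ j hj).1, (hJ j hj).2.1, (hJ j hj).2.2.2⟩) hr hne
  -- membership facts
  have hφW : ∀ b' : B, φF B M M' b' ∈ W := by
    intro b'
    show algebraMap M M' (algebraMap B M b') ∈ W
    rw [IsScalarTower.algebraMap_apply B C M]
    exact hW.1 _
  have hTW : ∀ t ∈ TF K₁ M' W, t ∈ W := by
    intro t ht'
    obtain ⟨v, hv, rfl⟩ := mem_TF.mp ht'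
    exact hv
  have hS₀W : ∀ x ∈ Groth.Agent.Lib.Helper10.AS6.S₀ (φF B M M') (TF K₁ M' W), x ∈ W := by
    have : Groth.Agent.Lib.Helper10.AS6.S₀ (φF B M M') (TF K₁ M' W) ≤ W.toSubring := by
      apply Subring.closure_le.mpr
      rintro x (⟨b', rfl⟩ | hx)
      · exact hφW b'
      · exact hTW x hx
    exact fun x hx => this hx
  have hyW : y ∈ W := by
    apply mem_of_pow_eq W p hp.two_le y (φF B M M' (c j₀) + f π₁ * s') (f π₁ ^ (e + 1))
      (add_mem (hφW _) (mul_mem hπ₁W (hS₀W s' hs'))) (pow_mem hπ₁W _)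
    rw [hyp]; ring
  have hS₀G : ∀ x ∈ Groth.Agent.Lib.Helper10.AS6.S₀ (φF B M M') (TF K₁ M' W),
      x ∈ Subring.closure (Set.range (φF B M M') ∪ (TF K₁ M' W : Set M') ∪ {y}) := by
    intro x hx
    exact Subring.closure_mono Set.subset_union_left hx
  refine bridge p hp A B C K L M hAB hBC hw z hzgen K₁ ht M' hM' W hW π₁ hπ₁W hP₁irr y hyW
    (Or.inr ⟨c j₀, (hJ j₀ hj₀).2.2.1, s' + f π₁ ^ e * y, ?_, hyp⟩) ?_
  · refine Subring.add_mem _ (hS₀G s' hs') (Subring.mul_mem _ (Subring.pow_mem _ ?_ _) ?_)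
    · exact Subring.subset_closure (Or.inl (Or.inr hπ₁T))
    · exact Subring.subset_closure (Or.inr rfl)
  · intro hLG hK₁G
    rw [hZeq]
    refine add_mem (div_mem (Subfield.subset_closure (Or.inr rfl)) (pow_mem (hK₁G π₁) _)) ?_
    exact Subfield.closure_mono Set.subset_union_left hk

end Sol

end Groth.Agent.Lib.Helper10.AS8
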