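import Mathlib
import Groth.Prelude.Def_EtGlue

/-!
# Beauville–Laszlo glueing: basic library (helper10)

* `TorsionTensor.bijective_mk` : (Lemma A) let `J : ℕ → Ideal R` be an antitone family of ideals such that
  `R/J n → R'/(J n)R'` is bijective (stated elementwise) for all `n`; if every element of `T` is killed by
  some `J n` then `t ↦ 1 ⊗ t : T → R' ⊗[R] T` is bijective.
-/

namespace Groth.Agent.Lib.Helper10.BL

open TensorProduct Pointwise

namespace TorsionTensor

variable {R : Type*} {R' : Type*} [CommRing R] [CommRing R'] [Algebra R R']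
variable (J : ℕ → Ideal R)
variable {T : Type*} [AddCommGroup T] [Module R T]

omit [Algebra R R'] in
/-- an element of `(J n)R'` tensored with an element killed by `J n` is zero -/
theorem tmul_eq_zero_of_mem_map [Algebra R R'] {I : Ideal R} {t : T} (ht : ∀ a ∈ I, a • t = 0) {a' : R'}
    (ha' : a' ∈ I.map (algebraMap R R')) : a' ⊗ₜ[R] t = 0 := by
  unfold Ideal.map at ha'
  induction ha' using Submodule.span_induction with
  | mem x hx =>
    obtain ⟨a, ha, rfl⟩ := hx
    rw [Algebra.algebraMap_eq_smul_one, TensorProduct.smul_tmul, ht a ha, TensorProduct.tmul_zero]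
  | zero => exact TensorProduct.zero_tmul _ _
  | add x y _ _ hx hy => rw [TensorProduct.add_tmul, hx, hy, add_zero]
  | smul s x _ hx =>
    rw [smul_eq_mul, ← smul_eq_mul, ← TensorProduct.smul_tmul', hx, smul_zero]

variable (hJ : Antitone J)
  (hsurj : ∀ n (r' : R'), ∃ r : R, r' - algebraMap R R' r ∈ (J n).map (algebraMap R R'))
  (hinj : ∀ n (r : R), algebraMap R R' r ∈ (J n).map (algebraMap R R') → r ∈ J n)
  (hT : ∀ t : T, ∃ n, ∀ a ∈ J n, a • t = 0)

/-- the action of `R'` on a torsion module, by approximation -/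
noncomputable def act (r' : R') (t : T) : T :=
  (hsurj (hT t).choose r').choose • t

include hJ hinj in
theorem act_eq (r' : R') (t : T) (n : ℕ) (r : R) (hn : ∀ a ∈ J n, a • t = 0)
    (hr : r' - algebraMap R R' r ∈ (J n).map (algebraMap R R')) :
    act J hsurj hT r' t = r • t := by
  unfold act
  set n0 := (hT t).choose with hn0
  have hn0' : ∀ a ∈ J n0, a • t = 0 := (hT t).choose_spec
  set r0 := (hsurj n0 r').choose with hr0
  have hr0' : r' - algebraMap R R' r0 ∈ (J n0).map (algebraMap R R') := (hsurj n0 r').choose_spec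
  obtain ⟨r3, hr3⟩ := hsurj (max n n0) r'
  have h3n : r' - algebraMap R R' r3 ∈ (J n).map (algebraMap R R') :=
    Ideal.map_mono (hJ (le_max_left n n0)) hr3
  have h3n0 : r' - algebraMap R R' r3 ∈ (J n0).map (algebraMap R R') :=
    Ideal.map_mono (hJ (le_max_right n n0)) hr3
  have e1 : (r - r3) • t = 0 := by
    apply hn
    apply hinj
    have : algebraMap R R' (r - r3) = (r' - algebraMap R R' r3) - (r' - algebraMap R R' r) := by
      rw [map_sub]; ring
    rw [this]
    exact Ideal.sub_mem _ h3n hr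
  have e2 : (r0 - r3) • t = 0 := by
    apply hn0'
    apply hinj
    have : algebraMap R R' (r0 - r3) = (r' - algebraMap R R' r3) - (r' - algebraMap R R' r0) := by
      rw [map_sub]; ring
    rw [this]
    exact Ideal.sub_mem _ h3n0 hr0'
  rw [sub_smul, sub_eq_zero] at e1 e2
  rw [e1, e2]

include hJ hT in
theorem exists_common (t₁ t₂ : T) : ∃ n, (∀ a ∈ J n, a • t₁ = 0) ∧ (∀ a ∈ J n, a • t₂ = 0) := by
  obtain ⟨n₁, h₁⟩ := hT t₁
  obtain ⟨n₂, h₂⟩ := hT t₂
  exact ⟨max n₁ n₂, fun a ha => h₁ a (hJ (le_max_left _ _) ha), fun a ha => h₂ a (hJ (le_max_right _ _) ha)⟩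

/-- the inverse map `R' ⊗ T → T` -/
noncomputable def inv : R' ⊗[R] T →ₗ[R] T :=
  TensorProduct.lift (LinearMap.mk₂ R (act J hsurj hT)
    (by
      intro a b t
      obtain ⟨n, hn⟩ := hT t
      obtain ⟨ra, hra⟩ := hsurj n a
      obtain ⟨rb, hrb⟩ := hsurj n b
      rw [act_eq J hJ hsurj hinj hT a t n ra hn hra, act_eq J hJ hsurj hinj hT b t n rb hn hrb,
        act_eq J hJ hsurj hinj hT (a + b) t n (ra + rb) hn ?_, add_smul]
      have : a + b - algebraMap R R' (ra + rb) = (a - algebraMap R R' ra) + (b - algebraMap R R' rb) := by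
        rw [map_add]; ring
      rw [this]
      exact Ideal.add_mem _ hra hrb)
    (by
      intro c a t
      obtain ⟨n, hn⟩ := hT t
      obtain ⟨ra, hra⟩ := hsurj n a
      rw [act_eq J hJ hsurj hinj hT a t n ra hn hra,
        act_eq J hJ hsurj hinj hT (c • a) t n (c * ra) hn ?_, mul_smul]
      have : c • a - algebraMap R R' (c * ra) = algebraMap R R' c * (a - algebraMap R R' ra) := by
        rw [map_mul, Algebra.smul_def]; ring
      rw [this]
      exact Ideal.mul_mem_left _ _ hra)
    (by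
      intro a t₁ t₂
      obtain ⟨n, hn₁, hn₂⟩ := exists_common J hJ hT t₁ t₂
      obtain ⟨ra, hra⟩ := hsurj n a
      have hn₁₂ : ∀ a ∈ J n, a • (t₁ + t₂) = 0 := fun a ha => by rw [smul_add, hn₁ a ha, hn₂ a ha, add_zero]
      rw [act_eq J hJ hsurj hinj hT a t₁ n ra hn₁ hra, act_eq J hJ hsurj hinj hT a t₂ n ra hn₂ hra,
        act_eq J hJ hsurj hinj hT a (t₁ + t₂) n ra hn₁₂ hra, smul_add])
    (by
      intro c a t
      obtain ⟨n, hn⟩ := hT t
      obtain ⟨ra, hra⟩ := hsurj n a
      have hn' : ∀ a ∈ J n, a • (c • t) = 0 := fun a ha => by rw [smul_comm, hn a ha, smul_zero]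
      rw [act_eq J hJ hsurj hinj hT a t n ra hn hra, act_eq J hJ hsurj hinj hT a (c • t) n ra hn' hra,
        smul_comm]))

include hJ hsurj hinj hT

theorem inv_tmul (r' : R') (t : T) : inv J hJ hsurj hinj hT (r' ⊗ₜ[R] t) = act J hsurj hT r' t := by
  simp [inv]

theorem inv_one_tmul (t : T) : inv J hJ hsurj hinj hT ((1 : R') ⊗ₜ[R] t) = t := by
  obtain ⟨n, hn⟩ := hT t
  rw [inv_tmul, act_eq J hJ hsurj hinj hT 1 t n 1 hn (by simp), one_smul]

theorem one_tmul_inv (z : R' ⊗[R] T) : (1 : R') ⊗ₜ[R] (inv J hJ hsurj hinj hT z) = z := by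
  induction z using TensorProduct.induction_on with
  | zero => simp
  | add x y hx hy => rw [map_add, TensorProduct.tmul_add, hx, hy]
  | tmul r' t =>
    obtain ⟨n, hn⟩ := hT t
    obtain ⟨r, hr⟩ := hsurj n r'
    rw [inv_tmul, act_eq J hJ hsurj hinj hT r' t n r hn hr, ← TensorProduct.smul_tmul,
      ← Algebra.algebraMap_eq_smul_one]
    have := tmul_eq_zero_of_mem_map (R := R) (R' := R') hn hr
    rw [TensorProduct.sub_tmul, sub_eq_zero] at this
    exact this.symm

/-- **Lemma A**: `t ↦ 1 ⊗ t` is bijective on torsion modules. -/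
theorem bijective_mk : Function.Bijective (TensorProduct.mk R R' T 1) := by
  constructor
  · intro a b hab
    have := congrArg (inv J hJ hsurj hinj hT) hab
    simpa [inv_one_tmul] using this
  · intro z
    exact ⟨inv J hJ hsurj hinj hT z, by simpa using one_tmul_inv J hJ hsurj hinj hT z⟩

end TorsionTensor

section BL

universe u

variable {R R' : Type u} [CommRing R] [CommRing R'] [Algebra R R'] {f : R}

theorem map_span_pow (n : ℕ) : (Ideal.span {f ^ n}).map (algebraMap R R') =
    Ideal.span {algebraMap R R' f ^ n} := by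
  rw [Ideal.map_span, Set.image_singleton, map_pow]

theorem qpb_surj (hq : EtGlue.QuotPowBijective R R' f) (n : ℕ) (r' : R') :
    ∃ r : R, r' - algebraMap R R' r ∈ (Ideal.span {f ^ n}).map (algebraMap R R') := by
  rcases Nat.eq_zero_or_pos n with rfl | hn
  · exact ⟨0, by simp [Ideal.span_singleton_one, Ideal.map_top]⟩
  · obtain ⟨q, hq'⟩ := (hq n hn).2 (Ideal.Quotient.mk _ r')
    obtain ⟨r, rfl⟩ := Ideal.Quotient.mk_surjective q
    refine ⟨r, ?_⟩
    rw [Ideal.quotientMap_mk] at hq'
    rw [← Ideal.Quotient.eq]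
    exact hq'.symm

theorem qpb_inj (hq : EtGlue.QuotPowBijective R R' f) (n : ℕ) (r : R)
    (hr : algebraMap R R' r ∈ (Ideal.span {f ^ n}).map (algebraMap R R')) : r ∈ Ideal.span {f ^ n} := by
  rcases Nat.eq_zero_or_pos n with rfl | hn
  · simp [Ideal.span_singleton_one]
  · rw [← Ideal.Quotient.eq_zero_iff_mem]
    apply (hq n hn).1
    rw [Ideal.quotientMap_mk, map_zero, Ideal.Quotient.eq_zero_iff_mem]
    exact hr

theorem antitone_span_pow : Antitone (fun n : ℕ => Ideal.span {f ^ n}) := by
  intro a b hab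
  exact Ideal.span_singleton_le_span_singleton.mpr (pow_dvd_pow f hab)

/-- elementwise approximation: every `r'` is `φ r + f^n s'` -/
theorem exists_approx (hq : EtGlue.QuotPowBijective R R' f) (n : ℕ) (r' : R') :
    ∃ (r : R) (s' : R'), r' = algebraMap R R' r + algebraMap R R' f ^ n * s' := by
  obtain ⟨r, hr⟩ := qpb_surj hq n r'
  rw [map_span_pow, Ideal.mem_span_singleton'] at hr
  obtain ⟨s', hs'⟩ := hr
  exact ⟨r, s', by rw [mul_comm, hs']; ring⟩

theorem exists_eq_pow_mul (hq : EtGlue.QuotPowBijective R R' f) (n : ℕ) (r : R) (s' : R')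
    (h : algebraMap R R' r = algebraMap R R' f ^ n * s') : ∃ s : R, r = f ^ n * s := by
  have := qpb_inj hq n r (by rw [map_span_pow, Ideal.mem_span_singleton']; exact ⟨s', by rw [h, mul_comm]⟩)
  rw [Ideal.mem_span_singleton'] at this
  obtain ⟨s, hs⟩ := this
  exact ⟨s, by rw [← hs, mul_comm]⟩

variable {T : Type*} [AddCommGroup T] [Module R T]

/-- **Claim A** (Beauville–Laszlo): for `f`-power torsion `T`, `T → R' ⊗ T` is bijective. -/
theorem bijective_mk_of_torsion (hq : EtGlue.QuotPowBijective R R' f)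
    (hT : ∀ t : T, ∃ n : ℕ, f ^ n • t = 0) : Function.Bijective (TensorProduct.mk R R' T 1) := by
  apply TorsionTensor.bijective_mk (fun n : ℕ => Ideal.span {f ^ n}) antitone_span_pow
    (qpb_surj hq) (qpb_inj hq)
  intro t
  obtain ⟨n, hn⟩ := hT t
  refine ⟨n, fun a ha => ?_⟩
  rw [Ideal.mem_span_singleton'] at ha
  obtain ⟨c, rfl⟩ := ha
  rw [mul_smul, hn, smul_zero]

section Glueable

variable (M : Type u) [AddCommGroup M] [Module R M]

theorem mkLinearMap_eq_zero_iff (m : M) :
    LocalizedModule.mkLinearMap (Submonoid.powers f) M m = 0 ↔ ∃ n : ℕ, f ^ n • m = 0 := by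
  rw [IsLocalizedModule.eq_zero_iff (Submonoid.powers f)]
  constructor
  · rintro ⟨⟨_, n, rfl⟩, hs⟩
    exact ⟨n, hs⟩
  · rintro ⟨n, hn⟩
    exact ⟨⟨f ^ n, n, rfl⟩, hn⟩

theorem tensorOfLoc_mk (m : M) (s : Submonoid.powers f) :
    EtGlue.tensorOfLoc R R' f M (LocalizedModule.mk m s) = LocalizedModule.mk ((1 : R') ⊗ₜ[R] m) s := by
  rw [IsLocalizedModule.mk_eq_mk', IsLocalizedModule.mk_eq_mk']
  unfold EtGlue.tensorOfLoc
  rw [IsLocalizedModule.map_mk']
  rfl

/-- **Claim B'**: an element of `M_f` whose image in `(R' ⊗ M)_f` comes from `R' ⊗ M` comes from `M`. -/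
theorem exists_mk_eq_of_loc_eq (hq : EtGlue.QuotPowBijective R R' f) (x : R' ⊗[R] M)
    (y : LocalizedModule (Submonoid.powers f) M)
    (h : EtGlue.locOfTensor R R' f M x = EtGlue.tensorOfLoc R R' f M y) :
    ∃ m : M, LocalizedModule.mkLinearMap (Submonoid.powers f) M m = y := by
  induction y using LocalizedModule.induction_on with
  | h m s =>
  obtain ⟨_, n, rfl⟩ := s
  rw [tensorOfLoc_mk] at h
  unfold EtGlue.locOfTensor at h
  rw [LocalizedModule.mkLinearMap_apply, LocalizedModule.mk_eq] at h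
  obtain ⟨⟨_, k, rfl⟩, hk⟩ := h
  simp only [Submonoid.smul_def, one_smul] at hk
  -- hk : f ^ k • f ^ n • x = f ^ k • 1 ⊗ m
  set P : Submodule R M := (f ^ (k + n)) • (⊤ : Submodule R M) with hP
  have hT : ∀ t : M ⧸ P, ∃ j : ℕ, f ^ j • t = 0 := by
    intro t
    obtain ⟨t, rfl⟩ := Submodule.mkQ_surjective P t
    refine ⟨k + n, ?_⟩
    rw [← map_smul, Submodule.mkQ_apply, Submodule.Quotient.mk_eq_zero, hP]
    exact Submodule.smul_mem_pointwise_smul _ _ _ Submodule.mem_top
  have hkill : ∀ z : R' ⊗[R] (M ⧸ P), f ^ (k + n) • z = 0 := by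
    intro z
    induction z using TensorProduct.induction_on with
    | zero => simp
    | add a b ha hb => rw [smul_add, ha, hb, add_zero]
    | tmul r' t =>
      obtain ⟨t, rfl⟩ := Submodule.mkQ_surjective P t
      rw [TensorProduct.smul_tmul', TensorProduct.smul_tmul, ← map_smul, Submodule.mkQ_apply,
        (Submodule.Quotient.mk_eq_zero P).mpr, TensorProduct.tmul_zero]
      rw [hP]
      exact Submodule.smul_mem_pointwise_smul _ _ _ Submodule.mem_top
  have h1 : (1 : R') ⊗ₜ[R] (P.mkQ (f ^ k • m)) = 0 := by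
    have := congrArg (LinearMap.lTensor R' P.mkQ) hk
    simp only [map_smul, LinearMap.lTensor_tmul] at this
    rw [← mul_smul, ← pow_add, hkill] at this
    rw [map_smul, TensorProduct.tmul_smul]
    exact this.symm
  have h2 : P.mkQ (f ^ k • m) = 0 := by
    apply (bijective_mk_of_torsion hq hT).1
    rw [TensorProduct.mk_apply, TensorProduct.mk_apply, h1, TensorProduct.tmul_zero]
  rw [Submodule.mkQ_apply, Submodule.Quotient.mk_eq_zero, hP,
    Submodule.mem_smul_pointwise_iff_exists] at h2
  obtain ⟨m0, -, hm0⟩ := h2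
  refine ⟨m0, ?_⟩
  rw [LocalizedModule.mkLinearMap_apply, LocalizedModule.mk_eq]
  refine ⟨⟨f ^ k, k, rfl⟩, ?_⟩
  simp only [Submonoid.smul_def, one_smul]
  rw [← hm0, pow_add, mul_smul]

theorem locOfTensor_eq_zero_iff (x : R' ⊗[R] M) :
    EtGlue.locOfTensor R R' f M x = 0 ↔ ∃ n : ℕ, f ^ n • x = 0 :=
  mkLinearMap_eq_zero_iff (R' ⊗[R] M) x

/-- **S2005, part 1**: glueable iff `m ↦ 1 ⊗ m` is bijective on `f`-power torsion. -/
theorem isGlueable_iff_torsion (hq : EtGlue.QuotPowBijective R R' f) :
    EtGlue.IsGlueable R R' f M ↔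
      ((∀ m : M, (∃ n : ℕ, f ^ n • m = 0) → (1 : R') ⊗ₜ[R] m = 0 → m = 0) ∧
       (∀ x : R' ⊗[R] M, (∃ n : ℕ, f ^ n • x = 0) →
          ∃ m : M, (∃ n : ℕ, f ^ n • m = 0) ∧ (1 : R') ⊗ₜ[R] m = x)) := by
  constructor
  · rintro ⟨hinj, hmid⟩
    constructor
    · intro m hm h1
      apply hinj
      simp only [Prod.mk.injEq]
      rw [h1, TensorProduct.tmul_zero, map_zero, (mkLinearMap_eq_zero_iff M m).mpr hm]
      exact ⟨rfl, rfl⟩
    · intro x hx
      obtain ⟨m, hm1, hm2⟩ := hmid x 0 (by rw [map_zero]; exact (locOfTensor_eq_zero_iff M x).mpr hx)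
      exact ⟨m, (mkLinearMap_eq_zero_iff M m).mp hm2, hm1⟩
  · rintro ⟨hinj, hsurj⟩
    constructor
    · intro a b hab
      simp only [Prod.mk.injEq] at hab
      rw [← sub_eq_zero]
      apply hinj
      · rw [← mkLinearMap_eq_zero_iff, map_sub, hab.2, sub_self]
      · rw [TensorProduct.tmul_sub, hab.1, sub_self]
    · intro x y hxy
      obtain ⟨m0, rfl⟩ := exists_mk_eq_of_loc_eq M hq x y hxy
      have hx : EtGlue.locOfTensor R R' f M (x - (1 : R') ⊗ₜ[R] m0) = 0 := by
        rw [map_sub, hxy, sub_eq_zero]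
        unfold EtGlue.tensorOfLoc EtGlue.locOfTensor
        rw [IsLocalizedModule.map_apply]
        rfl
      obtain ⟨k, hk, hk1⟩ := hsurj _ ((locOfTensor_eq_zero_iff M _).mp hx)
      refine ⟨m0 + k, ?_, ?_⟩
      · rw [TensorProduct.tmul_add, hk1]; abel
      · rw [map_add, (mkLinearMap_eq_zero_iff M k).mpr hk, add_zero]

end Glueable

section Pair

/-- `R' → R'_f` as an `R`-linear map -/
noncomputable def cMap (R R' : Type u) [CommRing R] [CommRing R'] [Algebra R R'] (f : R) :
    R' →ₗ[R] Localization.Away (algebraMap R R' f) :=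
  (Algebra.linearMap R' (Localization.Away (algebraMap R R' f))).restrictScalars R

theorem cMap_apply (x : R') :
    cMap R R' f x = algebraMap R' (Localization.Away (algebraMap R R' f)) x := rfl

/-- `R_f → R'_f` as an `R`-linear map -/
noncomputable def dMap (R R' : Type u) [CommRing R] [CommRing R'] [Algebra R R'] (f : R) :
    Localization.Away f →ₗ[R] Localization.Away (algebraMap R R' f) where
  toFun := Localization.awayMap (algebraMap R R') f
  map_add' := map_add _
  map_smul' := fun r y => by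
    rw [Algebra.smul_def, map_mul, RingHom.id_apply, Algebra.smul_def]
    congr 1
    rw [Localization.awayMap, IsLocalization.Away.map, IsLocalization.map_eq,
      IsScalarTower.algebraMap_apply R R' (Localization.Away (algebraMap R R' f))]

theorem dMap_apply (y : Localization.Away f) :
    dMap R R' f y = Localization.awayMap (algebraMap R R') f y := rfl

/-- `R → R' × R_f` -/
noncomputable def abMap (R R' : Type u) [CommRing R] [CommRing R'] [Algebra R R'] (f : R) :
    R →ₗ[R] R' × Localization.Away f :=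
  LinearMap.prod (Algebra.linearMap R R') (Algebra.linearMap R (Localization.Away f))

/-- `R' × R_f → R'_f`, the difference -/
noncomputable def gMap (R R' : Type u) [CommRing R] [CommRing R'] [Algebra R R'] (f : R) :
    R' × Localization.Away f →ₗ[R] Localization.Away (algebraMap R R' f) :=
  (cMap R R' f).comp (LinearMap.fst R R' (Localization.Away f)) -
    (dMap R R' f).comp (LinearMap.snd R R' (Localization.Away f))

theorem gMap_apply (p : R' × Localization.Away f) :
    gMap R R' f p = algebraMap R' (Localization.Away (algebraMap R R' f)) p.1 -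
      Localization.awayMap (algebraMap R R') f p.2 := rfl

theorem exact_ab_g (hRR : EtGlue.IsGlueingPair R R' f) :
    Function.Exact (abMap R R' f) (gMap R R' f) := by
  intro p
  constructor
  · intro hp
    rw [gMap_apply, sub_eq_zero] at hp
    obtain ⟨r, hr1, hr2⟩ := hRR.2.2.1 p.1 p.2 hp
    exact ⟨r, Prod.ext hr1 hr2⟩
  · rintro ⟨r, rfl⟩
    rw [gMap_apply, sub_eq_zero]
    change algebraMap R' (Localization.Away (algebraMap R R' f)) (algebraMap R R' r) =
      Localization.awayMap (algebraMap R R') f (algebraMap R (Localization.Away f) r)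
    rw [Localization.awayMap, IsLocalization.Away.map, IsLocalization.map_eq]

theorem surjective_g (hRR : EtGlue.IsGlueingPair R R' f) : Function.Surjective (gMap R R' f) := by
  intro z
  obtain ⟨x, y, h⟩ := hRR.2.2.2 z
  exact ⟨(x, y), h⟩

variable (M : Type u) [AddCommGroup M] [Module R M]

theorem isUnit_rTensor {P : Type*} [AddCommGroup P] [Module R P] (a : R)
    (h : IsUnit (algebraMap R (Module.End R P) a)) :
    IsUnit (algebraMap R (Module.End R (P ⊗[R] M)) a) := by
  have := h.map (Module.End.rTensorAlgHom R P M)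
  rwa [AlgHom.commutes] at this

theorem isUnit_end_away (s : Submonoid.powers f) :
    IsUnit (algebraMap R (Module.End R (Localization.Away (algebraMap R R' f))) s) := by
  obtain ⟨_, n, rfl⟩ := s
  rw [map_pow]
  apply IsUnit.pow
  rw [Module.End.isUnit_iff]
  have hu : IsUnit (algebraMap R (Localization.Away (algebraMap R R' f)) f) := by
    rw [IsScalarTower.algebraMap_apply R R' (Localization.Away (algebraMap R R' f))]
    exact IsLocalization.Away.algebraMap_isUnit _
  constructor
  · intro a b hab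
    simp only [Module.algebraMap_end_apply, Algebra.smul_def] at hab
    exact hu.mul_left_cancel hab
  · intro b
    obtain ⟨u, hu'⟩ := hu
    refine ⟨↑u⁻¹ * b, ?_⟩
    simp only [Module.algebraMap_end_apply, Algebra.smul_def]
    rw [← hu', ← mul_assoc, Units.mul_inv, one_mul]

/-- the comparison `(R' ⊗ M)_f → R'_f ⊗ M` -/
noncomputable def hMap : LocalizedModule (Submonoid.powers f) (R' ⊗[R] M) →ₗ[R]
    Localization.Away (algebraMap R R' f) ⊗[R] M :=
  IsLocalizedModule.lift (Submonoid.powers f)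
    (LocalizedModule.mkLinearMap (Submonoid.powers f) (R' ⊗[R] M))
    (LinearMap.rTensor M (cMap R R' f))
    (fun s => isUnit_rTensor M _ (isUnit_end_away s))

theorem hMap_loc (x : R' ⊗[R] M) :
    hMap M (EtGlue.locOfTensor R R' f M x) = LinearMap.rTensor M (cMap R R' f) x := by
  unfold hMap EtGlue.locOfTensor
  rw [IsLocalizedModule.lift_apply]

/-- for a glueing pair, every `f`-power torsion element of `R' ⊗ M` comes from an `f`-power torsion
element of `M` (this is the Tor-vanishing input, proved by tensoring the defining exact sequence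
with `M`). -/
theorem torsion_surjective_of_isGlueingPair (hRR : EtGlue.IsGlueingPair R R' f)
    (x : R' ⊗[R] M) (hx : ∃ n : ℕ, f ^ n • x = 0) :
    ∃ m : M, (∃ n : ℕ, f ^ n • m = 0) ∧ (1 : R') ⊗ₜ[R] m = x := by
  have hex := rTensor_exact M (exact_ab_g hRR) (surjective_g hRR)
  have hx0 : EtGlue.locOfTensor R R' f M x = 0 := (locOfTensor_eq_zero_iff M x).mpr hx
  have h1 : LinearMap.rTensor M (gMap R R' f)
      (LinearMap.rTensor M (LinearMap.inl R R' (Localization.Away f)) x) = 0 := by
    rw [← LinearMap.comp_apply, ← LinearMap.rTensor_comp]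
    have : (gMap R R' f).comp (LinearMap.inl R R' (Localization.Away f)) = cMap R R' f := by
      apply LinearMap.ext
      intro a
      simp [gMap]
    rw [this, ← hMap_loc, hx0, map_zero]
  obtain ⟨ζ, hζ⟩ := (hex _).mp h1
  obtain ⟨m, rfl⟩ : ∃ m : M, (1 : R) ⊗ₜ[R] m = ζ :=
    ⟨TensorProduct.lid R M ζ, by
      rw [← TensorProduct.lid_symm_apply, LinearEquiv.symm_apply_apply]⟩
  have e1 : (1 : R') ⊗ₜ[R] m = x := by
    have := congrArg (LinearMap.rTensor M (LinearMap.fst R R' (Localization.Away f))) hζ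
    rw [← LinearMap.comp_apply, ← LinearMap.rTensor_comp, ← LinearMap.comp_apply,
      ← LinearMap.rTensor_comp] at this
    simpa [abMap] using this
  have e2 : (1 : Localization.Away f) ⊗ₜ[R] m = 0 := by
    have := congrArg (LinearMap.rTensor M (LinearMap.snd R R' (Localization.Away f))) hζ
    rw [← LinearMap.comp_apply, ← LinearMap.rTensor_comp, ← LinearMap.comp_apply,
      ← LinearMap.rTensor_comp] at this
    simpa [abMap] using this
  refine ⟨m, ?_, e1⟩
  rw [← mkLinearMap_eq_zero_iff, LocalizedModule.mkLinearMap_apply,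
    ← LocalizedModule.equivTensorProduct_symm_apply_tmul_one, e2, map_zero]

/-- **S2005, part 2**: for a glueing pair, glueable iff injective on torsion. -/
theorem isGlueable_iff_of_isGlueingPair (hRR : EtGlue.IsGlueingPair R R' f) :
    EtGlue.IsGlueable R R' f M ↔
      ∀ m : M, (∃ n : ℕ, f ^ n • m = 0) → (1 : R') ⊗ₜ[R] m = 0 → m = 0 := by
  rw [isGlueable_iff_torsion M hRR.1]
  exact ⟨fun h => h.1, fun h => ⟨h, torsion_surjective_of_isGlueingPair M hRR⟩⟩

end Pair

end BL

end Groth.Agent.Lib.Helper10.BL
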