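import Mathlib
import Groth.Agent.Lib.Helper10.BL
import Groth.Agent.S2004

/-!
# Beauville–Laszlo: base change of a glueing pair along an `R`-algebra `A` (helper10)

* `quotPowBijective_baseChange`: `(A → R' ⊗ A, f)` again has bijective quotients.
* `isGlueingPair_baseChange`: `(A → R' ⊗ A, f)` is a glueing pair when `A` is glueable.
-/

set_option autoImplicit false
universe u
open TensorProduct

namespace Groth.Agent.Lib.Helper10.BLBase

open Groth.Agent.Lib.Helper10.BL

attribute [local instance] Algebra.TensorProduct.rightAlgebra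

variable {R R' : Type u} [CommRing R] [CommRing R'] [Algebra R R'] {f : R}
variable (A : Type u) [CommRing A] [Algebra R A]

theorem algebraMap_right_apply (a : A) : algebraMap A (R' ⊗[R] A) a = (1 : R') ⊗ₜ[R] a := rfl

theorem algebraMap_pow_mul (n : ℕ) (z : R' ⊗[R] A) :
    algebraMap A (R' ⊗[R] A) (algebraMap R A f) ^ n * z = f ^ n • z := by
  rw [← map_pow, ← map_pow, ← IsScalarTower.algebraMap_apply R A (R' ⊗[R] A), ← Algebra.smul_def]

theorem quotPowBijective_baseChange (hq : EtGlue.QuotPowBijective R R' f) :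
    EtGlue.QuotPowBijective A (R' ⊗[R] A) (algebraMap R A f) := by
  intro n hn
  set fA : A := algebraMap R A f with hfA
  constructor
  · rw [injective_iff_map_eq_zero]
    intro q hq0
    obtain ⟨a, rfl⟩ := Ideal.Quotient.mk_surjective q
    rw [Ideal.quotientMap_mk, Ideal.Quotient.eq_zero_iff_mem, Ideal.map_span, Set.image_singleton,
      Ideal.mem_span_singleton'] at hq0
    obtain ⟨z, hz⟩ := hq0
    rw [Ideal.Quotient.eq_zero_iff_mem]
    let I : Ideal A := Ideal.span {fA ^ n}
    let π : A →ₗ[R] A ⧸ I := (Submodule.mkQ I).restrictScalars R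
    have hfn : ∀ a : A, f ^ n • (Submodule.mkQ I a) = 0 := by
      intro a
      rw [← LinearMap.map_smul_of_tower, Submodule.mkQ_apply,
        Submodule.Quotient.mk_eq_zero, Algebra.smul_def, map_pow]
      exact Ideal.mul_mem_right _ _ (Ideal.mem_span_singleton_self _)
    have hT : ∀ t : A ⧸ I, ∃ j : ℕ, f ^ j • t = 0 := by
      intro t
      obtain ⟨a, rfl⟩ := Submodule.mkQ_surjective I t
      exact ⟨n, hfn a⟩
    have hkill : ∀ w : R' ⊗[R] (A ⧸ I), f ^ n • w = 0 := by
      intro w
      induction w using TensorProduct.induction_on with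
      | zero => simp
      | add x y hx hy => rw [smul_add, hx, hy, add_zero]
      | tmul r' t =>
        obtain ⟨a, rfl⟩ := Submodule.mkQ_surjective I t
        rw [TensorProduct.smul_tmul', TensorProduct.smul_tmul]
        rw [hfn a, TensorProduct.tmul_zero]
    have h1 : (1 : R') ⊗ₜ[R] a = f ^ n • z := by
      rw [← algebraMap_pow_mul, ← map_pow, mul_comm, hz]
      rfl
    have h2 : (1 : R') ⊗ₜ[R] (π a) = 0 := by
      have := congrArg (LinearMap.lTensor R' π) h1
      rw [LinearMap.lTensor_tmul, map_smul, hkill] at this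
      exact this
    have h3 : π a = 0 := by
      apply (bijective_mk_of_torsion hq hT).1
      rw [TensorProduct.mk_apply, h2, map_zero]
    exact (Submodule.Quotient.mk_eq_zero I).mp h3
  · intro q'
    obtain ⟨z, rfl⟩ := Ideal.Quotient.mk_surjective q'
    suffices h : ∃ a : A, z - algebraMap A (R' ⊗[R] A) a ∈
        Ideal.map (algebraMap A (R' ⊗[R] A)) (Ideal.span {fA ^ n}) by
      obtain ⟨a, ha⟩ := h
      refine ⟨Ideal.Quotient.mk _ a, ?_⟩
      rw [Ideal.quotientMap_mk]
      exact ((Ideal.Quotient.eq).mpr ha).symm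
    induction z using TensorProduct.induction_on with
    | zero => exact ⟨0, by simp⟩
    | add x y hx hy =>
      obtain ⟨a, ha⟩ := hx
      obtain ⟨b, hb⟩ := hy
      refine ⟨a + b, ?_⟩
      have : x + y - algebraMap A (R' ⊗[R] A) (a + b) =
          (x - algebraMap A (R' ⊗[R] A) a) + (y - algebraMap A (R' ⊗[R] A) b) := by
        rw [map_add]; ring
      rw [this]
      exact add_mem ha hb
    | tmul r' a0 =>
      obtain ⟨r, s', hr⟩ := exists_approx hq n r'
      refine ⟨r • a0, ?_⟩
      have : r' ⊗ₜ[R] a0 - algebraMap A (R' ⊗[R] A) (r • a0) =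
          algebraMap A (R' ⊗[R] A) (fA ^ n) * (s' ⊗ₜ[R] a0) := by
        rw [map_pow, algebraMap_pow_mul, algebraMap_right_apply, hr, TensorProduct.add_tmul,
          TensorProduct.smul_tmul', ← TensorProduct.smul_tmul, Algebra.smul_def r (1 : R'), mul_one,
          add_sub_cancel_left, Algebra.smul_def, map_pow]
      rw [this]
      exact Ideal.mul_mem_right _ _ (Ideal.mem_map_of_mem _ (Ideal.mem_span_singleton_self _))

theorem isGlueingPair_baseChange (hq : EtGlue.QuotPowBijective R R' f)
    (hA : EtGlue.IsGlueable R R' f A) :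
    EtGlue.IsGlueingPair A (R' ⊗[R] A) (algebraMap R A f) := by
  rw [Groth.Agent.S2004.result A (R' ⊗[R] A) (algebraMap R A f) (quotPowBijective_baseChange A hq)]
  obtain ⟨h1, h2⟩ := (isGlueable_iff_torsion A hq).mp hA
  have hpow : ∀ (n : ℕ) (x : A), algebraMap R A f ^ n * x = f ^ n • x := by
    intro n x
    rw [← map_pow, ← Algebra.smul_def]
  constructor
  · rintro x ⟨n, hn⟩ hx
    apply h1 x ⟨n, by rw [← hpow, hn]⟩
    exact hx
  · rintro x' ⟨n, hn⟩
    rw [algebraMap_pow_mul] at hn
    obtain ⟨m, ⟨k, hk⟩, hm⟩ := h2 x' ⟨n, hn⟩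
    exact ⟨m, ⟨k, by rw [hpow, hk]⟩, hm⟩

end Groth.Agent.Lib.Helper10.BLBase
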