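import Mathlib
import Groth.Prelude.Def_EtGlue
import Groth.Agent.Lib.Helper10.BL

/-!
# Beauville–Laszlo: Tor-vanishing inputs in elementary form (helper10)
-/

namespace Groth.Agent.Lib.Helper10.BL

open TensorProduct

universe u

variable {R R' : Type u} [CommRing R] [CommRing R'] [Algebra R R'] {f : R}

/-- for a glueing pair `R → R'` is injective on `f`-power torsion -/
theorem eq_zero_of_torsion_of_map_eq_zero (hRR : EtGlue.IsGlueingPair R R' f) (t : R)
    (ht : ∃ n : ℕ, f ^ n * t = 0) (h0 : algebraMap R R' t = 0) : t = 0 := by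
  apply hRR.2.1
  simp only [Prod.mk.injEq, map_zero]
  refine ⟨h0, ?_⟩
  rw [IsLocalization.map_eq_zero_iff (Submonoid.powers f)]
  obtain ⟨n, hn⟩ := ht
  exact ⟨⟨f ^ n, n, rfl⟩, hn⟩

/-- for a glueing pair and an ideal `Z` of `R` consisting of `f`-power torsion elements,
`R' ⊗ Z → R' ⊗ R` is injective. -/
theorem injective_lTensor_of_torsion_ideal (hRR : EtGlue.IsGlueingPair R R' f) (Z : Submodule R R)
    (hZ : ∀ z ∈ Z, ∃ n : ℕ, f ^ n * z = 0) : Function.Injective (Z.subtype.lTensor R') := by
  rw [injective_iff_map_eq_zero]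
  intro z hz
  have hT : ∀ t : Z, ∃ n : ℕ, f ^ n • t = 0 := by
    rintro ⟨t, ht⟩
    obtain ⟨n, hn⟩ := hZ t ht
    exact ⟨n, Subtype.ext hn⟩
  obtain ⟨t, rfl⟩ := (bijective_mk_of_torsion hRR.1 hT).2 z
  rw [TensorProduct.mk_apply, LinearMap.lTensor_tmul] at hz
  have h1 := congrArg (TensorProduct.rid R R') hz
  rw [TensorProduct.rid_tmul, map_zero, Submodule.subtype_apply, Algebra.smul_def, mul_one] at h1
  have : (t : R) = 0 := eq_zero_of_torsion_of_map_eq_zero hRR t (hZ t t.2) h1
  have ht0 : t = 0 := Subtype.ext this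
  rw [ht0, TensorProduct.mk_apply, TensorProduct.tmul_zero]

/-- if `g : M → N` is a localization at `f` and `(W ⊗ g) z = 0` then `z` is `f`-power torsion -/
theorem exists_pow_smul_eq_zero_of_lTensor_eq_zero {W : Type*} [AddCommGroup W] [Module R W]
    {M N : Type*} [AddCommGroup M] [Module R M]
    [AddCommGroup N] [Module R N] (g : M →ₗ[R] N) [IsLocalizedModule (Submonoid.powers f) g]
    (z : W ⊗[R] M) (hz : LinearMap.lTensor W g z = 0) : ∃ n : ℕ, f ^ n • z = 0 := by
  have hcomm : ∀ z : W ⊗[R] M,
      LinearMap.rTensor W g (TensorProduct.comm R _ _ z) =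
      TensorProduct.comm R _ _ (LinearMap.lTensor W g z) := by
    intro z
    induction z using TensorProduct.induction_on with
    | zero => simp
    | add a b ha hb => simp only [map_add, ha, hb]
    | tmul r' m => simp
  have h2 : LinearMap.rTensor W g (TensorProduct.comm R _ _ z) = 0 := by
    rw [hcomm, hz, map_zero]
  have hloc : IsLocalizedModule (Submonoid.powers f)
      (TensorProduct.AlgebraTensorModule.rTensor R W g) := inferInstance
  have := (IsLocalizedModule.eq_zero_iff (Submonoid.powers f)
    (TensorProduct.AlgebraTensorModule.rTensor R W g)).mp h2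
  obtain ⟨⟨_, n, rfl⟩, hn⟩ := this
  refine ⟨n, ?_⟩
  apply (TensorProduct.comm R W M).injective
  rw [map_smul, map_zero]
  exact hn

/-- **Tor-vanishing, elementary form**: for a glueing pair, `Z ⊆ P` with `P/Z` `f`-power torsion and
`P` torsionless (separated by linear functionals, e.g. free): `R' ⊗ Z → R' ⊗ P` is injective. -/
theorem injective_lTensor_of_torsion_quotient (hRR : EtGlue.IsGlueingPair R R' f)
    {P : Type u} [AddCommGroup P] [Module R P] (Z : Submodule R P)
    (hsep : ∀ p : P, (∀ l : P →ₗ[R] R, l p = 0) → p = 0)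
    (hT : ∀ p : P, ∃ n : ℕ, f ^ n • p ∈ Z) : Function.Injective (Z.subtype.lTensor R') := by
  rw [injective_iff_map_eq_zero]
  intro z hz
  -- step a : `z` is torsion
  let ιZ := LocalizedModule.mkLinearMap (Submonoid.powers f) Z
  let ιP := LocalizedModule.mkLinearMap (Submonoid.powers f) P
  let jf := IsLocalizedModule.map (Submonoid.powers f) ιZ ιP Z.subtype
  have hjinj : Function.Injective jf :=
    IsLocalizedModule.map_injective (Submonoid.powers f) ιZ ιP Z.subtype Z.injective_subtype
  have hjsurj : Function.Surjective jf := by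
    intro y
    induction y using LocalizedModule.induction_on with
    | h p s =>
    obtain ⟨n, hn⟩ := hT p
    refine ⟨LocalizedModule.mk ⟨f ^ n • p, hn⟩ (⟨f ^ n, n, rfl⟩ * s), ?_⟩
    rw [IsLocalizedModule.mk_eq_mk', IsLocalizedModule.map_mk', ← IsLocalizedModule.mk_eq_mk']
    rw [LocalizedModule.mk_eq]
    refine ⟨1, ?_⟩
    simp only [one_smul, Submodule.subtype_apply, Submonoid.smul_def, Submonoid.coe_mul,
      mul_smul]
    rw [smul_comm]
  let e : LocalizedModule (Submonoid.powers f) Z ≃ₗ[R] LocalizedModule (Submonoid.powers f) P :=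
    LinearEquiv.ofBijective jf ⟨hjinj, hjsurj⟩
  have hsq : (LinearMap.lTensor R' jf).comp (LinearMap.lTensor R' ιZ) =
      (LinearMap.lTensor R' ιP).comp (LinearMap.lTensor R' Z.subtype) := by
    rw [← LinearMap.lTensor_comp, ← LinearMap.lTensor_comp]
    congr 1
    exact IsLocalizedModule.map_comp (Submonoid.powers f) ιZ ιP Z.subtype
  have h1 : LinearMap.lTensor R' ιZ z = 0 := by
    have hinj' : Function.Injective (LinearMap.lTensor R' jf) :=
      (LinearEquiv.lTensor R' e).injective
    apply hinj'
    rw [map_zero, ← LinearMap.comp_apply, hsq, LinearMap.comp_apply, hz, map_zero]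
  obtain ⟨ζ, hζ, rfl⟩ := torsion_surjective_of_isGlueingPair _ hRR z
    (exists_pow_smul_eq_zero_of_lTensor_eq_zero (W := R') ιZ z h1)
  -- step c
  rw [LinearMap.lTensor_tmul, Submodule.subtype_apply] at hz
  have hζ0 : (ζ : P) = 0 := by
    apply hsep
    intro l
    have h2 := congrArg (LinearMap.lTensor R' l) hz
    rw [LinearMap.lTensor_tmul, map_zero] at h2
    have h3 := congrArg (TensorProduct.rid R R') h2
    rw [TensorProduct.rid_tmul, map_zero, Algebra.smul_def, mul_one] at h3
    obtain ⟨n, hn⟩ := hζ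
    apply eq_zero_of_torsion_of_map_eq_zero hRR _ ⟨n, ?_⟩ h3
    have := congrArg (fun x : Z => l (x : P)) hn
    simpa using this
  rw [Subtype.ext (a2 := (0 : Z)) hζ0, TensorProduct.tmul_zero]

/-- for a glueing pair and an `f`-power torsion module `T`, the kernel of the free presentation
`(T →₀ R) → T` stays a submodule after `R' ⊗ -` (i.e. `Tor_1^R(R', T) = 0`). -/
theorem injective_lTensor_ker_linearCombination (hRR : EtGlue.IsGlueingPair R R' f)
    (T : Type u) [AddCommGroup T] [Module R T] (hT : ∀ t : T, ∃ n : ℕ, f ^ n • t = 0) :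
    Function.Injective
      ((LinearMap.ker (Finsupp.linearCombination R (id : T → T))).subtype.lTensor R') := by
  apply injective_lTensor_of_torsion_quotient hRR
  · intro p hp
    ext t
    exact hp (Finsupp.lapply t)
  · intro p
    obtain ⟨n, hn⟩ := hT (Finsupp.linearCombination R (id : T → T) p)
    exact ⟨n, by rw [LinearMap.mem_ker, map_smul, hn]⟩

end Groth.Agent.Lib.Helper10.BL
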