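import Groth.Agent.Lib.Helper46.TorShift
import Mathlib.RingTheory.Flat.Tensor

/-!
# Auxiliary Tor lemmas on top of helper46's Tor library (helper10)

* `injective_lTensor_of_isZero_tor_one`, `injective_rTensor_of_isZero_tor_one`: vanishing of `Tor₁` of the
  cokernel gives injectivity after tensoring (no flatness of the middle term needed).
* `flat_of_forall_isZero_tor_one`: `Tor₁(R/I, M) = 0` for all ideals `I` implies `M` flat.
* `flat_of_shortExact`: kernel of a surjection of flat modules is flat.
-/

set_option autoImplicit false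
set_option backward.isDefEq.respectTransparency false
set_option backward.defeqAttrib.useBackward true

namespace Groth.Agent.Lib.Helper10.TorAux

open CategoryTheory Limits MonoidalCategory Category
open Groth.Agent.Lib.Helper46 Groth.Agent.Lib.Helper46.TorShift

universe u

variable {R : Type u} [CommRing R]

theorem mono_whiskerLeft_of_isZero_tor_one (N : ModuleCat.{u} R) (S : ShortComplex (ModuleCat.{u} R))
    (hS : S.ShortExact) (hz : IsZero (((Tor (ModuleCat.{u} R) 1).obj N).obj S.X₃)) :
    Mono (N ◁ S.f) := by
  have e1 := TorLES2.exact₁₂ N S hS 0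
  have hnat : ((Tor (ModuleCat.{u} R) 0).obj N).map S.f ≫ (TorLES.torZeroIso N).hom.app S.X₂ =
      (TorLES.torZeroIso N).hom.app S.X₁ ≫ N ◁ S.f := (TorLES.torZeroIso N).hom.naturality S.f
  have h : Mono (((Tor (ModuleCat.{u} R) 0).obj N).map S.f) := e1.mono_g (hz.eq_of_src _ _)
  have : N ◁ S.f = (TorLES.torZeroIso N).inv.app S.X₁ ≫
      ((Tor (ModuleCat.{u} R) 0).obj N).map S.f ≫ (TorLES.torZeroIso N).hom.app S.X₂ := by
    rw [hnat, Iso.inv_hom_id_app_assoc]
  rw [this]; infer_instance

theorem mono_whiskerRight_of_isZero_tor_one (S : ShortComplex (ModuleCat.{u} R))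
    (hS : S.ShortExact) (N : ModuleCat.{u} R)
    (hz : IsZero (((Tor (ModuleCat.{u} R) 1).obj S.X₃).obj N)) : Mono (S.f ▷ N) := by
  have e1 := TorLES.exact₁ S hS N 0
  have hnat := TorLES.torZeroIso_hom_naturality S.f N
  have h : Mono (((Tor (ModuleCat.{u} R) 0).map S.f).app N) := e1.mono_g (hz.eq_of_src _ _)
  have : S.f ▷ N = (TorLES.torZeroIso S.X₁).inv.app N ≫
      ((Tor (ModuleCat.{u} R) 0).map S.f).app N ≫ (TorLES.torZeroIso S.X₂).hom.app N := by
    rw [hnat, Iso.inv_hom_id_app_assoc]
  rw [this]; infer_instance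

section Linear

variable {N Z P M : Type u} [AddCommGroup N] [Module R N] [AddCommGroup Z] [Module R Z]
  [AddCommGroup P] [Module R P] [AddCommGroup M] [Module R M]

/-- second variable -/
theorem injective_lTensor_of_isZero_tor_one (ι : Z →ₗ[R] P) (π : P →ₗ[R] M)
    (hι : Function.Injective ι) (hex : Function.Exact ι π) (hπ : Function.Surjective π)
    (hz : IsZero (T R 1 N M)) : Function.Injective (ι.lTensor N) := by
  let S : ShortComplex (ModuleCat.{u} R) :=
    ModuleCat.shortComplexOfCompEqZero ι π hex.linearMap_comp_eq_zero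
  have hS : S.ShortExact := ModuleCat.shortComplex_shortExact S hex hι hπ
  have h := mono_whiskerLeft_of_isZero_tor_one (ModuleCat.of R N) S hS hz
  rw [ModuleCat.mono_iff_injective] at h
  exact h

/-- first variable -/
theorem injective_rTensor_of_isZero_tor_one (ι : Z →ₗ[R] P) (π : P →ₗ[R] N)
    (hι : Function.Injective ι) (hex : Function.Exact ι π) (hπ : Function.Surjective π)
    (hz : IsZero (T R 1 N M)) : Function.Injective (ι.rTensor M) := by
  let S : ShortComplex (ModuleCat.{u} R) :=
    ModuleCat.shortComplexOfCompEqZero ι π hex.linearMap_comp_eq_zero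
  have hS : S.ShortExact := ModuleCat.shortComplex_shortExact S hex hι hπ
  have h := mono_whiskerRight_of_isZero_tor_one S hS (ModuleCat.of R M) hz
  rw [ModuleCat.mono_iff_injective] at h
  exact h

end Linear

/-- `Tor₁(R/I, M) = 0` for all ideals implies flat. -/
theorem flat_of_forall_isZero_tor_one (M : Type u) [AddCommGroup M] [Module R M]
    (h : ∀ I : Ideal R, IsZero (T R 1 (R ⧸ I) M)) : Module.Flat R M := by
  rw [Module.Flat.iff_rTensor_injective']
  intro I
  exact injective_rTensor_of_isZero_tor_one (Submodule.subtype I) (Submodule.mkQ I)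
    (Submodule.injective_subtype I) (LinearMap.exact_subtype_mkQ I) (Submodule.mkQ_surjective I) (h I)

/-- The kernel of a surjection between flat modules is flat. -/
theorem flat_of_shortExact {L F M : Type u} [AddCommGroup L] [Module R L] [AddCommGroup F]
    [Module R F] [AddCommGroup M] [Module R M] (ι : L →ₗ[R] F) (π : F →ₗ[R] M)
    (hι : Function.Injective ι) (hex : Function.Exact ι π) (hπ : Function.Surjective π)
    [Module.Flat R F] [Module.Flat R M] : Module.Flat R L := by
  apply flat_of_forall_isZero_tor_one
  intro I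
  exact isZero_left₂ ι π hι hex hπ 1 (isZero_of_flat_right _ _ 1) (isZero_of_flat_right _ _ 0)

end Groth.Agent.Lib.Helper10.TorAux
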