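import Mathlib
import Groth.Prelude.Def_EtGlue
import Groth.Agent.Lib.Helper10.BLTor
import Groth.Agent.Lib.Helper10.TorAux

/-!
# Beauville–Laszlo: descent of flatness (helper10)

`flat_of_glueingPair`: for a glueing pair `(R → R', f)`, an `R`-module `M` with `M_f` flat over `R_f`
and `R' ⊗ M` flat over `R'` is flat.
-/

namespace Groth.Agent.Lib.Helper10.BL

open TensorProduct CategoryTheory Limits
open Groth.Agent.Lib.Helper46 Groth.Agent.Lib.Helper46.TorShift Groth.Agent.Lib.Helper10.TorAux

universe u

variable {R R' : Type u} [CommRing R] [CommRing R'] [Algebra R R'] {f : R}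

section H1

variable {L F M : Type u} [AddCommGroup L] [Module R L] [AddCommGroup F] [Module R F]
  [AddCommGroup M] [Module R M] (j : L →ₗ[R] F) (π : F →ₗ[R] M)

/-- **H1**: if `M_f` is flat, the kernel of `W ⊗ L → W ⊗ F` is `f`-power torsion. -/
theorem torsion_of_lTensor_eq_zero (hj : Function.Injective j) (hex : Function.Exact j π)
    (hπ : Function.Surjective π) [Module.Flat R F]
    (hMf : Module.Flat (Localization.Away f) (LocalizedModule (Submonoid.powers f) M))
    (W : Type u) [AddCommGroup W] [Module R W] (z : W ⊗[R] L) (hz : j.lTensor W z = 0) :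
    ∃ n : ℕ, f ^ n • z = 0 := by
  let ιL := LocalizedModule.mkLinearMap (Submonoid.powers f) L
  let ιF := LocalizedModule.mkLinearMap (Submonoid.powers f) F
  let ιM := LocalizedModule.mkLinearMap (Submonoid.powers f) M
  let jf := IsLocalizedModule.map (Submonoid.powers f) ιL ιF j
  let πf := IsLocalizedModule.map (Submonoid.powers f) ιF ιM π
  have hjf : Function.Injective jf := IsLocalizedModule.map_injective _ ιL ιF j hj
  have hπf : Function.Surjective πf := IsLocalizedModule.map_surjective _ ιF ιM π hπ
  have hexf : Function.Exact jf πf := IsLocalizedModule.map_exact _ ιL ιF ιM j π hex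
  have : Module.Flat R (LocalizedModule (Submonoid.powers f) M) :=
    (Module.flat_iff_of_isLocalization (Localization.Away f) (Submonoid.powers f) _).mp hMf
  have : Module.Flat (Localization.Away f) (LocalizedModule (Submonoid.powers f) F) :=
    Module.Flat.of_isLocalizedModule (Localization.Away f) (Submonoid.powers f) ιF
  have : Module.Flat R (LocalizedModule (Submonoid.powers f) F) :=
    (Module.flat_iff_of_isLocalization (Localization.Away f) (Submonoid.powers f) _).mp inferInstance
  have hinj : Function.Injective (jf.lTensor W) :=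
    injective_lTensor_of_isZero_tor_one jf πf hjf hexf hπf (isZero_of_flat_right _ _ 0)
  have hsq : (jf.lTensor W).comp (ιL.lTensor W) = (ιF.lTensor W).comp (j.lTensor W) := by
    rw [← LinearMap.lTensor_comp, ← LinearMap.lTensor_comp]
    congr 1
    exact IsLocalizedModule.map_comp (Submonoid.powers f) ιL ιF j
  have h1 : ιL.lTensor W z = 0 := by
    apply hinj
    rw [map_zero, ← LinearMap.comp_apply, hsq, LinearMap.comp_apply, hz, map_zero]
  exact exists_pow_smul_eq_zero_of_lTensor_eq_zero ιL z h1

/-- a torsion element of a torsionless module dying in `R' ⊗ -` is zero (glueing pair) -/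
theorem eq_zero_of_torsion_of_tmul_eq_zero (hRR : EtGlue.IsGlueingPair R R' f)
    (hsep : ∀ p : F, (∀ l : F →ₗ[R] R, l p = 0) → p = 0) (p : F) (hp : ∃ n : ℕ, f ^ n • p = 0)
    (h0 : (1 : R') ⊗ₜ[R] p = 0) : p = 0 := by
  apply hsep
  intro l
  have h2 := congrArg (LinearMap.lTensor R' l) h0
  rw [LinearMap.lTensor_tmul, map_zero] at h2
  have h3 := congrArg (TensorProduct.rid R R') h2
  rw [TensorProduct.rid_tmul, map_zero, Algebra.smul_def, mul_one] at h3
  obtain ⟨n, hn⟩ := hp
  apply eq_zero_of_torsion_of_map_eq_zero hRR _ ⟨n, ?_⟩ h3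
  have := congrArg l hn
  simpa using this

/-- **H2**: `R' ⊗ L → R' ⊗ F` is injective (Tor-independence of `M` and `R'`). -/
theorem injective_lTensor_of_flat_localization (hRR : EtGlue.IsGlueingPair R R' f)
    (hj : Function.Injective j) (hex : Function.Exact j π)
    (hπ : Function.Surjective π) [Module.Flat R F]
    (hsep : ∀ p : F, (∀ l : F →ₗ[R] R, l p = 0) → p = 0)
    (hMf : Module.Flat (Localization.Away f) (LocalizedModule (Submonoid.powers f) M)) :
    Function.Injective (j.lTensor R') := by
  rw [injective_iff_map_eq_zero]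
  intro z hz
  obtain ⟨l, ⟨n, hl⟩, rfl⟩ := torsion_surjective_of_isGlueingPair _ hRR z
    (torsion_of_lTensor_eq_zero j π hj hex hπ hMf R' z hz)
  rw [LinearMap.lTensor_tmul] at hz
  have : j l = 0 := eq_zero_of_torsion_of_tmul_eq_zero hRR hsep (j l)
    ⟨n, by rw [← map_smul, hl, map_zero]⟩ hz
  have hl0 : l = 0 := hj (by rw [this, map_zero])
  rw [hl0, TensorProduct.tmul_zero]

/-- **H3**: `T ⊗ L → T ⊗ F` is injective for `f`-power torsion `T` (i.e. `Tor₁(T, M) = 0`). -/
theorem injective_lTensor_torsion (hRR : EtGlue.IsGlueingPair R R' f)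
    (hj : Function.Injective j) (hex : Function.Exact j π)
    (hπ : Function.Surjective π) [Module.Flat R F]
    (hsep : ∀ p : F, (∀ l : F →ₗ[R] R, l p = 0) → p = 0)
    (hMf : Module.Flat (Localization.Away f) (LocalizedModule (Submonoid.powers f) M))
    (hM' : Module.Flat R' (R' ⊗[R] M))
    (T : Type u) [AddCommGroup T] [Module R T] (hT : ∀ t : T, ∃ n : ℕ, f ^ n • t = 0) :
    Function.Injective (j.lTensor T) := by
  have hj' := injective_lTensor_of_flat_localization j π hRR hj hex hπ hsep hMf
  have hjb : Function.Injective (j.baseChange R') := hj'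
  have hexb : Function.Exact (j.baseChange R') (π.baseChange R') := lTensor_exact R' hex hπ
  have hπb : Function.Surjective (π.baseChange R') := LinearMap.lTensor_surjective R' hπ
  have h1 : Function.Injective ((j.baseChange R').lTensor (R' ⊗[R] T)) :=
    injective_lTensor_of_isZero_tor_one (R := R') (j.baseChange R') (π.baseChange R') hjb hexb hπb
      (isZero_of_flat_right (R := R') _ _ 0)
  have hnat : ∀ x : (R' ⊗[R] T) ⊗[R'] (R' ⊗[R] L),
      TensorProduct.AlgebraTensorModule.cancelBaseChange R R' R' (R' ⊗[R] T) F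
        (((j.baseChange R').lTensor (R' ⊗[R] T)) x) =
      (j.lTensor (R' ⊗[R] T))
        (TensorProduct.AlgebraTensorModule.cancelBaseChange R R' R' (R' ⊗[R] T) L x) := by
    intro x
    induction x using TensorProduct.induction_on with
    | zero => simp
    | add a b ha hb => simp only [map_add, ha, hb]
    | tmul v y =>
      induction y using TensorProduct.induction_on with
      | zero => simp
      | add a b ha hb => simp only [TensorProduct.tmul_add, map_add, ha, hb]
      | tmul r' l => simp
  have h2 : Function.Injective (j.lTensor (R' ⊗[R] T)) := by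
    intro a b hab
    obtain ⟨a, rfl⟩ :=
      (TensorProduct.AlgebraTensorModule.cancelBaseChange R R' R' (R' ⊗[R] T) L).surjective a
    obtain ⟨b, rfl⟩ :=
      (TensorProduct.AlgebraTensorModule.cancelBaseChange R R' R' (R' ⊗[R] T) L).surjective b
    rw [← hnat, ← hnat] at hab
    have := h1 ((TensorProduct.AlgebraTensorModule.cancelBaseChange R R' R'
      (R' ⊗[R] T) F).injective hab)
    rw [this]
  let e : T ≃ₗ[R] R' ⊗[R] T :=
    LinearEquiv.ofBijective (TensorProduct.mk R R' T 1) (bijective_mk_of_torsion hRR.1 hT)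
  intro a b hab
  have h3 : (j.lTensor (R' ⊗[R] T)) ((e.toLinearMap.rTensor L) a) =
      (j.lTensor (R' ⊗[R] T)) ((e.toLinearMap.rTensor L) b) := by
    rw [← LinearMap.comp_apply, ← LinearMap.comp_apply, LinearMap.lTensor_comp_rTensor,
      ← LinearMap.rTensor_comp_lTensor, LinearMap.comp_apply, LinearMap.comp_apply, hab]
  have h4 := h2 h3
  exact (LinearEquiv.rTensor L e).injective h4

/-- **H4a**: `L_f` is flat over `R_f`. -/
theorem flat_localization_ker (hj : Function.Injective j) (hex : Function.Exact j π)
    (hπ : Function.Surjective π) [Module.Flat R F]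
    (hMf : Module.Flat (Localization.Away f) (LocalizedModule (Submonoid.powers f) M)) :
    Module.Flat (Localization.Away f) (LocalizedModule (Submonoid.powers f) L) := by
  have : Module.Flat (Localization.Away f) (LocalizedModule (Submonoid.powers f) F) :=
    Module.Flat.of_isLocalizedModule (Localization.Away f) (Submonoid.powers f)
      (LocalizedModule.mkLinearMap (Submonoid.powers f) F)
  exact flat_of_shortExact (R := Localization.Away f)
    (LocalizedModule.map (Submonoid.powers f) j) (LocalizedModule.map (Submonoid.powers f) π)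
    (LocalizedModule.map_injective _ j hj) (LocalizedModule.map_exact _ j π hex)
    (LocalizedModule.map_surjective _ π hπ)

/-- **H4b**: `R' ⊗ L` is flat over `R'`. -/
theorem flat_baseChange_ker (hRR : EtGlue.IsGlueingPair R R' f)
    (hj : Function.Injective j) (hex : Function.Exact j π)
    (hπ : Function.Surjective π) [Module.Flat R F]
    (hsep : ∀ p : F, (∀ l : F →ₗ[R] R, l p = 0) → p = 0)
    (hMf : Module.Flat (Localization.Away f) (LocalizedModule (Submonoid.powers f) M))
    (hM' : Module.Flat R' (R' ⊗[R] M)) : Module.Flat R' (R' ⊗[R] L) := by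
  have hj' := injective_lTensor_of_flat_localization j π hRR hj hex hπ hsep hMf
  have hjb : Function.Injective (j.baseChange R') := hj'
  have hexb : Function.Exact (j.baseChange R') (π.baseChange R') := lTensor_exact R' hex hπ
  have hπb : Function.Surjective (π.baseChange R') := LinearMap.lTensor_surjective R' hπ
  exact flat_of_shortExact (R := R') (j.baseChange R') (π.baseChange R') hjb hexb hπb

end H1

section Main

/-- the standard free presentation of a module -/
noncomputable abbrev presπ (R : Type u) [CommRing R] (X : Type u) [AddCommGroup X] [Module R X] :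
    (X →₀ R) →ₗ[R] X := Finsupp.linearCombination R id

theorem presπ_surjective (X : Type u) [AddCommGroup X] [Module R X] :
    Function.Surjective (presπ R X) := fun x => ⟨Finsupp.single x 1, by simp⟩

theorem finsupp_torsionless (X : Type u) (p : X →₀ R) (hp : ∀ l : (X →₀ R) →ₗ[R] R, l p = 0) :
    p = 0 := by
  ext t
  exact hp (Finsupp.lapply t)

/-- step (ii): if `Tor₁(T, L) = 0` for all `f`-power torsion `T` and `W` is `f`-torsion free then so is
`W ⊗ L`. -/
theorem eq_zero_of_pow_smul_tmul_eq_zero {L W : Type u} [AddCommGroup L] [Module R L]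
    [AddCommGroup W] [Module R W]
    (torL : ∀ (X : Type u) [AddCommGroup X] [Module R X], (∀ t : X, ∃ n : ℕ, f ^ n • t = 0) →
      IsZero (T R 1 X L))
    (hfree : ∀ (n : ℕ) (w : W), f ^ n • w = 0 → w = 0) (n : ℕ) (z : W ⊗[R] L)
    (hn : f ^ n • z = 0) : z = 0 := by
  let μ : W →ₗ[R] W := f ^ n • LinearMap.id
  have hμ : Function.Injective μ := by
    rw [injective_iff_map_eq_zero]
    intro w hw
    exact hfree n w hw
  have hTn : ∀ t : W ⧸ LinearMap.range μ, ∃ k : ℕ, f ^ k • t = 0 := by
    intro t
    obtain ⟨w, rfl⟩ := Submodule.mkQ_surjective _ t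
    refine ⟨n, ?_⟩
    rw [← map_smul, Submodule.mkQ_apply, Submodule.Quotient.mk_eq_zero]
    exact ⟨w, rfl⟩
  have hinj : Function.Injective (μ.rTensor L) :=
    injective_rTensor_of_isZero_tor_one μ (LinearMap.range μ).mkQ hμ
      (LinearMap.exact_map_mkQ_range μ) (Submodule.mkQ_surjective _) (torL _ hTn)
  apply hinj
  rw [map_zero]
  have : μ.rTensor L = f ^ n • LinearMap.id := by
    simp only [μ, LinearMap.rTensor_smul, LinearMap.rTensor_id]
  rw [this, LinearMap.smul_apply, LinearMap.id_apply, hn]

/-- step (iv): reduction modulo a submodule `K` with `K ⊗ L → K ⊗ F` injective -/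
theorem eq_zero_of_mkQ_rTensor_eq_zero {L F W : Type u} [AddCommGroup L] [Module R L]
    [AddCommGroup F] [Module R F] [AddCommGroup W] [Module R W] [Module.Flat R F]
    (j : L →ₗ[R] F) (K : Submodule R W) (hK : Function.Injective (j.lTensor K))
    (z : W ⊗[R] L) (hz : j.lTensor W z = 0) (hzbar : (K.mkQ.rTensor L) z = 0) : z = 0 := by
  have hexK := rTensor_exact L (LinearMap.exact_subtype_mkQ K) (Submodule.mkQ_surjective K)
  obtain ⟨y, rfl⟩ := (hexK z).mp hzbar
  have hy : (j.lTensor K) y = 0 := by
    apply Module.Flat.rTensor_preserves_injective_linearMap (M := F) K.subtype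
      K.injective_subtype
    rw [map_zero, ← LinearMap.comp_apply, LinearMap.rTensor_comp_lTensor,
      ← LinearMap.lTensor_comp_rTensor, LinearMap.comp_apply]
    exact hz
  have hy0 : y = 0 := by
    apply hK
    rw [hy, map_zero]
  rw [hy0, map_zero]

section Claim

variable {L F M L2 F2 : Type u} [AddCommGroup L] [Module R L] [AddCommGroup F] [Module R F]
  [AddCommGroup M] [Module R M] [AddCommGroup L2] [Module R L2] [AddCommGroup F2] [Module R F2]
  (jM : L →ₗ[R] F) (πM : F →ₗ[R] M) (jL : L2 →ₗ[R] F2) (πL : F2 →ₗ[R] L)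

theorem injective_lTensor_of_glueingPair (hRR : EtGlue.IsGlueingPair R R' f)
    (hjM : Function.Injective jM) (hexM : Function.Exact jM πM) (hπM : Function.Surjective πM)
    [Module.Flat R F] (hsepF : ∀ p : F, (∀ l : F →ₗ[R] R, l p = 0) → p = 0)
    (hjL : Function.Injective jL) (hexL : Function.Exact jL πL) (hπL : Function.Surjective πL)
    [Module.Flat R F2] (hsepF2 : ∀ p : F2, (∀ l : F2 →ₗ[R] R, l p = 0) → p = 0)
    (hMf : Module.Flat (Localization.Away f) (LocalizedModule (Submonoid.powers f) M))
    (hM' : Module.Flat R' (R' ⊗[R] M))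
    (W : Type u) [AddCommGroup W] [Module R W] : Function.Injective (jM.lTensor W) := by
  have hLf := flat_localization_ker jM πM hjM hexM hπM hMf
  have hL' := flat_baseChange_ker jM πM hRR hjM hexM hπM hsepF hMf hM'
  have torL : ∀ (X : Type u) [AddCommGroup X] [Module R X], (∀ t : X, ∃ n : ℕ, f ^ n • t = 0) →
      IsZero (T R 1 X L) := fun X _ _ hT =>
    (TorOne.isZero_tor_one_iff_injective_lTensor jL πL hjL hexL hπL).mpr
      (injective_lTensor_torsion jL πL hRR hjL hexL hπL hsepF2 hLf hL' X hT)
  rw [injective_iff_map_eq_zero]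
  intro z hz
  -- torsion submodule
  let K : Submodule R W := LinearMap.ker (LocalizedModule.mkLinearMap (Submonoid.powers f) W)
  have hK : ∀ w : W, w ∈ K ↔ ∃ n : ℕ, f ^ n • w = 0 := fun w => by
    rw [LinearMap.mem_ker]; exact mkLinearMap_eq_zero_iff W w
  have hKtors : ∀ t : K, ∃ n : ℕ, f ^ n • t = 0 := by
    rintro ⟨t, ht⟩
    obtain ⟨n, hn⟩ := (hK t).mp ht
    exact ⟨n, Subtype.ext hn⟩
  have hfree : ∀ (n : ℕ) (w : W ⧸ K), f ^ n • w = 0 → w = 0 := by
    intro n w hw
    obtain ⟨w, rfl⟩ := Submodule.mkQ_surjective K w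
    rw [← map_smul, Submodule.mkQ_apply, Submodule.Quotient.mk_eq_zero, hK] at hw
    obtain ⟨k, hk⟩ := hw
    rw [Submodule.mkQ_apply, Submodule.Quotient.mk_eq_zero, hK]
    exact ⟨k + n, by rw [pow_add, mul_smul, hk]⟩
  have hzbar : (K.mkQ.rTensor L) z = 0 := by
    have h1 : (jM.lTensor (W ⧸ K)) ((K.mkQ.rTensor L) z) = 0 := by
      rw [← LinearMap.comp_apply, LinearMap.lTensor_comp_rTensor, ← LinearMap.rTensor_comp_lTensor,
        LinearMap.comp_apply, hz, map_zero]
    obtain ⟨n, hn⟩ := torsion_of_lTensor_eq_zero jM πM hjM hexM hπM hMf (W ⧸ K) _ h1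
    exact eq_zero_of_pow_smul_tmul_eq_zero torL hfree n _ hn
  exact eq_zero_of_mkQ_rTensor_eq_zero jM K
    (injective_lTensor_torsion jM πM hRR hjM hexM hπM hsepF hMf hM' K hKtors) z hz hzbar

/-- flatness from two abstract free presentations -/
theorem flat_of_glueingPair_of_presentations (hRR : EtGlue.IsGlueingPair R R' f)
    (hjM : Function.Injective jM) (hexM : Function.Exact jM πM) (hπM : Function.Surjective πM)
    [Module.Flat R F] (hsepF : ∀ p : F, (∀ l : F →ₗ[R] R, l p = 0) → p = 0)
    (hjL : Function.Injective jL) (hexL : Function.Exact jL πL) (hπL : Function.Surjective πL)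
    [Module.Flat R F2] (hsepF2 : ∀ p : F2, (∀ l : F2 →ₗ[R] R, l p = 0) → p = 0)
    (hMf : Module.Flat (Localization.Away f) (LocalizedModule (Submonoid.powers f) M))
    (hM' : Module.Flat R' (R' ⊗[R] M)) : Module.Flat R M := by
  apply flat_of_forall_isZero_tor_one
  intro I
  exact (TorOne.isZero_tor_one_iff_injective_lTensor jM πM hjM hexM hπM).mpr
    (injective_lTensor_of_glueingPair jM πM jL πL hRR hjM hexM hπM hsepF hjL hexL hπL hsepF2
      hMf hM' (R ⧸ I))

end Claim

/-- **Beauville–Laszlo descent of flatness.** -/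
theorem flat_of_glueingPair (hRR : EtGlue.IsGlueingPair R R' f)
    (M : Type u) [AddCommGroup M] [Module R M]
    (hMf : Module.Flat (Localization.Away f) (LocalizedModule (Submonoid.powers f) M))
    (hM' : Module.Flat R' (R' ⊗[R] M)) : Module.Flat R M := by
  have h1 : Function.Injective (LinearMap.ker (presπ R M)).subtype := Submodule.injective_subtype _
  have h2 : Function.Exact (LinearMap.ker (presπ R M)).subtype (presπ R M) :=
    LinearMap.exact_subtype_ker_map _
  have h3 := presπ_surjective (R := R) M
  have h4 := finsupp_torsionless (R := R) M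
  have h5 : Function.Injective (LinearMap.ker (presπ R (LinearMap.ker (presπ R M)))).subtype :=
    Submodule.injective_subtype _
  have h6 : Function.Exact (LinearMap.ker (presπ R (LinearMap.ker (presπ R M)))).subtype
      (presπ R (LinearMap.ker (presπ R M))) := LinearMap.exact_subtype_ker_map _
  have h7 := presπ_surjective (R := R) (LinearMap.ker (presπ R M))
  have h8 := finsupp_torsionless (R := R) (LinearMap.ker (presπ R M))
  exact flat_of_glueingPair_of_presentations (L := LinearMap.ker (presπ R M)) (F := M →₀ R) (M := M)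
    (L2 := LinearMap.ker (presπ R (LinearMap.ker (presπ R M))))
    (F2 := (LinearMap.ker (presπ R M)) →₀ R)
    (LinearMap.ker (presπ R M)).subtype (presπ R M)
    (LinearMap.ker (presπ R (LinearMap.ker (presπ R M)))).subtype
    (presπ R (LinearMap.ker (presπ R M))) hRR h1 h2 h3 h4 h5 h6 h7 h8 hMf hM'

end Main

end Groth.Agent.Lib.Helper10.BL
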