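import Mathlib
import Groth.Agent.Lib.Helper10.BL
import Groth.Agent.Lib.Helper10.BLBase
import Groth.Agent.Lib.Helper10.BLFlat

/-!
# Beauville–Laszlo: ring-map versions (helper10)

* `tensorMap_of_isStableUnderBaseChange`: a base-change stable property of ring maps passes from
  `φ : A →ₐ[R] B` to `R' ⊗ A → R' ⊗ B`.
-/

set_option autoImplicit false
universe u
open TensorProduct

namespace Groth.Agent.Lib.Helper10.BLRing

section BaseChange

variable {R R' A B : Type u} [CommRing R] [CommRing R'] [Algebra R R'] [CommRing A] [Algebra R A]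
  [CommRing B] [Algebra R B]

attribute [local instance] Algebra.TensorProduct.rightAlgebra

theorem isPushout_tensorMap (φ : A →ₐ[R] B) :
    letI : Algebra A B := φ.toRingHom.toAlgebra
    letI : Algebra (R' ⊗[R] A) (R' ⊗[R] B) :=
      (Algebra.TensorProduct.map (AlgHom.id R R') φ).toRingHom.toAlgebra
    letI : Algebra A (R' ⊗[R] B) :=
      ((algebraMap B (R' ⊗[R] B)).comp (algebraMap A B)).toAlgebra
    ∀ [IsScalarTower A B (R' ⊗[R] B)] [IsScalarTower A (R' ⊗[R] A) (R' ⊗[R] B)],
    Algebra.IsPushout A B (R' ⊗[R] A) (R' ⊗[R] B) := by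
  letI : Algebra A B := φ.toRingHom.toAlgebra
  haveI : IsScalarTower R A B := IsScalarTower.of_algebraMap_eq' φ.comp_algebraMap.symm
  letI : Algebra (R' ⊗[R] A) (R' ⊗[R] B) :=
    (Algebra.TensorProduct.map (AlgHom.id R R') φ).toRingHom.toAlgebra
  letI : Algebra A (R' ⊗[R] B) :=
    ((algebraMap B (R' ⊗[R] B)).comp (algebraMap A B)).toAlgebra
  intro _ _
  haveI : IsScalarTower R (R' ⊗[R] A) (R' ⊗[R] B) := IsScalarTower.of_algebraMap_eq (fun r => by
    show _ = Algebra.TensorProduct.map (AlgHom.id R R') φ _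
    simp [Algebra.TensorProduct.algebraMap_apply])
  haveI : IsScalarTower R' (R' ⊗[R] A) (R' ⊗[R] B) := IsScalarTower.of_algebraMap_eq (fun r => by
    show _ = Algebra.TensorProduct.map (AlgHom.id R R') φ _
    simp [Algebra.TensorProduct.algebraMap_apply])
  exact (Algebra.IsPushout.comp_iff (R := R) (S := A) (R' := R') (S' := R' ⊗[R] A) (T := B)
    (T' := R' ⊗[R] B)).mp inferInstance

theorem tensorMap_of_isStableUnderBaseChange
    {P : ∀ {R S : Type u} [CommRing R] [CommRing S], (R →+* S) → Prop}
    (hP : RingHom.IsStableUnderBaseChange @P) (φ : A →ₐ[R] B) (h : P φ.toRingHom) :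
    P (Algebra.TensorProduct.map (AlgHom.id R R') φ).toRingHom := by
  letI : Algebra A B := φ.toRingHom.toAlgebra
  letI : Algebra (R' ⊗[R] A) (R' ⊗[R] B) :=
    (Algebra.TensorProduct.map (AlgHom.id R R') φ).toRingHom.toAlgebra
  letI : Algebra A (R' ⊗[R] B) :=
    ((algebraMap B (R' ⊗[R] B)).comp (algebraMap A B)).toAlgebra
  haveI : IsScalarTower A B (R' ⊗[R] B) := IsScalarTower.of_algebraMap_eq' rfl
  haveI : IsScalarTower A (R' ⊗[R] A) (R' ⊗[R] B) := IsScalarTower.of_algebraMap_eq (fun a => by
    show (1 : R') ⊗ₜ[R] φ a = Algebra.TensorProduct.map (AlgHom.id R R') φ ((1 : R') ⊗ₜ[R] a)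
    rw [Algebra.TensorProduct.map_tmul]
    rfl)
  haveI := isPushout_tensorMap (R' := R') φ
  exact hP A B (R' ⊗[R] A) (R' ⊗[R] B) h

end BaseChange

section FiniteType

open Groth.Agent.Lib.Helper10.BL

variable {R R' : Type u} [CommRing R] [CommRing R'] [Algebra R R'] {f : R}

/-- every element of `R' ⊗ M` lies in the `R'`-span of finitely many `1 ⊗ m` -/
theorem exists_finset_span {M : Type u} [AddCommGroup M] [Module R M] (g : R' ⊗[R] M) :
    ∃ F : Finset M, g ∈ Submodule.span R' ((TensorProduct.mk R R' M 1) '' (F : Set M)) := by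
  classical
  induction g using TensorProduct.induction_on with
  | zero => exact ⟨∅, Submodule.zero_mem _⟩
  | tmul r' m =>
    refine ⟨{m}, ?_⟩
    have : r' ⊗ₜ[R] m = r' • (TensorProduct.mk R R' M 1 m) := by
      rw [TensorProduct.mk_apply, TensorProduct.smul_tmul', smul_eq_mul, mul_one]
    rw [this]
    apply Submodule.smul_mem
    apply Submodule.subset_span
    exact ⟨m, by simp, rfl⟩
  | add x y hx hy =>
    obtain ⟨F, hF⟩ := hx
    obtain ⟨G, hG⟩ := hy
    refine ⟨F ∪ G, Submodule.add_mem _ ?_ ?_⟩
    · exact Submodule.span_mono (Set.image_mono (by simp)) hF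
    · exact Submodule.span_mono (Set.image_mono (by simp)) hG

variable {A B : Type u} [CommRing A] [Algebra R A] [CommRing B] [Algebra R B]

/-- **Beauville–Laszlo descent of finite type** (only needs `R/f^n ≅ R'/f^n`). -/
theorem finiteType_of_awayMap_of_tensorMap (hq : EtGlue.QuotPowBijective R R' f) (φ : A →ₐ[R] B)
    (h1 : (Localization.awayMap φ.toRingHom (algebraMap R A f)).FiniteType)
    (h2 : (Algebra.TensorProduct.map (AlgHom.id R R') φ).toRingHom.FiniteType) :
    φ.toRingHom.FiniteType := by
  classical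
  letI : Algebra A B := φ.toRingHom.toAlgebra
  haveI : IsScalarTower R A B := IsScalarTower.of_algebraMap_eq' φ.comp_algebraMap.symm
  set fA : A := algebraMap R A f with hfA
  set fB : B := φ.toRingHom fA with hfB
  have hfB' : algebraMap R B f = fB := (φ.commutes f).symm
  letI : Algebra (Localization.Away fA) (Localization.Away fB) :=
    (Localization.awayMap φ.toRingHom fA).toAlgebra
  haveI : IsScalarTower A (Localization.Away fA) (Localization.Away fB) :=
    IsScalarTower.of_algebraMap_eq (fun a => by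
      rw [IsScalarTower.algebraMap_apply A B (Localization.Away fB)]
      show algebraMap B (Localization.Away fB) (φ.toRingHom a) =
        Localization.awayMap φ.toRingHom fA (algebraMap A (Localization.Away fA) a)
      rw [Localization.awayMap, IsLocalization.Away.map, IsLocalization.map_eq])
  letI : Algebra (R' ⊗[R] A) (R' ⊗[R] B) :=
    (Algebra.TensorProduct.map (AlgHom.id R R') φ).toRingHom.toAlgebra
  have h1' : Algebra.FiniteType (Localization.Away fA) (Localization.Away fB) := h1
  have h2' : Algebra.FiniteType (R' ⊗[R] A) (R' ⊗[R] B) := h2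
  obtain ⟨s, hs⟩ := h1'.out
  obtain ⟨s', hs'⟩ := h2'.out
  choose Fg hFg using fun g : R' ⊗[R] B => exists_finset_span (R := R) (R' := R') g
  let F1 : Finset B := IsLocalization.finsetIntegerMultiple (Submonoid.powers fB) s ∪ {fB}
  let F2 : Finset B := s'.biUnion Fg
  let C : Subalgebra A B := Algebra.adjoin A ((F1 ∪ F2 : Finset B) : Set B)
  have hF1 : (F1 : Set B) ⊆ C := fun b hb =>
    Algebra.subset_adjoin (by simp only [Finset.coe_union, Set.mem_union]; exact Or.inl hb)
  have hF2 : (F2 : Set B) ⊆ C := fun b hb =>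
    Algebra.subset_adjoin (by simp only [Finset.coe_union, Set.mem_union]; exact Or.inr hb)
  -- Claim 1: `f`-power multiples land in `C`
  have hfBC : fB ∈ C := hF1 (by simp [F1])
  have claim1 : ∀ b : B, ∃ n : ℕ, fB ^ n * b ∈ C := by
    intro b
    have hb : algebraMap B (Localization.Away fB) b ∈
        Algebra.adjoin (Localization.Away fA) (s : Set (Localization.Away fB)) := by
      rw [hs]; trivial
    obtain ⟨⟨_, j, rfl⟩, hj⟩ := multiple_mem_adjoin_of_mem_localization_adjoin
      (Submonoid.powers fA) (Localization.Away fA) (s : Set (Localization.Away fB)) _ hb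
    have hj' : algebraMap B (Localization.Away fB) (fA ^ j • b) ∈
        Algebra.adjoin A (s : Set (Localization.Away fB)) := by
      rw [Algebra.smul_def, map_mul, ← IsScalarTower.algebraMap_apply, ← Algebra.smul_def]
      exact hj
    obtain ⟨⟨_, k, rfl⟩, hk⟩ := IsLocalization.exists_smul_mem_of_mem_adjoin
      (Submonoid.powers fB) (fA ^ j • b) s C
      (fun x hx => hF1 (by simp only [F1, Finset.coe_union, Set.mem_union]; exact Or.inl hx))
      (Submonoid.powers_le.mpr hfBC) hj'
    refine ⟨k + j, ?_⟩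
    have : fB ^ (k + j) * b = fB ^ k • (fA ^ j • b) := by
      rw [Algebra.smul_def (fA ^ j) b, map_pow, smul_eq_mul, pow_add, mul_assoc]
      rfl
    rw [this]
    exact hk
  -- Claim 2: `R' ⊗ C → R' ⊗ B` is surjective
  let ψ : R' ⊗[R] C →ₐ[R'] R' ⊗[R] B :=
    Algebra.TensorProduct.map (AlgHom.id R' R') (C.val.restrictScalars R)
  have hψ : ∀ (r' : R') (c : C), ψ (r' ⊗ₜ[R] c) = r' ⊗ₜ[R] (c : B) := fun r' c => by
    show Algebra.TensorProduct.map (AlgHom.id R' R') (C.val.restrictScalars R) (r' ⊗ₜ[R] c) = _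
    rw [Algebra.TensorProduct.map_tmul]
    rfl
  have hψ1 : ∀ z : R' ⊗[R] A, Algebra.TensorProduct.map (AlgHom.id R R') φ z ∈ ψ.range := by
    intro z
    induction z using TensorProduct.induction_on with
    | zero => rw [map_zero]; exact zero_mem _
    | tmul r' a =>
      refine ⟨r' ⊗ₜ[R] (⟨φ a, C.algebraMap_mem a⟩ : C), ?_⟩
      rw [Algebra.TensorProduct.map_tmul]
      exact hψ r' _
    | add x y hx hy => rw [map_add]; exact add_mem hx hy
  have hψ2 : ∀ g ∈ s', g ∈ ψ.range := by
    intro g hg
    have h3 : Submodule.span R' ((TensorProduct.mk R R' B 1) '' (Fg g : Set B)) ≤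
        Subalgebra.toSubmodule ψ.range := by
      rw [Submodule.span_le]
      rintro _ ⟨b, hb, rfl⟩
      have hbC : b ∈ C := hF2 (by
        simp only [F2, Finset.coe_biUnion, Set.mem_iUnion]
        exact ⟨g, hg, hb⟩)
      refine ⟨(1 : R') ⊗ₜ[R] (⟨b, hbC⟩ : C), ?_⟩
      exact hψ 1 _
    exact h3 (hFg g)
  have claim2 : ∀ z : R' ⊗[R] B, z ∈ ψ.range := by
    intro z
    have hz : z ∈ Algebra.adjoin (R' ⊗[R] A) (s' : Set (R' ⊗[R] B)) := by rw [hs']; trivial
    induction hz using Algebra.adjoin_induction with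
    | mem x hx => exact hψ2 x hx
    | algebraMap r => exact hψ1 r
    | add x y _ _ hx hy => exact add_mem hx hy
    | mul x y _ _ hx hy => exact mul_mem hx hy
  -- the quotient module
  let Cs : Submodule R B := (Subalgebra.toSubmodule C).restrictScalars R
  have hT : ∀ q : B ⧸ Cs, ∃ n : ℕ, f ^ n • q = 0 := by
    intro q
    obtain ⟨b, rfl⟩ := Submodule.mkQ_surjective Cs q
    obtain ⟨n, hn⟩ := claim1 b
    refine ⟨n, ?_⟩
    rw [← map_smul, Submodule.mkQ_apply, Submodule.Quotient.mk_eq_zero, Algebra.smul_def, map_pow,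
      hfB']
    exact hn
  have hzero : ∀ w : R' ⊗[R] C, LinearMap.lTensor R' Cs.mkQ (ψ w) = 0 := by
    intro w
    induction w using TensorProduct.induction_on with
    | zero => simp
    | tmul r' c =>
      rw [hψ, LinearMap.lTensor_tmul]
      have : Cs.mkQ (c : B) = 0 := by
        rw [Submodule.mkQ_apply, Submodule.Quotient.mk_eq_zero]
        exact c.2
      rw [this, TensorProduct.tmul_zero]
    | add x y hx hy => rw [map_add, map_add, hx, hy, add_zero]
  have hall : ∀ b : B, b ∈ C := by
    intro b
    have hq0 : Cs.mkQ b = 0 := by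
      apply (bijective_mk_of_torsion hq hT).1
      rw [map_zero, TensorProduct.mk_apply]
      obtain ⟨w, hw⟩ := claim2 ((1 : R') ⊗ₜ[R] b)
      have := hzero w
      rw [show ψ w = (1 : R') ⊗ₜ[R] b from hw, LinearMap.lTensor_tmul] at this
      exact this
    rw [Submodule.mkQ_apply, Submodule.Quotient.mk_eq_zero] at hq0
    exact hq0
  show Algebra.FiniteType A B
  refine ⟨⟨F1 ∪ F2, ?_⟩⟩
  rw [eq_top_iff]
  intro b _
  exact hall b

end FiniteType

section Finite

open Groth.Agent.Lib.Helper10.BL

variable {R R' : Type u} [CommRing R] [CommRing R'] [Algebra R R'] {f : R}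
variable {A B : Type u} [CommRing A] [Algebra R A] [CommRing B] [Algebra R B]

/-- **Beauville–Laszlo descent of finiteness of ring maps** (only needs `R/f^n ≅ R'/f^n`). -/
theorem finite_of_awayMap_of_tensorMap (hq : EtGlue.QuotPowBijective R R' f) (φ : A →ₐ[R] B)
    (h1 : (Localization.awayMap φ.toRingHom (algebraMap R A f)).Finite)
    (h2 : (Algebra.TensorProduct.map (AlgHom.id R R') φ).toRingHom.Finite) :
    φ.toRingHom.Finite := by
  classical
  letI : Algebra A B := φ.toRingHom.toAlgebra
  haveI : IsScalarTower R A B := IsScalarTower.of_algebraMap_eq' φ.comp_algebraMap.symm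
  set fA : A := algebraMap R A f with hfA
  set fB : B := φ.toRingHom fA with hfB
  have hfB' : algebraMap R B f = fB := (φ.commutes f).symm
  letI : Algebra (Localization.Away fA) (Localization.Away fB) :=
    (Localization.awayMap φ.toRingHom fA).toAlgebra
  haveI : IsScalarTower A (Localization.Away fA) (Localization.Away fB) :=
    IsScalarTower.of_algebraMap_eq (fun a => by
      rw [IsScalarTower.algebraMap_apply A B (Localization.Away fB)]
      show algebraMap B (Localization.Away fB) (φ.toRingHom a) =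
        Localization.awayMap φ.toRingHom fA (algebraMap A (Localization.Away fA) a)
      rw [Localization.awayMap, IsLocalization.Away.map, IsLocalization.map_eq])
  letI : Algebra (R' ⊗[R] A) (R' ⊗[R] B) :=
    (Algebra.TensorProduct.map (AlgHom.id R R') φ).toRingHom.toAlgebra
  have h1' : Module.Finite (Localization.Away fA) (Localization.Away fB) := h1
  have h2' : Module.Finite (R' ⊗[R] A) (R' ⊗[R] B) := h2
  obtain ⟨s, hs⟩ := h1'.fg_top
  obtain ⟨s', hs'⟩ := h2'.fg_top
  choose Fg hFg using fun g : R' ⊗[R] B => exists_finset_span (R := R) (R' := R') g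
  have hmap : (Submonoid.powers fA).map (algebraMap A B) = Submonoid.powers fB :=
    Submonoid.map_powers _ _
  haveI : IsLocalization ((Submonoid.powers fA).map (algebraMap A B)) (Localization.Away fB) := by
    rw [hmap]; infer_instance
  let F1 : Finset B :=
    IsLocalization.finsetIntegerMultiple ((Submonoid.powers fA).map (algebraMap A B)) s
  let F2 : Finset B := s'.biUnion Fg
  let N : Submodule A B := Submodule.span A ((F1 ∪ F2 : Finset B) : Set B)
  have hF1 : Submodule.span A (F1 : Set B) ≤ N :=
    Submodule.span_mono (by simp only [Finset.coe_union]; exact Set.subset_union_left)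
  have hF2 : (F2 : Set B) ⊆ N := fun b hb =>
    Submodule.subset_span (by simp only [Finset.coe_union, Set.mem_union]; exact Or.inr hb)
  -- Claim 1
  have claim1 : ∀ b : B, ∃ n : ℕ, fA ^ n • b ∈ N := by
    intro b
    have hb : algebraMap B (Localization.Away fB) b ∈
        Submodule.span (Localization.Away fA) (s : Set (Localization.Away fB)) := by
      rw [hs]; trivial
    obtain ⟨⟨_, j, rfl⟩, hj⟩ := multiple_mem_span_of_mem_localization_span
      (Submonoid.powers fA) (Localization.Away fA) (s : Set (Localization.Away fB)) _ hb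
    have hj' : algebraMap B (Localization.Away fB) (fA ^ j • b) ∈
        Submodule.span A (s : Set (Localization.Away fB)) := by
      rw [Algebra.smul_def, map_mul, ← IsScalarTower.algebraMap_apply, ← Algebra.smul_def]
      exact hj
    obtain ⟨⟨_, k, rfl⟩, hk⟩ := IsLocalization.smul_mem_finsetIntegerMultiple_span
      (Submonoid.powers fA) (Localization.Away fB) (fA ^ j • b) s hj'
    refine ⟨k + j, ?_⟩
    rw [pow_add, mul_smul]
    exact hF1 hk
  -- Claim 2
  let Ns : Submodule R B := N.restrictScalars R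
  let ψ : R' ⊗[R] Ns →ₗ[R'] R' ⊗[R] B := LinearMap.baseChange R' Ns.subtype
  have hsm : ∀ (a' : R' ⊗[R] A) (w : R' ⊗[R] Ns), ∃ w' : R' ⊗[R] Ns,
      ψ w' = Algebra.TensorProduct.map (AlgHom.id R R') φ a' * ψ w := by
    intro a' w
    induction a' using TensorProduct.induction_on with
    | zero => exact ⟨0, by simp⟩
    | add x y hx hy =>
      obtain ⟨w1, h1⟩ := hx
      obtain ⟨w2, h2⟩ := hy
      exact ⟨w1 + w2, by rw [map_add, map_add, add_mul, h1, h2]⟩
    | tmul r' a =>
      induction w using TensorProduct.induction_on with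
      | zero => exact ⟨0, by simp⟩
      | add x y hx hy =>
        obtain ⟨w1, h1⟩ := hx
        obtain ⟨w2, h2⟩ := hy
        exact ⟨w1 + w2, by rw [map_add, map_add, mul_add, h1, h2]⟩
      | tmul t n =>
        refine ⟨(r' * t) ⊗ₜ[R] (⟨a • n.1, N.smul_mem a n.2⟩ : Ns), ?_⟩
        rw [LinearMap.baseChange_tmul, LinearMap.baseChange_tmul, Algebra.TensorProduct.map_tmul,
          Algebra.TensorProduct.tmul_mul_tmul]
        rfl
  have hψ2 : ∀ g ∈ s', g ∈ LinearMap.range ψ := by
    intro g hg
    have h3 : Submodule.span R' ((TensorProduct.mk R R' B 1) '' (Fg g : Set B)) ≤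
        LinearMap.range ψ := by
      rw [Submodule.span_le]
      rintro _ ⟨b, hb, rfl⟩
      have hbN : b ∈ N := hF2 (by
        simp only [F2, Finset.coe_biUnion, Set.mem_iUnion]
        exact ⟨g, hg, hb⟩)
      refine ⟨(1 : R') ⊗ₜ[R] (⟨b, hbN⟩ : Ns), ?_⟩
      rw [LinearMap.baseChange_tmul]
      rfl
    exact h3 (hFg g)
  have claim2 : ∀ z : R' ⊗[R] B, z ∈ LinearMap.range ψ := by
    intro z
    have hz : z ∈ Submodule.span (R' ⊗[R] A) (s' : Set (R' ⊗[R] B)) := by rw [hs']; trivial
    induction hz using Submodule.span_induction with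
    | mem x hx => exact hψ2 x hx
    | zero => exact zero_mem _
    | add x y _ _ hx hy => exact add_mem hx hy
    | smul a' x _ hx =>
      obtain ⟨w, rfl⟩ := hx
      obtain ⟨w', hw'⟩ := hsm a' w
      exact ⟨w', by rw [hw', Algebra.smul_def]; rfl⟩
  -- the quotient module
  have hT : ∀ q : B ⧸ Ns, ∃ n : ℕ, f ^ n • q = 0 := by
    intro q
    obtain ⟨b, rfl⟩ := Submodule.mkQ_surjective Ns q
    obtain ⟨n, hn⟩ := claim1 b
    refine ⟨n, ?_⟩
    rw [← map_smul, Submodule.mkQ_apply, Submodule.Quotient.mk_eq_zero]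
    have : f ^ n • b = fA ^ n • b := by
      rw [hfA, ← map_pow, algebraMap_smul]
    rw [this]
    exact hn
  have hzero : ∀ w : R' ⊗[R] Ns, LinearMap.lTensor R' Ns.mkQ (ψ w) = 0 := by
    intro w
    induction w using TensorProduct.induction_on with
    | zero => simp
    | tmul r' c =>
      rw [LinearMap.baseChange_tmul, LinearMap.lTensor_tmul]
      have : Ns.mkQ (Ns.subtype c) = 0 := by
        rw [Submodule.mkQ_apply, Submodule.Quotient.mk_eq_zero]
        exact c.2
      rw [this, TensorProduct.tmul_zero]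
    | add x y hx hy => rw [map_add, map_add, hx, hy, add_zero]
  have hall : ∀ b : B, b ∈ N := by
    intro b
    have hq0 : Ns.mkQ b = 0 := by
      apply (bijective_mk_of_torsion hq hT).1
      rw [map_zero, TensorProduct.mk_apply]
      obtain ⟨w, hw⟩ := claim2 ((1 : R') ⊗ₜ[R] b)
      have := hzero w
      rw [hw, LinearMap.lTensor_tmul] at this
      exact this
    rw [Submodule.mkQ_apply, Submodule.Quotient.mk_eq_zero] at hq0
    exact hq0
  show Module.Finite A B
  refine ⟨⟨F1 ∪ F2, ?_⟩⟩
  rw [eq_top_iff]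
  intro b _
  exact hall b

end Finite

section Flat

open Groth.Agent.Lib.Helper10.BL

attribute [local instance] Algebra.TensorProduct.rightAlgebra

variable {R R' : Type u} [CommRing R] [CommRing R'] [Algebra R R'] {f : R}
variable {A B : Type u} [CommRing A] [Algebra R A] [CommRing B] [Algebra R B]

/-- flatness of `A_f → B_f` gives flatness of the localized module `B_f` over `A_f` -/
theorem flat_localizedModule_of_awayMap (φ : A →ₐ[R] B)
    (h1 : (Localization.awayMap φ.toRingHom (algebraMap R A f)).Flat) :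
    letI : Algebra A B := φ.toRingHom.toAlgebra
    Module.Flat (Localization.Away (algebraMap R A f))
      (LocalizedModule (Submonoid.powers (algebraMap R A f)) B) := by
  letI : Algebra A B := φ.toRingHom.toAlgebra
  set fA : A := algebraMap R A f with hfA
  set fB : B := φ.toRingHom fA with hfB
  letI : Algebra (Localization.Away fA) (Localization.Away fB) :=
    (Localization.awayMap φ.toRingHom fA).toAlgebra
  haveI : IsScalarTower A (Localization.Away fA) (Localization.Away fB) :=
    IsScalarTower.of_algebraMap_eq (fun a => by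
      rw [IsScalarTower.algebraMap_apply A B (Localization.Away fB)]
      show algebraMap B (Localization.Away fB) (φ.toRingHom a) =
        Localization.awayMap φ.toRingHom fA (algebraMap A (Localization.Away fA) a)
      rw [Localization.awayMap, IsLocalization.Away.map, IsLocalization.map_eq])
  have h1' : Module.Flat (Localization.Away fA) (Localization.Away fB) := h1
  have hmap : Algebra.algebraMapSubmonoid B (Submonoid.powers fA) = Submonoid.powers fB :=
    Submonoid.map_powers _ _
  haveI : IsLocalization (Algebra.algebraMapSubmonoid B (Submonoid.powers fA))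
      (Localization.Away fB) := by
    rw [hmap]; infer_instance
  haveI : IsLocalizedModule (Submonoid.powers fA)
      (IsScalarTower.toAlgHom A B (Localization.Away fB)).toLinearMap :=
    isLocalizedModule_iff_isLocalization.mpr inferInstance
  let e0 : LocalizedModule (Submonoid.powers fA) B ≃ₗ[A] Localization.Away fB :=
    IsLocalizedModule.iso (Submonoid.powers fA)
      (IsScalarTower.toAlgHom A B (Localization.Away fB)).toLinearMap
  let e1 : LocalizedModule (Submonoid.powers fA) B ≃ₗ[Localization.Away fA] Localization.Away fB :=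
    LinearEquiv.extendScalarsOfIsLocalization (Submonoid.powers fA) (Localization.Away fA) e0
  exact Module.Flat.of_linearEquiv e1

/-- flatness of `R' ⊗ A → R' ⊗ B` gives flatness of `(R' ⊗ A) ⊗_A B` over `R' ⊗ A` -/
theorem flat_tensor_of_tensorMap (φ : A →ₐ[R] B)
    (h2 : (Algebra.TensorProduct.map (AlgHom.id R R') φ).toRingHom.Flat) :
    letI : Algebra A B := φ.toRingHom.toAlgebra
    Module.Flat (R' ⊗[R] A) ((R' ⊗[R] A) ⊗[A] B) := by
  letI : Algebra A B := φ.toRingHom.toAlgebra
  letI : Algebra (R' ⊗[R] A) (R' ⊗[R] B) :=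
    (Algebra.TensorProduct.map (AlgHom.id R R') φ).toRingHom.toAlgebra
  letI : Algebra A (R' ⊗[R] B) :=
    ((algebraMap B (R' ⊗[R] B)).comp (algebraMap A B)).toAlgebra
  haveI : IsScalarTower A B (R' ⊗[R] B) := IsScalarTower.of_algebraMap_eq' rfl
  haveI : IsScalarTower A (R' ⊗[R] A) (R' ⊗[R] B) := IsScalarTower.of_algebraMap_eq (fun a => by
    show (1 : R') ⊗ₜ[R] φ a = Algebra.TensorProduct.map (AlgHom.id R R') φ ((1 : R') ⊗ₜ[R] a)
    rw [Algebra.TensorProduct.map_tmul]
    rfl)
  haveI := isPushout_tensorMap (R' := R') φ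
  haveI : Algebra.IsPushout A (R' ⊗[R] A) B (R' ⊗[R] B) := Algebra.IsPushout.symm inferInstance
  have h2' : Module.Flat (R' ⊗[R] A) (R' ⊗[R] B) := h2
  exact Module.Flat.of_linearEquiv
    (Algebra.IsPushout.equiv A (R' ⊗[R] A) B (R' ⊗[R] B)).toLinearEquiv

/-- **Beauville–Laszlo descent of flatness of ring maps.** -/
theorem flat_of_awayMap_of_tensorMap (hq : EtGlue.QuotPowBijective R R' f)
    (hA : EtGlue.IsGlueable R R' f A) (φ : A →ₐ[R] B)
    (h1 : (Localization.awayMap φ.toRingHom (algebraMap R A f)).Flat)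
    (h2 : (Algebra.TensorProduct.map (AlgHom.id R R') φ).toRingHom.Flat) :
    φ.toRingHom.Flat := by
  letI : Algebra A B := φ.toRingHom.toAlgebra
  show Module.Flat A B
  exact Groth.Agent.Lib.Helper10.BL.flat_of_glueingPair
    (Groth.Agent.Lib.Helper10.BLBase.isGlueingPair_baseChange A hq hA) B
    (flat_localizedModule_of_awayMap φ h1) (flat_tensor_of_tensorMap φ h2)

end Flat

section Unramified

open Groth.Agent.Lib.Helper10.BL

attribute [local instance] Algebra.TensorProduct.rightAlgebra

variable {R R' : Type u} [CommRing R] [CommRing R'] [Algebra R R'] {f : R}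
variable {A B : Type u} [CommRing A] [Algebra R A] [CommRing B] [Algebra R B]

/-- **Beauville–Laszlo descent of formal unramifiedness** (only needs `R/f^n ≅ R'/f^n`). -/
theorem formallyUnramified_of_awayMap_of_tensorMap (hq : EtGlue.QuotPowBijective R R' f)
    (φ : A →ₐ[R] B)
    (h1 : (Localization.awayMap φ.toRingHom (algebraMap R A f)).FormallyUnramified)
    (h2 : (Algebra.TensorProduct.map (AlgHom.id R R') φ).toRingHom.FormallyUnramified) :
    φ.toRingHom.FormallyUnramified := by
  letI : Algebra A B := φ.toRingHom.toAlgebra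
  haveI : IsScalarTower R A B := IsScalarTower.of_algebraMap_eq' φ.comp_algebraMap.symm
  set fA : A := algebraMap R A f with hfA
  set fB : B := φ.toRingHom fA with hfB
  letI : Algebra (Localization.Away fA) (Localization.Away fB) :=
    (Localization.awayMap φ.toRingHom fA).toAlgebra
  haveI : IsScalarTower A (Localization.Away fA) (Localization.Away fB) :=
    IsScalarTower.of_algebraMap_eq (fun a => by
      rw [IsScalarTower.algebraMap_apply A B (Localization.Away fB)]
      show algebraMap B (Localization.Away fB) (φ.toRingHom a) =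
        Localization.awayMap φ.toRingHom fA (algebraMap A (Localization.Away fA) a)
      rw [Localization.awayMap, IsLocalization.Away.map, IsLocalization.map_eq])
  haveI h1' : Algebra.FormallyUnramified (Localization.Away fA) (Localization.Away fB) := h1
  have hmap : Algebra.algebraMapSubmonoid B (Submonoid.powers fA) = Submonoid.powers fB :=
    Submonoid.map_powers _ _
  haveI : IsLocalization (Algebra.algebraMapSubmonoid B (Submonoid.powers fA))
      (Localization.Away fB) := by
    rw [hmap]; infer_instance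
  have hloc : IsLocalizedModule (Submonoid.powers fA)
      ((KaehlerDifferential.map A (Localization.Away fA) B (Localization.Away fB)).restrictScalars
        A) := inferInstance
  have hT : ∀ ω : Ω[B⁄A], ∃ n : ℕ, f ^ n • ω = 0 := by
    intro ω
    have h0 : ((KaehlerDifferential.map A (Localization.Away fA) B
        (Localization.Away fB)).restrictScalars A) ω = 0 := Subsingleton.elim _ _
    obtain ⟨⟨_, n, rfl⟩, hn⟩ := (IsLocalizedModule.eq_zero_iff (Submonoid.powers fA) _).mp h0
    refine ⟨n, ?_⟩
    have hn' : fA ^ n • ω = 0 := hn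
    rw [← hn', hfA, ← map_pow, algebraMap_smul]
  -- the tensor side
  letI : Algebra (R' ⊗[R] A) (R' ⊗[R] B) :=
    (Algebra.TensorProduct.map (AlgHom.id R R') φ).toRingHom.toAlgebra
  letI : Algebra A (R' ⊗[R] B) :=
    ((algebraMap B (R' ⊗[R] B)).comp (algebraMap A B)).toAlgebra
  haveI : IsScalarTower A B (R' ⊗[R] B) := IsScalarTower.of_algebraMap_eq' rfl
  haveI : IsScalarTower A (R' ⊗[R] A) (R' ⊗[R] B) := IsScalarTower.of_algebraMap_eq (fun a => by
    show (1 : R') ⊗ₜ[R] φ a = Algebra.TensorProduct.map (AlgHom.id R R') φ ((1 : R') ⊗ₜ[R] a)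
    rw [Algebra.TensorProduct.map_tmul]
    rfl)
  haveI := isPushout_tensorMap (R' := R') φ
  haveI : Algebra.IsPushout A (R' ⊗[R] A) B (R' ⊗[R] B) := Algebra.IsPushout.symm inferInstance
  haveI h2' : Algebra.FormallyUnramified (R' ⊗[R] A) (R' ⊗[R] B) := h2
  let e1 : (R' ⊗[R] A) ⊗[A] Ω[B⁄A] ≃ₗ[R' ⊗[R] A] Ω[(R' ⊗[R] B)⁄(R' ⊗[R] A)] :=
    KaehlerDifferential.tensorKaehlerEquivBase A (R' ⊗[R] A) B (R' ⊗[R] B)
  let e2 : (R' ⊗[R] A) ⊗[A] Ω[B⁄A] ≃ₗ[R'] R' ⊗[R] Ω[B⁄A] :=
    Algebra.IsPushout.cancelBaseChange R R' A (R' ⊗[R] A) Ω[B⁄A]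
  haveI hsub : Subsingleton (R' ⊗[R] Ω[B⁄A]) :=
    (e2.symm.toEquiv.trans e1.toEquiv).subsingleton
  show Algebra.FormallyUnramified A B
  rw [Algebra.formallyUnramified_iff]
  constructor
  intro a b
  apply (bijective_mk_of_torsion hq hT).1
  exact Subsingleton.elim _ _

end Unramified

end Groth.Agent.Lib.Helper10.BLRing
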