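import Mathlib
import Groth.Agent.Lib.Helper10.BLRing
import Groth.Agent.Lib.Helper10.TorAux

/-!
# Beauville–Laszlo: descent of finite presentation for flat ring maps (helper10)
-/

set_option autoImplicit false
universe u
open TensorProduct

namespace Groth.Agent.Lib.Helper10.BLFP

open Groth.Agent.Lib.Helper10.BL

attribute [local instance] Algebra.TensorProduct.rightAlgebra

section LemmaA

variable {R R' A : Type u} [CommRing R] [CommRing R'] [Algebra R R'] [CommRing A] [Algebra R A]
variable {N N' M : Type u} [AddCommGroup N] [Module A N] [Module R N] [IsScalarTower R A N]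
  [AddCommGroup N'] [Module A N'] [Module R N'] [IsScalarTower R A N']
  [AddCommGroup M] [Module A M]

/-- naturality of `cancelBaseChange` (symm form) -/
theorem lTensor_cancelBaseChange_symm (ι : N →ₗ[A] N') (z : R' ⊗[R] N) :
    (ι.lTensor (R' ⊗[R] A)) ((Algebra.IsPushout.cancelBaseChange R R' A (R' ⊗[R] A) N).symm z) =
      (Algebra.IsPushout.cancelBaseChange R R' A (R' ⊗[R] A) N').symm
        ((ι.restrictScalars R).lTensor R' z) := by
  induction z using TensorProduct.induction_on with
  | zero => simp
  | tmul s n =>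
    rw [Algebra.IsPushout.cancelBaseChange_symm_tmul, LinearMap.lTensor_tmul,
      LinearMap.lTensor_tmul, Algebra.IsPushout.cancelBaseChange_symm_tmul]
    rfl
  | add x y hx hy => simp only [map_add, hx, hy]

/-- if `0 → N → N' → M → 0` is an exact sequence of `A`-modules with `M` flat over `A`, then
`R' ⊗_R N → R' ⊗_R N'` is injective. -/
theorem injective_lTensor_restrictScalars_of_flat (ι : N →ₗ[A] N') (π : N' →ₗ[A] M)
    (hι : Function.Injective ι) (hex : Function.Exact ι π) (hπ : Function.Surjective π)
    [Module.Flat A M] : Function.Injective ((ι.restrictScalars R).lTensor R') := by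
  have h1 : Function.Injective (ι.lTensor (R' ⊗[R] A)) :=
    Groth.Agent.Lib.Helper10.TorAux.injective_lTensor_of_isZero_tor_one ι π hι hex hπ
      (Groth.Agent.Lib.Helper46.TorShift.isZero_of_flat_right _ _ 0)
  rw [injective_iff_map_eq_zero]
  intro z hz
  have h2 := lTensor_cancelBaseChange_symm (R := R) (R' := R') ι z
  rw [hz, map_zero] at h2
  have h3 := (injective_iff_map_eq_zero _).mp h1 _ h2
  exact (LinearEquiv.map_eq_zero_iff _).mp h3

end LemmaA

section LemmaB

variable {A B P : Type u} [CommRing A] [CommRing B] [CommRing P] [Algebra A B] [Algebra A P]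
  [Algebra.FinitePresentation A P]

/-- if `A_a → B_a` is finitely presented and `π : P → B` is a surjection from a finitely presented
`A`-algebra then the kernel of `π` is generated, up to powers of `a`, by finitely many elements -/
theorem exists_finset_pow_mul_mem (π : P →ₐ[A] B) (hπ : Function.Surjective π) (a : A)
    (h : (Localization.awayMap (algebraMap A B) a).FinitePresentation) :
    ∃ F : Finset P, (F : Set P) ⊆ (RingHom.ker π.toRingHom : Set P) ∧
      ∀ j ∈ RingHom.ker π.toRingHom, ∃ n : ℕ,
        (algebraMap A P a) ^ n * j ∈ Ideal.span (F : Set P) := by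
  classical
  set fP : P := algebraMap A P a with hfP
  set fB : B := algebraMap A B a with hfB
  have hπf : π fP = fB := π.commutes a
  letI : Algebra (Localization.Away a) (Localization.Away fB) :=
    (Localization.awayMap (algebraMap A B) a).toAlgebra
  haveI : IsScalarTower A (Localization.Away a) (Localization.Away fB) :=
    IsScalarTower.of_algebraMap_eq (fun x => by
      rw [IsScalarTower.algebraMap_apply A B (Localization.Away fB)]
      show algebraMap B (Localization.Away fB) (algebraMap A B x) =
        Localization.awayMap (algebraMap A B) a (algebraMap A (Localization.Away a) x)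
      rw [Localization.awayMap, IsLocalization.Away.map, IsLocalization.map_eq])
  haveI h' : Algebra.FinitePresentation (Localization.Away a) (Localization.Away fB) := h
  haveI : Algebra.FinitePresentation A (Localization.Away a) :=
    IsLocalization.Away.finitePresentation a
  haveI hBf : Algebra.FinitePresentation A (Localization.Away fB) :=
    Algebra.FinitePresentation.trans A (Localization.Away a) (Localization.Away fB)
  haveI : Algebra.FinitePresentation P (Localization.Away fP) :=
    IsLocalization.Away.finitePresentation fP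
  haveI : Algebra.FinitePresentation A (Localization.Away fP) :=
    Algebra.FinitePresentation.trans A P (Localization.Away fP)
  haveI : Algebra.FinitePresentation A (Localization.Away (π fP)) := by
    rw [hπf]; exact hBf
  have hk : (RingHom.ker (Localization.awayMapₐ π fP).toRingHom).FG :=
    Algebra.FinitePresentation.ker_fG_of_surjective (Localization.awayMapₐ π fP)
      (IsLocalization.Away.mapₐ_surjective_of_surjective _ hπ)
  have hk' : ((RingHom.ker π.toRingHom).map (algebraMap P (Localization.Away fP))).FG := by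
    rw [← IsLocalization.ker_map (Localization.Away (π fP)) π.toRingHom
      (Submonoid.map_powers π.toRingHom fP)]
    exact hk
  rw [Ideal.map] at hk'
  obtain ⟨s', hs', hspan⟩ := (Submodule.fg_span_iff_fg_span_finset_subset _).mp hk'
  choose g0 hg0 using fun x : s' => hs' x.2
  refine ⟨Finset.univ.image g0, ?_, ?_⟩
  · intro p hp
    simp only [Finset.coe_image, Finset.coe_univ, Set.image_univ, Set.mem_range] at hp
    obtain ⟨x, rfl⟩ := hp
    exact (hg0 x).1
  · intro j hj
    have h1 : algebraMap P (Localization.Away fP) j ∈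
        Submodule.span (Localization.Away fP)
          ((algebraMap P (Localization.Away fP)) '' ((Finset.univ.image g0 : Finset P) : Set P)) := by
      have h2 : algebraMap P (Localization.Away fP) j ∈
          Ideal.span ((algebraMap P (Localization.Away fP)) '' (RingHom.ker π.toRingHom : Set P)) :=
        Ideal.subset_span ⟨j, hj, rfl⟩
      have h3 : (s' : Set (Localization.Away fP)) ⊆
          (algebraMap P (Localization.Away fP)) '' ((Finset.univ.image g0 : Finset P) : Set P) := by
        intro x hx
        refine ⟨g0 ⟨x, hx⟩, ?_, (hg0 ⟨x, hx⟩).2⟩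
        simp
      rw [Ideal.span, hspan] at h2
      exact Submodule.span_mono h3 h2
    obtain ⟨⟨_, n, rfl⟩, hn⟩ := multiple_mem_span_of_mem_localization_span
      (Submonoid.powers fP) (Localization.Away fP) _ _ h1
    have h4 : Submodule.span P
        ((algebraMap P (Localization.Away fP)) '' ((Finset.univ.image g0 : Finset P) : Set P)) =
        Submodule.map (Algebra.linearMap P (Localization.Away fP))
          (Ideal.span ((Finset.univ.image g0 : Finset P) : Set P)) := by
      show _ = Submodule.map (Algebra.linearMap P (Localization.Away fP))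
          (Submodule.span P ((Finset.univ.image g0 : Finset P) : Set P))
      rw [Submodule.map_span]
      rfl
    rw [h4] at hn
    obtain ⟨y, hy, hyj⟩ := hn
    have h5 : algebraMap P (Localization.Away fP) y =
        algebraMap P (Localization.Away fP) (fP ^ n * j) := by
      rw [map_mul, ← Algebra.smul_def]
      exact hyj
    obtain ⟨⟨_, m, rfl⟩, hm⟩ := (IsLocalization.eq_iff_exists (Submonoid.powers fP) _).mp h5
    refine ⟨m + n, ?_⟩
    have : fP ^ (m + n) * j = fP ^ m * y := by
      rw [pow_add, mul_assoc]
      exact hm.symm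
    rw [this]
    exact Ideal.mul_mem_left _ _ hy

end LemmaB

section LemmaC

open Groth.Agent.Lib.Helper10.BLRing

variable {R R' A B P : Type u} [CommRing R] [CommRing R'] [Algebra R R'] [CommRing A] [Algebra R A]
  [CommRing B] [Algebra R B] [Algebra A B] [IsScalarTower R A B]
  [CommRing P] [Algebra R P] [Algebra A P] [IsScalarTower R A P] [Algebra.FinitePresentation A P]

/-- the kernel of `R' ⊗ P → R' ⊗ B` is generated by finitely many `1 ⊗ j`, `j ∈ ker π`, when
`R' ⊗ A → R' ⊗ B` is finitely presented -/
theorem exists_finset_ker_tensorMap (π : P →ₐ[A] B) (hπ : Function.Surjective π)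
    (h2 : (Algebra.TensorProduct.map (AlgHom.id R R')
      (IsScalarTower.toAlgHom R A B)).toRingHom.FinitePresentation) :
    ∃ F : Finset P, (F : Set P) ⊆ (RingHom.ker π.toRingHom : Set P) ∧
      RingHom.ker (Algebra.TensorProduct.map (AlgHom.id R R') (π.restrictScalars R)) =
        Ideal.span ((fun p : P => (1 : R') ⊗ₜ[R] p) '' (F : Set P)) := by
  classical
  let φ : A →ₐ[R] B := IsScalarTower.toAlgHom R A B
  let φP : A →ₐ[R] P := IsScalarTower.toAlgHom R A P
  let πR : P →ₐ[R] B := π.restrictScalars R
  letI algP' : Algebra (R' ⊗[R] A) (R' ⊗[R] P) :=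
    (Algebra.TensorProduct.map (AlgHom.id R R') φP).toRingHom.toAlgebra
  letI algB' : Algebra (R' ⊗[R] A) (R' ⊗[R] B) :=
    (Algebra.TensorProduct.map (AlgHom.id R R') φ).toRingHom.toAlgebra
  have hφP : φP.toRingHom.FinitePresentation :=
    RingHom.finitePresentation_algebraMap.mpr inferInstance
  haveI hP' : Algebra.FinitePresentation (R' ⊗[R] A) (R' ⊗[R] P) :=
    tensorMap_of_isStableUnderBaseChange RingHom.finitePresentation_isStableUnderBaseChange φP hφP
  haveI hB' : Algebra.FinitePresentation (R' ⊗[R] A) (R' ⊗[R] B) := h2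
  let π' : R' ⊗[R] P →ₐ[R' ⊗[R] A] R' ⊗[R] B :=
    { (Algebra.TensorProduct.map (AlgHom.id R R') πR).toRingHom with
      commutes' := fun z => by
        show Algebra.TensorProduct.map (AlgHom.id R R') πR
          (Algebra.TensorProduct.map (AlgHom.id R R') φP z) =
            Algebra.TensorProduct.map (AlgHom.id R R') φ z
        induction z using TensorProduct.induction_on with
        | zero => simp
        | tmul r' a =>
          rw [Algebra.TensorProduct.map_tmul, Algebra.TensorProduct.map_tmul,
            Algebra.TensorProduct.map_tmul]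
          congr 1
          exact π.commutes a
        | add x y hx hy => rw [map_add, map_add, map_add, hx, hy] }
  have hπR : Function.Surjective πR := hπ
  have hsurj : Function.Surjective π' :=
    Algebra.TensorProduct.map_surjective (AlgHom.id R R') πR Function.surjective_id hπR
  have hk : (RingHom.ker π'.toRingHom).FG :=
    Algebra.FinitePresentation.ker_fG_of_surjective π' hsurj
  have hker : RingHom.ker π'.toRingHom =
      RingHom.ker (Algebra.TensorProduct.map (AlgHom.id R R') πR) := rfl
  rw [hker, Algebra.TensorProduct.lTensor_ker (A := R') πR hπR, Ideal.map] at hk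
  obtain ⟨s', hs', hspan⟩ := (Submodule.fg_span_iff_fg_span_finset_subset _).mp hk
  choose g0 hg0 using fun x : s' => hs' x.2
  refine ⟨Finset.univ.image g0, ?_, ?_⟩
  · intro p hp
    simp only [Finset.coe_image, Finset.coe_univ, Set.image_univ, Set.mem_range] at hp
    obtain ⟨x, rfl⟩ := hp
    exact (hg0 x).1
  · rw [Algebra.TensorProduct.lTensor_ker (A := R') πR hπR, Ideal.map]
    apply le_antisymm
    · have h3 : (s' : Set (R' ⊗[R] P)) ⊆
          (fun p : P => (1 : R') ⊗ₜ[R] p) '' ((Finset.univ.image g0 : Finset P) : Set P) := by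
        intro x hx
        refine ⟨g0 ⟨x, hx⟩, ?_, (hg0 ⟨x, hx⟩).2⟩
        simp
      calc Ideal.span (⇑(Algebra.TensorProduct.includeRight : P →ₐ[R] R' ⊗[R] P) ''
              (RingHom.ker πR : Set P))
          = Ideal.span (s' : Set (R' ⊗[R] P)) := hspan
        _ ≤ _ := Ideal.span_mono h3
    · apply Ideal.span_mono
      rintro _ ⟨p, hp, rfl⟩
      simp only [Finset.coe_image, Finset.coe_univ, Set.image_univ, Set.mem_range] at hp
      obtain ⟨x, rfl⟩ := hp
      exact ⟨g0 x, (hg0 x).1, rfl⟩

end LemmaC

section Main

variable {R R' : Type u} [CommRing R] [CommRing R'] [Algebra R R'] {f : R}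
variable {A B : Type u} [CommRing A] [Algebra R A] [CommRing B] [Algebra R B]

/-- core: kernel of a presentation is finitely generated -/
theorem ker_fg_of_glueing (hq : EtGlue.QuotPowBijective R R' f)
    [Algebra A B] [IsScalarTower R A B] [Module.Flat A B]
    {P : Type u} [CommRing P] [Algebra R P] [Algebra A P] [IsScalarTower R A P]
    [Algebra.FinitePresentation A P] (π : P →ₐ[A] B) (hπ : Function.Surjective π)
    (h1 : (Localization.awayMap (algebraMap A B) (algebraMap R A f)).FinitePresentation)
    (h2 : (Algebra.TensorProduct.map (AlgHom.id R R')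
      (IsScalarTower.toAlgHom R A B)).toRingHom.FinitePresentation) :
    (RingHom.ker π.toRingHom).FG := by
  classical
  obtain ⟨F1, hF1, hF1'⟩ := exists_finset_pow_mul_mem π hπ (algebraMap R A f) h1
  obtain ⟨F2, hF2, hF2'⟩ := exists_finset_ker_tensorMap (R := R) (R' := R') π hπ h2
  set J : Ideal P := RingHom.ker π.toRingHom with hJ
  let J0 : Ideal P := Ideal.span ((F1 ∪ F2 : Finset P) : Set P)
  have hJ0J : J0 ≤ J := by
    rw [Ideal.span_le]
    intro p hp
    simp only [Finset.coe_union, Set.mem_union] at hp
    rcases hp with hp | hp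
    · exact hF1 hp
    · exact hF2 hp
  have hF1J0 : Ideal.span (F1 : Set P) ≤ J0 :=
    Ideal.span_mono (by simp only [Finset.coe_union]; exact Set.subset_union_left)
  have hF2J0 : (F2 : Set P) ⊆ J0 := fun p hp =>
    Ideal.subset_span (by simp only [Finset.coe_union, Set.mem_union]; exact Or.inr hp)
  suffices hle : J ≤ J0 by
    have : J = J0 := le_antisymm hle hJ0J
    rw [this]
    exact ⟨F1 ∪ F2, rfl⟩
  -- the `A`-module `J`
  let JA : Submodule A P := J.restrictScalars A
  let ιA : JA →ₗ[A] P := JA.subtype
  let ιR : JA →ₗ[R] P := ιA.restrictScalars R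
  have hιinj : Function.Injective ((ιA.restrictScalars R).lTensor R') := by
    apply injective_lTensor_restrictScalars_of_flat (R := R) (R' := R') ιA π.toLinearMap
      JA.injective_subtype ?_ hπ
    intro p
    constructor
    · intro hp
      exact ⟨⟨p, hp⟩, rfl⟩
    · rintro ⟨x, rfl⟩
      exact x.2
  let J00 : Submodule R JA := (J0.restrictScalars R).comap ιR
  have hfP : ∀ (n : ℕ) (p : P), f ^ n • p = (algebraMap A P (algebraMap R A f)) ^ n * p := by
    intro n p
    rw [← IsScalarTower.algebraMap_apply R A P, ← map_pow, ← Algebra.smul_def]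
  have hT : ∀ t : JA ⧸ J00, ∃ n : ℕ, f ^ n • t = 0 := by
    intro t
    obtain ⟨x, rfl⟩ := Submodule.mkQ_surjective J00 t
    obtain ⟨n, hn⟩ := hF1' x.1 x.2
    refine ⟨n, ?_⟩
    rw [← map_smul, Submodule.mkQ_apply, Submodule.Quotient.mk_eq_zero]
    show f ^ n • (x : P) ∈ J0
    rw [hfP]
    exact hF1J0 hn
  -- multiplication closure
  have hsm : ∀ (c : R' ⊗[R] P) (y : R' ⊗[R] J00), ∃ y' : R' ⊗[R] J00,
      (ιR.lTensor R') ((J00.subtype).lTensor R' y') =
        c * (ιR.lTensor R') ((J00.subtype).lTensor R' y) := by
    intro c y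
    induction c using TensorProduct.induction_on with
    | zero => exact ⟨0, by simp⟩
    | add c1 c2 h1 h2 =>
      obtain ⟨w1, e1⟩ := h1
      obtain ⟨w2, e2⟩ := h2
      exact ⟨w1 + w2, by rw [map_add, map_add, add_mul, e1, e2]⟩
    | tmul r' p =>
      induction y using TensorProduct.induction_on with
      | zero => exact ⟨0, by simp⟩
      | add y1 y2 h1 h2 =>
        obtain ⟨w1, e1⟩ := h1
        obtain ⟨w2, e2⟩ := h2
        exact ⟨w1 + w2, by rw [map_add, map_add, map_add, map_add, mul_add, e1, e2]⟩
      | tmul s' n0 =>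
        have hmem1 : p * ((n0 : JA) : P) ∈ J := Ideal.mul_mem_left _ _ n0.1.2
        have hmem2 : p * ((n0 : JA) : P) ∈ J0 := Ideal.mul_mem_left _ _ n0.2
        refine ⟨(r' * s') ⊗ₜ[R] (⟨⟨p * ((n0 : JA) : P), hmem1⟩, hmem2⟩ : J00), ?_⟩
        rw [LinearMap.lTensor_tmul, LinearMap.lTensor_tmul, LinearMap.lTensor_tmul,
          LinearMap.lTensor_tmul]
        show (r' * s') ⊗ₜ[R] (p * ((n0 : JA) : P)) = (r' ⊗ₜ[R] p) * (s' ⊗ₜ[R] ((n0 : JA) : P))
        rw [Algebra.TensorProduct.tmul_mul_tmul]
  -- surjectivity of `R' ⊗ J00 → R' ⊗ J`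
  have hsurj : ∀ x : R' ⊗[R] JA, ∃ y : R' ⊗[R] J00, (J00.subtype).lTensor R' y = x := by
    intro x
    have hx : (ιR.lTensor R') x ∈
        RingHom.ker (Algebra.TensorProduct.map (AlgHom.id R R') (π.restrictScalars R)) := by
      rw [RingHom.mem_ker]
      induction x using TensorProduct.induction_on with
      | zero => simp
      | tmul r' n0 =>
        rw [LinearMap.lTensor_tmul, Algebra.TensorProduct.map_tmul]
        have : (π.restrictScalars R) (ιR n0) = 0 := n0.2
        rw [this, TensorProduct.tmul_zero]
      | add x y hx hy => rw [map_add, map_add, hx, hy, add_zero]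
    rw [hF2'] at hx
    have key0 : ∀ u ∈ Ideal.span ((fun p : P => (1 : R') ⊗ₜ[R] p) '' (F2 : Set P)),
        ∃ y : R' ⊗[R] J00, (ιR.lTensor R') ((J00.subtype).lTensor R' y) = u := by
      intro u hu
      induction hu using Submodule.span_induction with
      | mem u hu =>
        obtain ⟨p, hp, rfl⟩ := hu
        refine ⟨(1 : R') ⊗ₜ[R] (⟨⟨p, hF2 hp⟩, hF2J0 hp⟩ : J00), ?_⟩
        rw [LinearMap.lTensor_tmul, LinearMap.lTensor_tmul]
        rfl
      | zero => exact ⟨0, by simp⟩
      | add u v _ _ hu hv =>
        obtain ⟨w1, e1⟩ := hu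
        obtain ⟨w2, e2⟩ := hv
        exact ⟨w1 + w2, by rw [map_add, map_add, e1, e2]⟩
      | smul c u _ hu =>
        obtain ⟨w, e⟩ := hu
        obtain ⟨w', e'⟩ := hsm c w
        exact ⟨w', by rw [e', e, smul_eq_mul]⟩
    obtain ⟨y, hy⟩ := key0 _ hx
    exact ⟨y, hιinj hy⟩
  intro j hj
  have h0 : (1 : R') ⊗ₜ[R] (J00.mkQ ⟨j, hj⟩) = 0 := by
    obtain ⟨y, hy⟩ := hsurj ((1 : R') ⊗ₜ[R] (⟨j, hj⟩ : JA))
    have h3 : ∀ y : R' ⊗[R] J00, (J00.mkQ).lTensor R' ((J00.subtype).lTensor R' y) = 0 := by
      intro y
      induction y using TensorProduct.induction_on with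
      | zero => simp
      | tmul r' n0 =>
        rw [LinearMap.lTensor_tmul, LinearMap.lTensor_tmul]
        have : J00.mkQ (J00.subtype n0) = 0 := by
          rw [Submodule.mkQ_apply, Submodule.Quotient.mk_eq_zero]
          exact n0.2
        rw [this, TensorProduct.tmul_zero]
      | add x y hx hy => rw [map_add, map_add, hx, hy, add_zero]
    have := h3 y
    rw [hy, LinearMap.lTensor_tmul] at this
    exact this
  have h4 : J00.mkQ ⟨j, hj⟩ = 0 := by
    apply (bijective_mk_of_torsion hq hT).1
    rw [TensorProduct.mk_apply, h0, map_zero]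
  rw [Submodule.mkQ_apply, Submodule.Quotient.mk_eq_zero] at h4
  exact h4

end Main

end Groth.Agent.Lib.Helper10.BLFP
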