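import Mathlib
import Groth.Prelude.Def_EtGlue
import Groth.Agent.Lib.Helper10.BL

/-!
# Beauville–Laszlo: essential surjectivity (helper10)

Given a glueing pair `(R → R', f)`, an `R'`-module `M'`, an `R`-module `M₁` on which `f` is bijective and an
`R'`-linear map `β : M' → R' ⊗ M₁` whose kernel and cokernel are `f`-power torsion (i.e. `β` is a localization
of `M'` at `f`), the fibre product `M = {(x', y) | β x' = 1 ⊗ y}` is glueable, `R' ⊗ M ≅ M'` and `M_f ≅ M₁`.
-/

namespace Groth.Agent.Lib.Helper10.BL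

open TensorProduct

universe u

section Glue

variable {R R' : Type u} [CommRing R] [CommRing R'] [Algebra R R'] (f : R)
variable (M' : Type u) [AddCommGroup M'] [Module R' M'] [Module R M'] [IsScalarTower R R' M']
variable (M₁ : Type u) [AddCommGroup M₁] [Module R M₁]
variable (β : M' →ₗ[R'] R' ⊗[R] M₁)

/-- the glued module, a submodule of `M' × M₁` -/
noncomputable def glueModule : Submodule R (M' × M₁) :=
  LinearMap.ker ((β.restrictScalars R).comp (LinearMap.fst R M' M₁) -
    (TensorProduct.mk R R' M₁ 1).comp (LinearMap.snd R M' M₁))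

variable {f M' M₁ β}

theorem mem_glueModule {p : M' × M₁} : p ∈ glueModule M' M₁ β ↔ β p.1 = (1 : R') ⊗ₜ[R] p.2 := by
  unfold glueModule
  rw [LinearMap.mem_ker, LinearMap.sub_apply, sub_eq_zero]
  rfl

variable (M' M₁ β)

/-- first projection `M → M'` -/
noncomputable def glueFst : glueModule M' M₁ β →ₗ[R] M' :=
  (LinearMap.fst R M' M₁).comp (glueModule M' M₁ β).subtype

/-- second projection `M → M₁` -/
noncomputable def glueSnd : glueModule M' M₁ β →ₗ[R] M₁ :=
  (LinearMap.snd R M' M₁).comp (glueModule M' M₁ β).subtype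

variable {M' M₁ β}

theorem beta_glueFst (m : glueModule M' M₁ β) :
    β (glueFst M' M₁ β m) = (1 : R') ⊗ₜ[R] (glueSnd M' M₁ β m) :=
  mem_glueModule.mp m.2

variable (hf : Function.Bijective fun x : M₁ => f • x)
  (hβ1 : ∀ x' : M', β x' = 0 → ∃ n : ℕ, (algebraMap R R' f) ^ n • x' = 0)
  (hβ2 : ∀ w : R' ⊗[R] M₁, ∃ (n : ℕ) (x' : M'), β x' = (algebraMap R R' f) ^ n • w)

include hf in
theorem eq_zero_of_pow_smul_eq_zero (y : M₁) (n : ℕ) (h : f ^ n • y = 0) : y = 0 := by
  induction n with
  | zero => simpa using h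
  | succ n ih =>
    apply ih
    apply hf.1
    simp only [smul_zero]
    rw [← mul_smul, ← pow_succ']
    exact h

include hβ2 in
theorem exists_mem_glue_snd (y : M₁) : ∃ (n : ℕ) (m : glueModule M' M₁ β),
    glueSnd M' M₁ β m = f ^ n • y := by
  obtain ⟨n, x', hx'⟩ := hβ2 ((1 : R') ⊗ₜ[R] y)
  refine ⟨n, ⟨(x', f ^ n • y), ?_⟩, rfl⟩
  rw [mem_glueModule, hx', TensorProduct.tmul_smul, ← map_pow, algebraMap_smul]

include hf hβ1 hβ2 in
/-- `M → M₁` is the localization at `f` -/
theorem isLocalizedModule_glueSnd :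
    IsLocalizedModule (Submonoid.powers f) (glueSnd M' M₁ β) where
  map_units := by
    rintro ⟨_, n, rfl⟩
    rw [map_pow]
    apply IsUnit.pow
    rw [Module.End.isUnit_iff]
    exact hf
  surj := by
    intro y
    obtain ⟨n, m, hm⟩ := exists_mem_glue_snd hβ2 y
    exact ⟨(m, ⟨f ^ n, n, rfl⟩), hm.symm⟩
  exists_of_eq := by
    intro m₁ m₂ h
    have h0 : glueSnd M' M₁ β (m₁ - m₂) = 0 := by rw [map_sub, h, sub_self]
    have h1 : β (glueFst M' M₁ β (m₁ - m₂)) = 0 := by
      rw [beta_glueFst, h0, TensorProduct.tmul_zero]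
    obtain ⟨n, hn⟩ := hβ1 _ h1
    refine ⟨⟨f ^ n, n, rfl⟩, ?_⟩
    have key : f ^ n • (m₁ - m₂) = 0 := by
      apply Subtype.ext
      apply Prod.ext
      · change f ^ n • (glueFst M' M₁ β (m₁ - m₂)) = 0
        rw [← algebraMap_smul R', map_pow]
        exact hn
      · change f ^ n • (glueSnd M' M₁ β (m₁ - m₂)) = 0
        rw [h0, smul_zero]
    rw [smul_sub, sub_eq_zero] at key
    exact key

variable (M' M₁ β) in
/-- the comparison map `R' ⊗ M → M'` -/
noncomputable def gluePsi : R' ⊗[R] glueModule M' M₁ β →ₗ[R'] M' :=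
  (glueFst M' M₁ β).liftBaseChange R'

theorem gluePsi_tmul (r' : R') (m : glueModule M' M₁ β) :
    gluePsi M' M₁ β (r' ⊗ₜ[R] m) = r' • glueFst M' M₁ β m := rfl

theorem beta_gluePsi (z : R' ⊗[R] glueModule M' M₁ β) :
    β (gluePsi M' M₁ β z) = LinearMap.lTensor R' (glueSnd M' M₁ β) z := by
  induction z using TensorProduct.induction_on with
  | zero => simp
  | add a b ha hb => rw [map_add, map_add, map_add, ha, hb]
  | tmul r' m =>
    rw [gluePsi_tmul, map_smul, beta_glueFst, LinearMap.lTensor_tmul, TensorProduct.smul_tmul',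
      smul_eq_mul, mul_one]

include hβ2 in
theorem gluePsi_surjective (hq : EtGlue.QuotPowBijective R R' f) :
    Function.Surjective (gluePsi M' M₁ β) := by
  have key : ∀ w : R' ⊗[R] M₁, ∃ (z : R' ⊗[R] glueModule M' M₁ β) (y : M₁),
      w = β (gluePsi M' M₁ β z) + (1 : R') ⊗ₜ[R] y := by
    intro w
    induction w using TensorProduct.induction_on with
    | zero => exact ⟨0, 0, by simp⟩
    | add a b ha hb =>
      obtain ⟨za, ya, rfl⟩ := ha
      obtain ⟨zb, yb, rfl⟩ := hb
      refine ⟨za + zb, ya + yb, ?_⟩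
      rw [map_add, map_add, TensorProduct.tmul_add]
      abel
    | tmul r' y =>
      obtain ⟨n, m, hm⟩ := exists_mem_glue_snd hβ2 y
      obtain ⟨r, s', hrs⟩ := exists_approx hq n r'
      refine ⟨s' ⊗ₜ[R] m, r • y, ?_⟩
      rw [beta_gluePsi, LinearMap.lTensor_tmul, hm, hrs, TensorProduct.add_tmul,
        TensorProduct.tmul_smul, TensorProduct.tmul_smul, ← map_pow, mul_comm,
        ← algebraMap_smul R' (f ^ n) (s' ⊗ₜ[R] y), TensorProduct.smul_tmul', smul_eq_mul,
        ← algebraMap_smul R' r ((1 : R') ⊗ₜ[R] y), TensorProduct.smul_tmul', smul_eq_mul, mul_one,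
        mul_comm s']
      abel
  intro x'
  obtain ⟨z, y, hzy⟩ := key (β x')
  have hmem : (x' - gluePsi M' M₁ β z, y) ∈ glueModule M' M₁ β := by
    rw [mem_glueModule]
    simp only
    rw [map_sub, hzy]
    abel
  refine ⟨z + (1 : R') ⊗ₜ[R] (⟨_, hmem⟩ : glueModule M' M₁ β), ?_⟩
  rw [map_add, gluePsi_tmul, one_smul]
  change gluePsi M' M₁ β z + (x' - gluePsi M' M₁ β z) = x'
  abel

include hf hβ1 hβ2 in
theorem gluePsi_injective (hRR : EtGlue.IsGlueingPair R R' f) :
    Function.Injective (gluePsi M' M₁ β) := by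
  rw [injective_iff_map_eq_zero]
  intro z hz
  have h1 : LinearMap.lTensor R' (glueSnd M' M₁ β) z = 0 := by
    rw [← beta_gluePsi, hz, map_zero]
  -- `z` is `f`-power torsion
  have := isLocalizedModule_glueSnd hf hβ1 hβ2
  have h2 : LinearMap.rTensor R' (glueSnd M' M₁ β) (TensorProduct.comm R _ _ z) = 0 := by
    have : ∀ z : R' ⊗[R] glueModule M' M₁ β,
        LinearMap.rTensor R' (glueSnd M' M₁ β) (TensorProduct.comm R _ _ z) =
        TensorProduct.comm R _ _ (LinearMap.lTensor R' (glueSnd M' M₁ β) z) := by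
      intro z
      induction z using TensorProduct.induction_on with
      | zero => simp
      | add a b ha hb => simp only [map_add, ha, hb]
      | tmul r' m => simp
    rw [this, h1, map_zero]
  have h3 : ∃ n : ℕ, f ^ n • z = 0 := by
    have hloc : IsLocalizedModule (Submonoid.powers f)
        (TensorProduct.AlgebraTensorModule.rTensor R R' (glueSnd M' M₁ β)) := inferInstance
    have := (IsLocalizedModule.eq_zero_iff (Submonoid.powers f)
      (TensorProduct.AlgebraTensorModule.rTensor R R' (glueSnd M' M₁ β))).mp h2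
    obtain ⟨⟨_, n, rfl⟩, hn⟩ := this
    refine ⟨n, ?_⟩
    apply (TensorProduct.comm R R' (glueModule M' M₁ β)).injective
    rw [map_smul, map_zero]
    exact hn
  obtain ⟨k, ⟨n, hk⟩, rfl⟩ := torsion_surjective_of_isGlueingPair _ hRR z h3
  rw [gluePsi_tmul, one_smul] at hz
  have hk2 : glueSnd M' M₁ β k = 0 := by
    apply eq_zero_of_pow_smul_eq_zero hf _ n
    rw [← map_smul, hk, map_zero]
  have : k = 0 := by
    apply Subtype.ext
    exact Prod.ext hz hk2
  rw [this, TensorProduct.tmul_zero]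

end Glue

end Groth.Agent.Lib.Helper10.BL
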