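import Mathlib
import Groth.Prelude.Def_EtGlue
import Groth.Agent.Lib.Helper10.BLGlue

/-!
# Beauville–Laszlo: glueing of algebras (helper10)

Algebra version of `BLGlue.lean`: for a glueing pair `(R → R', f)`, an `R'`-algebra `A'`, an `R`-algebra `A₁`
in which `f` is invertible and an `R'`-algebra map `β : A' → R' ⊗ A₁` with `f`-power torsion kernel and
cokernel, the equalizer `A = {(a', a₁) | β a' = 1 ⊗ a₁}` is an `R`-algebra, glueable as a module, with
`R' ⊗ A ≅ A'` and `A_f ≅ A₁`.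
-/

namespace Groth.Agent.Lib.Helper10.BL

open TensorProduct

universe u

section GlueAlg

variable {R R' : Type u} [CommRing R] [CommRing R'] [Algebra R R'] {f : R}
variable (A' : Type u) [CommRing A'] [Algebra R A'] [Algebra R' A'] [IsScalarTower R R' A']
variable (A₁ : Type u) [CommRing A₁] [Algebra R A₁]
variable (β : A' →ₐ[R'] R' ⊗[R] A₁)

/-- the glued algebra -/
noncomputable def glueAlg : Subalgebra R (A' × A₁) :=
  AlgHom.equalizer ((β.restrictScalars R).comp (AlgHom.fst R A' A₁))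
    ((Algebra.TensorProduct.includeRight : A₁ →ₐ[R] R' ⊗[R] A₁).comp (AlgHom.snd R A' A₁))

variable {A' A₁ β}

theorem mem_glueAlg {p : A' × A₁} : p ∈ glueAlg A' A₁ β ↔ β p.1 = (1 : R') ⊗ₜ[R] p.2 := Iff.rfl

variable (A' A₁ β)

/-- the linear identification with `glueModule` -/
noncomputable def glueAlgEquiv : glueAlg A' A₁ β ≃ₗ[R] glueModule A' A₁ β.toLinearMap where
  toFun a := ⟨a.1, mem_glueModule.mpr (mem_glueAlg.mp a.2)⟩
  invFun m := ⟨m.1, mem_glueAlg.mpr (mem_glueModule.mp m.2)⟩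
  map_add' _ _ := rfl
  map_smul' _ _ := rfl
  left_inv _ := rfl
  right_inv _ := rfl

/-- first projection -/
noncomputable def glueAlgFst : glueAlg A' A₁ β →ₐ[R] A' :=
  (AlgHom.fst R A' A₁).comp (glueAlg A' A₁ β).val

/-- second projection -/
noncomputable def glueAlgSnd : glueAlg A' A₁ β →ₐ[R] A₁ :=
  (AlgHom.snd R A' A₁).comp (glueAlg A' A₁ β).val

variable {A' A₁ β}

theorem beta_glueAlgFst (a : glueAlg A' A₁ β) :
    β (glueAlgFst A' A₁ β a) = (1 : R') ⊗ₜ[R] (glueAlgSnd A' A₁ β a) := mem_glueAlg.mp a.2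

theorem glueFst_glueAlgEquiv (a : glueAlg A' A₁ β) :
    glueFst A' A₁ β.toLinearMap (glueAlgEquiv A' A₁ β a) = glueAlgFst A' A₁ β a := rfl

theorem glueSnd_glueAlgEquiv (a : glueAlg A' A₁ β) :
    glueSnd A' A₁ β.toLinearMap (glueAlgEquiv A' A₁ β a) = glueAlgSnd A' A₁ β a := rfl

variable (A' A₁ β) in
/-- the comparison algebra map `R' ⊗ A → A'` -/
noncomputable def glueAlgPsi : R' ⊗[R] glueAlg A' A₁ β →ₐ[R'] A' :=
  Algebra.TensorProduct.lift (Algebra.ofId R' A') (glueAlgFst A' A₁ β) (fun _ _ => Commute.all _ _)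

theorem glueAlgPsi_tmul (r' : R') (a : glueAlg A' A₁ β) :
    glueAlgPsi A' A₁ β (r' ⊗ₜ[R] a) = r' • glueAlgFst A' A₁ β a := by
  simp [glueAlgPsi, Algebra.ofId_apply, Algebra.smul_def]

theorem glueAlgPsi_eq (z : R' ⊗[R] glueAlg A' A₁ β) :
    glueAlgPsi A' A₁ β z =
      gluePsi A' A₁ β.toLinearMap ((glueAlgEquiv A' A₁ β).toLinearMap.lTensor R' z) := by
  induction z using TensorProduct.induction_on with
  | zero => simp
  | add a b ha hb => rw [map_add, map_add, map_add, ha, hb]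
  | tmul r' a =>
    rw [glueAlgPsi_tmul, LinearMap.lTensor_tmul, gluePsi_tmul]
    rfl

variable (hu : IsUnit (algebraMap R A₁ f))
  (hβ1 : ∀ x' : A', β x' = 0 → ∃ n : ℕ, (algebraMap R R' f) ^ n • x' = 0)
  (hβ2 : ∀ w : R' ⊗[R] A₁, ∃ (n : ℕ) (x' : A'), β x' = (algebraMap R R' f) ^ n • w)

include hu in
theorem bijective_smul_of_isUnit : Function.Bijective fun x : A₁ => f • x := by
  obtain ⟨u, hu'⟩ := hu
  constructor
  · intro a b hab
    simp only [Algebra.smul_def, ← hu'] at hab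
    exact u.isUnit.mul_left_cancel hab
  · intro b
    refine ⟨↑u⁻¹ * b, ?_⟩
    simp only [Algebra.smul_def, ← hu']
    rw [← mul_assoc, Units.mul_inv, one_mul]

include hu hβ1 hβ2 in
theorem glueAlgPsi_bijective (hRR : EtGlue.IsGlueingPair R R' f) :
    Function.Bijective (glueAlgPsi A' A₁ β) := by
  have hf := bijective_smul_of_isUnit hu
  have h1 : Function.Bijective ((glueAlgEquiv A' A₁ β).toLinearMap.lTensor R') :=
    (LinearEquiv.lTensor R' (glueAlgEquiv A' A₁ β)).bijective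
  have h2 : Function.Bijective (gluePsi A' A₁ β.toLinearMap) :=
    ⟨gluePsi_injective hf hβ1 hβ2 hRR, gluePsi_surjective hβ2 hRR.1⟩
  have : ⇑(glueAlgPsi A' A₁ β) =
      ⇑(gluePsi A' A₁ β.toLinearMap) ∘ ⇑((glueAlgEquiv A' A₁ β).toLinearMap.lTensor R') := by
    funext z
    exact glueAlgPsi_eq z
  rw [this]
  exact h2.comp h1

include hu in
theorem glueAlg_isGlueable (hRR : EtGlue.IsGlueingPair R R' f) :
    EtGlue.IsGlueable R R' f (glueAlg A' A₁ β) := by
  have hf := bijective_smul_of_isUnit hu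
  rw [isGlueable_iff_of_isGlueingPair _ hRR]
  rintro a ⟨n, hn⟩ ha
  have h1 : glueAlgFst A' A₁ β a = 0 := by
    have := congrArg (glueAlgPsi A' A₁ β) ha
    rwa [glueAlgPsi_tmul, one_smul, map_zero] at this
  have h2 : glueAlgSnd A' A₁ β a = 0 := by
    apply eq_zero_of_pow_smul_eq_zero (R := R) (f := f) (M₁ := A₁) hf _ n
    rw [← map_smul, hn, map_zero]
  apply Subtype.ext
  exact Prod.ext h1 h2

include hu hβ1 hβ2 in
/-- `A → A₁` is the localization of `A` at `f`. -/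
theorem glueAlg_isLocalization :
    letI : Algebra (glueAlg A' A₁ β) A₁ := (glueAlgSnd A' A₁ β).toRingHom.toAlgebra
    IsLocalization (Submonoid.powers (algebraMap R (glueAlg A' A₁ β) f)) A₁ := by
  let _ : Algebra (glueAlg A' A₁ β) A₁ := (glueAlgSnd A' A₁ β).toRingHom.toAlgebra
  have hf := bijective_smul_of_isUnit hu
  have halg : ∀ a : glueAlg A' A₁ β, algebraMap (glueAlg A' A₁ β) A₁ a = glueAlgSnd A' A₁ β a :=
    fun _ => rfl
  have hfA : ∀ n : ℕ, glueAlgSnd A' A₁ β ((algebraMap R (glueAlg A' A₁ β) f) ^ n) =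
      (algebraMap R A₁ f) ^ n := by
    intro n
    rw [map_pow, AlgHom.commutes]
  rw [isLocalization_iff]
  refine ⟨?_, ?_, ?_⟩
  · rintro ⟨_, n, rfl⟩
    rw [halg, hfA]
    exact hu.pow n
  · intro y
    obtain ⟨n, m, hm⟩ := exists_mem_glue_snd (β := β.toLinearMap) hβ2 y
    refine ⟨((glueAlgEquiv A' A₁ β).symm m, ⟨_, n, rfl⟩), ?_⟩
    simp only [halg]
    rw [hfA]
    have : glueAlgSnd A' A₁ β ((glueAlgEquiv A' A₁ β).symm m) = glueSnd A' A₁ β.toLinearMap m := by
      rw [← glueSnd_glueAlgEquiv, LinearEquiv.apply_symm_apply]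
    rw [this, hm, Algebra.smul_def, map_pow, mul_comm]
  · intro a b hab
    rw [halg, halg] at hab
    have h0 : glueAlgSnd A' A₁ β (a - b) = 0 := by rw [map_sub, hab, sub_self]
    have h1 : β (glueAlgFst A' A₁ β (a - b)) = 0 := by
      rw [beta_glueAlgFst, h0, TensorProduct.tmul_zero]
    obtain ⟨n, hn⟩ := hβ1 _ h1
    refine ⟨⟨_, n, rfl⟩, ?_⟩
    simp only
    rw [← sub_eq_zero, ← mul_sub]
    apply Subtype.ext
    apply Prod.ext
    · change glueAlgFst A' A₁ β ((algebraMap R (glueAlg A' A₁ β) f) ^ n * (a - b)) = 0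
      rw [map_mul, map_pow, AlgHom.commutes, ← hn, Algebra.smul_def, map_pow,
        IsScalarTower.algebraMap_apply R R' A']
    · change glueAlgSnd A' A₁ β ((algebraMap R (glueAlg A' A₁ β) f) ^ n * (a - b)) = 0
      rw [map_mul, h0, mul_zero]

end GlueAlg

end Groth.Agent.Lib.Helper10.BL
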