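import Mathlib

/-!
# Dense extensions of valuation rings and integral closures (helper10)
-/

set_option linter.style.haveILetI false
set_option linter.unusedSectionVars false

universe u

open TensorProduct

namespace Groth.Agent.Lib.Helper10.DenseVal

section

variable {A K L A' K' : Type u} [CommRing A] [IsDomain A] [ValuationRing A] [Field K] [Algebra A K]
  [IsFractionRing A K] [Field L] [Algebra K L] [Algebra A L] [IsScalarTower A K L]
  [CommRing A'] [IsDomain A'] [ValuationRing A'] [Field K'] [Algebra A' K'] [IsFractionRing A' K']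
  [Algebra A A'] [IsLocalHom (algebraMap A A')]
  [Algebra K K'] [Algebra A K'] [IsScalarTower A A' K'] [IsScalarTower A K K']

omit [IsDomain A] [ValuationRing A] [IsFractionRing A K] [IsLocalHom (algebraMap A A')] in
/-- `K' = K + A'` when `A` is dense in `A'`. -/
theorem exists_approx (hdense : ∀ a' b' : A', b' ≠ 0 → ∃ a : A, b' ∣ a' - algebraMap A A' a)
    (x' : K') : ∃ (y : K) (a' : A'), x' = algebraMap K K' y + algebraMap A' K' a' := by
  have hinjA' : Function.Injective (algebraMap A' K') := IsFractionRing.injective A' K'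
  by_cases hx : ∃ a' : A', algebraMap A' K' a' = x'
  · obtain ⟨a', rfl⟩ := hx
    exact ⟨0, a', by rw [map_zero, zero_add]⟩
  · -- `x'⁻¹` lies in the maximal ideal
    have hx0 : x' ≠ 0 := fun h => hx ⟨0, by rw [map_zero, h]⟩
    obtain ⟨s', hs'⟩ : ∃ s' : A', algebraMap A' K' s' = x'⁻¹ := by
      rcases ValuationRing.isInteger_or_isInteger A' x' with h | h
      · exact absurd h hx
      · exact h
    have hs'0 : s' ≠ 0 := by
      intro h
      rw [h, map_zero] at hs'
      exact inv_ne_zero hx0 hs'.symm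
    have hs'nu : ¬ IsUnit s' := by
      intro hu
      obtain ⟨u, rfl⟩ := hu
      apply hx
      refine ⟨((u⁻¹ : A'ˣ) : A'), ?_⟩
      have h1 : algebraMap A' K' ((u⁻¹ : A'ˣ) : A') * algebraMap A' K' (u : A') = 1 := by
        rw [← map_mul, Units.inv_mul, map_one]
      rw [hs'] at h1
      exact (eq_inv_of_mul_eq_one_left h1).trans (inv_inv x')
    obtain ⟨s, t, ht⟩ := hdense s' (s' * s') (mul_ne_zero hs'0 hs'0)
    -- `s = s' (1 - s' t)`
    have hs : algebraMap A A' s = s' * (1 - s' * t) := by
      have : algebraMap A A' s = s' - s' * s' * t := by rw [← ht]; ring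
      rw [this]; ring
    have hunit : IsUnit (1 - s' * t) := by
      have hm : s' * t ∈ IsLocalRing.maximalIdeal A' :=
        Ideal.mul_mem_right _ _ ((IsLocalRing.mem_maximalIdeal _).mpr hs'nu)
      have := IsLocalRing.isUnit_one_sub_self_of_mem_nonunits _ hm
      exact this
    obtain ⟨w, hw⟩ := hunit
    have hw0 : algebraMap A' K' (w : A') ≠ 0 := by
      intro h
      exact w.ne_zero (hinjA' (by rw [h, map_zero]))
    have hsK : algebraMap K K' (algebraMap A K s) =
        algebraMap A' K' s' * algebraMap A' K' (w : A') := by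
      rw [← IsScalarTower.algebraMap_apply A K K', IsScalarTower.algebraMap_apply A A' K', hs,
        map_mul, hw]
    have hs0 : algebraMap A K s ≠ 0 := by
      intro h
      rw [h, map_zero] at hsK
      have h1 : algebraMap A' K' s' ≠ 0 := by rw [hs']; exact inv_ne_zero hx0
      exact mul_ne_zero h1 hw0 hsK.symm
    refine ⟨(algebraMap A K s)⁻¹, -(t * ((w⁻¹ : A'ˣ) : A')), ?_⟩
    have hwinv : algebraMap A' K' ((w⁻¹ : A'ˣ) : A') = (algebraMap A' K' (w : A'))⁻¹ := by
      have h1 : algebraMap A' K' ((w⁻¹ : A'ˣ) : A') * algebraMap A' K' (w : A') = 1 := by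
        rw [← map_mul, Units.inv_mul, map_one]
      exact eq_inv_of_mul_eq_one_left h1
    have hwK : algebraMap A' K' (w : A') = 1 - algebraMap A' K' s' * algebraMap A' K' t := by
      rw [hw, map_sub, map_one, map_mul]
    rw [map_inv₀, hsK, map_neg, map_mul, hwinv, hs']
    have hne : (1 : K') - x'⁻¹ * algebraMap A' K' t ≠ 0 := by
      rw [← hs', ← hwK]; exact hw0
    rw [hwK, hs']
    have hne2 : x' - algebraMap A' K' t ≠ 0 := by
      have : x' - algebraMap A' K' t = x' * (1 - x'⁻¹ * algebraMap A' K' t) := by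
        field_simp
      rw [this]
      exact mul_ne_zero hx0 hne
    field_simp
    ring

omit [IsDomain A'] [ValuationRing A'] [Algebra A L] [Field L] in
/-- `K ∩ A' = A` when `A'` dominates `A`. -/
theorem mem_of_eq (y : K) (a' : A') (h : algebraMap K K' y = algebraMap A' K' a') :
    ∃ a : A, algebraMap A K a = y := by
  rcases ValuationRing.isInteger_or_isInteger A y with ⟨a, ha⟩ | ⟨a, ha⟩
  · exact ⟨a, ha⟩
  · by_cases hy : y = 0
    · exact ⟨0, by rw [map_zero, hy]⟩
    have h1 : algebraMap A' K' (a' * algebraMap A A' a) = 1 := by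
      rw [map_mul, ← h, ← IsScalarTower.algebraMap_apply A A' K',
        IsScalarTower.algebraMap_apply A K K', ha, ← map_mul, mul_inv_cancel₀ hy, map_one]
    have h2 : a' * algebraMap A A' a = 1 :=
      IsFractionRing.injective A' K' (by rw [h1, map_one])
    have hu : IsUnit (algebraMap A A' a) := IsUnit.of_mul_eq_one a' ((mul_comm _ _).trans h2)
    have hua : IsUnit a := isUnit_of_map_unit (algebraMap A A') a hu
    obtain ⟨u, rfl⟩ := hua
    refine ⟨((u⁻¹ : Aˣ) : A), ?_⟩
    have h3 : algebraMap A K ((u⁻¹ : Aˣ) : A) * algebraMap A K (u : A) = 1 := by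
      rw [← map_mul, Units.inv_mul, map_one]
    rw [ha] at h3
    exact (eq_inv_of_mul_eq_one_left h3).trans (inv_inv y)

/-- If `1 ⊗ l` is a root of a monic polynomial over `A'`, then `l` is integral over `A`. -/
theorem isIntegral_of_tmul [Algebra.IsAlgebraic K L] (l : L) (q : Polynomial A') (hq : q.Monic)
    (h : Polynomial.eval₂ ((Algebra.TensorProduct.includeLeft : K' →ₐ[K] K' ⊗[K] L).toRingHom.comp
      (algebraMap A' K')) ((1 : K') ⊗ₜ[K] l) q = 0) : IsIntegral A l := by
  have hl : IsIntegral K l := Algebra.IsIntegral.isIntegral l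
  -- roots of the minimal polynomial in the algebraic closure are integral over `A'`
  have hroots : ∀ ρ : AlgebraicClosure K', Polynomial.aeval ρ (minpoly K l) = 0 →
      IsIntegral A' ρ := by
    intro ρ hρ
    obtain ⟨σ, hσ⟩ := IntermediateField.exists_algHom_of_splits_of_aeval (F := K) (E := L)
      (K := AlgebraicClosure K')
      (fun s => ⟨Algebra.IsIntegral.isIntegral s, IsAlgClosed.splits _⟩) hρ
    let Θ : K' ⊗[K] L →ₐ[K'] AlgebraicClosure K' :=
      Algebra.TensorProduct.lift (Algebra.ofId K' (AlgebraicClosure K')) σ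
        (fun _ _ => Commute.all _ _)
    refine ⟨q, hq, ?_⟩
    have h1 := congrArg (Θ : K' ⊗[K] L →+* AlgebraicClosure K') h
    rw [map_zero, Polynomial.hom_eval₂] at h1
    have h2 : (Θ : K' ⊗[K] L →+* AlgebraicClosure K').comp
        ((Algebra.TensorProduct.includeLeft : K' →ₐ[K] K' ⊗[K] L).toRingHom.comp
          (algebraMap A' K')) = algebraMap A' (AlgebraicClosure K') := by
      ext a'
      show Θ (algebraMap A' K' a' ⊗ₜ[K] (1 : L)) = _
      rw [Algebra.TensorProduct.lift_tmul, map_one, mul_one]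
      exact (IsScalarTower.algebraMap_apply A' K' (AlgebraicClosure K') a').symm
    have h3 : (Θ : K' ⊗[K] L →+* AlgebraicClosure K') ((1 : K') ⊗ₜ[K] l) = ρ := by
      show Θ ((1 : K') ⊗ₜ[K] l) = ρ
      rw [Algebra.TensorProduct.lift_tmul, map_one, one_mul]
      exact hσ
    rw [h2, h3] at h1
    exact h1
  -- coefficients
  have hcoeff : ∀ i : ℕ, ∃ a : A, algebraMap A K a = (minpoly K l).coeff i := by
    intro i
    have h1 : IsIntegral A' (((minpoly K l).map (algebraMap K (AlgebraicClosure K'))).coeff i) := by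
      refine Polynomial.isIntegral_coeff_of_factors _ ?_ (IsAlgClosed.splits _) ?_ i
      · rw [((minpoly.monic hl).map _).leadingCoeff]
        exact isIntegral_one
      · intro x hx
        apply hroots
        rw [Polynomial.IsRoot, Polynomial.eval_map] at hx
        exact hx
    rw [Polynomial.coeff_map, IsScalarTower.algebraMap_apply K K' (AlgebraicClosure K'),
      isIntegral_algebraMap_iff (FaithfulSMul.algebraMap_injective K' (AlgebraicClosure K'))] at h1
    obtain ⟨a', ha'⟩ := (IsIntegrallyClosed.isIntegral_iff (R := A') (K := K')).mp h1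
    exact mem_of_eq (A := A) _ a' ha'.symm
  have hlifts : minpoly K l ∈ Polynomial.lifts (algebraMap A K) := by
    rw [Polynomial.lifts_iff_coeff_lifts]
    intro i
    exact hcoeff i
  obtain ⟨μ, hμ1, -, hμ3⟩ := Polynomial.lifts_and_natDegree_eq_and_monic hlifts (minpoly.monic hl)
  refine ⟨μ, hμ3, ?_⟩
  rw [IsScalarTower.algebraMap_eq A K L, ← Polynomial.eval₂_map, hμ1]
  exact minpoly.aeval K l

/-- Every element of `K' ⊗ L` is `1 ⊗ l + Σ a'ᵢ ⊗ kᵢ` with the `kᵢ` integral over `A`. -/
theorem exists_decomp [Algebra.IsAlgebraic K L]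
    (hdense : ∀ a' b' : A', b' ≠ 0 → ∃ a : A, b' ∣ a' - algebraMap A A' a) (y : K' ⊗[K] L) :
    ∃ (l : L) (n : ℕ) (a : Fin n → A') (k : Fin n → L), (∀ i, IsIntegral A (k i)) ∧
      y = (1 : K') ⊗ₜ[K] l + ∑ i, algebraMap A' K' (a i) ⊗ₜ[K] k i := by
  haveI : Algebra.IsAlgebraic A K := IsLocalization.isAlgebraic K (nonZeroDivisors A)
  haveI : Algebra.IsAlgebraic A L := Algebra.IsAlgebraic.trans A K L
  induction y using TensorProduct.induction_on with
  | zero =>
    refine ⟨0, 0, Fin.elim0, Fin.elim0, fun i => i.elim0, ?_⟩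
    simp
  | tmul x' l₀ =>
    obtain ⟨d, hd0, hint⟩ := IsAlgebraic.exists_integral_multiple (Algebra.IsAlgebraic.isAlgebraic (R := A) l₀)
    have hδ : algebraMap A K d ≠ 0 := by
      intro h
      exact hd0 (IsFractionRing.injective A K (by rw [h, map_zero]))
    obtain ⟨y, a', hya⟩ := exists_approx (A := A) (K := K) hdense ((algebraMap A K d)⁻¹ • x')
    refine ⟨y • (d • l₀), 1, fun _ => a', fun _ => d • l₀, fun _ => hint, ?_⟩
    have h1 : x' ⊗ₜ[K] l₀ = ((algebraMap A K d)⁻¹ • x') ⊗ₜ[K] (d • l₀) := by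
      rw [TensorProduct.smul_tmul, ← algebraMap_smul K d l₀, smul_smul, inv_mul_cancel₀ hδ,
        one_smul]
    rw [h1, hya, TensorProduct.add_tmul, Fin.sum_univ_one, Algebra.algebraMap_eq_smul_one y,
      TensorProduct.smul_tmul]
  | add y₁ y₂ ih₁ ih₂ =>
    obtain ⟨l₁, n₁, a₁, k₁, h₁, e₁⟩ := ih₁
    obtain ⟨l₂, n₂, a₂, k₂, h₂, e₂⟩ := ih₂
    refine ⟨l₁ + l₂, n₁ + n₂, Fin.append a₁ a₂, Fin.append k₁ k₂, ?_, ?_⟩
    · intro i
      refine Fin.addCases (motive := fun i => IsIntegral A (Fin.append k₁ k₂ i)) ?_ ?_ i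
      · intro j; rw [Fin.append_left]; exact h₁ j
      · intro j; rw [Fin.append_right]; exact h₂ j
    · rw [Fin.sum_univ_add]
      simp only [Fin.append_left, Fin.append_right]
      rw [e₁, e₂, TensorProduct.tmul_add]
      abel

end

end Groth.Agent.Lib.Helper10.DenseVal
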