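import Mathlib

/-!
# Transport of Ext along isomorphisms (helper10)
-/

open CategoryTheory Abelian

namespace Groth.Agent.Lib.Helper10.ExtCongr

universe w v u

variable {C : Type u} [Category.{v} C] [Abelian C] [HasExt.{w} C]

/-- `Ext^n(X, Y) ≃+ Ext^n(X', Y')` for `X ≅ X'`, `Y ≅ Y'` -/
noncomputable def extCongr {X X' Y Y' : C} (iX : X ≅ X') (iY : Y ≅ Y') (n : ℕ) :
    Ext.{w} X Y n ≃+ Ext.{w} X' Y' n where
  toFun e := (Ext.mk₀ iX.inv).comp (e.comp (Ext.mk₀ iY.hom) (add_zero n)) (zero_add n)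
  invFun e := (Ext.mk₀ iX.hom).comp (e.comp (Ext.mk₀ iY.inv) (add_zero n)) (zero_add n)
  left_inv e := by
    simp only
    rw [Ext.comp_assoc_of_third_deg_zero, Ext.comp_assoc_of_third_deg_zero, Ext.mk₀_comp_mk₀,
      iY.hom_inv_id, Ext.comp_mk₀_id, Ext.mk₀_comp_mk₀_assoc, iX.hom_inv_id, Ext.mk₀_id_comp]
  right_inv e := by
    simp only
    rw [Ext.comp_assoc_of_third_deg_zero, Ext.comp_assoc_of_third_deg_zero, Ext.mk₀_comp_mk₀,
      iY.inv_hom_id, Ext.comp_mk₀_id, Ext.mk₀_comp_mk₀_assoc, iX.inv_hom_id, Ext.mk₀_id_comp]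
  map_add' a b := by
    rw [Ext.add_comp, Ext.comp_add]

end Groth.Agent.Lib.Helper10.ExtCongr
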