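import Mathlib

/-!
# Two-out-of-three for postcomposition on Ext (helper10)

For a morphism of short exact sequences `φ : S ⟶ S'` and an object `X`, if postcomposition with
two of `φ.τ₁, φ.τ₂, φ.τ₃` is bijective on `Ext^n(X, -)` for all `n`, then so is the third
(we prove the two cases we need).
-/

open CategoryTheory Abelian Limits

namespace Groth.Agent.Lib.Helper10.ExtFive

universe w v u

variable {C : Type u} [Category.{v} C] [Abelian C] [HasExt.{w} C]

/-- postcomposition with `g` is bijective on `Ext^n(X,-)` for all `n` -/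
def PostBij (X : C) {Y Y' : C} (g : Y ⟶ Y') : Prop :=
  ∀ n : ℕ, Function.Bijective ((Ext.mk₀ g).postcomp X (add_zero n))

variable (X : C) {S : ShortComplex C} (hS : S.ShortExact)

include hS in
lemma exact₂ (n : ℕ) : Function.Exact ((Ext.mk₀ S.f).postcomp X (add_zero n))
    ((Ext.mk₀ S.g).postcomp X (add_zero n)) := by
  intro y
  constructor
  · intro hy
    obtain ⟨x, hx⟩ := Ext.covariant_sequence_exact₂ X hS y hy
    exact ⟨x, hx⟩
  · rintro ⟨x, rfl⟩
    show (x.comp (Ext.mk₀ S.f) (add_zero n)).comp (Ext.mk₀ S.g) (add_zero n) = 0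
    rw [Ext.comp_assoc_of_third_deg_zero, Ext.mk₀_comp_mk₀, S.zero, Ext.mk₀_zero, Ext.comp_zero]

lemma exact₃ (n : ℕ) : Function.Exact ((Ext.mk₀ S.g).postcomp X (add_zero n))
    (hS.extClass.postcomp X (rfl : n + 1 = n + 1)) := by
  intro y
  constructor
  · intro hy
    obtain ⟨x, hx⟩ := Ext.covariant_sequence_exact₃ X hS y rfl hy
    exact ⟨x, hx⟩
  · rintro ⟨x, rfl⟩
    show (x.comp (Ext.mk₀ S.g) (add_zero n)).comp hS.extClass rfl = 0
    rw [Ext.comp_assoc_of_second_deg_zero, hS.comp_extClass, Ext.comp_zero]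

lemma exact₁ (n : ℕ) : Function.Exact (hS.extClass.postcomp X (rfl : n + 1 = n + 1))
    ((Ext.mk₀ S.f).postcomp X (add_zero (n + 1))) := by
  intro y
  constructor
  · intro hy
    obtain ⟨x, hx⟩ := Ext.covariant_sequence_exact₁ X hS y hy rfl
    exact ⟨x, hx⟩
  · rintro ⟨x, rfl⟩
    show (x.comp hS.extClass rfl).comp (Ext.mk₀ S.f) (add_zero (n + 1)) = 0
    rw [Ext.comp_assoc_of_third_deg_zero, hS.extClass_comp, Ext.comp_zero]

variable {S' : ShortComplex C} (hS' : S'.ShortExact) (φ : S ⟶ S')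

lemma comm_f (n : ℕ) : ((Ext.mk₀ S'.f).postcomp X (add_zero n)).comp
      ((Ext.mk₀ φ.τ₁).postcomp X (add_zero n)) =
    ((Ext.mk₀ φ.τ₂).postcomp X (add_zero n)).comp ((Ext.mk₀ S.f).postcomp X (add_zero n)) := by
  ext x
  show (x.comp (Ext.mk₀ φ.τ₁) (add_zero n)).comp (Ext.mk₀ S'.f) (add_zero n) =
    (x.comp (Ext.mk₀ S.f) (add_zero n)).comp (Ext.mk₀ φ.τ₂) (add_zero n)
  rw [Ext.comp_assoc_of_third_deg_zero, Ext.comp_assoc_of_third_deg_zero, Ext.mk₀_comp_mk₀,
    Ext.mk₀_comp_mk₀, φ.comm₁₂]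

lemma comm_g (n : ℕ) : ((Ext.mk₀ S'.g).postcomp X (add_zero n)).comp
      ((Ext.mk₀ φ.τ₂).postcomp X (add_zero n)) =
    ((Ext.mk₀ φ.τ₃).postcomp X (add_zero n)).comp ((Ext.mk₀ S.g).postcomp X (add_zero n)) := by
  ext x
  show (x.comp (Ext.mk₀ φ.τ₂) (add_zero n)).comp (Ext.mk₀ S'.g) (add_zero n) =
    (x.comp (Ext.mk₀ S.g) (add_zero n)).comp (Ext.mk₀ φ.τ₃) (add_zero n)
  rw [Ext.comp_assoc_of_third_deg_zero, Ext.comp_assoc_of_third_deg_zero, Ext.mk₀_comp_mk₀,
    Ext.mk₀_comp_mk₀, φ.comm₂₃]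

lemma comm_δ (n : ℕ) : (hS'.extClass.postcomp X (rfl : n + 1 = n + 1)).comp
      ((Ext.mk₀ φ.τ₃).postcomp X (add_zero n)) =
    ((Ext.mk₀ φ.τ₁).postcomp X (add_zero (n + 1))).comp
      (hS.extClass.postcomp X (rfl : n + 1 = n + 1)) := by
  ext x
  show (x.comp (Ext.mk₀ φ.τ₃) (add_zero n)).comp hS'.extClass rfl =
    (x.comp hS.extClass rfl).comp (Ext.mk₀ φ.τ₁) (add_zero (n + 1))
  rw [Ext.comp_assoc_of_second_deg_zero, Ext.comp_assoc_of_third_deg_zero,
    ShortComplex.ShortExact.extClass_naturality hS hS' φ]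

lemma exact_zero_of_injective {M N P : Type*} [AddCommGroup M] [AddCommGroup N] [AddCommGroup P]
    (f : N →+ P) (hf : Function.Injective f) : Function.Exact (0 : M →+ N) f := by
  intro y
  constructor
  · intro hy
    have : y = 0 := hf (by rw [hy, map_zero])
    exact ⟨0, by simp [this]⟩
  · rintro ⟨x, rfl⟩
    simp

include hS hS' in
/-- `τ₁, τ₃ ⇒ τ₂` -/
theorem postBij_τ₂ (h₁ : PostBij X φ.τ₁) (h₃ : PostBij X φ.τ₃) : PostBij X φ.τ₂ := by
  intro n
  constructor
  · cases n with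
    | zero =>
      exact AddMonoidHom.injective_of_surjective_of_injective_of_injective
        (0 : PUnit.{1} →+ _) _ _ (0 : PUnit.{1} →+ _) _ _ (AddMonoidHom.id _) _ _ _
        (by ext; simp) (comm_f X φ 0) (comm_g X φ 0)
        (exact_zero_of_injective _ (Ext.postcomp_mk₀_injective_of_mono X S.f (hf := hS.mono_f)))
        (exact₂ X hS 0)
        (exact_zero_of_injective _ (Ext.postcomp_mk₀_injective_of_mono X S'.f (hf := hS'.mono_f)))
        (fun x => ⟨x, rfl⟩) (h₁ 0).1 (h₃ 0).1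
    | succ n =>
      exact AddMonoidHom.injective_of_surjective_of_injective_of_injective
        _ _ _ _ _ _ _ _ _ _
        (comm_δ X hS hS' φ n) (comm_f X φ (n + 1)) (comm_g X φ (n + 1))
        (exact₁ X hS n) (exact₂ X hS (n + 1)) (exact₁ X hS' n)
        (h₃ n).2 (h₁ (n + 1)).1 (h₃ (n + 1)).1
  · exact AddMonoidHom.surjective_of_surjective_of_surjective_of_injective
      _ _ _ _ _ _ _ _ _ _
      (comm_f X φ n) (comm_g X φ n) (comm_δ X hS hS' φ n)
      (exact₃ X hS n) (exact₂ X hS' n) (exact₃ X hS' n)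
      (h₁ n).2 (h₃ n).2 (h₁ (n + 1)).1

include hS hS' in
/-- `τ₂, τ₃ ⇒ τ₁` -/
theorem postBij_τ₁ (h₂ : PostBij X φ.τ₂) (h₃ : PostBij X φ.τ₃) : PostBij X φ.τ₁ := by
  intro n
  have hinjf := Ext.postcomp_mk₀_injective_of_mono X S.f (hf := hS.mono_f)
  have hinjf' := Ext.postcomp_mk₀_injective_of_mono X S'.f (hf := hS'.mono_f)
  constructor
  · cases n with
    | zero =>
      exact AddMonoidHom.injective_of_surjective_of_injective_of_injective
        (0 : PUnit.{1} →+ PUnit.{1}) (0 : PUnit.{1} →+ _) _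
        (0 : PUnit.{1} →+ PUnit.{1}) (0 : PUnit.{1} →+ _) _
        (AddMonoidHom.id _) (AddMonoidHom.id _) _ _
        (by ext) (by ext; simp) (comm_f X φ 0)
        (fun y => ⟨fun _ => ⟨0, Subsingleton.elim _ _⟩, fun _ => rfl⟩)
        (exact_zero_of_injective _ hinjf)
        (fun y => ⟨fun _ => ⟨0, Subsingleton.elim _ _⟩, fun _ => rfl⟩)
        (fun x => ⟨x, rfl⟩) (fun _ _ h => h) (h₂ 0).1
    | succ n =>
      exact AddMonoidHom.injective_of_surjective_of_injective_of_injective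
        _ _ _ _ _ _ _ _ _ _
        (comm_g X φ n) (comm_δ X hS hS' φ n) (comm_f X φ (n + 1))
        (exact₃ X hS n) (exact₁ X hS n) (exact₃ X hS' n)
        (h₂ n).2 (h₃ n).1 (h₂ (n + 1)).1
  · cases n with
    | zero =>
      exact AddMonoidHom.surjective_of_surjective_of_surjective_of_injective
        (0 : PUnit.{1} →+ _) _ _ (0 : PUnit.{1} →+ _) _ _ (AddMonoidHom.id _) _ _ _
        (by ext; simp) (comm_f X φ 0) (comm_g X φ 0)
        (exact₂ X hS 0) (exact_zero_of_injective _ hinjf') (exact₂ X hS' 0)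
        (fun x => ⟨x, rfl⟩) (h₂ 0).2 (h₃ 0).1
    | succ n =>
      exact AddMonoidHom.surjective_of_surjective_of_surjective_of_injective
        _ _ _ _ _ _ _ _ _ _
        (comm_δ X hS hS' φ n) (comm_f X φ (n + 1)) (comm_g X φ (n + 1))
        (exact₂ X hS (n + 1)) (exact₁ X hS' n) (exact₂ X hS' (n + 1))
        (h₃ n).2 (h₂ (n + 1)).2 (h₃ (n + 1)).1

end Groth.Agent.Lib.Helper10.ExtFive
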