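import Groth.Agent.Lib.Helper10.ExtFive

/-!
# Bijectivity of `Ext(X, Y) → Ext(X, T Y)` from kernel and cokernel of a map `Y → W` (helper10)
-/

open CategoryTheory Abelian Limits

namespace Groth.Agent.Lib.Helper10.ExtFive

universe w v u

variable {C : Type u} [Category.{v} C] [Abelian C] [HasExt.{w} C]

/-- the morphism of short complexes `S ⟶ T(S)` given by a natural transformation `𝟭 ⟶ T` -/
@[simps]
def unitHom (T : C ⥤ C) [T.PreservesZeroMorphisms] (η : 𝟭 C ⟶ T) (S : ShortComplex C) :
    S ⟶ S.map T where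
  τ₁ := η.app S.X₁
  τ₂ := η.app S.X₂
  τ₃ := η.app S.X₃
  comm₁₂ := (η.naturality S.f).symm
  comm₂₃ := (η.naturality S.g).symm

variable (X : C) (T : C ⥤ C) [T.Additive] [PreservesFiniteLimits T] [PreservesFiniteColimits T]
  (η : 𝟭 C ⟶ T)

lemma postBij_iso {Y Y' : C} (g : Y ⟶ Y') [IsIso g] : PostBij X g := by
  intro n
  constructor
  · intro a b hab
    have h := congrArg (fun e => e.comp (Ext.mk₀ (inv g)) (add_zero n)) hab
    simpa [Ext.comp_assoc_of_third_deg_zero, Ext.mk₀_comp_mk₀] using h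
  · intro y
    refine ⟨y.comp (Ext.mk₀ (inv g)) (add_zero n), ?_⟩
    show (y.comp (Ext.mk₀ (inv g)) (add_zero n)).comp (Ext.mk₀ g) (add_zero n) = y
    simp [Ext.comp_assoc_of_third_deg_zero, Ext.mk₀_comp_mk₀]

lemma postBij_of_subsingleton {Y Y' : C} (g : Y ⟶ Y') (h : ∀ n, ∀ e : Ext.{w} X Y n, e = 0)
    (h' : ∀ n, ∀ e : Ext.{w} X Y' n, e = 0) : PostBij X g := by
  intro n
  constructor
  · intro a b _
    rw [h n a, h n b]
  · intro y
    exact ⟨0, by rw [h' n y, map_zero]⟩

theorem postBij_of_ker_coker {Y W : C} (l : Y ⟶ W)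
    (hk : PostBij X (η.app (kernel l))) (hc : PostBij X (η.app (cokernel l)))
    (hW : PostBij X (η.app W)) : PostBij X (η.app Y) := by
  -- the sequence `0 → im l → W → coker l → 0`
  let S₂ : ShortComplex C := ShortComplex.mk (Abelian.image.ι l) (cokernel.π l) (by simp)
  have hS₂ : S₂.ShortExact :=
    { exact := ShortComplex.exact_of_f_is_kernel _ (kernelIsKernel _)
      mono_f := by dsimp [S₂]; infer_instance
      epi_g := by dsimp [S₂]; infer_instance }
  have him : PostBij X (η.app (Abelian.image l)) :=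
    postBij_τ₁ X hS₂ (hS₂.map_of_exact T) (unitHom T η S₂) hW hc
  -- the sequence `0 → ker l → Y → im l → 0`
  have w : kernel.ι l ≫ Abelian.factorThruImage l = 0 := by
    rw [← cancel_mono (Abelian.image.ι l)]
    simp
  let S₁ : ShortComplex C := ShortComplex.mk (kernel.ι l) (Abelian.factorThruImage l) w
  have hS₁ : S₁.ShortExact :=
    { exact := ShortComplex.exact_of_f_is_kernel _
        (isKernelOfComp (Abelian.image.ι l) l (kernelIsKernel l) w (Abelian.image.fac l))
      mono_f := by dsimp [S₁]; infer_instance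
      epi_g := by dsimp [S₁]; infer_instance }
  exact postBij_τ₂ X hS₁ (hS₁.map_of_exact T) (unitHom T η S₁) hk him

end Groth.Agent.Lib.Helper10.ExtFive
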