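import Groth.Agent.Lib.Helper10.ExtAdj
import Groth.Agent.Lib.Helper10.ExtKerCoker
import Groth.Agent.Lib.Helper12.FlatExtendScalars

/-!
# Ext out of a power torsion module (helper10)
-/

set_option autoImplicit false

open CategoryTheory Abelian Limits TensorProduct

namespace Groth.Agent.Lib.Helper10.ExtTorsion

open Groth.Agent.Lib.Helper10.ExtFive Groth.Agent.Lib.Helper12

universe u

variable {A : Type u} [CommRing A]

/-- extension of scalars to `A_a` kills `a`-power torsion modules -/
lemma isZero_extSc_away (M : ModuleCat.{u} A) (a : A) (hM : ∀ m : M, ∃ k : ℕ, a ^ k • m = 0) :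
    IsZero ((extSc A (Localization.Away a)).obj M) := by
  have h1 : IsLocalizedModule (Submonoid.powers a)
      (TensorProduct.mk A (Localization.Away a) M 1) :=
    (isLocalizedModule_iff_isBaseChange (S := Submonoid.powers a)
      (A := Localization.Away a) _).mpr (TensorProduct.isBaseChange A M (Localization.Away a))
  have h2 : Subsingleton (Localization.Away a ⊗[A] M) := by
    rw [IsLocalizedModule.subsingleton_iff (Submonoid.powers a)
      (TensorProduct.mk A (Localization.Away a) M 1)]
    intro m
    obtain ⟨k, hk⟩ := hM m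
    exact ⟨a ^ k, ⟨k, rfl⟩, hk⟩
  have h3 : IsZero (ModuleCat.of (Localization.Away a) (Localization.Away a ⊗[A] M)) :=
    ModuleCat.isZero_of_subsingleton _
  exact h3.of_iso (extScObjIso (A := A) (B := Localization.Away a) M)

/-- a module on which `a` acts bijectively is the restriction of scalars of an `A_a`-module -/
lemma exists_iso_restrictScalars_away (V : ModuleCat.{u} A) (a : A)
    (hV : Function.Bijective (fun v : V => a • v)) :
    ∃ Z : ModuleCat.{u} (Localization.Away a),
      Nonempty (V ≅ (ModuleCat.restrictScalars (algebraMap A (Localization.Away a))).obj Z) := by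
  have hloc : IsLocalizedModule (Submonoid.powers a) (LinearMap.id : V →ₗ[A] V) :=
    { map_units := by
        rintro ⟨_, k, rfl⟩
        rw [Module.End.isUnit_iff]
        show Function.Bijective (fun v : V => a ^ k • v)
        induction k with
        | zero =>
          have : (fun v : V => a ^ 0 • v) = id := by funext v; simp
          rw [this]; exact Function.bijective_id
        | succ k ih =>
          have : (fun v : V => a ^ (k + 1) • v) = (fun v : V => a ^ k • v) ∘ (fun v : V => a • v) := by
            funext v
            simp [pow_succ, mul_smul]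
          rw [this]
          exact ih.comp hV
      surj := fun y => ⟨(y, 1), one_smul _ _⟩
      exists_of_eq := fun h => ⟨1, congrArg _ h⟩ }
  let e : LocalizedModule (Submonoid.powers a) V ≃ₗ[A] V :=
    IsLocalizedModule.iso (Submonoid.powers a) (LinearMap.id : V →ₗ[A] V)
  refine ⟨ModuleCat.of (Localization.Away a) (LocalizedModule (Submonoid.powers a) V), ⟨?_⟩⟩
  let e' : V ≃ₗ[A] ((ModuleCat.restrictScalars (algebraMap A (Localization.Away a))).obj
      (ModuleCat.of (Localization.Away a) (LocalizedModule (Submonoid.powers a) V))) :=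
    { toFun := fun v => e.symm v
      invFun := fun x => e x
      left_inv := fun v => e.apply_symm_apply v
      right_inv := fun x => e.symm_apply_apply x
      map_add' := fun x y => e.symm.map_add x y
      map_smul' := fun r v => by
        show e.symm (r • v) = algebraMap A (Localization.Away a) r • (e.symm v :
          LocalizedModule (Submonoid.powers a) V)
        rw [algebraMap_smul, map_smul] }
  exact e'.toModuleIso

/-- `Ext^n(M, V) = 0` if `M` is `a`-power torsion and `a` acts bijectively on `V` -/
theorem ext_eq_zero_of_bijective_smul (M V : ModuleCat.{u} A) (a : A)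
    (hM : ∀ m : M, ∃ k : ℕ, a ^ k • m = 0) (hV : Function.Bijective (fun v : V => a • v))
    (n : ℕ) (e : Ext.{u} M V n) : e = 0 := by
  obtain ⟨Z, ⟨i⟩⟩ := exists_iso_restrictScalars_away V a hV
  have h0 : ∀ e' : Ext.{u} M
      ((ModuleCat.restrictScalars (algebraMap A (Localization.Away a))).obj Z) n, e' = 0 :=
    fun e' => ExtAdj.eq_zero_of_isZero (F := extSc A (Localization.Away a))
      (ModuleCat.extendRestrictScalarsAdj (algebraMap A (Localization.Away a)))
      (isZero_extSc_away M a hM) Z n e'
  have : e = (e.comp (Ext.mk₀ i.hom) (add_zero n)).comp (Ext.mk₀ i.inv) (add_zero n) := by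
    rw [Ext.comp_assoc_of_third_deg_zero, Ext.mk₀_comp_mk₀, i.hom_inv_id, Ext.comp_mk₀_id]
  rw [this, h0 (e.comp (Ext.mk₀ i.hom) (add_zero n)), Ext.zero_comp]

section Loc

variable (Y : ModuleCat.{u} A) (a : A)

/-- the localization `Y_a` as an `A`-module -/
noncomputable abbrev locObj : ModuleCat.{u} A :=
  ModuleCat.of A (LocalizedModule (Submonoid.powers a) Y)

/-- the localization map `Y → Y_a` -/
noncomputable abbrev locMap : Y ⟶ locObj Y a :=
  ModuleCat.ofHom (LocalizedModule.mkLinearMap (Submonoid.powers a) Y)

lemma bijective_smul_pow_locObj (k : ℕ) : Function.Bijective (fun w : locObj Y a => a ^ k • w) := by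
  have h := IsLocalizedModule.map_units (S := Submonoid.powers a)
    (LocalizedModule.mkLinearMap (Submonoid.powers a) Y) ⟨a ^ k, ⟨k, rfl⟩⟩
  rw [Module.End.isUnit_iff] at h
  exact h

lemma bijective_smul_locObj : Function.Bijective (fun w : locObj Y a => a • w) := by
  simpa using bijective_smul_pow_locObj Y a 1

lemma kernel_torsion_self (z : (kernel (locMap Y a) : ModuleCat.{u} A)) :
    ∃ k : ℕ, a ^ k • z = 0 := by
  have hinj : Function.Injective (kernel.ι (locMap Y a)) :=
    (ModuleCat.mono_iff_injective _).mp inferInstance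
  have h0 : (locMap Y a) (kernel.ι (locMap Y a) z) = 0 := by
    have := ConcreteCategory.congr_hom (kernel.condition (locMap Y a)) z
    exact this
  have h1 : LocalizedModule.mkLinearMap (Submonoid.powers a) Y (kernel.ι (locMap Y a) z) = 0 := h0
  rw [IsLocalizedModule.eq_zero_iff (Submonoid.powers a)] at h1
  obtain ⟨⟨_, k, rfl⟩, hk⟩ := h1
  refine ⟨k, hinj ?_⟩
  rw [map_smul, map_zero]
  exact hk

lemma kernel_torsion_of (b : A) (h : ∀ y : Y, ∃ k : ℕ, b ^ k • y = 0)
    (z : (kernel (locMap Y a) : ModuleCat.{u} A)) : ∃ k : ℕ, b ^ k • z = 0 := by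
  have hinj : Function.Injective (kernel.ι (locMap Y a)) :=
    (ModuleCat.mono_iff_injective _).mp inferInstance
  obtain ⟨k, hk⟩ := h (kernel.ι (locMap Y a) z)
  refine ⟨k, hinj ?_⟩
  rw [map_smul, map_zero]
  exact hk

lemma cokernel_torsion_self (c : (cokernel (locMap Y a) : ModuleCat.{u} A)) :
    ∃ k : ℕ, a ^ k • c = 0 := by
  have hsurj : Function.Surjective (cokernel.π (locMap Y a)) :=
    (ModuleCat.epi_iff_surjective _).mp inferInstance
  obtain ⟨w, rfl⟩ := hsurj c
  obtain ⟨⟨y, ⟨_, k, rfl⟩⟩, hy⟩ := IsLocalizedModule.surj (Submonoid.powers a)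
    (LocalizedModule.mkLinearMap (Submonoid.powers a) Y) w
  refine ⟨k, ?_⟩
  rw [← map_smul]
  have h1 : a ^ k • w = (locMap Y a) y := hy
  rw [h1]
  have := ConcreteCategory.congr_hom (cokernel.condition (locMap Y a)) y
  exact this

lemma cokernel_torsion_of (b : A) (h : ∀ y : Y, ∃ k : ℕ, b ^ k • y = 0)
    (c : (cokernel (locMap Y a) : ModuleCat.{u} A)) : ∃ k : ℕ, b ^ k • c = 0 := by
  have hsurj : Function.Surjective (cokernel.π (locMap Y a)) :=
    (ModuleCat.epi_iff_surjective _).mp inferInstance
  obtain ⟨w, rfl⟩ := hsurj c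
  obtain ⟨⟨y, ⟨_, j, rfl⟩⟩, hy⟩ := IsLocalizedModule.surj (Submonoid.powers a)
    (LocalizedModule.mkLinearMap (Submonoid.powers a) Y) w
  obtain ⟨k, hk⟩ := h y
  refine ⟨k, ?_⟩
  rw [← map_smul]
  have h1 : a ^ j • w = LocalizedModule.mkLinearMap (Submonoid.powers a) Y y := hy
  have h2 : b ^ k • w = 0 := by
    apply (bijective_smul_pow_locObj Y a j).1
    show a ^ j • (b ^ k • w) = a ^ j • (0 : locObj Y a)
    rw [smul_zero, smul_comm, h1, ← map_smul, hk, map_zero]
  rw [h2, map_zero]

end Loc

section BaseChange

variable (A) (B : Type u) [CommRing B] [Algebra A B]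

/-- the functor `Y ↦ B ⊗ Y` on `A`-modules -/
noncomputable abbrev TB : ModuleCat.{u} A ⥤ ModuleCat.{u} A :=
  extSc A B ⋙ ModuleCat.restrictScalars (algebraMap A B)

/-- the unit `Y → B ⊗ Y` -/
noncomputable abbrev ηB : 𝟭 (ModuleCat.{u} A) ⟶ TB A B :=
  (ModuleCat.extendRestrictScalarsAdj (algebraMap A B)).unit

variable {A B}

/-- if `a` acts bijectively on `W` then it acts bijectively on `B ⊗ W` -/
lemma bijective_smul_TB (W : ModuleCat.{u} A) (a : A)
    (hW : Function.Bijective (fun w : W => a • w)) :
    Function.Bijective (fun x : (TB A B).obj W => a • x) := by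
  let g : W ⟶ W := ModuleCat.ofHom (LinearMap.lsmul A W a)
  have hg : IsIso g := (ConcreteCategory.isIso_iff_bijective g).mpr hW
  have hTg : IsIso ((TB A B).map g) := inferInstance
  have hbij := (ConcreteCategory.isIso_iff_bijective ((TB A B).map g)).mp hTg
  let E : ModuleCat.{u} B := (extSc A B).obj W
  let S' : ModuleCat.{u} A := (ModuleCat.restrictScalars (algebraMap A B)).obj (ModuleCat.of B B)
  have key' : ∀ x : TensorProduct A S' W,
      (((extSc A B).map g).hom (show E from x) : E) = algebraMap A B a • (show E from x) := by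
    intro x
    induction x using TensorProduct.induction_on with
    | zero => exact (map_zero ((extSc A B).map g).hom).trans (smul_zero (A := E) _).symm
    | tmul s w =>
      show (s ⊗ₜ[A] (a • w) : TensorProduct A S' W) =
        ((show S' from (algebraMap A B a * (show B from s))) ⊗ₜ[A] w)
      rw [← TensorProduct.smul_tmul]
      rfl
    | add x y hx hy =>
      exact (map_add ((extSc A B).map g).hom x y).trans
        ((congrArg₂ (· + ·) hx hy).trans (smul_add (A := E) _ _ _).symm)
  have key : ∀ x : (TB A B).obj W, ((TB A B).map g) x = a • x := fun x => key' x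
  have : (fun x : (TB A B).obj W => a • x) = ⇑(ConcreteCategory.hom ((TB A B).map g)) := by
    funext x
    exact (key x).symm
  rw [this]
  exact hbij

/-- if `y ↦ 1 ⊗ y : Y → B ⊗ Y` is bijective then the unit at `Y` is an isomorphism -/
lemma isIso_ηB_of_bijective (Y : ModuleCat.{u} A)
    (hbij : Function.Bijective (TensorProduct.mk A B Y 1)) : IsIso ((ηB A B).app Y) := by
  rw [ConcreteCategory.isIso_iff_bijective]
  have key : ∀ y : Y, (extScObjEquiv (A := A) (B := B) Y) ((ηB A B).app Y y) =
      TensorProduct.mk A B Y 1 y := fun y => rfl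
  have h2 : (⇑(ConcreteCategory.hom ((ηB A B).app Y)) : Y → (TB A B).obj Y) =
      (fun z => (extScObjEquiv (A := A) (B := B) Y).symm z) ∘ (TensorProduct.mk A B Y 1) := by
    funext y
    show _ = (extScObjEquiv (A := A) (B := B) Y).symm (TensorProduct.mk A B Y 1 y)
    rw [← key y, LinearEquiv.symm_apply_apply]
  rw [h2]
  exact (extScObjEquiv (A := A) (B := B) Y).symm.bijective.comp hbij

end BaseChange

section Main

variable {B : Type u} [CommRing B] [Algebra A B] [Module.Flat A B]
variable (M : ModuleCat.{u} A)

instance : (TB A B).Additive := by unfold TB; infer_instance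
instance : PreservesFiniteLimits (TB A B) := by unfold TB; infer_instance
instance : PreservesFiniteColimits (TB A B) := by unfold TB; infer_instance

/-- Suppose `M` is `a`-power torsion for all `a ∈ s`, and `Y → B ⊗ Y` is bijective for all modules
`Y` which are `a`-power torsion for all `a ∈ s`. Then `Ext^n(M, N) → Ext^n(M, B ⊗ N)` is bijective
for all `N` and `n`. -/
theorem postBij_ηB (s : Finset A) (hM : ∀ a ∈ s, ∀ m : M, ∃ k : ℕ, a ^ k • m = 0)
    (hbase : ∀ Y : ModuleCat.{u} A, (∀ a ∈ s, ∀ y : Y, ∃ k : ℕ, a ^ k • y = 0) →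
      Function.Bijective (TensorProduct.mk A B Y 1)) :
    ∀ N : ModuleCat.{u} A, PostBij.{u} M ((ηB A B).app N) := by
  classical
  have key : ∀ t : Finset A, t ⊆ s → ∀ Y : ModuleCat.{u} A,
      (∀ a ∈ s, a ∉ t → ∀ y : Y, ∃ k : ℕ, a ^ k • y = 0) → PostBij.{u} M ((ηB A B).app Y) := by
    intro t
    induction t using Finset.induction_on with
    | empty =>
      intro _ Y hY
      have : IsIso ((ηB A B).app Y) :=
        isIso_ηB_of_bijective Y (hbase Y (fun a ha => hY a ha (Finset.notMem_empty a)))
      exact postBij_iso M _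
    | insert a t hat ih =>
      intro hts Y hY
      have has : a ∈ s := hts (Finset.mem_insert_self a t)
      have hts' : t ⊆ s := fun x hx => hts (Finset.mem_insert_of_mem hx)
      refine postBij_of_ker_coker M (TB A B) (ηB A B) (locMap Y a) ?_ ?_ ?_
      · apply ih hts'
        intro b hb hbt z
        by_cases hba : b = a
        · subst hba
          exact kernel_torsion_self Y b z
        · exact kernel_torsion_of Y a b (hY b hb (by simp [hba, hbt])) z
      · apply ih hts'
        intro b hb hbt c
        by_cases hba : b = a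
        · subst hba
          exact cokernel_torsion_self Y b c
        · exact cokernel_torsion_of Y a b (hY b hb (by simp [hba, hbt])) c
      · exact postBij_of_subsingleton M _
          (fun n e => ext_eq_zero_of_bijective_smul M _ a (hM a has) (bijective_smul_locObj Y a) n e)
          (fun n e => ext_eq_zero_of_bijective_smul M _ a (hM a has)
            (bijective_smul_TB _ a (bijective_smul_locObj Y a)) n e)
  intro N
  exact key s subset_rfl N (fun a ha hna => absurd ha hna)

end Main

end Groth.Agent.Lib.Helper10.ExtTorsion
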