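import Groth.Agent.Lib.Helper10.ExtTorsion

/-!
# Concrete form of `Ext^n_A(M, N) ≃ Ext^n_A(M, B ⊗ N)` (helper10)
-/

set_option autoImplicit false

open CategoryTheory Abelian Limits TensorProduct

namespace Groth.Agent.Lib.Helper10.ExtFive

universe w v u

variable {C : Type u} [Category.{v} C] [Abelian C] [HasExt.{w} C]

lemma postBij_comp (X : C) {Y Y' Y'' : C} (f : Y ⟶ Y') (g : Y' ⟶ Y'') (hf : PostBij X f)
    (hg : PostBij X g) : PostBij X (f ≫ g) := by
  intro n
  have : ⇑((Ext.mk₀ (f ≫ g)).postcomp X (add_zero n)) =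
      ⇑((Ext.mk₀ g).postcomp X (add_zero n)) ∘ ⇑((Ext.mk₀ f).postcomp X (add_zero n)) := by
    funext e
    show e.comp (Ext.mk₀ (f ≫ g)) (add_zero n) =
      (e.comp (Ext.mk₀ f) (add_zero n)).comp (Ext.mk₀ g) (add_zero n)
    rw [Ext.comp_assoc_of_third_deg_zero, Ext.mk₀_comp_mk₀]
  rw [this]
  exact (hg n).comp (hf n)

end Groth.Agent.Lib.Helper10.ExtFive

namespace Groth.Agent.Lib.Helper10.ExtTorsion

open Groth.Agent.Lib.Helper10.ExtFive Groth.Agent.Lib.Helper12

universe u

variable {A : Type u} [CommRing A] {B : Type u} [CommRing B] [Algebra A B]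

/-- `B ⊗[A] N` as an `A`-module -/
noncomputable abbrev tObj (B : Type u) [CommRing B] [Algebra A B] (N : ModuleCat.{u} A) :
    ModuleCat.{u} A :=
  ModuleCat.of A (B ⊗[A] N)

/-- `n ↦ 1 ⊗ n` -/
noncomputable abbrev tMap (B : Type u) [CommRing B] [Algebra A B] (N : ModuleCat.{u} A) :
    N ⟶ tObj B N :=
  ModuleCat.ofHom (TensorProduct.mk A B N 1)

/-- comparison of the two models of `B ⊗ N`, as a linear equivalence -/
noncomputable def equivTB (N : ModuleCat.{u} A) : ((TB A B).obj N) ≃ₗ[A] (B ⊗[A] N) where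
  toFun := fun x => extScObjEquiv (A := A) (B := B) N x
  invFun := fun y => (extScObjEquiv (A := A) (B := B) N).symm y
  left_inv := fun x => (extScObjEquiv (A := A) (B := B) N).symm_apply_apply x
  right_inv := fun y => (extScObjEquiv (A := A) (B := B) N).apply_symm_apply y
  map_add' := fun x y => (extScObjEquiv (A := A) (B := B) N).map_add x y
  map_smul' := fun r x => by
    show extScObjEquiv (A := A) (B := B) N
      (algebraMap A B r • (show (extSc A B).obj N from x)) = r • _
    rw [map_smul, algebraMap_smul]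

/-- comparison of the two models of `B ⊗ N` -/
noncomputable def isoTB (N : ModuleCat.{u} A) : (TB A B).obj N ≅ tObj B N :=
  (equivTB N).toModuleIso

lemma ηB_isoTB (N : ModuleCat.{u} A) : (ηB A B).app N ≫ (isoTB N).hom = tMap B N := by
  ext n
  show equivTB (B := B) N ((ηB A B).app N n) = (1 : B) ⊗ₜ[A] n
  rfl

theorem postBij_tMap [Module.Flat A B] (M : ModuleCat.{u} A) (s : Finset A)
    (hM : ∀ a ∈ s, ∀ m : M, ∃ k : ℕ, a ^ k • m = 0)
    (hbase : ∀ Y : ModuleCat.{u} A, (∀ a ∈ s, ∀ y : Y, ∃ k : ℕ, a ^ k • y = 0) →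
      Function.Bijective (TensorProduct.mk A B Y 1)) (N : ModuleCat.{u} A) :
    PostBij.{u} M (tMap B N) := by
  rw [← ηB_isoTB]
  exact postBij_comp M _ _ (postBij_ηB M s hM hbase N) (postBij_iso M _)

end Groth.Agent.Lib.Helper10.ExtTorsion
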