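import Mathlib
import Groth.Prelude.Def_EtRam
import Groth.Agent.S1973

/-!
# Finite étale algebras over a DVR and valuation rings of their residue fields (helper10)

`C` integral étale over the DVR `A`, `φ : C → F` a ring map to a field generated by the image of `C`,
`V` a valuation ring of `F` dominating `A`: then `V` is unramified (formally unramified and
essentially of finite type) over `A`.
-/

set_option autoImplicit false
set_option linter.style.haveILetI false
set_option linter.unusedSectionVars false
universe u

namespace Groth.Agent.Lib.Helper10.FinEtDVR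

open IsLocalRing EtRam

theorem mem_of_isIntegral {F : Type*} [Field F] (V : ValuationSubring F) (x : F)
    (hx : IsIntegral V x) : x ∈ V := by
  obtain ⟨y, hy⟩ := IsIntegrallyClosed.isIntegral_iff.mp hx
  rw [← hy]
  exact y.2

theorem unramified_of_integral_etale (A C F : Type u) [CommRing A] [IsDomain A]
    [IsDiscreteValuationRing A] [CommRing C] [Algebra A C] [Algebra.Etale A C]
    [Algebra.IsIntegral A C] [Field F] (φ : C →+* F)
    (hinj : Function.Injective (φ.comp (algebraMap A C)))
    (hfrac : ∀ z : F, ∃ c d : C, φ d ≠ 0 ∧ z * φ d = φ c)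
    (V : ValuationSubring F) (hV : Dominates A (φ.comp (algebraMap A C)) V) :
    letI : Algebra A V := (RingHom.codRestrict (φ.comp (algebraMap A C)) V hV.1).toAlgebra
    Algebra.FormallyUnramified A V ∧ Algebra.EssFiniteType A V := by
  letI algAV : Algebra A V := (RingHom.codRestrict (φ.comp (algebraMap A C)) V hV.1).toAlgebra
  -- the image of `C` lies in `V`
  have hCV : ∀ c : C, φ c ∈ V := by
    intro c
    apply mem_of_isIntegral
    exact IsIntegral.map_of_comp_eq (algebraMap A V) φ (by ext a; rfl)
      (Algebra.IsIntegral.isIntegral (R := A) c)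
  let φV : C →+* V := φ.codRestrict V hCV
  have hφV : ∀ a : A, φV (algebraMap A C a) = algebraMap A V a := fun a => rfl
  -- domination in terms of the maximal ideal of `V`
  have hmem : ∀ a : A, algebraMap A V a ∈ maximalIdeal V ↔ a ∈ maximalIdeal A := by
    intro a
    constructor
    · intro h
      by_contra ha
      have hu : IsUnit a := by
        by_contra hnu
        exact ha ((mem_maximalIdeal a).mpr hnu)
      exact ((mem_maximalIdeal _).mp h) (hu.map (algebraMap A V))
    · intro ha
      have h1 := hV.2 a ha
      exact (ValuationSubring.valuation_lt_one_iff V (algebraMap A V a)).mpr h1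
  have hAVinj : Function.Injective (algebraMap A V) := by
    intro a b hab
    apply hinj
    exact congrArg Subtype.val hab
  obtain ⟨π, hπ⟩ := IsDiscreteValuationRing.exists_irreducible A
  have hπm : π ∈ maximalIdeal A := hπ.not_isUnit
  have hπV : algebraMap A V π ≠ 0 := fun h => hπ.ne_zero (hAVinj (by rw [h, map_zero]))
  -- the prime `n`
  let n : Ideal C := (maximalIdeal V).comap φV
  haveI hnprime : n.IsPrime := Ideal.comap_isPrime φV (maximalIdeal V)
  have hncomap : n.comap (algebraMap A C) = maximalIdeal A := by
    ext a
    show φV (algebraMap A C a) ∈ maximalIdeal V ↔ _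
    rw [hφV, hmem]
  haveI hnmax : n.IsMaximal := by
    apply Ideal.isMaximal_of_isIntegral_of_isMaximal_comap (R := A) n
    rw [hncomap]
    exact maximalIdeal.isMaximal A
  -- the localization and its map to `V`
  have hunit : ∀ y : n.primeCompl, IsUnit (φV y) := by
    intro y
    by_contra hnu
    exact y.2 ((mem_maximalIdeal _).mpr hnu)
  let ψ : Localization.AtPrime n →+* V := IsLocalization.lift (M := n.primeCompl) hunit
  have hψ : ∀ c : C, ψ (algebraMap C (Localization.AtPrime n) c) = φV c :=
    fun c => IsLocalization.lift_eq hunit c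
  have hψA : ∀ a : A, ψ (algebraMap A (Localization.AtPrime n) a) = algebraMap A V a := by
    intro a
    rw [IsScalarTower.algebraMap_apply A C (Localization.AtPrime n), hψ, hφV]
  have hπn : algebraMap A (Localization.AtPrime n) π ∈ maximalIdeal (Localization.AtPrime n) := by
    rw [IsScalarTower.algebraMap_apply A C (Localization.AtPrime n),
      IsLocalization.AtPrime.to_map_mem_maximal_iff (Localization.AtPrime n) n]
    show φV (algebraMap A C π) ∈ maximalIdeal V
    rw [hφV, hmem]
    exact hπm
  have hnf : ¬ IsField (Localization.AtPrime n) := by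
    intro hf
    have h0 : maximalIdeal (Localization.AtPrime n) = ⊥ := isField_iff_maximalIdeal_eq.mp hf
    rw [h0, Ideal.mem_bot] at hπn
    apply hπV
    rw [← hψA, hπn, map_zero]
  obtain ⟨dom, dvr⟩ := (Groth.Agent.S1973.result A C).2 n hnf
  -- `ψ` is injective
  have hψinj : Function.Injective ψ := by
    rw [injective_iff_map_eq_zero]
    by_contra hne
    push_neg at hne
    obtain ⟨x, hx0, hxne⟩ := hne
    have hker : RingHom.ker ψ ≠ ⊥ := by
      intro h
      apply hxne
      have : x ∈ RingHom.ker ψ := hx0
      rw [h] at this
      exact this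
    have hprime : (RingHom.ker ψ).IsPrime := RingHom.ker_isPrime ψ
    have hmax : (RingHom.ker ψ).IsMaximal := hprime.isMaximal hker
    have heq : RingHom.ker ψ = maximalIdeal (Localization.AtPrime n) :=
      IsLocalRing.eq_maximalIdeal hmax
    rw [← heq, RingHom.mem_ker, hψA] at hπn
    exact hπV hπn
  -- `ψ` maps the maximal ideal into the maximal ideal
  have hψmax : ∀ e ∈ maximalIdeal (Localization.AtPrime n), ψ e ∈ maximalIdeal V := by
    intro e he
    obtain ⟨c, s, rfl⟩ := IsLocalization.exists_mk'_eq n.primeCompl e
    rw [IsLocalization.AtPrime.mk'_mem_maximal_iff (Localization.AtPrime n) n] at he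
    have h1 : ψ (IsLocalization.mk' (Localization.AtPrime n) c s) * φV s = φV c := by
      rw [← hψ (s : C), ← map_mul, IsLocalization.mk'_spec, hψ]
    have h2 : φV c ∈ maximalIdeal V := he
    rw [← h1] at h2
    rcases (Ideal.IsPrime.mem_or_mem (maximalIdeal.isMaximal V).isPrime h2) with h | h
    · exact h
    · exact absurd ((mem_maximalIdeal _).mp h) (not_not.mpr (hunit s))
  -- `ψ` is surjective
  have hψsurj : Function.Surjective ψ := by
    intro v
    obtain ⟨c, d, hd, hcd⟩ := hfrac (v : F)
    have hψval : ∀ z : Localization.AtPrime n, ((ψ z : V) : F) = (ψ z : V) := fun _ => rfl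
    have hcF : ((ψ (algebraMap C _ c) : V) : F) = φ c := by rw [hψ]; rfl
    have hdF : ((ψ (algebraMap C _ d) : V) : F) = φ d := by rw [hψ]; rfl
    obtain ⟨e, he | he⟩ := ValuationRing.cond (algebraMap C (Localization.AtPrime n) c)
      (algebraMap C (Localization.AtPrime n) d)
    · -- c * e = d
      have h1 : φ c * ((ψ e : V) : F) = φ d := by
        rw [← hcF, ← hdF, ← he, map_mul]
        rfl
      by_cases heu : IsUnit e
      · obtain ⟨u, rfl⟩ := heu
        refine ⟨((u⁻¹ : (Localization.AtPrime n)ˣ) : Localization.AtPrime n), ?_⟩
        apply Subtype.ext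
        have h2 : ((ψ (u : Localization.AtPrime n) : V) : F) *
            ((ψ ((u⁻¹ : (Localization.AtPrime n)ˣ) : Localization.AtPrime n) : V) : F) = 1 := by
          have : ψ (u : Localization.AtPrime n) *
              ψ ((u⁻¹ : (Localization.AtPrime n)ˣ) : Localization.AtPrime n) = 1 := by
            rw [← map_mul, Units.mul_inv, map_one]
          exact congrArg Subtype.val this
        have h3 : (v : F) * φ d * ((ψ (u : Localization.AtPrime n) : V) : F) = φ d := by
          rw [hcd]; exact h1
        have h4 : (v : F) * ((ψ (u : Localization.AtPrime n) : V) : F) = 1 := by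
          have : φ d * ((v : F) * ((ψ (u : Localization.AtPrime n) : V) : F)) = φ d * 1 := by
            rw [mul_one]
            calc φ d * ((v : F) * ((ψ (u : Localization.AtPrime n) : V) : F))
                = (v : F) * φ d * ((ψ (u : Localization.AtPrime n) : V) : F) := by ring
              _ = φ d := h3
          exact mul_left_cancel₀ hd this
        have hne : ((ψ (u : Localization.AtPrime n) : V) : F) ≠ 0 :=
          right_ne_zero_of_mul_eq_one h4
        exact mul_left_cancel₀ hne (by rw [h2, mul_comm, h4])
      · exfalso
        have hem : e ∈ maximalIdeal (Localization.AtPrime n) := (mem_maximalIdeal e).mpr heu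
        have h2 := hψmax e hem
        have h3 : (v : F) * φ d * ((ψ e : V) : F) = φ d := by
          rw [hcd]; exact h1
        have h4 : v * ψ e = 1 := by
          apply Subtype.ext
          show (v : F) * ((ψ e : V) : F) = 1
          have : φ d * ((v : F) * ((ψ e : V) : F)) = φ d * 1 := by
            rw [mul_one]
            calc φ d * ((v : F) * ((ψ e : V) : F))
                = (v : F) * φ d * ((ψ e : V) : F) := by ring
              _ = φ d := h3
          exact mul_left_cancel₀ hd this
        have h5 : (1 : V) ∈ maximalIdeal V := by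
          rw [← h4]
          exact Ideal.mul_mem_left _ _ h2
        exact (maximalIdeal.isMaximal V).ne_top ((Ideal.eq_top_iff_one _).mpr h5)
    · -- d * e = c
      refine ⟨e, ?_⟩
      apply Subtype.ext
      have h1 : φ d * ((ψ e : V) : F) = φ c := by
        rw [← hcF, ← hdF, ← he, map_mul]
        rfl
      have : φ d * ((ψ e : V) : F) = φ d * (v : F) := by
        rw [h1, ← hcd, mul_comm]
      exact mul_left_cancel₀ hd this
  -- the algebra isomorphism
  let eqv : Localization.AtPrime n ≃ₐ[A] V :=
    AlgEquiv.ofBijective ⟨ψ, hψA⟩ ⟨hψinj, hψsurj⟩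
  haveI fu1 : Algebra.FormallyUnramified C (Localization.AtPrime n) :=
    Algebra.FormallyUnramified.of_isLocalization n.primeCompl
  haveI fu2 : Algebra.FormallyUnramified A (Localization.AtPrime n) :=
    Algebra.FormallyUnramified.comp A C (Localization.AtPrime n)
  haveI ef2 : Algebra.EssFiniteType A (Localization.AtPrime n) :=
    Algebra.EssFiniteType.comp A C (Localization.AtPrime n)
  exact ⟨Algebra.FormallyUnramified.of_equiv eqv,
    Algebra.EssFiniteType.of_surjective eqv.toAlgHom eqv.surjective⟩

/-- The tame (in fact unramified) conclusion. -/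
theorem isTamelyRamified_of_integral_etale (A C F : Type u) [CommRing A] [IsDomain A]
    [IsDiscreteValuationRing A] [CommRing C] [Algebra A C] [Algebra.Etale A C]
    [Algebra.IsIntegral A C] [Field F] (φ : C →+* F)
    (hinj : Function.Injective (φ.comp (algebraMap A C)))
    (hfrac : ∀ z : F, ∃ c d : C, φ d ≠ 0 ∧ z * φ d = φ c) :
    IsTamelyRamified A (φ.comp (algebraMap A C)) := by
  intro V hV
  letI algAV : Algebra A V := (RingHom.codRestrict (φ.comp (algebraMap A C)) V hV.1).toAlgebra
  intro hloc
  obtain ⟨fu, ef⟩ := unramified_of_integral_etale A C F φ hinj hfrac V hV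
  haveI := fu
  haveI := ef
  refine ⟨inferInstance, ?_⟩
  intro p hp _
  have hmap : (maximalIdeal A).map (algebraMap A V) = maximalIdeal V :=
    Algebra.FormallyUnramified.map_maximalIdeal
  obtain ⟨π, hπ⟩ := IsDiscreteValuationRing.exists_irreducible A
  have hmA : maximalIdeal A = Ideal.span {π} := hπ.maximalIdeal_eq
  have hAVinj : Function.Injective (algebraMap A V) := by
    intro a b hab
    apply hinj
    exact congrArg Subtype.val hab
  have hπV : algebraMap A V π ≠ 0 := fun h => hπ.ne_zero (hAVinj (by rw [h, map_zero]))
  have hmV : maximalIdeal V = Ideal.span {algebraMap A V π} := by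
    rw [← hmap, hmA, Ideal.map_span, Set.image_singleton]
  have he : Ideal.ramificationIdx' (maximalIdeal A) (maximalIdeal V) = 1 := by
    apply Ideal.ramificationIdx'_spec
    · rw [pow_one]; exact hmap.le
    · rw [hmap, hmV, Ideal.span_singleton_pow, Ideal.span_singleton_le_span_singleton]
      rintro ⟨c, hc⟩
      have h1 : algebraMap A V π * (1 - algebraMap A V π * c) = 0 := by
        rw [mul_sub, mul_one, ← mul_assoc, ← sq, ← hc, sub_self]
      have h2 : 1 - algebraMap A V π * c = 0 := (mul_eq_zero.mp h1).resolve_left hπV
      have h3 : IsUnit (algebraMap A V π) :=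
        IsUnit.of_mul_eq_one c (by rw [sub_eq_zero] at h2; exact h2.symm)
      have h4 : algebraMap A V π ∈ maximalIdeal V := by
        rw [hmV]; exact Ideal.mem_span_singleton_self _
      exact (mem_maximalIdeal _).mp h4 h3
  rw [he]
  exact fun h => hp.one_lt.ne' (Nat.dvd_one.mp h)

end Groth.Agent.Lib.Helper10.FinEtDVR
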