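import Mathlib

/-!
# Reduction to valuation subrings for flat modules (helper10)

Let `B` be a flat `A`-module, `Ω` a field which is an `A`-algebra.  For an `A`-submodule `S ⊆ Ω`
write `M S` for the image of `S ⊗ B → Ω ⊗ B`.  We show that `M` commutes with finite intersections
and directed unions, and deduce by Zorn's lemma: if `S₀` is a subalgebra integrally closed in `Ω`
and `z ∈ M R` for every "valuation" subalgebra `R ⊇ S₀`, then `z ∈ M S₀`.
-/

namespace Groth.Agent.Lib.Helper10.FlatZorn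

open TensorProduct

variable {A : Type*} [CommRing A] {Ω : Type*} [Field Ω] [Algebra A Ω]
  (B : Type*) [AddCommGroup B] [Module A B]

/-- image of `S ⊗ B → Ω ⊗ B` -/
def M (S : Submodule A Ω) : Submodule A (Ω ⊗[A] B) := LinearMap.range (S.subtype.rTensor B)

variable {B}

theorem tmul_mem_M {S : Submodule A Ω} {s : Ω} (hs : s ∈ S) (b : B) : s ⊗ₜ[A] b ∈ M B S :=
  ⟨(⟨s, hs⟩ : S) ⊗ₜ b, by simp⟩

theorem M_mono {S₁ S₂ : Submodule A Ω} (h : S₁ ≤ S₂) : M B S₁ ≤ M B S₂ := by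
  rintro _ ⟨z, rfl⟩
  refine ⟨(Submodule.inclusion h).rTensor B z, ?_⟩
  rw [← LinearMap.comp_apply, ← LinearMap.rTensor_comp]
  rfl

theorem M_inf [Module.Flat A B] (S₁ S₂ : Submodule A Ω) : M B (S₁ ⊓ S₂) = M B S₁ ⊓ M B S₂ := by
  refine le_antisymm (le_inf (M_mono inf_le_left) (M_mono inf_le_right)) ?_
  rintro z ⟨⟨z₁, rfl⟩, ⟨z₂, hz₂⟩⟩
  let ι : ↥(S₁ ⊓ S₂) →ₗ[A] S₁ := Submodule.inclusion inf_le_left
  let g : S₁ →ₗ[A] Ω ⧸ S₂ := S₂.mkQ ∘ₗ S₁.subtype
  have hex : Function.Exact ι g := by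
    intro y
    constructor
    · intro hy
      have : (y : Ω) ∈ S₂ := by simpa [g] using hy
      exact ⟨⟨y, ⟨y.2, this⟩⟩, rfl⟩
    · rintro ⟨w, rfl⟩
      simpa [g, ι] using w.2.2
  have hex' := Module.Flat.rTensor_exact B hex
  have h0 : g.rTensor B z₁ = 0 := by
    have : g.rTensor B z₁ = S₂.mkQ.rTensor B (S₁.subtype.rTensor B z₁) := by
      rw [← LinearMap.comp_apply, ← LinearMap.rTensor_comp]
    rw [this, ← hz₂, ← LinearMap.comp_apply, ← LinearMap.rTensor_comp]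
    have : S₂.mkQ ∘ₗ S₂.subtype = 0 := by ext; simp
    rw [this, LinearMap.rTensor_zero, LinearMap.zero_apply]
  obtain ⟨z₀, rfl⟩ := (hex' z₁).mp h0
  refine ⟨z₀, ?_⟩
  rw [← LinearMap.comp_apply, ← LinearMap.rTensor_comp]
  rfl

theorem exists_mem_M_of_directed {ι : Type*} [Nonempty ι] (Sf : ι → Submodule A Ω)
    (hdir : Directed (· ≤ ·) Sf) (S : Submodule A Ω) (hS : ∀ s ∈ S, ∃ i, s ∈ Sf i)
    {z : Ω ⊗[A] B} (hz : z ∈ M B S) : ∃ i, z ∈ M B (Sf i) := by
  obtain ⟨z₀, rfl⟩ := hz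
  induction z₀ using TensorProduct.induction_on with
  | zero => exact ⟨Classical.arbitrary ι, by simp⟩
  | tmul s b =>
    obtain ⟨i, hi⟩ := hS s.1 s.2
    exact ⟨i, by simpa using tmul_mem_M hi b⟩
  | add x y hx hy =>
    obtain ⟨i, hi⟩ := hx
    obtain ⟨j, hj⟩ := hy
    obtain ⟨k, hik, hjk⟩ := hdir i j
    refine ⟨k, ?_⟩
    rw [map_add]
    exact add_mem (M_mono hik hi) (M_mono hjk hj)

/-- a subalgebra is integrally closed in `Ω` -/
def IntClosed (R : Subalgebra A Ω) : Prop := ∀ t : Ω, IsIntegral R t → t ∈ R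

/-- a subalgebra is a valuation subalgebra of `Ω` -/
def IsVal (R : Subalgebra A Ω) : Prop := ∀ t : Ω, t ∈ R ∨ t⁻¹ ∈ R

theorem intClosed_iSup_of_directed {ι : Type*} [Nonempty ι] (K : ι → Subalgebra A Ω)
    (hdir : Directed (· ≤ ·) K) (hK : ∀ i, IntClosed (K i)) : IntClosed (⨆ i, K i) := by
  classical
  intro t ht
  obtain ⟨p, hp, hpt⟩ := ht
  have hmem : ∀ a : ↥(⨆ i, K i), ∃ i, (a : Ω) ∈ K i := by
    intro a
    have := a.2
    rw [← SetLike.mem_coe, Subalgebra.coe_iSup_of_directed hdir] at this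
    simpa using this
  choose idx hidx using hmem
  obtain ⟨j, hj⟩ := hdir.finset_le (p.coeffs.image idx)
  have hj' : ∀ a ∈ p.coeffs, (a : Ω) ∈ K j := fun a ha =>
    hj (idx a) (Finset.mem_image_of_mem _ ha) (hidx a)
  let incl : K j →+* ↥(⨆ i, K i) := (Subalgebra.inclusion (le_iSup K j)).toRingHom
  have hlift : p ∈ Polynomial.lifts incl := by
    rw [Polynomial.lifts_iff_coeff_lifts]
    intro n
    by_cases h0 : p.coeff n = 0
    · exact ⟨0, by rw [h0, map_zero]⟩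
    · have : p.coeff n ∈ p.coeffs := Polynomial.coeff_mem_coeffs h0
      exact ⟨⟨_, hj' _ this⟩, rfl⟩
  obtain ⟨q, hqp, -, hqm⟩ := Polynomial.lifts_and_degree_eq_and_monic hlift hp
  have : t ∈ K j := by
    apply hK j
    refine ⟨q, hqm, ?_⟩
    rw [← hpt, ← hqp, Polynomial.eval₂_map]
    rfl
  exact (le_iSup K j) this

theorem adjoin_le_of_isVal_like {R : Subalgebra A Ω} (V : ValuationSubring Ω)
    (hRV : ∀ r ∈ R, r ∈ V) {t : Ω} (ht : t ∈ V) {x : Ω}
    (hx : IsIntegral (Algebra.adjoin A ((R : Set Ω) ∪ {t})) x) : x ∈ V := by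
  have hle : ∀ r ∈ Algebra.adjoin A ((R : Set Ω) ∪ {t}), r ∈ V := by
    intro r hr
    induction hr using Algebra.adjoin_induction with
    | mem r hr =>
      rcases hr with hr | hr
      · exact hRV r hr
      · rw [Set.mem_singleton_iff.mp hr]; exact ht
    | algebraMap a => exact hRV _ (R.algebraMap_mem a)
    | add r s _ _ hr hs => exact V.add_mem _ _ hr hs
    | mul r s _ _ hr hs => exact V.mul_mem _ _ hr hs
  obtain ⟨p, hp, hpx⟩ := hx
  have hint : IsIntegral V.toSubring x := by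
    let incl : ↥(Algebra.adjoin A ((R : Set Ω) ∪ {t})) →+* V.toSubring :=
      { toFun := fun r => ⟨r.1, hle r.1 r.2⟩
        map_one' := rfl
        map_mul' := fun _ _ => rfl
        map_zero' := rfl
        map_add' := fun _ _ => rfl }
    refine ⟨p.map incl, hp.map _, ?_⟩
    rw [Polynomial.eval₂_map, ← hpx]
    rfl
  have hV : IsIntegrallyClosedIn V.toSubring Ω := inferInstanceAs (IsIntegrallyClosedIn V Ω)
  exact (Subring.isIntegrallyClosedIn_iff (S := V.toSubring)).mp hV hint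

/-- **Zorn reduction to valuation subalgebras.** -/
theorem mem_M_of_forall_isVal [Module.Flat A B] (S₀ : Subalgebra A Ω) (hS₀ : IntClosed S₀)
    (z : Ω ⊗[A] B)
    (h : ∀ R : Subalgebra A Ω, S₀ ≤ R → IsVal R → z ∈ M B (Subalgebra.toSubmodule R)) :
    z ∈ M B (Subalgebra.toSubmodule S₀) := by
  by_contra hz
  let Sig : Set (Subalgebra A Ω) :=
    {R | S₀ ≤ R ∧ IntClosed R ∧ z ∉ M B (Subalgebra.toSubmodule R)}
  have hchain : ∀ c ⊆ Sig, IsChain (· ≤ ·) c → ∀ y ∈ c, ∃ ub ∈ Sig, ∀ w ∈ c, w ≤ ub := by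
    intro c hc hch y hy
    have : Nonempty c := ⟨⟨y, hy⟩⟩
    have hdir : Directed (· ≤ ·) (fun i : c => (i : Subalgebra A Ω)) :=
      hch.directedOn.directed_val
    refine ⟨⨆ i : c, (i : Subalgebra A Ω), ⟨?_, ?_, ?_⟩, ?_⟩
    · exact (hc hy).1.trans (le_iSup (fun i : c => (i : Subalgebra A Ω)) ⟨y, hy⟩)
    · exact intClosed_iSup_of_directed _ hdir fun i => (hc i.2).2.1
    · intro hmem
      have hdir' : Directed (· ≤ ·)
          (fun i : c => Subalgebra.toSubmodule (i : Subalgebra A Ω)) := by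
        intro i j
        obtain ⟨k, hik, hjk⟩ := hdir i j
        exact ⟨k, hik, hjk⟩
      have hS : ∀ s ∈ Subalgebra.toSubmodule (⨆ i : c, (i : Subalgebra A Ω)),
          ∃ i : c, s ∈ Subalgebra.toSubmodule (i : Subalgebra A Ω) := by
        intro s hs
        have hs' : s ∈ (⨆ i : c, (i : Subalgebra A Ω)) := hs
        rw [← SetLike.mem_coe, Subalgebra.coe_iSup_of_directed hdir] at hs'
        simpa using hs'
      obtain ⟨i, hi⟩ := exists_mem_M_of_directed
        (fun i : c => Subalgebra.toSubmodule (i : Subalgebra A Ω)) hdir' _ hS hmem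
      exact (hc i.2).2.2 hi
    · intro w hw
      exact le_iSup (fun i : c => (i : Subalgebra A Ω)) ⟨w, hw⟩
  obtain ⟨R, -, hRmax⟩ := zorn_le_nonempty₀ Sig hchain S₀ ⟨le_rfl, hS₀, hz⟩
  obtain ⟨hS₀R, hRint, hzR⟩ := hRmax.prop
  apply hzR
  apply h R hS₀R
  -- `R` is a valuation subalgebra
  intro t
  by_contra hcon
  push Not at hcon
  obtain ⟨ht, ht'⟩ := hcon
  -- the two enlargements
  let E : Ω → Subalgebra A Ω := fun s =>
    (integralClosure (Algebra.adjoin A ((R : Set Ω) ∪ {s})) Ω).restrictScalars A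
  have hE_mem : ∀ s x, x ∈ E s ↔ IsIntegral (Algebra.adjoin A ((R : Set Ω) ∪ {s})) x :=
    fun s x => Iff.rfl
  have hRE : ∀ s, R ≤ E s := by
    intro s r hr
    rw [hE_mem]
    have : r ∈ Algebra.adjoin A ((R : Set Ω) ∪ {s}) := Algebra.subset_adjoin (Or.inl hr)
    exact isIntegral_algebraMap (x := (⟨r, this⟩ : Algebra.adjoin A ((R : Set Ω) ∪ {s})))
  have hsE : ∀ s, s ∈ E s := by
    intro s
    rw [hE_mem]
    have : s ∈ Algebra.adjoin A ((R : Set Ω) ∪ {s}) := Algebra.subset_adjoin (Or.inr rfl)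
    exact isIntegral_algebraMap (x := (⟨s, this⟩ : Algebra.adjoin A ((R : Set Ω) ∪ {s})))
  have hEint : ∀ s, IntClosed (E s) := by
    intro s x hx
    rw [hE_mem]
    exact isIntegral_trans (A := integralClosure (Algebra.adjoin A ((R : Set Ω) ∪ {s})) Ω) x hx
  have hEz : ∀ s, s ∉ R → z ∈ M B (Subalgebra.toSubmodule (E s)) := by
    intro s hs
    by_contra hzs
    have hmem : E s ∈ Sig := ⟨hS₀R.trans (hRE s), hEint s, hzs⟩
    exact hs (hRmax.le_of_ge hmem (hRE s) (hsE s))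
  have hinf : Subalgebra.toSubmodule (E t) ⊓ Subalgebra.toSubmodule (E t⁻¹) ≤
      Subalgebra.toSubmodule R := by
    rintro x ⟨hx1, hx2⟩
    by_contra hxR
    have hxR' : x ∉ R.toSubring := hxR
    have : IsIntegrallyClosedIn R.toSubring Ω := by
      rw [Subring.isIntegrallyClosedIn_iff]
      intro y hy
      exact hRint y hy
    obtain ⟨V, hRV, hxV⟩ := Subring.exists_le_valuationSubring_of_isIntegrallyClosedIn hxR'
    rcases V.mem_or_inv_mem t with htV | htV
    · exact hxV (adjoin_le_of_isVal_like V (fun r hr => hRV hr) htV ((hE_mem t x).mp hx1))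
    · exact hxV (adjoin_le_of_isVal_like V (fun r hr => hRV hr) htV ((hE_mem t⁻¹ x).mp hx2))
  have h1 := hEz t ht
  have h2 := hEz t⁻¹ ht'
  have h3 : z ∈ M B (Subalgebra.toSubmodule (E t) ⊓ Subalgebra.toSubmodule (E t⁻¹)) := by
    rw [M_inf]; exact ⟨h1, h2⟩
  exact hzR (M_mono hinf h3)

end Groth.Agent.Lib.Helper10.FlatZorn
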