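import Mathlib

/-!
# Galois closures and composita inside a class of finite separable extensions (helper10)

A class `P` of finite separable extensions of `K` closed under subextensions and composita
(quotient fields of tensor products) is closed under Galois closure, and any two members embed in a
common member.
-/

set_option autoImplicit false
set_option linter.unusedSectionVars false
set_option linter.style.haveILetI false
universe u

namespace Groth.Agent.Lib.Helper10.GalClosure

open TensorProduct IntermediateField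

variable (K : Type u) [Field K]

/-- A class of finite separable extensions closed under subextensions and composita. -/
structure GoodClass (P : ∀ (E : Type u) [Field E] [Algebra K E], Prop) : Prop where
  sub : ∀ (L M : Type u) [Field L] [Field M] [Algebra K L] [Algebra K M] [FiniteDimensional K M]
    [Algebra.IsSeparable K M] (_ : L →ₐ[K] M), P M → P L
  comp : ∀ (L₁ L₂ F : Type u) [Field L₁] [Field L₂] [Field F] [Algebra K L₁] [Algebra K L₂]
    [Algebra K F] [FiniteDimensional K L₁] [FiniteDimensional K L₂] [Algebra.IsSeparable K L₁]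
    [Algebra.IsSeparable K L₂] [FiniteDimensional K F] [Algebra.IsSeparable K F]
    (f₁ : L₁ →ₐ[K] F) (f₂ : L₂ →ₐ[K] F),
    Function.Surjective (Algebra.TensorProduct.productMap f₁ f₂) → P L₁ → P L₂ → P F

section Basic

variable {K}
variable {L₁ L₂ F : Type u} [Field L₁] [Field L₂] [Field F] [Algebra K L₁] [Algebra K L₂]
  [Algebra K F] [FiniteDimensional K L₁] [FiniteDimensional K L₂] [Algebra.IsSeparable K L₁]
  [Algebra.IsSeparable K L₂]

theorem finite_of_surjective (f₁ : L₁ →ₐ[K] F) (f₂ : L₂ →ₐ[K] F)
    (h : Function.Surjective (Algebra.TensorProduct.productMap f₁ f₂)) :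
    FiniteDimensional K F :=
  Module.Finite.of_surjective (Algebra.TensorProduct.productMap f₁ f₂).toLinearMap h

theorem isSeparable_of_surjective (f₁ : L₁ →ₐ[K] F) (f₂ : L₂ →ₐ[K] F)
    (h : Function.Surjective (Algebra.TensorProduct.productMap f₁ f₂)) :
    Algebra.IsSeparable K F := by
  refine ⟨fun x => ?_⟩
  rw [← mem_separableClosure_iff]
  obtain ⟨t, rfl⟩ := h x
  induction t using TensorProduct.induction_on with
  | zero => rw [map_zero]; exact (separableClosure K F).zero_mem
  | tmul a b =>
    rw [Algebra.TensorProduct.productMap_apply_tmul]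
    apply (separableClosure K F).mul_mem
    · exact mem_separableClosure_iff.mpr
        ((Algebra.IsSeparable.isSeparable K a).map f₁ f₁.toRingHom.injective)
    · exact mem_separableClosure_iff.mpr
        ((Algebra.IsSeparable.isSeparable K b).map f₂ f₂.toRingHom.injective)
  | add x y hx hy => rw [map_add]; exact (separableClosure K F).add_mem hx hy

end Basic

variable {K} {P : ∀ (E : Type u) [Field E] [Algebra K E], Prop} (hP : GoodClass K P)

include hP

/-- Two members of a good class embed into a common member. -/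
theorem exists_common (L₁ L₂ : Type u) [Field L₁] [Field L₂] [Algebra K L₁] [Algebra K L₂]
    [FiniteDimensional K L₁] [FiniteDimensional K L₂] [Algebra.IsSeparable K L₁]
    [Algebra.IsSeparable K L₂] (h₁ : P L₁) (h₂ : P L₂) :
    ∃ (M : Type u) (_ : Field M) (_ : Algebra K M) (_ : FiniteDimensional K M)
      (_ : Algebra.IsSeparable K M) (_ : L₁ →ₐ[K] M) (_ : L₂ →ₐ[K] M), P M := by
  classical
  have hrank : Module.finrank L₁ (L₁ ⊗[K] L₂) = Module.finrank K L₂ := Module.finrank_baseChange
  have hpos : 0 < Module.finrank K L₂ := Module.finrank_pos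
  haveI : Nontrivial (L₁ ⊗[K] L₂) :=
    Module.nontrivial_of_finrank_pos (R := L₁) (by rw [hrank]; exact hpos)
  obtain ⟨m, hm⟩ := Ideal.exists_maximal (L₁ ⊗[K] L₂)
  letI fM : Field ((L₁ ⊗[K] L₂) ⧸ m) := Ideal.Quotient.field m
  let f₁ : L₁ →ₐ[K] (L₁ ⊗[K] L₂) ⧸ m :=
    (Ideal.Quotient.mkₐ K m).comp Algebra.TensorProduct.includeLeft
  let f₂ : L₂ →ₐ[K] (L₁ ⊗[K] L₂) ⧸ m :=
    (Ideal.Quotient.mkₐ K m).comp Algebra.TensorProduct.includeRight
  have hprod : ∀ t, Algebra.TensorProduct.productMap f₁ f₂ t = Ideal.Quotient.mk m t := by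
    intro t
    induction t using TensorProduct.induction_on with
    | zero => rw [map_zero, map_zero]
    | tmul a b =>
      rw [Algebra.TensorProduct.productMap_apply_tmul]
      show Ideal.Quotient.mk m (a ⊗ₜ 1) * Ideal.Quotient.mk m (1 ⊗ₜ b) = _
      rw [← map_mul, Algebra.TensorProduct.tmul_mul_tmul, mul_one, one_mul]
    | add x y hx hy => rw [map_add, map_add, hx, hy]
  have hsurj : Function.Surjective (Algebra.TensorProduct.productMap f₁ f₂) := by
    intro x
    obtain ⟨t, rfl⟩ := Ideal.Quotient.mk_surjective x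
    exact ⟨t, hprod t⟩
  haveI hfin : FiniteDimensional K ((L₁ ⊗[K] L₂) ⧸ m) := finite_of_surjective f₁ f₂ hsurj
  haveI hsep : Algebra.IsSeparable K ((L₁ ⊗[K] L₂) ⧸ m) := isSeparable_of_surjective f₁ f₂ hsurj
  exact ⟨(L₁ ⊗[K] L₂) ⧸ m, fM, inferInstance, hfin, hsep, f₁, f₂,
    hP.comp L₁ L₂ _ f₁ f₂ hsurj h₁ h₂⟩

/-- A member of a good class embeds into a Galois member. -/
theorem exists_galois (L : Type u) [Field L] [Algebra K L] [FiniteDimensional K L]
    [Algebra.IsSeparable K L] (h : P L) :
    ∃ (M : Type u) (_ : Field M) (_ : Algebra K M) (_ : FiniteDimensional K M) (_ : IsGalois K M)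
      (_ : L →ₐ[K] M), P M := by
  classical
  haveI : Algebra.IsAlgebraic K L := Algebra.IsAlgebraic.of_finite K L
  haveI : IsAlgClosure K (AlgebraicClosure L) := IsAlgClosure.ofAlgebraic K L (AlgebraicClosure L)
  haveI : Normal K (AlgebraicClosure L) := IsAlgClosure.normal K (AlgebraicClosure L)
  -- the predicate on intermediate fields
  let q : IntermediateField K (AlgebraicClosure L) → Prop := fun E =>
    ∃ (_ : FiniteDimensional K E) (_ : Algebra.IsSeparable K E), P E
  have hqbot : q ⊥ := by
    have hfin : FiniteDimensional K (⊥ : IntermediateField K (AlgebraicClosure L)) := inferInstance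
    have hsep : Algebra.IsSeparable K (⊥ : IntermediateField K (AlgebraicClosure L)) :=
      inferInstance
    refine ⟨hfin, hsep, ?_⟩
    exact hP.sub _ L ((Algebra.ofId K L).comp
      (IntermediateField.botEquiv K (AlgebraicClosure L)).toAlgHom) h
  have hqsup : ∀ E₁, q E₁ → ∀ E₂, q E₂ → q (E₁ ⊔ E₂) := by
    rintro E₁ ⟨hf₁, hs₁, hp₁⟩ E₂ ⟨hf₂, hs₂, hp₂⟩
    let f₁ : E₁ →ₐ[K] ↥(E₁ ⊔ E₂) := IntermediateField.inclusion le_sup_left
    let f₂ : E₂ →ₐ[K] ↥(E₁ ⊔ E₂) := IntermediateField.inclusion le_sup_right
    have hval : ∀ t, ((Algebra.TensorProduct.productMap f₁ f₂ t : ↥(E₁ ⊔ E₂)) :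
        AlgebraicClosure L) = Algebra.TensorProduct.productMap E₁.val E₂.val t := by
      intro t
      induction t using TensorProduct.induction_on with
      | zero => simp
      | tmul a b =>
        rw [Algebra.TensorProduct.productMap_apply_tmul,
          Algebra.TensorProduct.productMap_apply_tmul]
        rfl
      | add x y hx hy =>
        rw [map_add, map_add, ← hx, ← hy]
        rfl
    have hsurj : Function.Surjective (Algebra.TensorProduct.productMap f₁ f₂) := by
      rintro ⟨x, hx⟩
      have hx' : x ∈ (E₁ ⊔ E₂).toSubalgebra := hx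
      rw [IntermediateField.sup_toSubalgebra_of_left] at hx'
      have hr : (Algebra.TensorProduct.productMap E₁.val E₂.val).range =
          E₁.toSubalgebra ⊔ E₂.toSubalgebra := by
        rw [Algebra.TensorProduct.productMap_range]
        congr 1
        · exact Subalgebra.range_val _
        · exact Subalgebra.range_val _
      rw [← hr] at hx'
      obtain ⟨t, ht⟩ := hx'
      exact ⟨t, Subtype.ext ((hval t).trans ht)⟩
    haveI hfin : FiniteDimensional K ↥(E₁ ⊔ E₂) := finite_of_surjective f₁ f₂ hsurj
    haveI hsep : Algebra.IsSeparable K ↥(E₁ ⊔ E₂) := isSeparable_of_surjective f₁ f₂ hsurj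
    exact ⟨hfin, hsep, hP.comp E₁ E₂ _ f₁ f₂ hsurj hp₁ hp₂⟩
  have hqrange : ∀ f : L →ₐ[K] AlgebraicClosure L, q f.fieldRange := by
    intro f
    let e : L ≃ₐ[K] f.fieldRange := f.equivFieldRange
    haveI hfin : FiniteDimensional K f.fieldRange := e.toLinearEquiv.finiteDimensional
    haveI hsep : Algebra.IsSeparable K f.fieldRange := AlgEquiv.Algebra.isSeparable e
    exact ⟨hfin, hsep, hP.sub _ L e.symm.toAlgHom h⟩
  have hqN : q (normalClosure K L (AlgebraicClosure L)) := by
    rw [normalClosure_def, ← Finset.sup_univ_eq_iSup]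
    exact Finset.sup_induction hqbot hqsup (fun f _ => hqrange f)
  obtain ⟨hfin, hsep, hp⟩ := hqN
  haveI := hsep
  exact ⟨normalClosure K L (AlgebraicClosure L), inferInstance, inferInstance, hfin,
    { to_isSeparable := hsep, to_normal := inferInstance },
    IsScalarTower.toAlgHom K L (normalClosure K L (AlgebraicClosure L)), hp⟩

end Groth.Agent.Lib.Helper10.GalClosure
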