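import Mathlib
import Groth.Agent.Lib.Helper37.Hz10

/-!
# The fraction field of the strict henselization is separable algebraic (helper10)
-/

set_option autoImplicit false
set_option linter.style.haveILetI false
set_option linter.unusedSectionVars false
universe u

namespace Groth.Agent.Lib.Helper10.SHSep

open IsLocalRing TensorProduct Groth.Agent.Lib.Helper37.Hz

/-- The image of an étale algebra in a field extension consists of separable elements. -/
theorem isSeparable_of_etale_map {A K C K' : Type u} [CommRing A] [Field K] [Algebra A K]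
    [CommRing C] [Algebra A C] [Algebra.Etale A C] [Field K'] [Algebra K K'] [Algebra A K']
    [IsScalarTower A K K'] (φ : C →ₐ[A] K') (c : C) : IsSeparable K (φ c) := by
  let ψ : K ⊗[A] C →ₐ[K] K' :=
    Algebra.TensorProduct.lift (Algebra.ofId K K') φ (fun _ _ => Commute.all _ _)
  haveI fin : Module.Finite K (K ⊗[A] C) :=
    Algebra.FormallyUnramified.finite_of_free (R := K) (S := K ⊗[A] C)
  have halg : ∀ y ∈ Set.range ψ, IsAlgebraic K y := by
    rintro _ ⟨e, rfl⟩
    exact ((Algebra.IsIntegral.isIntegral (R := K) e).map ψ).isAlgebraic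
  have htoSub : (IntermediateField.adjoin K (Set.range ψ)).toSubalgebra = ψ.range := by
    rw [IntermediateField.adjoin_toSubalgebra_of_isAlgebraic halg, ← AlgHom.coe_range,
      Algebra.adjoin_eq]
  let ψ' : K ⊗[A] C →ₐ[K] IntermediateField.adjoin K (Set.range ψ) :=
    ψ.codRestrict (IntermediateField.adjoin K (Set.range ψ)).toSubalgebra
      (fun e => IntermediateField.subset_adjoin K _ ⟨e, rfl⟩)
  have hsurj : Function.Surjective ψ' := by
    intro w
    have hw : (w : K') ∈ (IntermediateField.adjoin K (Set.range ψ)).toSubalgebra := w.2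
    rw [htoSub] at hw
    obtain ⟨e, he⟩ := hw
    exact ⟨e, Subtype.ext he⟩
  haveI : Algebra.FormallyUnramified K (IntermediateField.adjoin K (Set.range ψ)) :=
    Algebra.FormallyUnramified.of_surjective ψ' hsurj
  haveI : Algebra.EssFiniteType K (IntermediateField.adjoin K (Set.range ψ)) :=
    Algebra.EssFiniteType.of_surjective ψ' hsurj
  haveI : Algebra.IsSeparable K (IntermediateField.adjoin K (Set.range ψ)) :=
    Algebra.FormallyUnramified.isSeparable K _
  have hmem : φ c ∈ IntermediateField.adjoin K (Set.range ψ) := by
    apply IntermediateField.subset_adjoin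
    exact ⟨1 ⊗ₜ c, by simp [ψ]⟩
  exact IntermediateField.isSeparable_of_mem_isSeparable K K' hmem

/-- The fraction field of the limit ring `H A Ω` is separable algebraic over any field `K` under
`A` mapping compatibly to it. -/
theorem isSeparable_fractionField (A : Type u) [CommRing A] (Ω : Type u) [Field Ω] [Algebra A Ω]
    (K K' : Type u) [Field K] [Algebra A K] [Field K'] [Algebra (H A Ω) K']
    [IsFractionRing (H A Ω) K'] [Algebra K K'] [Algebra A K'] [IsScalarTower A K K']
    [IsScalarTower A (H A Ω) K'] : Algebra.IsSeparable K K' := by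
  have h1 : ∀ a : H A Ω, algebraMap (H A Ω) K' a ∈ separableClosure K K' := by
    intro a
    obtain ⟨i, y, rfl⟩ := exists_of a
    obtain ⟨c, t, rfl⟩ := IsLocalization.exists_mk'_eq (ptKer i.θ).primeCompl y
    let φ : i.Ring →ₐ[A] K' :=
      ((IsScalarTower.toAlgHom A (H A Ω) K').comp (of i)).comp
        (IsScalarTower.toAlgHom A i.Ring (G i))
    have hc : φ c ∈ separableClosure K K' :=
      mem_separableClosure_iff.mpr (isSeparable_of_etale_map φ c)
    have ht : φ (t : i.Ring) ∈ separableClosure K K' :=
      mem_separableClosure_iff.mpr (isSeparable_of_etale_map φ (t : i.Ring))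
    have hrel : algebraMap (H A Ω) K' (of i (IsLocalization.mk' (G i) c t)) * φ (t : i.Ring)
        = φ c := by
      show _ * algebraMap (H A Ω) K' (of i (algebraMap i.Ring (G i) (t : i.Ring))) =
        algebraMap (H A Ω) K' (of i (algebraMap i.Ring (G i) c))
      rw [← map_mul, ← map_mul, IsLocalization.mk'_spec]
    have ht0 : φ (t : i.Ring) ≠ 0 := by
      have hu : IsUnit (algebraMap i.Ring (G i) (t : i.Ring)) :=
        IsLocalization.map_units (G i) t
      exact ((hu.map (of i)).map (algebraMap (H A Ω) K')).ne_zero
    rw [eq_div_of_mul_eq ht0 hrel]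
    exact div_mem hc ht
  rw [← separableClosure.eq_top_iff, eq_top_iff]
  intro x _
  obtain ⟨a, b, _, rfl⟩ := IsFractionRing.div_surjective (A := H A Ω) x
  exact div_mem (h1 a) (h1 b)

end Groth.Agent.Lib.Helper10.SHSep
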