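import Mathlib
import Groth.Prelude.Def_EtRam
import Groth.Prelude.Def_PiSp
import Groth.Agent.Lib.Helper10.SHSep

/-!
# Residue fields of a Galois cover (helper10)
-/

set_option linter.style.haveILetI false
set_option linter.unusedSectionVars false

universe u

open AlgebraicGeometry CategoryTheory Limits

namespace Groth.Agent.Lib.Helper10.GalCover

/-- The fibre of a finite étale morphism over the residue field of a point, as an algebra with a
point. -/
theorem exists_fiber_algebra {X Y : Scheme.{u}} (f : Y ⟶ X) [IsFinite f] [Etale f] (y : Y) :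
    ∃ (C : Type u) (_ : CommRing C) (_ : Algebra (X.residueField (f.base y)) C)
      (_ : Algebra.Etale (X.residueField (f.base y)) C)
      (_ : Module.Finite (X.residueField (f.base y)) C) (φ : C →+* Y.residueField y),
      φ.comp (algebraMap (X.residueField (f.base y)) C) = (f.residueFieldMap y).hom ∧
      ∀ z : Y.residueField y, ∃ c d : C, φ d ≠ 0 ∧ z * φ d = φ c := by
  let ℓ : Spec (X.residueField (f.base y)) ⟶ X := X.fromSpecResidueField (f.base y)
  -- the pullback
  let P : Scheme.{u} := pullback f ℓ
  let pr₂ : P ⟶ Spec (X.residueField (f.base y)) := pullback.snd f ℓ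
  haveI : IsAffine P := isAffine_of_isAffineHom pr₂
  let e : P ≅ Spec Γ(P, ⊤) := P.isoSpec
  let q : Spec Γ(P, ⊤) ⟶ Spec (X.residueField (f.base y)) := e.inv ≫ pr₂
  haveI : IsFinite q := inferInstance
  haveI : Etale q := inferInstance
  let ρ' : X.residueField (f.base y) ⟶ Γ(P, ⊤) := Spec.preimage q
  have hρ' : Spec.map ρ' = q := Spec.map_preimage q
  have hfin : ρ'.hom.Finite := by
    rw [← IsFinite.SpecMap_iff, hρ']; infer_instance
  have het : ρ'.hom.Etale := by
    rw [← HasRingHomProperty.Spec_iff (P := @Etale), hρ']; infer_instance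
  -- the point
  have hcomm : Y.fromSpecResidueField y ≫ f = Spec.map (f.residueFieldMap y) ≫ ℓ :=
    (Scheme.Hom.SpecMap_residueFieldMap_fromSpecResidueField f y).symm
  let j : Spec (Y.residueField y) ⟶ P :=
    pullback.lift (Y.fromSpecResidueField y) (Spec.map (f.residueFieldMap y)) hcomm
  have hj1 : j ≫ pullback.fst f ℓ = Y.fromSpecResidueField y := pullback.lift_fst _ _ _
  have hj2 : j ≫ pr₂ = Spec.map (f.residueFieldMap y) := pullback.lift_snd _ _ _
  haveI : IsPreimmersion (j ≫ pullback.fst f ℓ) := by rw [hj1]; infer_instance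
  haveI hjpre : IsPreimmersion j :=
    { isEmbedding := by
        have h := (j ≫ pullback.fst f ℓ).isEmbedding
        exact Topology.IsEmbedding.of_comp j.continuous (pullback.fst f ℓ).continuous h
      stalkMap_surjective := fun x => by
        have h := (j ≫ pullback.fst f ℓ).stalkMap_surjective x
        rw [Scheme.Hom.stalkMap_comp] at h
        exact Function.Surjective.of_comp h }
  let j' : Spec (Y.residueField y) ⟶ Spec Γ(P, ⊤) := j ≫ e.hom
  haveI : IsPreimmersion j' := inferInstance
  let φ' : Γ(P, ⊤) ⟶ Y.residueField y := Spec.preimage j'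
  have hφ' : Spec.map φ' = j' := Spec.map_preimage j'
  have hcomp : ρ' ≫ φ' = f.residueFieldMap y := by
    apply Spec.map_injective
    rw [Spec.map_comp, hφ', hρ']
    show (j ≫ e.hom) ≫ e.inv ≫ pr₂ = _
    rw [Category.assoc, Iso.hom_inv_id_assoc]
    exact hj2
  have hsos : φ'.hom.SurjectiveOnStalks := by
    have h : IsPreimmersion (Spec.map φ') := by rw [hφ']; infer_instance
    exact ((IsPreimmersion.SpecMap_iff φ').mp h).2
  letI algAC : Algebra (X.residueField (f.base y)) Γ(P, ⊤) := ρ'.hom.toAlgebra
  refine ⟨Γ(P, ⊤), inferInstance, algAC, het, hfin, φ'.hom, ?_, ?_⟩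
  · have := congrArg CommRingCat.Hom.hom hcomp
    exact this
  · intro z
    have h1 := (RingHom.surjective_localRingHom_iff (f := φ'.hom) (⊥ : Ideal (Y.residueField y))).mp
      (hsos ⊥ inferInstance) z
    obtain ⟨x, r, c, hc, hr, hcr⟩ := h1
    have hc0 : c ≠ 0 := fun h => hc (by rw [h]; exact Ideal.zero_mem _)
    have hr0 : φ'.hom r ≠ 0 := fun h => hr (by rw [h]; exact Ideal.zero_mem _)
    refine ⟨x, r, hr0, ?_⟩
    have h2 : c * (z * φ'.hom r) = c * φ'.hom x := by
      rw [← hcr]; ring
    exact mul_left_cancel₀ hc0 h2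

/-- The residue field extension of a finite étale morphism is finite separable. -/
theorem finite_separable {X Y : Scheme.{u}} (f : Y ⟶ X) [IsFinite f] [Etale f] (y : Y) :
    letI := (f.residueFieldMap y).hom.toAlgebra
    FiniteDimensional (X.residueField (f.base y)) (Y.residueField y) ∧
      Algebra.IsSeparable (X.residueField (f.base y)) (Y.residueField y) := by
  letI := (f.residueFieldMap y).hom.toAlgebra
  obtain ⟨C, _, _, _, _, φ, hφ, hfrac⟩ := exists_fiber_algebra f y
  let φa : C →ₐ[X.residueField (f.base y)] Y.residueField y :=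
    { φ with commutes' := fun r => RingHom.congr_fun hφ r }
  have hsurj : Function.Surjective φa := by
    intro z
    obtain ⟨c, d, hd, hz⟩ := hfrac z
    have hdalg : IsAlgebraic (X.residueField (f.base y)) (φa d) :=
      ((Algebra.IsIntegral.isIntegral (R := X.residueField (f.base y)) d).map φa).isAlgebraic
    have hinv : (φa d)⁻¹ ∈ φa.range :=
      Subalgebra.inv_mem_of_algebraic φa.range (x := ⟨φa d, ⟨d, rfl⟩⟩) hdalg
    have hzmem : z ∈ φa.range := by
      have : z = φa c * (φa d)⁻¹ := by
        have hd' : φa d ≠ 0 := hd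
        field_simp
        exact hz
      rw [this]
      exact mul_mem ⟨c, rfl⟩ hinv
    exact hzmem
  refine ⟨Module.Finite.of_surjective φa.toLinearMap hsurj, ⟨fun z => ?_⟩⟩
  obtain ⟨c, rfl⟩ := hsurj z
  exact Groth.Agent.Lib.Helper10.SHSep.isSeparable_of_etale_map φa c

section Key

variable {W : Scheme.{u}} (Ω : Type u) [Field Ω]

/-- A point `Spec Ω ⟶ W` at `z` factors through the residue field at `z`. -/
theorem exists_factor (z : W) (t : Spec (CommRingCat.of Ω) ⟶ W)
    (ht : t.base (IsLocalRing.closedPoint Ω) = z) :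
    ∃ τ : W.residueField z ⟶ CommRingCat.of Ω, t = Spec.map τ ≫ W.fromSpecResidueField z := by
  subst ht
  exact ⟨_, (Scheme.descResidueField_stalkClosedPointTo_fromSpecResidueField Ω W t).symm⟩

theorem base_factor (z : W) (τ : W.residueField z ⟶ CommRingCat.of Ω)
    (pt : Spec (CommRingCat.of Ω)) :
    (Spec.map τ ≫ W.fromSpecResidueField z).base pt = z := by
  simp

/-- If an endomorphism `g` of `W` carries one `Ω`-point at `z` to another, the two differ by an
endomorphism of the residue field. -/
theorem exists_residue_endo (g : W ⟶ W) (z : W) (τ₁ τ₂ : W.residueField z ⟶ CommRingCat.of Ω)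
    (h : (Spec.map τ₁ ≫ W.fromSpecResidueField z) ≫ g = Spec.map τ₂ ≫ W.fromSpecResidueField z) :
    g.base z = z ∧ ∃ α : W.residueField z ⟶ W.residueField z, α ≫ τ₁ = τ₂ := by
  have hz : g.base z = z := by
    have h1 := congrArg (fun t : Spec (CommRingCat.of Ω) ⟶ W => t.base (IsLocalRing.closedPoint Ω)) h
    simpa using h1
  refine ⟨hz, (W.residueFieldCongr hz.symm).hom ≫ g.residueFieldMap z, ?_⟩
  apply Spec.map_injective
  rw [← cancel_mono (W.fromSpecResidueField z), ← h]
  rw [Spec.map_comp, Spec.map_comp, Category.assoc, Category.assoc, Category.assoc,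
    Scheme.residueFieldCongr_fromSpecResidueField,
    Scheme.Hom.SpecMap_residueFieldMap_fromSpecResidueField]

end Key

section Galois

variable {X : Scheme.{u}} (Z : FEt.Cat X)

/-- The action of `Aut Z` on a geometric fibre. -/
noncomputable instance fiberAction {Ω : Type u} [Field Ω] (ξ : Spec (CommRingCat.of Ω) ⟶ X) :
    MulAction (Aut Z) (FEt.fiberObj ξ Z) where
  smul σ s := ⟨s.1 ≫ σ.hom.left, by
    rw [Category.assoc]; exact (congrArg (s.1 ≫ ·) (Over.w σ.hom.hom)).trans s.2⟩
  one_smul s := Subtype.ext (Category.comp_id _)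
  mul_smul σ τ s := Subtype.ext (Category.assoc _ _ _).symm

theorem smul_val {Ω : Type u} [Field Ω] (ξ : Spec (CommRingCat.of Ω) ⟶ X) (σ : Aut Z)
    (s : FEt.fiberObj ξ Z) : (σ • s).1 = s.1 ≫ σ.hom.left := rfl

theorem smul_eq_map {Ω : Type u} [Field Ω] (ξ : Spec (CommRingCat.of Ω) ⟶ X) (σ : Aut Z)
    (s : FEt.fiberObj ξ Z) : σ • s = (FEt.fiber ξ).map σ.hom s := rfl

/-- The stabilizer of a point of `Z`. -/
def stab (z : Z.left) : Subgroup (Aut Z) where
  carrier := {σ | σ.hom.left.base z = z}
  mul_mem' {σ τ} hσ hτ := by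
    show (τ.hom.left ≫ σ.hom.left).base z = z
    have hσ' : σ.hom.left.base z = z := hσ
    have hτ' : τ.hom.left.base z = z := hτ
    simp [hσ', hτ']
  one_mem' := by
    show (𝟙 Z.left : Z.left ⟶ Z.left).base z = z
    simp
  inv_mem' {σ} hσ := by
    show σ.inv.left.base z = z
    have hσ' : σ.hom.left.base z = z := hσ
    have h1 : (σ.hom.left ≫ σ.inv.left).base z = z := by
      have := congrArg (fun f => f.left) σ.hom_inv_id
      have h2 : σ.hom.left ≫ σ.inv.left = 𝟙 Z.left := this
      rw [h2]; simp
    simpa [hσ'] using h1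

theorem mem_stab (z : Z.left) (σ : Aut Z) : σ ∈ stab Z z ↔ σ.hom.left.base z = z := Iff.rfl

end Galois

section Main

variable {X : Scheme.{u}} (Z : FEt.Cat X) (z : Z.left)

theorem normal_and_finrank_dvd (hZ : PiSp.IsGaloisCover Z) :
    letI : Algebra (X.residueField (Z.hom.base z)) (Z.left.residueField z) :=
      (Z.hom.residueFieldMap z).hom.toAlgebra
    Normal (X.residueField (Z.hom.base z)) (Z.left.residueField z) ∧
      Module.finrank (X.residueField (Z.hom.base z)) (Z.left.residueField z) ∣
        Nat.card (Aut Z) := by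
  letI algKL : Algebra (X.residueField (Z.hom.base z)) (Z.left.residueField z) :=
    (Z.hom.residueFieldMap z).hom.toAlgebra
  haveI : IsFinite Z.hom := Z.prop.1
  haveI : Etale Z.hom := Z.prop.2
  have hfs := finite_separable Z.hom z
  haveI hfin : FiniteDimensional (X.residueField (Z.hom.base z)) (Z.left.residueField z) := hfs.1
  haveI hsep : Algebra.IsSeparable (X.residueField (Z.hom.base z)) (Z.left.residueField z) :=
    hfs.2
  let ι : Z.left.residueField z →ₐ[X.residueField (Z.hom.base z)]
      AlgebraicClosure (Z.left.residueField z) :=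
    IsScalarTower.toAlgHom _ _ _
  let ξ : Spec (CommRingCat.of (AlgebraicClosure (Z.left.residueField z))) ⟶ X :=
    Spec.map (CommRingCat.ofHom (algebraMap (X.residueField (Z.hom.base z))
      (AlgebraicClosure (Z.left.residueField z)))) ≫ X.fromSpecResidueField (Z.hom.base z)
  -- the fibre point of an embedding
  have hΦ : ∀ τ : Z.left.residueField z →ₐ[X.residueField (Z.hom.base z)]
      AlgebraicClosure (Z.left.residueField z),
      (Spec.map (CommRingCat.ofHom τ.toRingHom) ≫ Z.left.fromSpecResidueField z) ≫ Z.hom = ξ := by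
    intro τ
    rw [Category.assoc, ← Scheme.Hom.SpecMap_residueFieldMap_fromSpecResidueField,
      ← Spec.map_comp_assoc]
    congr 2
    ext r
    exact τ.commutes r
  let Φ : (Z.left.residueField z →ₐ[X.residueField (Z.hom.base z)]
      AlgebraicClosure (Z.left.residueField z)) → FEt.fiberObj ξ Z := fun τ =>
    ⟨Spec.map (CommRingCat.ofHom τ.toRingHom) ≫ Z.left.fromSpecResidueField z, hΦ τ⟩
  have hΦinj : Function.Injective Φ := by
    intro τ₁ τ₂ h12
    have h1 : Spec.map (CommRingCat.ofHom τ₁.toRingHom) ≫ Z.left.fromSpecResidueField z =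
        Spec.map (CommRingCat.ofHom τ₂.toRingHom) ≫ Z.left.fromSpecResidueField z :=
      congrArg Subtype.val h12
    rw [cancel_mono] at h1
    have h2 := Spec.map_injective h1
    have h3 : τ₁.toRingHom = τ₂.toRingHom := congrArg CommRingCat.Hom.hom h2
    ext x
    exact RingHom.congr_fun h3 x
  -- transitivity
  have htrans : ∀ τ, ∃ σ : Aut Z, σ • Φ ι = Φ τ := fun τ => hZ.2 _ ξ (Φ ι) (Φ τ)
  have hrange : ∀ τ : Z.left.residueField z →ₐ[X.residueField (Z.hom.base z)]
      AlgebraicClosure (Z.left.residueField z), ∀ x, ∃ y, τ x = ι y := by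
    intro τ x
    obtain ⟨σ, hσ⟩ := htrans τ
    have h1 : (Spec.map (CommRingCat.ofHom ι.toRingHom) ≫ Z.left.fromSpecResidueField z) ≫
        σ.hom.left = Spec.map (CommRingCat.ofHom τ.toRingHom) ≫ Z.left.fromSpecResidueField z :=
      congrArg Subtype.val hσ
    obtain ⟨-, α, hα⟩ := exists_residue_endo _ σ.hom.left z _ _ h1
    refine ⟨α.hom x, ?_⟩
    have := congrArg (fun f => f.hom x) hα
    exact this.symm
  haveI : Algebra.IsAlgebraic (X.residueField (Z.hom.base z))
      (AlgebraicClosure (Z.left.residueField z)) :=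
    Algebra.IsAlgebraic.trans (X.residueField (Z.hom.base z)) (Z.left.residueField z) _
  haveI : IsAlgClosure (X.residueField (Z.hom.base z))
      (AlgebraicClosure (Z.left.residueField z)) := ⟨inferInstance, inferInstance⟩
  have hnormal : Normal (X.residueField (Z.hom.base z)) (Z.left.residueField z) := by
    haveI : Normal (X.residueField (Z.hom.base z)) ι.fieldRange := by
      rw [IntermediateField.normal_iff_forall_fieldRange_le]
      intro σ' y hy
      obtain ⟨e, rfl⟩ := hy
      obtain ⟨x', hx'⟩ := e.2
      obtain ⟨y', hy'⟩ := hrange (σ'.comp ι.equivFieldRange.toAlgHom) x'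
      have he : e = ι.equivFieldRange x' := Subtype.ext hx'.symm
      refine ⟨y', ?_⟩
      show ι y' = σ' e
      rw [← hy', he]
      rfl
    exact Normal.of_algEquiv ι.equivFieldRange.symm
  refine ⟨hnormal, ?_⟩
  -- counting
  have hcard : Module.finrank (X.residueField (Z.hom.base z)) (Z.left.residueField z) =
      (Set.range Φ).ncard := by
    rw [← Field.finSepDegree_eq_finrank_of_isSeparable, Set.ncard_range_of_injective hΦinj]
    rfl
  have horbit : Set.range Φ = MulAction.orbit (stab Z z) (Φ ι) := by
    ext s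
    constructor
    · rintro ⟨τ, rfl⟩
      obtain ⟨σ, hσ⟩ := htrans τ
      have h1 : (Spec.map (CommRingCat.ofHom ι.toRingHom) ≫ Z.left.fromSpecResidueField z) ≫
          σ.hom.left = Spec.map (CommRingCat.ofHom τ.toRingHom) ≫ Z.left.fromSpecResidueField z :=
        congrArg Subtype.val hσ
      obtain ⟨hz, -⟩ := exists_residue_endo _ σ.hom.left z _ _ h1
      exact ⟨⟨σ, hz⟩, hσ⟩
    · rintro ⟨h, rfl⟩
      have hpt : ((h : Aut Z) • Φ ι).1.base
          (IsLocalRing.closedPoint (AlgebraicClosure (Z.left.residueField z))) = z := by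
        rw [smul_val]
        have h2 : (h : Aut Z).hom.left.base z = z := h.2
        have h3 : ((Φ ι).1 ≫ (h : Aut Z).hom.left).base
            (IsLocalRing.closedPoint (AlgebraicClosure (Z.left.residueField z))) =
            (h : Aut Z).hom.left.base ((Φ ι).1.base
              (IsLocalRing.closedPoint (AlgebraicClosure (Z.left.residueField z)))) := rfl
        rw [h3]
        have h4 : (Φ ι).1.base
            (IsLocalRing.closedPoint (AlgebraicClosure (Z.left.residueField z))) = z :=
          base_factor _ z _ _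
        rw [h4]
        exact h2
      obtain ⟨τ', hτ'⟩ := exists_factor _ z _ hpt
      have hlin : Z.hom.residueFieldMap z ≫ τ' = CommRingCat.ofHom
          (algebraMap (X.residueField (Z.hom.base z))
            (AlgebraicClosure (Z.left.residueField z))) := by
        apply Spec.map_injective
        rw [← cancel_mono (X.fromSpecResidueField (Z.hom.base z))]
        have h3 := ((h : Aut Z) • Φ ι).2
        rw [hτ'] at h3
        rw [Spec.map_comp, Category.assoc,
          Scheme.Hom.SpecMap_residueFieldMap_fromSpecResidueField]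
        exact h3
      let τ'' : Z.left.residueField z →ₐ[X.residueField (Z.hom.base z)]
          AlgebraicClosure (Z.left.residueField z) :=
        { τ'.hom with commutes' := fun r => congrArg (fun f => f.hom r) hlin }
      refine ⟨τ'', Subtype.ext ?_⟩
      exact hτ'.symm
  rw [hcard, horbit, ← MulAction.index_stabilizer]
  exact (Subgroup.index_dvd_card _).trans (Subgroup.card_subgroup_dvd_card _)

end Main

end Groth.Agent.Lib.Helper10.GalCover
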