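import Mathlib
import Groth.Prelude.Def_EtRam
import Groth.Agent.Lib.Helper10.RamTower
import Groth.Agent.Lib.Helper39.DVRIntersect

/-!
# Valuation subrings as localizations (helper10)

* `isLocalization_atPrime_of_valuationRing` : if `C → W` is injective with `W` a valuation subring
  of `F = Frac C`, and the localization of `C` at the centre `P` of `W` is a valuation ring, then
  `W` is that localization.
* `valuationRing_localization_of_unramified`: `C` essentially of finite type and formally
  unramified over a DVR-like local ring `B`, centre lying over `m_B`: `C_P` is a DVR.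
* `essFiniteType_of_dominates`: a valuation subring of a finite separable extension dominating a
  DVR `A` is essentially of finite type over `A`.
-/

set_option linter.style.haveILetI false
set_option linter.unusedSectionVars false
set_option linter.overlappingInstances false

universe u

namespace Groth.Agent.Lib.Helper10.ValLoc

open IsLocalRing

section Y

variable {F : Type*} [Field F] {C : Type*} [CommRing C] [IsDomain C]

theorem isLocalization_atPrime_of_valuationRing (W : ValuationSubring F) [Algebra C W]
    (hinj : Function.Injective (algebraMap C W))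
    (hfrac : ∀ x : F, ∃ c₁ c₂ : C, c₂ ≠ 0 ∧
      x * ((algebraMap C W c₂ : W) : F) = ((algebraMap C W c₁ : W) : F))
    (P : Ideal C) [P.IsPrime] (hP : P = (maximalIdeal W).comap (algebraMap C W))
    [ValuationRing (Localization.AtPrime P)] : IsLocalization.AtPrime W P := by
  have hPle : P.primeCompl ≤ nonZeroDivisors C := P.primeCompl_le_nonZeroDivisors
  have hCD : Function.Injective (algebraMap C (Localization.AtPrime P)) :=
    IsLocalization.injective _ hPle
  have hunit : ∀ s : C, s ∉ P → IsUnit (algebraMap C W s) := by
    intro s hs
    rw [hP, Ideal.mem_comap] at hs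
    exact notMem_maximalIdeal.mp hs
  have hCF : ∀ c : C, ((algebraMap C W c : W) : F) = 0 → c = 0 := by
    intro c hc
    apply hinj
    rw [map_zero]
    exact Subtype.ext hc
  refine (isLocalization_iff _ _).mpr ⟨fun s => hunit s s.2, ?_, ?_⟩
  · intro w
    obtain ⟨c₁, c₂, hc₂, hw⟩ := hfrac (w : F)
    have hc₂F : ((algebraMap C W c₂ : W) : F) ≠ 0 := fun h => hc₂ (hCF _ h)
    rcases ValuationRing.dvd_total (algebraMap C (Localization.AtPrime P) c₁)
      (algebraMap C (Localization.AtPrime P) c₂) with ⟨d, hd⟩ | ⟨d, hd⟩
    · -- c₂ = c₁ * d
      obtain ⟨⟨c, s⟩, hcs⟩ := IsLocalization.surj P.primeCompl d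
      have h1 : c₂ * (s : C) = c₁ * c := by
        apply hCD
        rw [map_mul, map_mul, hd, mul_assoc, hcs]
      have hc₁ : c₁ ≠ 0 := by
        rintro rfl
        rw [zero_mul] at h1
        rcases mul_eq_zero.mp h1 with h | h
        · exact hc₂ h
        · exact s.2 (h ▸ P.zero_mem)
      have hc₁F : ((algebraMap C W c₁ : W) : F) ≠ 0 := fun h => hc₁ (hCF _ h)
      have h2 : (w : F) * ((algebraMap C W c : W) : F) = ((algebraMap C W (s : C) : W) : F) := by
        have h3 : ((algebraMap C W c₂ : W) : F) * ((algebraMap C W (s : C) : W) : F) =
            ((algebraMap C W c₁ : W) : F) * ((algebraMap C W c : W) : F) := by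
          have := congrArg (fun z => ((algebraMap C W z : W) : F)) h1
          simpa using this
        apply mul_left_cancel₀ hc₁F
        linear_combination (-(w : F)) * h3 + ((algebraMap C W (s : C) : W) : F) * hw
      by_cases hcP : c ∈ P
      · exfalso
        have hcm : algebraMap C W c ∈ maximalIdeal W := by
          rw [hP, Ideal.mem_comap] at hcP
          exact hcP
        have hsu : IsUnit (algebraMap C W (s : C)) := hunit s s.2
        have h4 : w * algebraMap C W c = algebraMap C W (s : C) := Subtype.ext h2
        have h5 : algebraMap C W (s : C) ∈ maximalIdeal W := by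
          rw [← h4]
          exact Ideal.mul_mem_left _ _ hcm
        exact (mem_maximalIdeal _).mp h5 hsu
      · exact ⟨((s : C), ⟨c, hcP⟩), Subtype.ext h2⟩
    · -- c₁ = c₂ * d
      obtain ⟨⟨c, s⟩, hcs⟩ := IsLocalization.surj P.primeCompl d
      have h1 : c₁ * (s : C) = c₂ * c := by
        apply hCD
        rw [map_mul, map_mul, hd, mul_assoc, hcs]
      refine ⟨(c, s), Subtype.ext ?_⟩
      have h3 : ((algebraMap C W c₁ : W) : F) * ((algebraMap C W (s : C) : W) : F) =
          ((algebraMap C W c₂ : W) : F) * ((algebraMap C W c : W) : F) := by
        have := congrArg (fun z => ((algebraMap C W z : W) : F)) h1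
        simpa using this
      show (w : F) * ((algebraMap C W (s : C) : W) : F) = ((algebraMap C W c : W) : F)
      apply mul_left_cancel₀ hc₂F
      linear_combination ((algebraMap C W (s : C) : W) : F) * hw + h3
  · intro x y hxy
    exact ⟨1, by rw [hinj hxy]⟩

end Y

section Z

variable {B : Type*} [CommRing B] [IsLocalRing B] [IsNoetherianRing B]
  {C : Type*} [CommRing C] [IsDomain C] [Algebra B C]
  [Algebra.EssFiniteType B C] [Algebra.FormallyUnramified B C]

/-- The localization of a formally unramified, essentially finite type domain over a local ring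
`B` with principal maximal ideal at a prime over `m_B` is a DVR. -/
theorem isDiscreteValuationRing_localization_of_unramified (P : Ideal C) [P.IsPrime]
    (hP : maximalIdeal B ≤ P.comap (algebraMap B C)) (π : B) (hπ : maximalIdeal B = Ideal.span {π})
    (hπ0 : algebraMap B C π ≠ 0) : IsDiscreteValuationRing (Localization.AtPrime P) := by
  have hPle : P.primeCompl ≤ nonZeroDivisors C := P.primeCompl_le_nonZeroDivisors
  have hCD : Function.Injective (algebraMap C (Localization.AtPrime P)) :=
    IsLocalization.injective _ hPle
  haveI : IsDomain (Localization.AtPrime P) := IsLocalization.isDomain_localization hPle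
  haveI : Algebra.EssFiniteType C (Localization.AtPrime P) :=
    Algebra.EssFiniteType.of_isLocalization _ P.primeCompl
  haveI : Algebra.EssFiniteType B (Localization.AtPrime P) := Algebra.EssFiniteType.comp B C _
  haveI : Algebra.FormallyUnramified C (Localization.AtPrime P) :=
    Algebra.FormallyUnramified.of_isLocalization P.primeCompl
  haveI : Algebra.FormallyUnramified B (Localization.AtPrime P) :=
    Algebra.FormallyUnramified.comp B C _
  haveI : IsNoetherianRing C := Algebra.EssFiniteType.isNoetherianRing B C
  haveI : IsNoetherianRing (Localization.AtPrime P) :=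
    IsLocalization.isNoetherianRing P.primeCompl _ inferInstance
  haveI : IsLocalHom (algebraMap B (Localization.AtPrime P)) := by
    apply ((local_hom_TFAE (algebraMap B (Localization.AtPrime P))).out 0 3).mpr
    intro b hb
    rw [Ideal.mem_comap, IsScalarTower.algebraMap_apply B C (Localization.AtPrime P),
      IsLocalization.AtPrime.to_map_mem_maximal_iff _ P]
    exact hP hb
  have hmap := Algebra.FormallyUnramified.map_maximalIdeal (R := B) (S := Localization.AtPrime P)
  have hm : maximalIdeal (Localization.AtPrime P) =
      Ideal.span {algebraMap B (Localization.AtPrime P) π} := by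
    rw [← hmap, hπ, Ideal.map_span, Set.image_singleton]
  have hne : algebraMap B (Localization.AtPrime P) π ≠ 0 := by
    rw [IsScalarTower.algebraMap_apply B C (Localization.AtPrime P)]
    intro h
    exact hπ0 (hCD (by rw [h, map_zero]))
  have hnf : ¬ IsField (Localization.AtPrime P) := by
    rw [IsLocalRing.isField_iff_maximalIdeal_eq, hm, Ideal.span_singleton_eq_bot]
    exact hne
  have hprinc : (maximalIdeal (Localization.AtPrime P)).IsPrincipal := ⟨⟨_, hm⟩⟩
  exact ((IsDiscreteValuationRing.TFAE (Localization.AtPrime P) hnf).out 4 0).mp hprinc

end Z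

section E

variable (A K : Type u) [CommRing A] [IsDomain A] [IsDiscreteValuationRing A] [Field K]
  [Algebra A K] [IsFractionRing A K] (L : Type u) [Field L] [Algebra K L] [FiniteDimensional K L]
  [Algebra.IsSeparable K L]

/-- A valuation subring of a finite separable extension of `Frac A` dominating the DVR `A` is
essentially of finite type over `A` (it is a localization of the integral closure). -/
theorem essFiniteType_of_dominates (V : ValuationSubring L)
    (h : EtRam.Dominates A ((algebraMap K L).comp (algebraMap A K)) V) :
    letI : Algebra A V :=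
      (RingHom.codRestrict ((algebraMap K L).comp (algebraMap A K)) V h.1).toAlgebra
    Algebra.EssFiniteType A V := by
  letI : Algebra A L := ((algebraMap K L).comp (algebraMap A K)).toAlgebra
  haveI : IsScalarTower A K L := IsScalarTower.of_algebraMap_eq (fun _ => rfl)
  letI algAV : Algebra A V :=
    (RingHom.codRestrict ((algebraMap K L).comp (algebraMap A K)) V h.1).toAlgebra
  haveI : IsScalarTower A V L := IsScalarTower.of_algebraMap_eq (fun _ => rfl)
  haveI : IsDedekindDomain (integralClosure A L) := integralClosure.isDedekindDomain A K L
  haveI : IsFractionRing (integralClosure A L) L :=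
    IsIntegralClosure.isFractionRing_of_finite_extension A K L (integralClosure A L)
  haveI : Module.Finite A (integralClosure A L) :=
    IsIntegralClosure.finite A K L (integralClosure A L)
  have hCV : ∀ x : integralClosure A L, (x : L) ∈ V := fun x =>
    Groth.Agent.Lib.Helper39.KA.mem_valuationSubring_of_isIntegral V h.1 x.2
  let ι : integralClosure A L →+* V :=
    { toFun := fun x => ⟨x, hCV x⟩
      map_one' := rfl
      map_mul' := fun _ _ => rfl
      map_zero' := rfl
      map_add' := fun _ _ => rfl }
  letI : Algebra (integralClosure A L) V := ι.toAlgebra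
  haveI : IsScalarTower A (integralClosure A L) V :=
    IsScalarTower.of_algebraMap_eq (fun a => rfl)
  have hinj : Function.Injective (algebraMap (integralClosure A L) V) := fun x y hxy =>
    Subtype.ext (congrArg (fun z : V => (z : L)) hxy)
  let P : Ideal (integralClosure A L) := (maximalIdeal V).comap (algebraMap (integralClosure A L) V)
  haveI : P.IsPrime := Ideal.comap_isPrime _ _
  have hP0 : P ≠ ⊥ := by
    obtain ⟨ϖ, hϖ⟩ := IsDiscreteValuationRing.exists_irreducible A
    have hm : ϖ ∈ maximalIdeal A := by
      rw [mem_maximalIdeal, mem_nonunits_iff]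
      exact hϖ.not_isUnit
    have h1 := h.2 ϖ hm
    have hinj' : Function.Injective ((algebraMap K L).comp (algebraMap A K)) :=
      (algebraMap K L).injective.comp (IsFractionRing.injective A K)
    intro hbot
    have hmem : algebraMap A (integralClosure A L) ϖ ∈ P := by
      show algebraMap (integralClosure A L) V (algebraMap A (integralClosure A L) ϖ) ∈ maximalIdeal V
      rw [ValuationSubring.valuation_lt_one_iff]
      exact h1
    rw [hbot, Ideal.mem_bot] at hmem
    have h2 : ((algebraMap K L).comp (algebraMap A K)) ϖ = 0 :=
      congrArg (fun z : integralClosure A L => (z : L)) hmem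
    exact hϖ.ne_zero (hinj' (by rw [h2, map_zero]))
  haveI : IsDiscreteValuationRing (Localization.AtPrime P) :=
    IsLocalization.AtPrime.isDiscreteValuationRing_of_dedekind_domain (integralClosure A L) hP0 _
  have hfrac : ∀ x : L, ∃ c₁ c₂ : integralClosure A L, c₂ ≠ 0 ∧
      x * ((algebraMap (integralClosure A L) V c₂ : V) : L) =
        ((algebraMap (integralClosure A L) V c₁ : V) : L) := by
    intro x
    obtain ⟨⟨c₁, c₂⟩, hc⟩ := IsLocalization.surj (nonZeroDivisors (integralClosure A L)) x
    exact ⟨c₁, c₂, nonZeroDivisors.ne_zero c₂.2, hc⟩
  haveI : IsLocalization.AtPrime V P :=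
    isLocalization_atPrime_of_valuationRing V hinj hfrac P rfl
  haveI : Algebra.EssFiniteType (integralClosure A L) V :=
    Algebra.EssFiniteType.of_isLocalization V P.primeCompl
  exact Algebra.EssFiniteType.comp A (integralClosure A L) V

end E

end Groth.Agent.Lib.Helper10.ValLoc
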