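import Mathlib
import Groth.Prelude.Def_EtRam
import Groth.Agent.Lib.Helper10.RamTower
import Groth.Agent.Lib.Helper10.ValLoc
import Groth.Agent.Lib.Helper39.DVRIntersect

/-!
# Galois extensions of degree prime to the residue characteristic are tame (helper10)
-/

set_option linter.style.haveILetI false
set_option linter.unusedSectionVars false
set_option linter.overlappingInstances false

universe u

namespace Groth.Agent.Lib.Helper10.GalTame

open IsLocalRing

/-- A finite field extension of degree prime to the characteristic is separable. -/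
theorem isSeparable_of_not_dvd_finrank {F E : Type*} [Field F] [Field E] [Algebra F E]
    [FiniteDimensional F E] (p : ℕ) (hp : p.Prime) [CharP F p]
    (h : ¬ p ∣ Module.finrank F E) : Algebra.IsSeparable F E := by
  rw [← Field.finSepDegree_eq_finrank_iff]
  haveI : Fact p.Prime := ⟨hp⟩
  haveI : ExpChar F p := ExpChar.prime hp
  obtain ⟨n, hn⟩ := finInsepDegree_eq_pow (F := F) (E := E) p
  have hmul := Field.finSepDegree_mul_finInsepDegree F E
  rcases n with _ | n
  · rw [hn, pow_zero, mul_one] at hmul
    exact hmul
  · exfalso
    apply h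
    rw [← hmul, hn, pow_succ]
    exact Dvd.dvd.mul_left (Dvd.intro_left _ rfl) _

section Main

variable (A K : Type u) [CommRing A] [IsDomain A] [IsDiscreteValuationRing A] [Field K]
  [Algebra A K] [IsFractionRing A K] (L : Type u) [Field L] [Algebra K L] [FiniteDimensional K L]
  [IsGalois K L]

open Ideal in
/-- A finite Galois extension whose degree is prime to the residue characteristic is tamely
ramified. -/
theorem isTamelyRamified_of_isGalois
    (hm : ∀ p : ℕ, p.Prime → CharP (ResidueField A) p → ¬ p ∣ Module.finrank K L) :
    EtRam.IsTamelyRamified A ((algebraMap K L).comp (algebraMap A K)) := by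
  intro V h
  letI algAV : Algebra A V :=
    (RingHom.codRestrict ((algebraMap K L).comp (algebraMap A K)) V h.1).toAlgebra
  intro hloc
  letI : Algebra A L := ((algebraMap K L).comp (algebraMap A K)).toAlgebra
  haveI : IsScalarTower A K L := IsScalarTower.of_algebraMap_eq (fun _ => rfl)
  haveI : IsScalarTower A V L := IsScalarTower.of_algebraMap_eq (fun _ => rfl)
  haveI : IsDedekindDomain (integralClosure A L) := integralClosure.isDedekindDomain A K L
  haveI : IsFractionRing (integralClosure A L) L :=
    IsIntegralClosure.isFractionRing_of_finite_extension A K L (integralClosure A L)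
  haveI : Module.Finite A (integralClosure A L) :=
    IsIntegralClosure.finite A K L (integralClosure A L)
  have hCV : ∀ x : integralClosure A L, (x : L) ∈ V := fun x =>
    Groth.Agent.Lib.Helper39.KA.mem_valuationSubring_of_isIntegral V h.1 x.2
  let ι : integralClosure A L →+* V :=
    { toFun := fun x => ⟨x, hCV x⟩
      map_one' := rfl
      map_mul' := fun _ _ => rfl
      map_zero' := rfl
      map_add' := fun _ _ => rfl }
  letI : Algebra (integralClosure A L) V := ι.toAlgebra
  haveI : IsScalarTower A (integralClosure A L) V :=
    IsScalarTower.of_algebraMap_eq (fun a => rfl)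
  have hinj : Function.Injective (algebraMap (integralClosure A L) V) := fun x y hxy =>
    Subtype.ext (congrArg (fun z : V => (z : L)) hxy)
  let P : Ideal (integralClosure A L) := (maximalIdeal V).comap (algebraMap (integralClosure A L) V)
  haveI : P.IsPrime := Ideal.comap_isPrime _ _
  have hinj' : Function.Injective ((algebraMap K L).comp (algebraMap A K)) :=
    (algebraMap K L).injective.comp (IsFractionRing.injective A K)
  have hP0 : P ≠ ⊥ := by
    obtain ⟨ϖ, hϖ⟩ := IsDiscreteValuationRing.exists_irreducible A
    have hm : ϖ ∈ maximalIdeal A := by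
      rw [mem_maximalIdeal, mem_nonunits_iff]
      exact hϖ.not_isUnit
    have h1 := h.2 ϖ hm
    intro hbot
    have hmem : algebraMap A (integralClosure A L) ϖ ∈ P := by
      show algebraMap (integralClosure A L) V (algebraMap A (integralClosure A L) ϖ) ∈ maximalIdeal V
      rw [ValuationSubring.valuation_lt_one_iff]
      exact h1
    rw [hbot, Ideal.mem_bot] at hmem
    have h2 : ((algebraMap K L).comp (algebraMap A K)) ϖ = 0 :=
      congrArg (fun z : integralClosure A L => (z : L)) hmem
    exact hϖ.ne_zero (hinj' (by rw [h2, map_zero]))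
  haveI : IsDiscreteValuationRing (Localization.AtPrime P) :=
    IsLocalization.AtPrime.isDiscreteValuationRing_of_dedekind_domain (integralClosure A L) hP0 _
  have hfrac : ∀ x : L, ∃ c₁ c₂ : integralClosure A L, c₂ ≠ 0 ∧
      x * ((algebraMap (integralClosure A L) V c₂ : V) : L) =
        ((algebraMap (integralClosure A L) V c₁ : V) : L) := by
    intro x
    obtain ⟨⟨c₁, c₂⟩, hc⟩ := IsLocalization.surj (nonZeroDivisors (integralClosure A L)) x
    exact ⟨c₁, c₂, nonZeroDivisors.ne_zero c₂.2, hc⟩
  haveI hlocV : IsLocalization.AtPrime V P :=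
    Groth.Agent.Lib.Helper10.ValLoc.isLocalization_atPrime_of_valuationRing V hinj hfrac P rfl
  haveI hVdvr : IsDiscreteValuationRing V :=
    Groth.Agent.Lib.Helper10.RamTower.isDiscreteValuationRing_of_dominates A K L V h
  haveI hPmax : P.IsMaximal := Ideal.IsPrime.isMaximal inferInstance hP0
  have hmA0 : maximalIdeal A ≠ ⊥ := IsDiscreteValuationRing.not_a_field A
  have hAP : maximalIdeal A ≤ P.under A := by
    intro a ha
    show algebraMap (integralClosure A L) V (algebraMap A (integralClosure A L) a) ∈ maximalIdeal V
    rw [ValuationSubring.valuation_lt_one_iff]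
    exact h.2 a ha
  haveI hPover : P.LiesOver (maximalIdeal A) :=
    ⟨(Ideal.IsMaximal.eq_of_le inferInstance (Ideal.IsPrime.ne_top inferInstance) hAP)⟩
  haveI hVoverP : (maximalIdeal V).LiesOver P := ⟨rfl⟩
  haveI hVoverA : (maximalIdeal V).LiesOver (maximalIdeal A) :=
    Ideal.LiesOver.trans (maximalIdeal V) P (maximalIdeal A)
  -- the fundamental identity
  letI act : MulSemiringAction Gal(L/K) (integralClosure A L) :=
    IsIntegralClosure.MulSemiringAction A K L (integralClosure A L)
  haveI : IsGaloisGroup Gal(L/K) A (integralClosure A L) :=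
    IsGaloisGroup.of_isFractionRing _ _ _ K L
  haveI : FaithfulSMul A (integralClosure A L) :=
    (faithfulSMul_iff_algebraMap_injective _ _).mpr (fun a b hab =>
      hinj' (congrArg (fun z : integralClosure A L => (z : L)) hab))
  haveI : Module.Flat A (integralClosure A L) := inferInstance
  have hfund := Ideal.ncard_primesOver_mul_ramificationIdxIn_mul_inertiaDegIn (maximalIdeal A)
    (integralClosure A L) Gal(L/K)
  rw [Ideal.ramificationIdxIn_eq_ramificationIdx (maximalIdeal A) P Gal(L/K),
    Ideal.inertiaDegIn_eq_inertiaDeg (maximalIdeal A) P Gal(L/K),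
    IsGalois.card_aut_eq_finrank] at hfund
  have he_dvd : P.ramificationIdx A ∣ Module.finrank K L :=
    ⟨((maximalIdeal A).primesOver (integralClosure A L)).ncard * P.inertiaDeg A, by
      rw [← hfund]; ring⟩
  have hf_dvd : P.inertiaDeg A ∣ Module.finrank K L :=
    ⟨((maximalIdeal A).primesOver (integralClosure A L)).ncard * P.ramificationIdx A, by
      rw [← hfund]; ring⟩
  -- the ramification index of `V`
  haveI : FaithfulSMul A V :=
    (faithfulSMul_iff_algebraMap_injective _ _).mpr (fun a b hab =>
      hinj' (congrArg (fun z : V => (z : L)) hab))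
  have he1 : Ideal.ramificationIdx' (maximalIdeal A) (maximalIdeal V) =
      (maximalIdeal V).ramificationIdx A :=
    Ideal.ramificationIdx'_eq_ramificationIdx (maximalIdeal A) (maximalIdeal V) hmA0
  haveI : Module.Flat (integralClosure A L) V := IsLocalization.flat V P.primeCompl
  have he2 : (maximalIdeal V).ramificationIdx A =
      P.ramificationIdx A * (maximalIdeal V).ramificationIdx (integralClosure A L) :=
    Ideal.ramificationIdx_tower P (maximalIdeal V)
  haveI : Algebra.EssFiniteType (integralClosure A L) V :=
    Algebra.EssFiniteType.of_isLocalization V P.primeCompl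
  haveI : Algebra.FormallyUnramified (integralClosure A L) V :=
    Algebra.FormallyUnramified.of_isLocalization P.primeCompl
  haveI : Algebra.IsUnramifiedAt (integralClosure A L) (maximalIdeal V) := by
    haveI : Algebra.FormallyUnramified V (Localization.AtPrime (maximalIdeal V)) :=
      Algebra.FormallyUnramified.of_isLocalization (maximalIdeal V).primeCompl
    exact Algebra.FormallyUnramified.comp (integralClosure A L) V _
  have he3 : (maximalIdeal V).ramificationIdx (integralClosure A L) = 1 :=
    Ideal.ramificationIdx_eq_one _ _
  have he : Ideal.ramificationIdx' (maximalIdeal A) (maximalIdeal V) ∣ Module.finrank K L := by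
    rw [he1, he2, he3, mul_one]
    exact he_dvd
  -- the residue field extension
  letI fA : Field (A ⧸ maximalIdeal A) := Ideal.Quotient.field _
  letI fB : Field (integralClosure A L ⧸ P) := Ideal.Quotient.field P
  have hf1 : P.inertiaDeg A = Module.finrank (A ⧸ maximalIdeal A) (integralClosure A L ⧸ P) :=
    Ideal.inertiaDeg_eq_of_isMaximal (maximalIdeal A) P
  haveI : Module.Finite (A ⧸ maximalIdeal A) (integralClosure A L ⧸ P) := inferInstance
  have hsepBP : Algebra.IsSeparable (A ⧸ maximalIdeal A) (integralClosure A L ⧸ P) := by
    obtain ⟨q, hq⟩ := CharP.exists (A ⧸ maximalIdeal A)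
    rcases CharP.char_is_prime_or_zero (A ⧸ maximalIdeal A) q with hqp | hq0
    · refine isSeparable_of_not_dvd_finrank q hqp ?_
      rw [← hf1]
      exact fun hd => hm q hqp hq (hd.trans hf_dvd)
    · subst hq0
      haveI : CharZero (A ⧸ maximalIdeal A) := CharP.charP_to_charZero _
      exact Algebra.IsAlgebraic.isSeparable_of_perfectField
  let e₂ : (integralClosure A L ⧸ P) ≃+* ResidueField V :=
    IsLocalization.AtPrime.equivQuotMaximalIdeal P V
  have hsep : Algebra.IsSeparable (ResidueField A) (ResidueField V) := by
    refine Algebra.IsSeparable.of_equiv_equiv (A₁ := A ⧸ maximalIdeal A)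
      (B₁ := integralClosure A L ⧸ P) (RingEquiv.refl (A ⧸ maximalIdeal A)) e₂ ?_
    apply Ideal.Quotient.ringHom_ext
    ext a
    rfl
  exact ⟨hsep, fun p hp hc hd => hm p hp hc (hd.trans he)⟩

end Main

end Groth.Agent.Lib.Helper10.GalTame
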