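import Mathlib
import Groth.Agent.Lib.Helper10.VNRGen

/-!
# Core lemmas for solutions of DVR extensions (helper10)

* `vnr_mod_uniformizer`: the subring of `W` generated by the images of `B` and `V` is von Neumann
  regular modulo a uniformizer of `V`, when `A → B` is weakly unramified with geometrically reduced
  residue extension and the residue field of `V` is algebraic over that of `A`.
* `geomReduced_of_generated`: a field generated by a geometrically reduced extension `kB/kA` and an
  algebraic extension `k1/kA` is geometrically reduced over `k1`.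
-/

set_option linter.unusedSectionVars false
set_option linter.style.haveILetI false

namespace Groth.Agent.Lib.Helper10.SolCore

open IsLocalRing TensorProduct Groth.Agent.Lib.Helper10.VNRGen

section R

variable {kA kB k1 kW : Type*} [Field kA] [Field kB] [Field k1] [Field kW]
  [Algebra kA kB] [Algebra kA k1] [Algebra kB kW] [Algebra k1 kW] [Algebra kA kW]
  [IsScalarTower kA kB kW] [IsScalarTower kA k1 kW]
  [Algebra.IsAlgebraic kA k1] [Algebra.IsGeometricallyReduced kA kB]

theorem isVNR_tensor_of_algebraic (Ω : Type*) [Field Ω] [Algebra kA Ω] [Algebra.IsAlgebraic kA Ω] :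
    IsVNR (kB ⊗[kA] Ω) := by
  haveI : IsReduced (Ω ⊗[kA] kB) := inferInstance
  haveI : IsReduced (kB ⊗[kA] Ω) :=
    isReduced_of_injective (Algebra.TensorProduct.comm kA kB Ω).toRingEquiv.toRingHom
      (Algebra.TensorProduct.comm kA kB Ω).injective
  haveI : Algebra.IsIntegral kA Ω := inferInstance
  haveI : Algebra.IsIntegral kB (kB ⊗[kA] Ω) := inferInstance
  exact isVNR_of_isReduced_of_isIntegral (algebraMap kB (kB ⊗[kA] Ω))
    (fun x => Algebra.IsIntegral.isIntegral x)

include kA in
theorem geomReduced_of_generated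
    (hgen : ∀ z : kW, z ∈ Subring.closure
      (Set.range (algebraMap kB kW) ∪ Set.range (algebraMap k1 kW))) :
    Algebra.IsGeometricallyReduced k1 kW := by
  rw [Algebra.isGeometricallyReduced_field_iff]
  haveI : Algebra.IsAlgebraic kA (AlgebraicClosure k1) :=
    Algebra.IsAlgebraic.trans kA k1 (AlgebraicClosure k1)
  have hX : IsVNR (kB ⊗[kA] AlgebraicClosure k1) := isVNR_tensor_of_algebraic _
  letI algY : Algebra kA (AlgebraicClosure k1 ⊗[k1] kW) :=
    ((algebraMap (AlgebraicClosure k1) (AlgebraicClosure k1 ⊗[k1] kW)).comp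
      (algebraMap kA (AlgebraicClosure k1))).toAlgebra
  let hΩ : AlgebraicClosure k1 →ₐ[kA] (AlgebraicClosure k1 ⊗[k1] kW) :=
    { (algebraMap (AlgebraicClosure k1) (AlgebraicClosure k1 ⊗[k1] kW)) with
      commutes' := fun r => rfl }
  let hB : kB →ₐ[kA] (AlgebraicClosure k1 ⊗[k1] kW) :=
    { (Algebra.TensorProduct.includeRight :
        kW →ₐ[k1] AlgebraicClosure k1 ⊗[k1] kW).toRingHom.comp (algebraMap kB kW) with
      commutes' := by
        intro r
        show (1 : AlgebraicClosure k1) ⊗ₜ[k1] (algebraMap kB kW (algebraMap kA kB r)) =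
          (algebraMap kA (AlgebraicClosure k1) r) ⊗ₜ[k1] (1 : kW)
        rw [← IsScalarTower.algebraMap_apply kA kB kW, IsScalarTower.algebraMap_apply kA k1 kW,
          IsScalarTower.algebraMap_apply kA k1 (AlgebraicClosure k1),
          Algebra.algebraMap_eq_smul_one (algebraMap kA k1 r),
          Algebra.algebraMap_eq_smul_one (A := AlgebraicClosure k1) (algebraMap kA k1 r),
          TensorProduct.smul_tmul] }
  let Ψ := Algebra.TensorProduct.productMap hB hΩ
  have hΨt : ∀ (b : kB) (ω : AlgebraicClosure k1),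
      Ψ (b ⊗ₜ ω) = ((1 : AlgebraicClosure k1) ⊗ₜ[k1] algebraMap kB kW b) * (ω ⊗ₜ[k1] (1 : kW)) := by
    intro b ω
    rw [Algebra.TensorProduct.productMap_apply_tmul]
    have h1 : hB b = (1 : AlgebraicClosure k1) ⊗ₜ[k1] algebraMap kB kW b := rfl
    have h2 : hΩ ω = ω ⊗ₜ[k1] (1 : kW) := by
      show algebraMap (AlgebraicClosure k1) (AlgebraicClosure k1 ⊗[k1] kW) ω = _
      rw [Algebra.TensorProduct.algebraMap_apply]
      rfl
    rw [h1, h2]
  have hΨ : Function.Surjective Ψ := by
    have h1 : ∀ z : kW, ∃ t, Ψ t = (1 : AlgebraicClosure k1) ⊗ₜ[k1] z := by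
      intro z
      have hz := hgen z
      induction hz using Subring.closure_induction with
      | mem x hx =>
        rcases hx with ⟨b, rfl⟩ | ⟨c, rfl⟩
        · exact ⟨b ⊗ₜ 1, by rw [hΨt, Algebra.TensorProduct.tmul_mul_tmul, one_mul, mul_one]⟩
        · refine ⟨1 ⊗ₜ (algebraMap k1 (AlgebraicClosure k1) c), ?_⟩
          rw [hΨt, map_one, Algebra.TensorProduct.tmul_mul_tmul, one_mul, mul_one,
            Algebra.algebraMap_eq_smul_one c, Algebra.algebraMap_eq_smul_one (A := kW) c,
            TensorProduct.smul_tmul]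
      | zero => exact ⟨0, by rw [map_zero, TensorProduct.tmul_zero]⟩
      | one => exact ⟨1, by rw [map_one]; rfl⟩
      | add x y _ _ hx hy =>
        obtain ⟨a, ha⟩ := hx
        obtain ⟨b, hb⟩ := hy
        exact ⟨a + b, by rw [map_add, ha, hb, TensorProduct.tmul_add]⟩
      | neg x _ hx =>
        obtain ⟨a, ha⟩ := hx
        exact ⟨-a, by rw [map_neg, ha, TensorProduct.tmul_neg]⟩
      | mul x y _ _ hx hy =>
        obtain ⟨a, ha⟩ := hx
        obtain ⟨b, hb⟩ := hy
        exact ⟨a * b, by rw [map_mul, ha, hb, Algebra.TensorProduct.tmul_mul_tmul, one_mul]⟩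
    intro t
    induction t using TensorProduct.induction_on with
    | zero => exact ⟨0, map_zero _⟩
    | tmul ω z =>
      obtain ⟨a, ha⟩ := h1 z
      refine ⟨(1 ⊗ₜ ω) * a, ?_⟩
      rw [map_mul, ha, hΨt, map_one, Algebra.TensorProduct.tmul_mul_tmul,
        Algebra.TensorProduct.tmul_mul_tmul, one_mul, one_mul, mul_one, one_mul]
    | add x y hx hy =>
      obtain ⟨a, rfl⟩ := hx
      obtain ⟨b, rfl⟩ := hy
      exact ⟨a + b, map_add _ _ _⟩
  exact (hX.of_surjective Ψ.toRingHom hΨ).isReduced

end R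

section Q

variable {A B V W : Type*} [CommRing A] [IsLocalRing A] [CommRing B] [IsLocalRing B]
  [CommRing V] [IsLocalRing V] [CommRing W]
  [Algebra A B] [IsLocalHom (algebraMap A B)] [Algebra A V] [IsLocalHom (algebraMap A V)]
  [Algebra.IsAlgebraic (ResidueField A) (ResidueField V)]
  [Algebra.IsGeometricallyReduced (ResidueField A) (ResidueField B)]

theorem vnr_mod_uniformizer (β : B →+* W) (ν : V →+* W)
    (hcomp : ∀ a, β (algebraMap A B a) = ν (algebraMap A V a))
    (hw : (maximalIdeal A).map (algebraMap A B) = maximalIdeal B)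
    (π : V) (hπ : maximalIdeal V = Ideal.span {π}) :
    ∀ x ∈ Subring.closure (Set.range β ∪ Set.range ν),
      ∃ y ∈ Subring.closure (Set.range β ∪ Set.range ν),
      ∃ c ∈ Subring.closure (Set.range β ∪ Set.range ν), x = x * x * y + ν π * c := by
  classical
  set S := Subring.closure (Set.range β ∪ Set.range ν) with hS
  let βS : B →+* S := β.codRestrict S (fun b => Subring.subset_closure (Or.inl ⟨b, rfl⟩))
  let νS : V →+* S := ν.codRestrict S (fun v => Subring.subset_closure (Or.inr ⟨v, rfl⟩))
  have hcompS : ∀ a, βS (algebraMap A B a) = νS (algebraMap A V a) := fun a =>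
    Subtype.ext (hcomp a)
  let J : Ideal S := Ideal.span {νS π}
  have hν0 : ∀ v ∈ maximalIdeal V, Ideal.Quotient.mk J (νS v) = 0 := by
    intro v hv
    rw [hπ, Ideal.mem_span_singleton'] at hv
    obtain ⟨v', rfl⟩ := hv
    rw [Ideal.Quotient.eq_zero_iff_mem, map_mul]
    exact Ideal.mul_mem_left _ _ (Ideal.mem_span_singleton_self _)
  have hβ0 : ∀ b ∈ maximalIdeal B, Ideal.Quotient.mk J (βS b) = 0 := by
    have hle : maximalIdeal B ≤ (RingHom.ker ((Ideal.Quotient.mk J).comp βS)) := by
      rw [← hw, Ideal.map_le_iff_le_comap]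
      intro a ha
      rw [Ideal.mem_comap, RingHom.mem_ker, RingHom.comp_apply, hcompS]
      exact hν0 _ (map_nonunit (algebraMap A V) a ha)
    intro b hb
    exact hle hb
  let gB : ResidueField B →+* S ⧸ J :=
    Ideal.Quotient.lift (maximalIdeal B) ((Ideal.Quotient.mk J).comp βS) hβ0
  let gV : ResidueField V →+* S ⧸ J :=
    Ideal.Quotient.lift (maximalIdeal V) ((Ideal.Quotient.mk J).comp νS) hν0
  have hgB : ∀ b, gB (residue B b) = Ideal.Quotient.mk J (βS b) := fun b => rfl
  have hgV : ∀ v, gV (residue V v) = Ideal.Quotient.mk J (νS v) := fun v => rfl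
  letI algQ : Algebra (ResidueField A) (S ⧸ J) :=
    (gB.comp (algebraMap (ResidueField A) (ResidueField B))).toAlgebra
  let gB' : ResidueField B →ₐ[ResidueField A] S ⧸ J := { gB with commutes' := fun r => rfl }
  let gV' : ResidueField V →ₐ[ResidueField A] S ⧸ J :=
    { gV with
      commutes' := by
        intro r
        obtain ⟨a, rfl⟩ := residue_surjective r
        show gV (algebraMap (ResidueField A) (ResidueField V) (residue A a)) =
          gB (algebraMap (ResidueField A) (ResidueField B) (residue A a))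
        rw [ResidueField.algebraMap_residue, ResidueField.algebraMap_residue, hgB, hgV, hcompS] }
  let Ψ := Algebra.TensorProduct.productMap gB' gV'
  have hE : IsVNR (ResidueField B ⊗[ResidueField A] ResidueField V) :=
    isVNR_tensor_of_algebraic _
  have hΨ : Function.Surjective Ψ := by
    intro q
    obtain ⟨⟨s, hs⟩, rfl⟩ := Ideal.Quotient.mk_surjective q
    induction hs using Subring.closure_induction with
    | mem x hx =>
      rcases hx with ⟨b, rfl⟩ | ⟨v, rfl⟩
      · exact ⟨residue B b ⊗ₜ 1, by simp [Ψ, gB', hgB]; rfl⟩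
      · exact ⟨1 ⊗ₜ residue V v, by simp [Ψ, gV', hgV]; rfl⟩
    | zero => exact ⟨0, map_zero _⟩
    | one => exact ⟨1, map_one _⟩
    | add x y hx hy hx' hy' =>
      obtain ⟨a, ha⟩ := hx'
      obtain ⟨b, hb⟩ := hy'
      exact ⟨a + b, by rw [map_add, ha, hb]; rfl⟩
    | neg x hx hx' =>
      obtain ⟨a, ha⟩ := hx'
      exact ⟨-a, by rw [map_neg, ha]; rfl⟩
    | mul x y hx hy hx' hy' =>
      obtain ⟨a, ha⟩ := hx'
      obtain ⟨b, hb⟩ := hy'
      exact ⟨a * b, by rw [map_mul, ha, hb]; rfl⟩
  have hQ : IsVNR (S ⧸ J) := hE.of_surjective Ψ.toRingHom hΨ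
  intro x hx
  obtain ⟨ybar, hy⟩ := hQ (Ideal.Quotient.mk J ⟨x, hx⟩)
  obtain ⟨y, rfl⟩ := Ideal.Quotient.mk_surjective ybar
  rw [← map_mul, ← map_mul, Ideal.Quotient.eq, Ideal.mem_span_singleton'] at hy
  obtain ⟨c, hc⟩ := hy
  refine ⟨y, y.2, c, c.2, ?_⟩
  have h3 : (c : W) * ν π = x - x * x * (y : W) := congrArg Subtype.val hc
  linear_combination -h3

end Q

end Groth.Agent.Lib.Helper10.SolCore
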