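import Mathlib
import Groth.Agent.Lib.Helper10.SolCore
import Groth.Agent.Lib.Helper10.VNREtale

/-!
# Core lemmas for Abhyankar's lemma (helper10)

Variants of `SolCore` with an additional Kummer generator `θ`, `θ ^ e = unit`, `e` invertible.
Also: fields of characteristic zero are geometrically reduced over subfields.
-/

set_option linter.unusedSectionVars false
set_option linter.style.haveILetI false

universe u

namespace Groth.Agent.Lib.Helper10.SolCore2

open IsLocalRing TensorProduct Groth.Agent.Lib.Helper10.VNRGen Groth.Agent.Lib.Helper10.SolCore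
  Groth.Agent.Lib.Helper10.VNREtale

section CharZero

theorem geomReduced_of_charZero (k F : Type u) [Field k] [Field F] [Algebra k F] [CharZero k] :
    Algebra.IsGeometricallyReduced k F := by
  rw [Algebra.isGeometricallyReduced_field_iff]
  have h1 : IsReduced (F ⊗[k] AlgebraicClosure k) := by
    apply IsReduced.tensorProduct_of_flat_of_forall_fg
    intro D hD
    obtain ⟨s, rfl⟩ := hD
    have halg : ∀ x ∈ (s : Set (AlgebraicClosure k)), IsAlgebraic k x :=
      fun x _ => Algebra.IsAlgebraic.isAlgebraic x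
    have hE : (IntermediateField.adjoin k (s : Set (AlgebraicClosure k))).toSubalgebra =
        Algebra.adjoin k (s : Set (AlgebraicClosure k)) :=
      IntermediateField.adjoin_toSubalgebra_of_isAlgebraic halg
    rw [← hE]
    haveI : FiniteDimensional k (IntermediateField.adjoin k (s : Set (AlgebraicClosure k))) :=
      IntermediateField.finiteDimensional_adjoin (fun x _ => Algebra.IsIntegral.isIntegral x)
    haveI : Algebra.FormallyUnramified k
        (IntermediateField.adjoin k (s : Set (AlgebraicClosure k))) :=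
      Algebra.FormallyUnramified.of_isSeparable k _
    exact Algebra.FormallyUnramified.isReduced_of_field F
      (F ⊗[k] (IntermediateField.adjoin k (s : Set (AlgebraicClosure k))))
  exact isReduced_of_injective (Algebra.TensorProduct.comm k (AlgebraicClosure k) F).toRingEquiv.toRingHom
    (Algebra.TensorProduct.comm k (AlgebraicClosure k) F).injective

end CharZero

section R2

variable {kA kB k1 kW : Type u} [Field kA] [Field kB] [Field k1] [Field kW]
  [Algebra kA kB] [Algebra kA k1] [Algebra kB kW] [Algebra k1 kW] [Algebra kA kW]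
  [IsScalarTower kA kB kW] [IsScalarTower kA k1 kW]
  [Algebra.IsAlgebraic kA k1] [Algebra.IsGeometricallyReduced kA kB]

include kA in
theorem geomReduced_of_generated_kummer (t : kW) (e : ℕ) (he : 0 < e) (hek : (e : kA) ≠ 0)
    (b : kB) (hb : b ≠ 0) (c : k1) (hc : c ≠ 0)
    (ht : t ^ e * algebraMap kB kW b = algebraMap k1 kW c)
    (hgen : ∀ z : kW, z ∈ Subring.closure
      (Set.range (algebraMap kB kW) ∪ Set.range (algebraMap k1 kW) ∪ {t})) :
    Algebra.IsGeometricallyReduced k1 kW := by
  rw [Algebra.isGeometricallyReduced_field_iff]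
  haveI : Algebra.IsAlgebraic kA (AlgebraicClosure k1) :=
    Algebra.IsAlgebraic.trans kA k1 (AlgebraicClosure k1)
  have hX : IsVNR (kB ⊗[kA] AlgebraicClosure k1) := isVNR_tensor_of_algebraic _
  haveI : IsReduced (kB ⊗[kA] AlgebraicClosure k1) := hX.isReduced
  haveI : Algebra.IsIntegral kA (AlgebraicClosure k1) := inferInstance
  haveI : Algebra.IsIntegral kB (kB ⊗[kA] AlgebraicClosure k1) := inferInstance
  letI algY : Algebra kA (AlgebraicClosure k1 ⊗[k1] kW) :=
    ((algebraMap (AlgebraicClosure k1) (AlgebraicClosure k1 ⊗[k1] kW)).comp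
      (algebraMap kA (AlgebraicClosure k1))).toAlgebra
  let hΩ : AlgebraicClosure k1 →ₐ[kA] (AlgebraicClosure k1 ⊗[k1] kW) :=
    { (algebraMap (AlgebraicClosure k1) (AlgebraicClosure k1 ⊗[k1] kW)) with
      commutes' := fun r => rfl }
  let hB : kB →ₐ[kA] (AlgebraicClosure k1 ⊗[k1] kW) :=
    { (Algebra.TensorProduct.includeRight :
        kW →ₐ[k1] AlgebraicClosure k1 ⊗[k1] kW).toRingHom.comp (algebraMap kB kW) with
      commutes' := by
        intro r
        show (1 : AlgebraicClosure k1) ⊗ₜ[k1] (algebraMap kB kW (algebraMap kA kB r)) =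
          (algebraMap kA (AlgebraicClosure k1) r) ⊗ₜ[k1] (1 : kW)
        rw [← IsScalarTower.algebraMap_apply kA kB kW, IsScalarTower.algebraMap_apply kA k1 kW,
          IsScalarTower.algebraMap_apply kA k1 (AlgebraicClosure k1),
          Algebra.algebraMap_eq_smul_one (algebraMap kA k1 r),
          Algebra.algebraMap_eq_smul_one (A := AlgebraicClosure k1) (algebraMap kA k1 r),
          TensorProduct.smul_tmul] }
  let Ψ := Algebra.TensorProduct.productMap hB hΩ
  have hΨt : ∀ (b : kB) (ω : AlgebraicClosure k1),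
      Ψ (b ⊗ₜ ω) = ((1 : AlgebraicClosure k1) ⊗ₜ[k1] algebraMap kB kW b) * (ω ⊗ₜ[k1] (1 : kW)) := by
    intro b ω
    rw [Algebra.TensorProduct.productMap_apply_tmul]
    have h1 : hB b = (1 : AlgebraicClosure k1) ⊗ₜ[k1] algebraMap kB kW b := rfl
    have h2 : hΩ ω = ω ⊗ₜ[k1] (1 : kW) := by
      show algebraMap (AlgebraicClosure k1) (AlgebraicClosure k1 ⊗[k1] kW) ω = _
      rw [Algebra.TensorProduct.algebraMap_apply]
      rfl
    rw [h1, h2]
  letI algXY : Algebra (kB ⊗[kA] AlgebraicClosure k1) (AlgebraicClosure k1 ⊗[k1] kW) :=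
    Ψ.toRingHom.toAlgebra
  have halgXY : ∀ x, algebraMap (kB ⊗[kA] AlgebraicClosure k1)
      (AlgebraicClosure k1 ⊗[k1] kW) x = Ψ x := fun x => rfl
  -- the Kummer data
  have hmove : ∀ (c : k1) (z : kW), (algebraMap k1 (AlgebraicClosure k1) c) ⊗ₜ[k1] z =
      (1 : AlgebraicClosure k1) ⊗ₜ[k1] (algebraMap k1 kW c * z) := by
    intro c z
    rw [Algebra.algebraMap_eq_smul_one c, TensorProduct.smul_tmul, Algebra.smul_def]
  have hbW : algebraMap kB kW b ≠ 0 := fun h0 => hb ((algebraMap kB kW).injective (by rw [h0, map_zero]))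
  have hy : ((1 : AlgebraicClosure k1) ⊗ₜ[k1] t) ^ e =
      algebraMap (kB ⊗[kA] AlgebraicClosure k1) (AlgebraicClosure k1 ⊗[k1] kW)
        (b⁻¹ ⊗ₜ algebraMap k1 (AlgebraicClosure k1) c) := by
    rw [halgXY, hΨt, Algebra.TensorProduct.tmul_pow, one_pow, Algebra.TensorProduct.tmul_mul_tmul,
      one_mul, mul_one, hmove, ← ht, map_inv₀]
    congr 1
    field_simp
  have heu : IsUnit ((e : ℕ) : kB ⊗[kA] AlgebraicClosure k1) := by
    have h1 : ((e : ℕ) : kB ⊗[kA] AlgebraicClosure k1) =
        algebraMap kA (kB ⊗[kA] AlgebraicClosure k1) (e : kA) := (map_natCast _ e).symm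
    rw [h1]
    exact (isUnit_iff_ne_zero.mpr hek).map _
  have hau : IsUnit (b⁻¹ ⊗ₜ[kA] algebraMap k1 (AlgebraicClosure k1) c :
      kB ⊗[kA] AlgebraicClosure k1) := by
    have hcΩ : algebraMap k1 (AlgebraicClosure k1) c ≠ 0 := fun h0 =>
      hc ((algebraMap k1 (AlgebraicClosure k1)).injective (by rw [h0, map_zero]))
    refine IsUnit.of_mul_eq_one (b ⊗ₜ[kA] (algebraMap k1 (AlgebraicClosure k1) c)⁻¹) ?_
    rw [Algebra.TensorProduct.tmul_mul_tmul, inv_mul_cancel₀ hb, mul_inv_cancel₀ hcΩ]
    rfl
  have hgenY : ∀ z : AlgebraicClosure k1 ⊗[k1] kW, z ∈ Subring.closure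
      (Set.range (algebraMap (kB ⊗[kA] AlgebraicClosure k1) (AlgebraicClosure k1 ⊗[k1] kW)) ∪
        {(1 : AlgebraicClosure k1) ⊗ₜ[k1] t}) := by
    set T := Subring.closure
      (Set.range (algebraMap (kB ⊗[kA] AlgebraicClosure k1) (AlgebraicClosure k1 ⊗[k1] kW)) ∪
        {(1 : AlgebraicClosure k1) ⊗ₜ[k1] t}) with hT
    have hr : ∀ x, Ψ x ∈ T := fun x => Subring.subset_closure (Or.inl ⟨x, rfl⟩)
    have h1 : ∀ z : kW, (1 : AlgebraicClosure k1) ⊗ₜ[k1] z ∈ T := by
      intro z
      have hz := hgen z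
      induction hz using Subring.closure_induction with
      | mem x hx =>
        rcases hx with (⟨b, rfl⟩ | ⟨c, rfl⟩) | hx
        · have := hr (b ⊗ₜ 1)
          rwa [hΨt, Algebra.TensorProduct.tmul_mul_tmul, one_mul, mul_one] at this
        · have := hr (1 ⊗ₜ (algebraMap k1 (AlgebraicClosure k1) c))
          rwa [hΨt, map_one, Algebra.TensorProduct.tmul_mul_tmul, one_mul, mul_one, hmove,
            mul_one] at this
        · rw [Set.mem_singleton_iff] at hx
          rw [hx]
          exact Subring.subset_closure (Or.inr rfl)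
      | zero => rw [TensorProduct.tmul_zero]; exact T.zero_mem
      | one => exact T.one_mem
      | add x y _ _ hx hy => rw [TensorProduct.tmul_add]; exact T.add_mem hx hy
      | neg x _ hx => rw [TensorProduct.tmul_neg]; exact T.neg_mem hx
      | mul x y _ _ hx hy =>
        have : (1 : AlgebraicClosure k1) ⊗ₜ[k1] (x * y) = (1 ⊗ₜ x) * (1 ⊗ₜ y) := by
          rw [Algebra.TensorProduct.tmul_mul_tmul, one_mul]
        rw [this]
        exact T.mul_mem hx hy
    intro z
    induction z using TensorProduct.induction_on with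
    | zero => exact T.zero_mem
    | tmul ω z =>
      have h2 : ω ⊗ₜ[k1] z = (ω ⊗ₜ[k1] (1 : kW)) * ((1 : AlgebraicClosure k1) ⊗ₜ[k1] z) := by
        rw [Algebra.TensorProduct.tmul_mul_tmul, mul_one, one_mul]
      have h3 : ω ⊗ₜ[k1] (1 : kW) ∈ T := by
        have := hr (1 ⊗ₜ ω)
        rwa [hΨt, map_one, Algebra.TensorProduct.tmul_mul_tmul, one_mul, one_mul] at this
      rw [h2]
      exact T.mul_mem h3 (h1 z)
    | add x y hx hy => exact T.add_mem hx hy
  have hφ : (algebraMap kB (kB ⊗[kA] AlgebraicClosure k1)).IsIntegral :=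
    fun x => Algebra.IsIntegral.isIntegral x
  exact (isVNR_of_kummer (algebraMap kB (kB ⊗[kA] AlgebraicClosure k1)) hφ e he _ heu hau
    ((1 : AlgebraicClosure k1) ⊗ₜ[k1] t) hy hgenY).isReduced

end R2

section Q2

variable {A B V W : Type u} [CommRing A] [IsLocalRing A] [CommRing B] [IsLocalRing B]
  [CommRing V] [IsLocalRing V] [CommRing W]
  [Algebra A B] [IsLocalHom (algebraMap A B)] [Algebra A V] [IsLocalHom (algebraMap A V)]
  [Algebra.IsAlgebraic (ResidueField A) (ResidueField V)]
  [Algebra.IsGeometricallyReduced (ResidueField A) (ResidueField B)]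

theorem vnr_mod_uniformizer_kummer (β : B →+* W) (ν : V →+* W)
    (hcomp : ∀ a, β (algebraMap A B a) = ν (algebraMap A V a))
    (πB : B) (hπB : maximalIdeal B = Ideal.span {πB})
    (π : V) (hπ : maximalIdeal V = Ideal.span {π})
    (θ : W) (d : ℕ) (hd : 0 < d) (hθ : β πB = θ * ν π ^ d)
    (e : ℕ) (he : 0 < e) (hek : (e : ResidueField A) ≠ 0)
    (u : B) (hu : IsUnit u) (u₁ : V) (hu₁ : IsUnit u₁) (hθe : θ ^ e * β u = ν u₁) :
    ∀ x ∈ Subring.closure (Set.range β ∪ Set.range ν ∪ {θ}),
      ∃ y ∈ Subring.closure (Set.range β ∪ Set.range ν ∪ {θ}),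
      ∃ c ∈ Subring.closure (Set.range β ∪ Set.range ν ∪ {θ}), x = x * x * y + ν π * c := by
  classical
  set S := Subring.closure (Set.range β ∪ Set.range ν ∪ {θ}) with hS
  let βS : B →+* S := β.codRestrict S (fun b => Subring.subset_closure (Or.inl (Or.inl ⟨b, rfl⟩)))
  let νS : V →+* S := ν.codRestrict S (fun v => Subring.subset_closure (Or.inl (Or.inr ⟨v, rfl⟩)))
  let θS : S := ⟨θ, Subring.subset_closure (Or.inr rfl)⟩
  have hcompS : ∀ a, βS (algebraMap A B a) = νS (algebraMap A V a) := fun a =>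
    Subtype.ext (hcomp a)
  have hθS : βS πB = θS * νS π ^ d := Subtype.ext hθ
  have hθeS : θS ^ e * βS u = νS u₁ := Subtype.ext hθe
  let J : Ideal S := Ideal.span {νS π}
  have hπJ : νS π ∈ J := Ideal.mem_span_singleton_self _
  have hν0 : ∀ v ∈ maximalIdeal V, Ideal.Quotient.mk J (νS v) = 0 := by
    intro v hv
    rw [hπ, Ideal.mem_span_singleton'] at hv
    obtain ⟨v', rfl⟩ := hv
    rw [Ideal.Quotient.eq_zero_iff_mem, map_mul]
    exact Ideal.mul_mem_left _ _ hπJ
  have hβ0 : ∀ b ∈ maximalIdeal B, Ideal.Quotient.mk J (βS b) = 0 := by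
    intro b hb
    rw [hπB, Ideal.mem_span_singleton'] at hb
    obtain ⟨b', rfl⟩ := hb
    rw [Ideal.Quotient.eq_zero_iff_mem, map_mul, hθS]
    apply Ideal.mul_mem_left
    apply Ideal.mul_mem_left
    exact Ideal.pow_mem_of_mem _ hπJ d hd
  let gB : ResidueField B →+* S ⧸ J :=
    Ideal.Quotient.lift (maximalIdeal B) ((Ideal.Quotient.mk J).comp βS) hβ0
  let gV : ResidueField V →+* S ⧸ J :=
    Ideal.Quotient.lift (maximalIdeal V) ((Ideal.Quotient.mk J).comp νS) hν0
  have hgB : ∀ b, gB (residue B b) = Ideal.Quotient.mk J (βS b) := fun b => rfl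
  have hgV : ∀ v, gV (residue V v) = Ideal.Quotient.mk J (νS v) := fun v => rfl
  letI algQ : Algebra (ResidueField A) (S ⧸ J) :=
    (gB.comp (algebraMap (ResidueField A) (ResidueField B))).toAlgebra
  let gB' : ResidueField B →ₐ[ResidueField A] S ⧸ J := { gB with commutes' := fun r => rfl }
  let gV' : ResidueField V →ₐ[ResidueField A] S ⧸ J :=
    { gV with
      commutes' := by
        intro r
        obtain ⟨a, rfl⟩ := residue_surjective r
        show gV (algebraMap (ResidueField A) (ResidueField V) (residue A a)) =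
          gB (algebraMap (ResidueField A) (ResidueField B) (residue A a))
        rw [ResidueField.algebraMap_residue, ResidueField.algebraMap_residue, hgB, hgV, hcompS] }
  let Ψ := Algebra.TensorProduct.productMap gB' gV'
  have hΨt : ∀ (b : ResidueField B) (v : ResidueField V), Ψ (b ⊗ₜ v) = gB b * gV v :=
    fun b v => Algebra.TensorProduct.productMap_apply_tmul _ _ _ _
  have hE : IsVNR (ResidueField B ⊗[ResidueField A] ResidueField V) :=
    isVNR_tensor_of_algebraic _
  haveI : IsReduced (ResidueField B ⊗[ResidueField A] ResidueField V) := hE.isReduced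
  haveI : Algebra.IsIntegral (ResidueField A) (ResidueField V) := inferInstance
  haveI : Algebra.IsIntegral (ResidueField B)
    (ResidueField B ⊗[ResidueField A] ResidueField V) := inferInstance
  letI algEQ : Algebra (ResidueField B ⊗[ResidueField A] ResidueField V) (S ⧸ J) :=
    Ψ.toRingHom.toAlgebra
  have halgEQ : ∀ x, algebraMap (ResidueField B ⊗[ResidueField A] ResidueField V) (S ⧸ J) x =
      Ψ x := fun x => rfl
  have hub : residue B u ≠ 0 := by
    rw [Ne, residue_eq_zero_iff]
    exact fun h => (mem_maximalIdeal _).mp h hu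
  have huv : residue V u₁ ≠ 0 := by
    rw [Ne, residue_eq_zero_iff]
    exact fun h => (mem_maximalIdeal _).mp h hu₁
  have hy : (Ideal.Quotient.mk J θS) ^ e =
      algebraMap (ResidueField B ⊗[ResidueField A] ResidueField V) (S ⧸ J)
        ((residue B u)⁻¹ ⊗ₜ residue V u₁) := by
    rw [halgEQ, hΨt, hgV, ← hθeS, map_mul, map_pow, ← hgB]
    have h1 : gB (residue B u)⁻¹ * gB (residue B u) = 1 := by
      rw [← map_mul, inv_mul_cancel₀ hub, map_one]
    calc (Ideal.Quotient.mk J θS) ^ e = (Ideal.Quotient.mk J θS) ^ e *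
          (gB (residue B u)⁻¹ * gB (residue B u)) := by rw [h1, mul_one]
      _ = gB (residue B u)⁻¹ * ((Ideal.Quotient.mk J θS) ^ e * gB (residue B u)) := by ring
  have heu : IsUnit ((e : ℕ) : ResidueField B ⊗[ResidueField A] ResidueField V) := by
    have h1 : ((e : ℕ) : ResidueField B ⊗[ResidueField A] ResidueField V) =
        algebraMap (ResidueField A) (ResidueField B ⊗[ResidueField A] ResidueField V)
          (e : ResidueField A) := (map_natCast _ e).symm
    rw [h1]
    exact (isUnit_iff_ne_zero.mpr hek).map _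
  have hau : IsUnit ((residue B u)⁻¹ ⊗ₜ[ResidueField A] residue V u₁ :
      ResidueField B ⊗[ResidueField A] ResidueField V) := by
    refine IsUnit.of_mul_eq_one ((residue B u) ⊗ₜ[ResidueField A] (residue V u₁)⁻¹) ?_
    rw [Algebra.TensorProduct.tmul_mul_tmul, inv_mul_cancel₀ hub, mul_inv_cancel₀ huv]
    rfl
  have hgenQ : ∀ z : S ⧸ J, z ∈ Subring.closure
      (Set.range (algebraMap (ResidueField B ⊗[ResidueField A] ResidueField V) (S ⧸ J)) ∪
        {Ideal.Quotient.mk J θS}) := by
    set T := Subring.closure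
      (Set.range (algebraMap (ResidueField B ⊗[ResidueField A] ResidueField V) (S ⧸ J)) ∪
        {Ideal.Quotient.mk J θS}) with hT
    have hr : ∀ x, Ψ x ∈ T := fun x => Subring.subset_closure (Or.inl ⟨x, rfl⟩)
    intro q
    obtain ⟨⟨s, hs⟩, rfl⟩ := Ideal.Quotient.mk_surjective q
    induction hs using Subring.closure_induction with
    | mem x hx =>
      rcases hx with (⟨b, rfl⟩ | ⟨v, rfl⟩) | hx
      · have := hr (residue B b ⊗ₜ 1)
        rw [hΨt, map_one, mul_one, hgB] at this
        exact this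
      · have := hr (1 ⊗ₜ residue V v)
        rw [hΨt, map_one, one_mul, hgV] at this
        exact this
      · rw [Set.mem_singleton_iff] at hx
        subst hx
        exact Subring.subset_closure (Or.inr rfl)
    | zero => exact T.zero_mem
    | one => exact T.one_mem
    | add x y hx hy hx' hy' => exact T.add_mem hx' hy'
    | neg x hx hx' => exact T.neg_mem hx'
    | mul x y hx hy hx' hy' => exact T.mul_mem hx' hy'
  have hφ : (algebraMap (ResidueField B)
      (ResidueField B ⊗[ResidueField A] ResidueField V)).IsIntegral :=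
    fun x => Algebra.IsIntegral.isIntegral x
  have hQ : IsVNR (S ⧸ J) :=
    isVNR_of_kummer (algebraMap (ResidueField B)
      (ResidueField B ⊗[ResidueField A] ResidueField V)) hφ e he _ heu hau
      (Ideal.Quotient.mk J θS) hy hgenQ
  intro x hx
  obtain ⟨ybar, hy⟩ := hQ (Ideal.Quotient.mk J ⟨x, hx⟩)
  obtain ⟨y, rfl⟩ := Ideal.Quotient.mk_surjective ybar
  rw [← map_mul, ← map_mul, Ideal.Quotient.eq, Ideal.mem_span_singleton'] at hy
  obtain ⟨c, hc⟩ := hy
  refine ⟨y, y.2, c, c.2, ?_⟩
  have h3 : (c : W) * ν π = x - x * x * (y : W) := congrArg Subtype.val hc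
  linear_combination -h3

end Q2

end Groth.Agent.Lib.Helper10.SolCore2
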