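import Mathlib
import Groth.Agent.Lib.Helper10.SolCore2

/-!
# Core lemmas for the dual Abhyankar lemma (helper10)

`vnr_mod_uniformizer_kummer'`: the version of `SolCore2.vnr_mod_uniformizer_kummer` with the
reducedness / integrality of the tensor product of residue fields as explicit hypotheses.
`isReduced_tensor_of_separable`, `isIntegral_includeRight`: these hypotheses when the residue field
extension of `A → B` is finite separable.
-/

set_option linter.unusedSectionVars false
set_option linter.style.haveILetI false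

universe u

namespace Groth.Agent.Lib.Helper10.SolCore3

open IsLocalRing TensorProduct Groth.Agent.Lib.Helper10.VNRGen Groth.Agent.Lib.Helper10.SolCore
  Groth.Agent.Lib.Helper10.VNREtale

section T

variable (k E Ω : Type u) [Field k] [Field E] [Field Ω] [Algebra k E] [Algebra k Ω]
  [FiniteDimensional k E] [Algebra.IsSeparable k E]

theorem isReduced_tensor_of_separable : IsReduced (E ⊗[k] Ω) := by
  haveI : Algebra.FormallyUnramified k E := Algebra.FormallyUnramified.of_isSeparable k E
  haveI : IsReduced (Ω ⊗[k] E) := Algebra.FormallyUnramified.isReduced_of_field Ω (Ω ⊗[k] E)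
  exact isReduced_of_injective (Algebra.TensorProduct.comm k E Ω).toRingEquiv.toRingHom
    (Algebra.TensorProduct.comm k E Ω).injective

theorem isIntegral_includeRight :
    ((Algebra.TensorProduct.includeRight : Ω →ₐ[k] E ⊗[k] Ω) : Ω →+* E ⊗[k] Ω).IsIntegral := by
  haveI : Algebra.IsIntegral k E := inferInstance
  haveI : Algebra.IsIntegral Ω (Ω ⊗[k] E) := inferInstance
  intro x
  have h1 : (algebraMap Ω (Ω ⊗[k] E)).IsIntegralElem ((Algebra.TensorProduct.comm k E Ω) x) :=
    Algebra.IsIntegral.isIntegral (R := Ω) _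
  have h2 := RingHom.IsIntegralElem.map (f := algebraMap Ω (Ω ⊗[k] E)) h1
    (Algebra.TensorProduct.comm k E Ω).symm.toRingEquiv.toRingHom
  convert h2 using 1
  · ext ω
    simp
  · simp

end T

section Q3

variable {A B V W : Type u} [CommRing A] [IsLocalRing A] [CommRing B] [IsLocalRing B]
  [CommRing V] [IsLocalRing V] [CommRing W]
  [Algebra A B] [IsLocalHom (algebraMap A B)] [Algebra A V] [IsLocalHom (algebraMap A V)]

theorem vnr_mod_uniformizer_kummer'
    (hred : IsReduced (ResidueField B ⊗[ResidueField A] ResidueField V))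
    {k₀ : Type*} [Field k₀] (φ : k₀ →+* ResidueField B ⊗[ResidueField A] ResidueField V)
    (hφ : φ.IsIntegral)
    (β : B →+* W) (ν : V →+* W)
    (hcomp : ∀ a, β (algebraMap A B a) = ν (algebraMap A V a))
    (πB : B) (hπB : maximalIdeal B = Ideal.span {πB})
    (π : V) (hπ : maximalIdeal V = Ideal.span {π})
    (θ : W) (d : ℕ) (hd : 0 < d) (hθ : β πB = θ * ν π ^ d)
    (e : ℕ) (he : 0 < e) (hek : (e : ResidueField A) ≠ 0)
    (u : B) (hu : IsUnit u) (u₁ : V) (hu₁ : IsUnit u₁) (hθe : θ ^ e * β u = ν u₁) :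
    ∀ x ∈ Subring.closure (Set.range β ∪ Set.range ν ∪ {θ}),
      ∃ y ∈ Subring.closure (Set.range β ∪ Set.range ν ∪ {θ}),
      ∃ c ∈ Subring.closure (Set.range β ∪ Set.range ν ∪ {θ}), x = x * x * y + ν π * c := by
  classical
  set S := Subring.closure (Set.range β ∪ Set.range ν ∪ {θ}) with hS
  let βS : B →+* S := β.codRestrict S (fun b => Subring.subset_closure (Or.inl (Or.inl ⟨b, rfl⟩)))
  let νS : V →+* S := ν.codRestrict S (fun v => Subring.subset_closure (Or.inl (Or.inr ⟨v, rfl⟩)))
  let θS : S := ⟨θ, Subring.subset_closure (Or.inr rfl)⟩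
  have hcompS : ∀ a, βS (algebraMap A B a) = νS (algebraMap A V a) := fun a =>
    Subtype.ext (hcomp a)
  have hθS : βS πB = θS * νS π ^ d := Subtype.ext hθ
  have hθeS : θS ^ e * βS u = νS u₁ := Subtype.ext hθe
  let J : Ideal S := Ideal.span {νS π}
  have hπJ : νS π ∈ J := Ideal.mem_span_singleton_self _
  have hν0 : ∀ v ∈ maximalIdeal V, Ideal.Quotient.mk J (νS v) = 0 := by
    intro v hv
    rw [hπ, Ideal.mem_span_singleton'] at hv
    obtain ⟨v', rfl⟩ := hv
    rw [Ideal.Quotient.eq_zero_iff_mem, map_mul]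
    exact Ideal.mul_mem_left _ _ hπJ
  have hβ0 : ∀ b ∈ maximalIdeal B, Ideal.Quotient.mk J (βS b) = 0 := by
    intro b hb
    rw [hπB, Ideal.mem_span_singleton'] at hb
    obtain ⟨b', rfl⟩ := hb
    rw [Ideal.Quotient.eq_zero_iff_mem, map_mul, hθS]
    apply Ideal.mul_mem_left
    apply Ideal.mul_mem_left
    exact Ideal.pow_mem_of_mem _ hπJ d hd
  let gB : ResidueField B →+* S ⧸ J :=
    Ideal.Quotient.lift (maximalIdeal B) ((Ideal.Quotient.mk J).comp βS) hβ0
  let gV : ResidueField V →+* S ⧸ J :=
    Ideal.Quotient.lift (maximalIdeal V) ((Ideal.Quotient.mk J).comp νS) hν0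
  have hgB : ∀ b, gB (residue B b) = Ideal.Quotient.mk J (βS b) := fun b => rfl
  have hgV : ∀ v, gV (residue V v) = Ideal.Quotient.mk J (νS v) := fun v => rfl
  letI algQ : Algebra (ResidueField A) (S ⧸ J) :=
    (gB.comp (algebraMap (ResidueField A) (ResidueField B))).toAlgebra
  let gB' : ResidueField B →ₐ[ResidueField A] S ⧸ J := { gB with commutes' := fun r => rfl }
  let gV' : ResidueField V →ₐ[ResidueField A] S ⧸ J :=
    { gV with
      commutes' := by
        intro r
        obtain ⟨a, rfl⟩ := residue_surjective r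
        show gV (algebraMap (ResidueField A) (ResidueField V) (residue A a)) =
          gB (algebraMap (ResidueField A) (ResidueField B) (residue A a))
        rw [ResidueField.algebraMap_residue, ResidueField.algebraMap_residue, hgB, hgV, hcompS] }
  let Ψ := Algebra.TensorProduct.productMap gB' gV'
  have hΨt : ∀ (b : ResidueField B) (v : ResidueField V), Ψ (b ⊗ₜ v) = gB b * gV v :=
    fun b v => Algebra.TensorProduct.productMap_apply_tmul _ _ _ _
  haveI : IsReduced (ResidueField B ⊗[ResidueField A] ResidueField V) := hred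
  letI algEQ : Algebra (ResidueField B ⊗[ResidueField A] ResidueField V) (S ⧸ J) :=
    Ψ.toRingHom.toAlgebra
  have halgEQ : ∀ x, algebraMap (ResidueField B ⊗[ResidueField A] ResidueField V) (S ⧸ J) x =
      Ψ x := fun x => rfl
  have hub : residue B u ≠ 0 := by
    rw [Ne, residue_eq_zero_iff]
    exact fun h => (mem_maximalIdeal _).mp h hu
  have huv : residue V u₁ ≠ 0 := by
    rw [Ne, residue_eq_zero_iff]
    exact fun h => (mem_maximalIdeal _).mp h hu₁
  have hy : (Ideal.Quotient.mk J θS) ^ e =
      algebraMap (ResidueField B ⊗[ResidueField A] ResidueField V) (S ⧸ J)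
        ((residue B u)⁻¹ ⊗ₜ residue V u₁) := by
    rw [halgEQ, hΨt, hgV, ← hθeS, map_mul, map_pow, ← hgB]
    have h1 : gB (residue B u)⁻¹ * gB (residue B u) = 1 := by
      rw [← map_mul, inv_mul_cancel₀ hub, map_one]
    calc (Ideal.Quotient.mk J θS) ^ e = (Ideal.Quotient.mk J θS) ^ e *
          (gB (residue B u)⁻¹ * gB (residue B u)) := by rw [h1, mul_one]
      _ = gB (residue B u)⁻¹ * ((Ideal.Quotient.mk J θS) ^ e * gB (residue B u)) := by ring
  have heu : IsUnit ((e : ℕ) : ResidueField B ⊗[ResidueField A] ResidueField V) := by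
    have h1 : ((e : ℕ) : ResidueField B ⊗[ResidueField A] ResidueField V) =
        algebraMap (ResidueField A) (ResidueField B ⊗[ResidueField A] ResidueField V)
          (e : ResidueField A) := (map_natCast _ e).symm
    rw [h1]
    exact (isUnit_iff_ne_zero.mpr hek).map _
  have hau : IsUnit ((residue B u)⁻¹ ⊗ₜ[ResidueField A] residue V u₁ :
      ResidueField B ⊗[ResidueField A] ResidueField V) := by
    refine IsUnit.of_mul_eq_one ((residue B u) ⊗ₜ[ResidueField A] (residue V u₁)⁻¹) ?_
    rw [Algebra.TensorProduct.tmul_mul_tmul, inv_mul_cancel₀ hub, mul_inv_cancel₀ huv]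
    rfl
  have hgenQ : ∀ z : S ⧸ J, z ∈ Subring.closure
      (Set.range (algebraMap (ResidueField B ⊗[ResidueField A] ResidueField V) (S ⧸ J)) ∪
        {Ideal.Quotient.mk J θS}) := by
    set T := Subring.closure
      (Set.range (algebraMap (ResidueField B ⊗[ResidueField A] ResidueField V) (S ⧸ J)) ∪
        {Ideal.Quotient.mk J θS}) with hT
    have hr : ∀ x, Ψ x ∈ T := fun x => Subring.subset_closure (Or.inl ⟨x, rfl⟩)
    intro q
    obtain ⟨⟨s, hs⟩, rfl⟩ := Ideal.Quotient.mk_surjective q
    induction hs using Subring.closure_induction with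
    | mem x hx =>
      rcases hx with (⟨b, rfl⟩ | ⟨v, rfl⟩) | hx
      · have := hr (residue B b ⊗ₜ 1)
        rw [hΨt, map_one, mul_one, hgB] at this
        exact this
      · have := hr (1 ⊗ₜ residue V v)
        rw [hΨt, map_one, one_mul, hgV] at this
        exact this
      · rw [Set.mem_singleton_iff] at hx
        subst hx
        exact Subring.subset_closure (Or.inr rfl)
    | zero => exact T.zero_mem
    | one => exact T.one_mem
    | add x y hx hy hx' hy' => exact T.add_mem hx' hy'
    | neg x hx hx' => exact T.neg_mem hx'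
    | mul x y hx hy hx' hy' => exact T.mul_mem hx' hy'
  have hQ : IsVNR (S ⧸ J) :=
    isVNR_of_kummer φ hφ e he _ heu hau (Ideal.Quotient.mk J θS) hy hgenQ
  intro x hx
  obtain ⟨ybar, hy⟩ := hQ (Ideal.Quotient.mk J ⟨x, hx⟩)
  obtain ⟨y, rfl⟩ := Ideal.Quotient.mk_surjective ybar
  rw [← map_mul, ← map_mul, Ideal.Quotient.eq, Ideal.mem_span_singleton'] at hy
  obtain ⟨c, hc⟩ := hy
  refine ⟨y, y.2, c, c.2, ?_⟩
  have h3 : (c : W) * ν π = x - x * x * (y : W) := congrArg Subtype.val hc
  linear_combination -h3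

end Q3

end Groth.Agent.Lib.Helper10.SolCore3
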