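import Mathlib
import Groth.Agent.Lib.Helper10.SolCore3

/-!
# Geometric reducedness of field extensions: separable algebraic extensions, transitivity (helper10)
-/

set_option autoImplicit false
set_option linter.style.haveILetI false
set_option linter.unusedSectionVars false
universe u
open TensorProduct

namespace Groth.Agent.Lib.Helper10.GeomRedLib

section Sep

variable (k k' : Type u) [Field k] [Field k'] [Algebra k k'] [Algebra.IsSeparable k k']

/-- A separable algebraic field extension is geometrically reduced. -/
theorem geomReduced_of_isSeparable : Algebra.IsGeometricallyReduced k k' := by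
  haveI : Algebra.IsAlgebraic k k' := Algebra.IsSeparable.isAlgebraic k k'
  apply Algebra.IsGeometricallyReduced.of_forall_fg
  intro B hB
  haveI : Algebra.IsAlgebraic k B := Algebra.IsAlgebraic.of_injective B.val Subtype.val_injective
  have hfield : IsField B := Subalgebra.isField_of_algebraic B
  letI : Field B := hfield.toField
  haveI : Algebra.FiniteType k B := ⟨(Subalgebra.fg_top B).mpr hB⟩
  haveI : Algebra.IsIntegral k B := Algebra.IsAlgebraic.isIntegral
  haveI : Module.Finite k B := Algebra.IsIntegral.finite
  haveI : Algebra.IsSeparable k B := by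
    refine ⟨fun x => ?_⟩
    have h1 : IsSeparable k (x : k') := Algebra.IsSeparable.isSeparable k (x : k')
    unfold IsSeparable at h1 ⊢
    have h2 : minpoly k (B.val x) = minpoly k x :=
      minpoly.algHom_eq B.val Subtype.val_injective x
    rw [← h2]
    exact h1
  rw [Algebra.isGeometricallyReduced_field_iff]
  haveI : IsReduced (B ⊗[k] AlgebraicClosure k) :=
    Groth.Agent.Lib.Helper10.SolCore3.isReduced_tensor_of_separable k B (AlgebraicClosure k)
  exact isReduced_of_injective (Algebra.TensorProduct.comm k (AlgebraicClosure k) B).toRingEquiv.toRingHom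
    (Algebra.TensorProduct.comm k (AlgebraicClosure k) B).injective

end Sep

section Trans

variable (k k' k'' : Type u) [Field k] [Field k'] [Field k''] [Algebra k k'] [Algebra k' k'']
  [Algebra k k''] [IsScalarTower k k' k'']

/-- A reduced algebra integral over a field `k'`, tensored with a geometrically reduced extension. -/
theorem isReduced_tensor_of_integral (C : Type u) [CommRing C] [Algebra k' C] [IsReduced C]
    [Algebra.IsIntegral k' C] [Algebra.IsGeometricallyReduced k' k''] :
    IsReduced (C ⊗[k'] k'') := by
  classical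
  let b := Module.Free.chooseBasis k' k''
  let bC := Algebra.TensorProduct.basis C b
  refine ⟨fun x hx => ?_⟩
  -- all coordinates lie in every prime
  have hcoord : ∀ i, bC.repr x i = 0 := by
    intro i
    have hnil : bC.repr x i ∈ nilradical C := by
      rw [nilradical_eq_sInf, Ideal.mem_sInf]
      intro p hp
      haveI : p.IsPrime := hp
      -- C/p is a field algebraic over k'
      haveI : Algebra.IsIntegral k' (C ⧸ p) := inferInstance
      have hfield : IsField (C ⧸ p) := isField_of_isIntegral_of_isField' (R := k') (Field.toIsField k')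
      letI : Field (C ⧸ p) := hfield.toField
      haveI : Algebra.IsAlgebraic k' (C ⧸ p) := Algebra.IsIntegral.isAlgebraic
      haveI : IsReduced ((C ⧸ p) ⊗[k'] k'') := inferInstance
      let φ : C ⊗[k'] k'' →ₐ[k'] (C ⧸ p) ⊗[k'] k'' :=
        Algebra.TensorProduct.map (Ideal.Quotient.mkₐ k' p) (AlgHom.id k' k'')
      have hφx : φ x = 0 := by
        have : IsNilpotent (φ x) := hx.map φ
        exact this.eq_zero
      let bQ := Algebra.TensorProduct.basis (C ⧸ p) b
      have hrepr : ∀ y : C ⊗[k'] k'', bQ.repr (φ y) i = Ideal.Quotient.mk p (bC.repr y i) := by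
        intro y
        induction y using TensorProduct.induction_on with
        | zero => simp
        | tmul c m =>
          have e1 : φ (c ⊗ₜ[k'] m) = (Ideal.Quotient.mk p c) ⊗ₜ[k'] m := by
            simp only [φ, Algebra.TensorProduct.map_tmul, Ideal.Quotient.mkₐ_eq_mk, AlgHom.coe_id, id_eq]
          rw [e1]
          show (Algebra.TensorProduct.basis (C ⧸ p) b).repr ((Ideal.Quotient.mk p c) ⊗ₜ[k'] m) i =
            Ideal.Quotient.mk p ((Algebra.TensorProduct.basis C b).repr (c ⊗ₜ[k'] m) i)
          rw [Algebra.TensorProduct.basis_repr_tmul, Algebra.TensorProduct.basis_repr_tmul]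
          simp only [Finsupp.smul_apply, Finsupp.mapRange_apply, smul_eq_mul, map_mul]
          congr 1
        | add y z hy hz => simp only [map_add, Finsupp.coe_add, Pi.add_apply, hy, hz]
      have h0 := hrepr x
      rw [hφx, map_zero, Finsupp.coe_zero, Pi.zero_apply] at h0
      exact Ideal.Quotient.eq_zero_iff_mem.mp h0.symm
    rw [nilradical_eq_zero C] at hnil
    exact hnil
  have : bC.repr x = 0 := Finsupp.ext hcoord
  exact (LinearEquiv.map_eq_zero_iff bC.repr).mp this

/-- Transitivity of geometric reducedness (separability) for field extensions. -/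
theorem geomReduced_trans [Algebra.IsGeometricallyReduced k k']
    [Algebra.IsGeometricallyReduced k' k''] : Algebra.IsGeometricallyReduced k k'' := by
  rw [Algebra.isGeometricallyReduced_field_iff]
  -- C' := k' ⊗[k] Ω is reduced and integral over k'
  haveI h1 : IsReduced (AlgebraicClosure k ⊗[k] k') := inferInstance
  haveI h2 : IsReduced (k' ⊗[k] AlgebraicClosure k) :=
    isReduced_of_injective (Algebra.TensorProduct.comm k k' (AlgebraicClosure k)).toRingEquiv.toRingHom
      (Algebra.TensorProduct.comm k k' (AlgebraicClosure k)).injective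
  haveI : Algebra.IsIntegral k' (k' ⊗[k] AlgebraicClosure k) := inferInstance
  haveI h3 : IsReduced ((k' ⊗[k] AlgebraicClosure k) ⊗[k'] k'') :=
    isReduced_tensor_of_integral k' k'' (k' ⊗[k] AlgebraicClosure k)
  -- Ω ⊗[k] k'' ≃ k'' ⊗[k] Ω ≃ k'' ⊗[k'] (k' ⊗[k] Ω) ≃ (k' ⊗[k] Ω) ⊗[k'] k''
  let e1 : AlgebraicClosure k ⊗[k] k'' ≃ₐ[k] k'' ⊗[k] AlgebraicClosure k :=
    Algebra.TensorProduct.comm k _ _
  let e2 : k'' ⊗[k'] (k' ⊗[k] AlgebraicClosure k) ≃ₐ[k'] k'' ⊗[k] AlgebraicClosure k :=
    Algebra.TensorProduct.cancelBaseChange k k' k' k'' (AlgebraicClosure k)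
  let e3 : k'' ⊗[k'] (k' ⊗[k] AlgebraicClosure k) ≃ₐ[k'] (k' ⊗[k] AlgebraicClosure k) ⊗[k'] k'' :=
    Algebra.TensorProduct.comm k' _ _
  let f : AlgebraicClosure k ⊗[k] k'' →+* (k' ⊗[k] AlgebraicClosure k) ⊗[k'] k'' :=
    (e3.toRingEquiv.toRingHom.comp e2.symm.toRingEquiv.toRingHom).comp e1.toRingEquiv.toRingHom
  have hf : Function.Injective f := by
    intro a b hab
    apply e1.injective
    apply e2.symm.injective
    apply e3.injective
    exact hab
  exact isReduced_of_injective f hf

end Trans

end Groth.Agent.Lib.Helper10.GeomRedLib
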