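import Groth.Agent.Lib.Helper90.HensColim
import Mathlib

/-!
# A directed colimit of henselian pairs is a henselian pair (helper10)
-/

set_option autoImplicit false
universe u

namespace Groth.Agent.Lib.Helper10.HenselColim

open Groth.Agent.Lib.Helper90.HensColim Polynomial

variable {ι : Type u} [Preorder ι] [IsDirectedOrder ι] [Nonempty ι]
  (B : ι → Type u) [∀ i, CommRing (B i)] (g : ∀ i j : ι, i ≤ j → (B i →+* B j))
  [DirectedSystem B (fun i j h => g i j h)] (K : ∀ i, Ideal (B i))
  (hK : ∀ (i j : ι) (h : i ≤ j), (K i).map (g i j h) ≤ K j)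

include hK in
omit [IsDirectedOrder ι] [Nonempty ι] [DirectedSystem B (fun i j h => g i j h)] in
theorem g_mem {i j : ι} (h : i ≤ j) {x : B i} (hx : x ∈ K i) : g i j h x ∈ K j :=
  hK i j h (Ideal.mem_map_of_mem _ hx)

include hK in
/-- Elements of the colimit ideal come from some stage. -/
theorem exists_of_mem_iSup {x : DirectLimit B g}
    (hx : x ∈ ⨆ i, (K i).map (DirectLimit.Ring.of B g i)) :
    ∃ (i : ι) (y : B i), y ∈ K i ∧ DirectLimit.Ring.of B g i y = x := by
  have hadd : ∀ x y : DirectLimit B g,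
      (∃ (i : ι) (y' : B i), y' ∈ K i ∧ DirectLimit.Ring.of B g i y' = x) →
      (∃ (i : ι) (y' : B i), y' ∈ K i ∧ DirectLimit.Ring.of B g i y' = y) →
      ∃ (i : ι) (y' : B i), y' ∈ K i ∧ DirectLimit.Ring.of B g i y' = x + y := by
    rintro _ _ ⟨b, xb, hxb, rfl⟩ ⟨c, yc, hyc, rfl⟩
    obtain ⟨d, hbd, hcd⟩ := exists_ge_ge b c
    refine ⟨d, g b d hbd xb + g c d hcd yc,
      add_mem (g_mem B g K hK hbd hxb) (g_mem B g K hK hcd hyc), ?_⟩
    rw [map_add, of_t, of_t]
  refine Submodule.iSup_induction (fun i => (K i).map (DirectLimit.Ring.of B g i))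
    (motive := fun x => ∃ (i : ι) (y : B i), y ∈ K i ∧ DirectLimit.Ring.of B g i y = x)
    hx ?_ ?_ hadd
  · intro i x hx
    refine Submodule.span_induction (p := fun x _ => ∃ (i : ι) (y : B i),
      y ∈ K i ∧ DirectLimit.Ring.of B g i y = x) ?_ ?_ ?_ ?_ hx
    · rintro _ ⟨y, hy, rfl⟩
      exact ⟨i, y, hy, rfl⟩
    · exact ⟨i, 0, zero_mem _, map_zero _⟩
    · intro x y _ _ h1 h2
      exact hadd x y h1 h2
    · rintro l x _ ⟨b, xb, hxb, rfl⟩
      obtain ⟨c, lc, rfl⟩ := DirectLimit.exists_eq_mk g l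
      obtain ⟨d, hbd, hcd⟩ := exists_ge_ge b c
      refine ⟨d, g c d hcd lc * g b d hbd xb,
        Ideal.mul_mem_left _ _ (g_mem B g K hK hbd hxb), ?_⟩
      rw [map_mul, of_t, of_t]
      rfl
  · exact ⟨Classical.arbitrary ι, 0, zero_mem _, map_zero _⟩

theorem of_mem_iSup {i : ι} {y : B i} (hy : y ∈ K i) :
    DirectLimit.Ring.of B g i y ∈ ⨆ i, (K i).map (DirectLimit.Ring.of B g i) :=
  (le_iSup (fun i => (K i).map (DirectLimit.Ring.of B g i)) i) (Ideal.mem_map_of_mem _ hy)

include hK in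
/-- If `of i x` lies in the colimit ideal then `x` lies in `K j` at some later stage `j`. -/
theorem exists_g_mem_of_of_mem {i : ι} {x : B i}
    (hx : DirectLimit.Ring.of B g i x ∈ ⨆ i, (K i).map (DirectLimit.Ring.of B g i)) :
    ∃ (j : ι) (hij : i ≤ j), g i j hij x ∈ K j := by
  obtain ⟨m, y, hy, hyx⟩ := exists_of_mem_iSup B g K hK hx
  obtain ⟨d, hid, hmd⟩ := exists_ge_ge i m
  have h1 : DirectLimit.Ring.of B g d (g i d hid x) = DirectLimit.Ring.of B g d (g m d hmd y) := by
    rw [of_t, of_t, hyx]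
  obtain ⟨e, hde, he⟩ := exists_of_eq B g h1
  refine ⟨e, hid.trans hde, ?_⟩
  rw [← t_t B g hid hde, he]
  exact g_mem B g K hK hde (g_mem B g K hK hmd hy)

include hK in
/-- **A directed colimit of henselian pairs is a henselian pair.** -/
theorem henselianRing_directLimit [∀ i, HenselianRing (B i) (K i)] :
    HenselianRing (DirectLimit B g) (⨆ i, (K i).map (DirectLimit.Ring.of B g i)) := by
  constructor
  · intro x hx
    rw [Ideal.mem_jacobson_bot]
    intro y
    obtain ⟨b, xb, hxb, rfl⟩ := exists_of_mem_iSup B g K hK hx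
    obtain ⟨c, yc, rfl⟩ := DirectLimit.exists_eq_mk g y
    obtain ⟨d, hbd, hcd⟩ := exists_ge_ge b c
    have h1 := Ideal.mem_jacobson_bot.mp
      (HenselianRing.jac (g_mem B g K hK hbd hxb)) (g c d hcd yc)
    have h2 : DirectLimit.Ring.of B g b xb * (⟦⟨c, yc⟩⟧ : DirectLimit B g) + 1 =
        DirectLimit.Ring.of B g d (g b d hbd xb * g c d hcd yc + 1) := by
      rw [map_add, map_mul, map_one, of_t, of_t]
      rfl
    rw [h2]
    exact h1.map _
  · intro p hp a₀ h₁ h₂
    rcases subsingleton_or_nontrivial (DirectLimit B g) with hs | hn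
    · exact ⟨a₀, Subsingleton.elim _ _, by rw [sub_self]; exact zero_mem _⟩
    -- lift `p` to a monic polynomial at some stage
    obtain ⟨i0, r, hr⟩ := exists_common B g (fun k : Fin (p.natDegree + 1) => p.coeff k)
    have hlift : p ∈ Polynomial.lifts (DirectLimit.Ring.of B g i0) := by
      rw [Polynomial.lifts_iff_coeff_lifts]
      intro k
      by_cases hk : k < p.natDegree + 1
      · exact ⟨r ⟨k, hk⟩, hr ⟨k, hk⟩⟩
      · rw [Polynomial.coeff_eq_zero_of_natDegree_lt (by omega)]
        exact ⟨0, map_zero _⟩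
    obtain ⟨q0, hq0p, -, hq0m⟩ := Polynomial.lifts_and_degree_eq_and_monic hlift hp
    obtain ⟨i1, a1, rfl⟩ := DirectLimit.exists_eq_mk g a₀
    -- the inverse of the derivative modulo the ideal
    obtain ⟨b', hb'⟩ := isUnit_iff_exists_inv.mp h₂
    obtain ⟨b, rfl⟩ := Ideal.Quotient.mk_surjective b'
    obtain ⟨i2, b2, rfl⟩ := DirectLimit.exists_eq_mk g b
    obtain ⟨j, h0j, h1j⟩ := exists_ge_ge i0 i1
    obtain ⟨i3, hj3, h23⟩ := exists_ge_ge j i2
    have h03 := h0j.trans hj3
    have h13 := h1j.trans hj3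
    set q := q0.map (g i0 i3 h03) with hq
    set a := g i1 i3 h13 a1 with ha
    set b := g i2 i3 h23 b2 with hb
    have hofg : ∀ {i j : ι} (h : i ≤ j), (DirectLimit.Ring.of B g j).comp (g i j h) =
        DirectLimit.Ring.of B g i := fun h => RingHom.ext fun x => of_t B g h x
    have hqp : q.map (DirectLimit.Ring.of B g i3) = p := by
      rw [hq, Polynomial.map_map, hofg, hq0p]
    have haa : DirectLimit.Ring.of B g i3 a = (⟦⟨i1, a1⟩⟧ : DirectLimit B g) := of_t B g h13 a1
    have hbb : DirectLimit.Ring.of B g i3 b = (⟦⟨i2, b2⟩⟧ : DirectLimit B g) := of_t B g h23 b2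
    have hqm : q.Monic := hq0m.map _
    -- the two membership conditions at a later stage
    have e1 : DirectLimit.Ring.of B g i3 (q.eval a) ∈
        ⨆ i, (K i).map (DirectLimit.Ring.of B g i) := by
      rw [← Polynomial.eval_map_apply, hqp, haa]
      exact h₁
    have e2 : DirectLimit.Ring.of B g i3 ((derivative q).eval a * b - 1) ∈
        ⨆ i, (K i).map (DirectLimit.Ring.of B g i) := by
      rw [map_sub, map_mul, map_one, ← Polynomial.eval_map_apply, ← Polynomial.derivative_map,
        hqp, haa, hbb, ← Ideal.Quotient.eq, map_mul, map_one]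
      exact hb'
    obtain ⟨i4, h34, m1⟩ := exists_g_mem_of_of_mem B g K hK e1
    obtain ⟨i5, h35, m2⟩ := exists_g_mem_of_of_mem B g K hK e2
    obtain ⟨s, h4s, h5s⟩ := exists_ge_ge i4 i5
    have h3s := h34.trans h4s
    have m1' : g i3 s h3s (q.eval a) ∈ K s := by
      rw [← t_t B g h34 h4s]
      exact g_mem B g K hK h4s m1
    have m2' : g i3 s h3s ((derivative q).eval a * b - 1) ∈ K s := by
      rw [← t_t B g h35 h5s]
      exact g_mem B g K hK h5s m2
    set Q := q.map (g i3 s h3s) with hQ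
    set α := g i3 s h3s a with hα
    set β := g i3 s h3s b with hβ
    have hQm : Q.Monic := hqm.map _
    have c1 : Q.eval α ∈ K s := by
      rw [hQ, hα, Polynomial.eval_map_apply]
      exact m1'
    have c2 : IsUnit (Ideal.Quotient.mk (K s) ((derivative Q).eval α)) := by
      refine isUnit_iff_exists_inv.mpr ⟨Ideal.Quotient.mk (K s) β, ?_⟩
      rw [← map_mul, ← map_one (Ideal.Quotient.mk (K s)), Ideal.Quotient.eq, hQ, hα, hβ,
        Polynomial.derivative_map, Polynomial.eval_map_apply, ← map_mul,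
        ← map_one (g i3 s h3s), ← map_sub]
      exact m2'
    obtain ⟨α', hα'root, hα'⟩ := HenselianRing.is_henselian Q hQm α c1 c2
    refine ⟨DirectLimit.Ring.of B g s α', ?_, ?_⟩
    · have hQp : Q.map (DirectLimit.Ring.of B g s) = p := by
        rw [hQ, Polynomial.map_map, hofg, hqp]
      rw [Polynomial.IsRoot.def, ← hQp, Polynomial.eval_map_apply, hα'root.eq_zero, map_zero]
    · have : DirectLimit.Ring.of B g s α = (⟦⟨i1, a1⟩⟧ : DirectLimit B g) := by
        rw [hα, of_t, haa]
      rw [← this, ← map_sub]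
      exact of_mem_iSup B g K hα'

end Groth.Agent.Lib.Helper10.HenselColim
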