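import Mathlib

/-!
# Finite (indeed arbitrary) products of henselian pairs are henselian (helper10)
-/

namespace Groth.Agent.Lib.Helper10

open Polynomial

theorem henselianRing_pi {ι : Type*} (R : ι → Type*) [∀ i, CommRing (R i)]
    (K : ∀ i, Ideal (R i)) [hK : ∀ i, HenselianRing (R i) (K i)] :
    HenselianRing (∀ i, R i) (Ideal.pi K) := by
  classical
  refine ⟨?_, ?_⟩
  · intro x hx
    rw [Ideal.mem_jacobson_bot]
    intro y
    rw [Pi.isUnit_iff]
    intro i
    have h1 : x i ∈ Ideal.jacobson (⊥ : Ideal (R i)) := (hK i).jac (hx i)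
    exact (Ideal.mem_jacobson_bot.mp h1) (y i)
  · intro f hf a₀ h₁ h₂
    have key : ∀ i, ∃ a : R i, (f.map (Pi.evalRingHom R i)).IsRoot a ∧ a - a₀ i ∈ K i := by
      intro i
      refine (hK i).is_henselian (f.map (Pi.evalRingHom R i)) (hf.map _) (a₀ i) ?_ ?_
      · have : (f.map (Pi.evalRingHom R i)).eval (a₀ i) = (f.eval a₀) i := by
          rw [show a₀ i = Pi.evalRingHom R i a₀ from rfl, Polynomial.eval_map_apply]
          rfl
        rw [this]
        exact h₁ i
      · have hle : Ideal.pi K ≤ (K i).comap (Pi.evalRingHom R i) := fun x hx => hx i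
        have h3 := h₂.map (Ideal.quotientMap (K i) (Pi.evalRingHom R i) hle)
        rw [Ideal.quotientMap_mk] at h3
        have : (f.map (Pi.evalRingHom R i)).derivative.eval (a₀ i) =
            Pi.evalRingHom R i (f.derivative.eval a₀) := by
          rw [Polynomial.derivative_map, show a₀ i = Pi.evalRingHom R i a₀ from rfl,
            Polynomial.eval_map_apply]
        rw [this]
        exact h3
    choose a ha ha' using key
    refine ⟨a, ?_, fun i => ha' i⟩
    rw [Polynomial.IsRoot.def]
    funext i
    have : (f.eval a) i = (f.map (Pi.evalRingHom R i)).eval (a i) := by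
      rw [show a i = Pi.evalRingHom R i a from rfl, Polynomial.eval_map_apply]
      rfl
    rw [this]
    exact ha i

end Groth.Agent.Lib.Helper10
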