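import Mathlib.RingTheory.Henselian
import Mathlib.Dynamics.Newton
import Mathlib.RingTheory.Jacobson.Ideal
import Mathlib.RingTheory.Nilpotent.Lemmas
import Mathlib.RingTheory.Ideal.Quotient.Operations

/-!
Henselian pairs (Mathlib's `HenselianRing`) only depend on the radical of the ideal (helper10).
The first three lemmas are copied from helper3's `Groth.Agent.Lib.Helper3` (so that this file is
self-contained).
-/

namespace Groth.Agent.Lib.Helper10

open Polynomial

/-- If `a` is a root of `f`, `f(a₀) ∈ I` and `f'(a₀) + k (a - a₀)` is a unit for every `k`,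
then `a - a₀ ∈ I`. -/
theorem sub_mem_of_isRoot_of_isUnit {A : Type*} [CommRing A] (I : Ideal A) (f : A[X]) (a a₀ : A)
    (hroot : f.IsRoot a) (h0 : f.eval a₀ ∈ I)
    (hu : ∀ k : A, IsUnit (f.derivative.eval a₀ + k * (a - a₀))) : a - a₀ ∈ I := by
  obtain ⟨k, hk⟩ := binomExpansion f a₀ (a - a₀)
  rw [add_sub_cancel, hroot.eq_zero] at hk
  obtain ⟨u, hu'⟩ := hu k
  have h1 : (a - a₀) * (u : A) = -f.eval a₀ := by
    rw [hu']
    linear_combination -hk
  have h2 : a - a₀ = -f.eval a₀ * ((u⁻¹ : Aˣ) : A) := by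
    rw [← h1, mul_assoc, Units.mul_inv, mul_one]
  rw [h2]
  exact I.mul_mem_right _ (I.neg_mem h0)

/-- An element which is a unit modulo an ideal contained in the Jacobson radical is a unit. -/
theorem isUnit_of_isUnit_mk_of_le_jacobson {A : Type*} [CommRing A] {I : Ideal A}
    (hI : I ≤ Ideal.jacobson ⊥) {x : A} (hx : IsUnit (Ideal.Quotient.mk I x)) : IsUnit x := by
  have : IsLocalHom (Ideal.Quotient.mk I) := isLocalHom_of_le_jacobson_bot I hI
  exact isUnit_of_map_unit (Ideal.Quotient.mk I) x hx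

/-- A locally nilpotent ideal lies in the Jacobson radical. -/
theorem le_jacobson_bot_of_forall_isNilpotent {A : Type*} [CommRing A] (I : Ideal A)
    (hI : ∀ x ∈ I, IsNilpotent x) : I ≤ Ideal.jacobson ⊥ := by
  intro x hx
  rw [Ideal.mem_jacobson_bot]
  intro y
  have : IsNilpotent (x * y) := (Commute.all x y).isNilpotent_mul_right (hI x hx)
  exact IsNilpotent.isUnit_add_one this

/-- A ring is Henselian at every locally nilpotent ideal. -/
theorem henselianRing_of_forall_isNilpotent {A : Type*} [CommRing A] (I : Ideal A)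
    (hI : ∀ x ∈ I, IsNilpotent x) : HenselianRing A I where
  jac := le_jacobson_bot_of_forall_isNilpotent I hI
  is_henselian f _ a₀ h₁ h₂ := by
    have hjac := le_jacobson_bot_of_forall_isNilpotent I hI
    have hunit : IsUnit (f.derivative.eval a₀) := isUnit_of_isUnit_mk_of_le_jacobson hjac h₂
    have hnil : IsNilpotent (aeval a₀ f) := by simpa using hI _ h₁
    have hunit' : IsUnit (aeval a₀ (derivative f)) := by simpa using hunit
    obtain ⟨r, ⟨hr1, hr2⟩, -⟩ := existsUnique_nilpotent_sub_and_aeval_eq_zero hnil hunit'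
    refine ⟨r, by simpa [IsRoot.def] using hr2, ?_⟩
    apply sub_mem_of_isRoot_of_isUnit I f r a₀ (by simpa [IsRoot.def] using hr2) h₁
    intro k
    have hn : IsNilpotent (k * (r - a₀)) := by
      have : IsNilpotent (r - a₀) := by
        rw [← neg_sub]; exact hr1.neg
      exact (Commute.all _ _).isNilpotent_mul_left this
    exact IsNilpotent.isUnit_add_left_of_commute hn hunit (Commute.all _ _)

/-- A unit plus an element of the Jacobson radical is a unit. -/
theorem isUnit_add_of_mem_jacobson_bot {A : Type*} [CommRing A] {u j : A} (hu : IsUnit u)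
    (hj : j ∈ Ideal.jacobson (⊥ : Ideal A)) : IsUnit (u + j) := by
  obtain ⟨v, rfl⟩ := hu
  have h1 : IsUnit (j * ((v⁻¹ : Aˣ) : A) + 1) := Ideal.mem_jacobson_bot.1 hj _
  have h2 : (v : A) + j = (v : A) * (j * ((v⁻¹ : Aˣ) : A) + 1) := by
    have : (v : A) * (j * ((v⁻¹ : Aˣ) : A)) = j := by
      rw [mul_comm j, ← mul_assoc, Units.mul_inv, one_mul]
    rw [mul_add, this, mul_one, add_comm]
  rw [h2]
  exact v.isUnit.mul h1

/-- Unit modulo `J` implies unit modulo a bigger ideal. -/
theorem isUnit_mk_of_le {A : Type*} [CommRing A] {J J' : Ideal A} (h : J ≤ J') {x : A}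
    (hx : IsUnit (Ideal.Quotient.mk J x)) : IsUnit (Ideal.Quotient.mk J' x) := by
  have := hx.map (Ideal.Quotient.factor h)
  simpa using this

/-- Going down: if `(C, J')` is henselian and `J ≤ J'` then `(C, J)` is henselian. (No radical
hypothesis is needed for this direction.) -/
theorem henselianRing_of_le {C : Type*} [CommRing C] {J J' : Ideal C} (h1 : J ≤ J')
    (H : HenselianRing C J') : HenselianRing C J where
  jac := h1.trans H.jac
  is_henselian f hf a₀ h₁ h₂ := by
    have hjac : J ≤ Ideal.jacobson ⊥ := h1.trans H.jac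
    obtain ⟨a, hroot, ha⟩ := H.is_henselian f hf a₀ (h1 h₁) (isUnit_mk_of_le h1 h₂)
    refine ⟨a, hroot, ?_⟩
    apply sub_mem_of_isRoot_of_isUnit J f a a₀ hroot h₁
    intro k
    have hunit : IsUnit (f.derivative.eval a₀) := isUnit_of_isUnit_mk_of_le_jacobson hjac h₂
    exact isUnit_add_of_mem_jacobson_bot hunit (H.jac (J'.mul_mem_left k ha))

/-- Going up inside the radical: if `(C, J)` is henselian and `J ≤ J' ≤ √J` then `(C, J')` is
henselian. -/
theorem henselianRing_of_le_radical {C : Type*} [CommRing C] {J J' : Ideal C} (h1 : J ≤ J')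
    (h2 : J' ≤ J.radical) (H : HenselianRing C J) : HenselianRing C J' := by
  have hjac' : J' ≤ Ideal.jacobson ⊥ := by
    refine h2.trans ?_
    calc J.radical ≤ J.jacobson := Ideal.radical_le_jacobson
      _ ≤ (Ideal.jacobson (⊥ : Ideal C)).jacobson := Ideal.jacobson_mono H.jac
      _ = Ideal.jacobson ⊥ := Ideal.jacobson_idem
  refine ⟨hjac', ?_⟩
  intro f hf a₀ h₁ h₂'
  -- Step 1: work in `C ⧸ J`, where the image of `J'` is a nil ideal.
  have hnil : ∀ x ∈ J'.map (Ideal.Quotient.mk J), IsNilpotent x := by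
    intro x hx
    rw [Ideal.mem_map_iff_of_surjective _ Ideal.Quotient.mk_surjective] at hx
    obtain ⟨y, hy, rfl⟩ := hx
    obtain ⟨n, hn⟩ := h2 hy
    refine ⟨n, ?_⟩
    rw [← map_pow, Ideal.Quotient.eq_zero_iff_mem]
    exact hn
  have Hbar : HenselianRing (C ⧸ J) (J'.map (Ideal.Quotient.mk J)) :=
    henselianRing_of_forall_isNilpotent _ hnil
  have hunit0 : IsUnit (f.derivative.eval a₀) := isUnit_of_isUnit_mk_of_le_jacobson hjac' h₂'
  have hev : ∀ (g : C[X]) (c : C), (g.map (Ideal.Quotient.mk J)).eval (Ideal.Quotient.mk J c) =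
      Ideal.Quotient.mk J (g.eval c) := by
    intro g c
    rw [Polynomial.eval_map, Polynomial.eval₂_at_apply]
  obtain ⟨abar, hroot, habar⟩ := Hbar.is_henselian (f.map (Ideal.Quotient.mk J))
    (hf.map _) (Ideal.Quotient.mk J a₀)
    (by rw [hev]; exact Ideal.mem_map_of_mem _ h₁)
    (by
      rw [Polynomial.derivative_map, hev]
      exact (hunit0.map (Ideal.Quotient.mk J)).map _)
  rw [Ideal.mem_map_iff_of_surjective _ Ideal.Quotient.mk_surjective] at habar
  obtain ⟨j', hj', hj'eq⟩ := habar
  -- the lifted approximate root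
  have hpi : Ideal.Quotient.mk J (a₀ + j') = abar := by
    rw [map_add, hj'eq]; ring
  have hfa₁ : f.eval (a₀ + j') ∈ J := by
    rw [← Ideal.Quotient.eq_zero_iff_mem, ← hev, hpi]
    exact hroot
  have hunit1 : IsUnit (f.derivative.eval (a₀ + j')) := by
    obtain ⟨c, hc⟩ := Polynomial.sub_dvd_eval_sub (a₀ + j') a₀ f.derivative
    have : f.derivative.eval (a₀ + j') = f.derivative.eval a₀ + j' * c := by
      have h3 : a₀ + j' - a₀ = j' := by ring
      rw [h3] at hc
      rw [← hc]; ring
    rw [this]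
    exact isUnit_add_of_mem_jacobson_bot hunit0 (hjac' (J'.mul_mem_right c hj'))
  obtain ⟨a, haroot, ha⟩ := H.is_henselian f hf (a₀ + j') hfa₁ (hunit1.map _)
  refine ⟨a, haroot, ?_⟩
  have h4 : a - a₀ = (a - (a₀ + j')) + j' := by ring
  rw [h4]
  exact J'.add_mem (h1 ha) hj'

/-- Henselian pairs only depend on the radical of the ideal. -/
theorem henselianRing_iff_of_radical_eq {C : Type*} [CommRing C] {J J' : Ideal C}
    (h : J.radical = J'.radical) : HenselianRing C J ↔ HenselianRing C J' := by
  have key : ∀ {K K' : Ideal C}, K.radical = K'.radical → HenselianRing C K → HenselianRing C K' := by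
    intro K K' hKK' H
    have h1 : K ≤ K ⊔ K' := le_sup_left
    have h2 : K ⊔ K' ≤ K.radical := sup_le Ideal.le_radical (hKK' ▸ Ideal.le_radical)
    exact henselianRing_of_le le_sup_right (henselianRing_of_le_radical h1 h2 H)
  exact ⟨key h, key h.symm⟩

end Groth.Agent.Lib.Helper10
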