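import Mathlib

/-!
# `A[x]/(x^n - π)` for a DVR `A` with uniformizer `π`, `n ≥ 1` (helper10)

Generalisation to `n ≥ 1` of the helper lemmas of `Groth.Agent.S1987` (which assume `n ≥ 2`),
together with the assembled instances.
-/

set_option autoImplicit false
set_option linter.unusedSectionVars false
set_option linter.style.haveILetI false
universe u
open Polynomial

namespace Groth.Agent.Lib.Helper10.KummerDVR

section helpers

variable (A : Type u) [CommRing A] [IsDomain A] [IsDiscreteValuationRing A] (π : A)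
  (hπ : Irreducible π) (n : ℕ) (hn : 1 ≤ n)

include hπ hn in
theorem irr : Irreducible (X ^ n - C π : A[X]) := by
  have hn0 : n ≠ 0 := by omega
  have hmonic : (X ^ n - C π : A[X]).Monic := monic_X_pow_sub_C π hn0
  have hdeg : (X ^ n - C π : A[X]).natDegree = n := natDegree_X_pow_sub_C
  have hprime : Prime π := hπ.prime
  have hP : (Ideal.span {π}).IsPrime := (Ideal.span_singleton_prime hπ.ne_zero).mpr hprime
  refine Polynomial.IsEisensteinAt.irreducible (𝓟 := Ideal.span {π}) ?_ hP hmonic.isPrimitive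
    (by rw [hdeg]; omega)
  refine ⟨?_, ?_, ?_⟩
  · rw [hmonic.leadingCoeff]
    exact fun h => hP.ne_top ((Ideal.eq_top_iff_one _).mpr h)
  · intro k hk
    rw [hdeg] at hk
    rw [coeff_sub, coeff_X_pow, if_neg (by omega), zero_sub, coeff_C]
    split_ifs
    · exact (Ideal.neg_mem_iff _).mpr (Ideal.mem_span_singleton_self π)
    · simp
  · rw [coeff_sub, coeff_X_pow, if_neg (by omega), zero_sub, coeff_C_zero,
      Ideal.span_singleton_pow, Ideal.neg_mem_iff, Ideal.mem_span_singleton]
    rintro ⟨c, hc⟩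
    have h2 : π * 1 = π * (π * c) := by
      rw [mul_one]
      conv_lhs => rw [hc]
      ring
    have h1 := mul_left_cancel₀ hπ.ne_zero h2
    exact hπ.not_isUnit (IsUnit.of_mul_eq_one c h1.symm)

theorem root_pow :
    AdjoinRoot.root (X ^ n - C π : A[X]) ^ n = AdjoinRoot.of (X ^ n - C π : A[X]) π := by
  have h := AdjoinRoot.mk_self (f := (X ^ n - C π : A[X]))
  rw [map_sub, map_pow, AdjoinRoot.mk_X, AdjoinRoot.mk_C, sub_eq_zero] at h
  exact h

theorem decomp (b : AdjoinRoot (X ^ n - C π : A[X])) :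
    ∃ (a0 : A) (b' : AdjoinRoot (X ^ n - C π : A[X])),
      b = AdjoinRoot.of (X ^ n - C π : A[X]) a0 + AdjoinRoot.root (X ^ n - C π : A[X]) * b' := by
  obtain ⟨p, rfl⟩ := AdjoinRoot.mk_surjective b
  refine ⟨p.coeff 0, AdjoinRoot.mk _ p.divX, ?_⟩
  conv_lhs => rw [← Polynomial.divX_mul_X_add p]
  rw [map_add, map_mul, AdjoinRoot.mk_X, AdjoinRoot.mk_C, add_comm, mul_comm]

include hπ hn in
theorem root_mem_max (M : Ideal (AdjoinRoot (X ^ n - C π : A[X]))) (hM : M.IsMaximal) :
    AdjoinRoot.root (X ^ n - C π : A[X]) ∈ M := by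
  have hn0 : n ≠ 0 := by omega
  have hmonic : (X ^ n - C π : A[X]).Monic := monic_X_pow_sub_C π hn0
  haveI : Module.Finite A (AdjoinRoot (X ^ n - C π : A[X])) := hmonic.finite_adjoinRoot
  haveI : Algebra.IsIntegral A (AdjoinRoot (X ^ n - C π : A[X])) := Algebra.IsIntegral.of_finite _ _
  have h1 : (M.comap (algebraMap A (AdjoinRoot (X ^ n - C π : A[X])))).IsMaximal :=
    Ideal.isMaximal_comap_of_isIntegral_of_isMaximal M
  have h2 := IsLocalRing.eq_maximalIdeal h1
  have h3 : π ∈ M.comap (algebraMap A (AdjoinRoot (X ^ n - C π : A[X]))) := by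
    rw [h2, IsLocalRing.mem_maximalIdeal, mem_nonunits_iff]
    exact hπ.not_isUnit
  rw [Ideal.mem_comap, AdjoinRoot.algebraMap_eq, ← root_pow] at h3
  exact hM.isPrime.mem_of_pow_mem n h3

include hπ hn in
theorem nonunit_iff (b : AdjoinRoot (X ^ n - C π : A[X])) :
    ¬ IsUnit b ↔ b ∈ Ideal.span {AdjoinRoot.root (X ^ n - C π : A[X])} := by
  haveI hdom : IsDomain (AdjoinRoot (X ^ n - C π : A[X])) :=
    AdjoinRoot.isDomain_of_prime (irr A π hπ n hn).prime
  constructor
  · intro hb
    obtain ⟨M, hM, hbM⟩ := exists_max_ideal_of_mem_nonunits (mem_nonunits_iff.mpr hb)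
    obtain ⟨a0, b', rfl⟩ := decomp A π n b
    have hroot := root_mem_max A π hπ n hn M hM
    have ha0M : AdjoinRoot.of (X ^ n - C π : A[X]) a0 ∈ M := by
      have := M.sub_mem hbM (M.mul_mem_right b' hroot)
      simpa using this
    have ha0 : ¬ IsUnit a0 := by
      intro hu
      exact hM.ne_top (Ideal.eq_top_of_isUnit_mem _ ha0M (hu.map _))
    have ha0' : a0 ∈ IsLocalRing.maximalIdeal A := by
      rw [IsLocalRing.mem_maximalIdeal, mem_nonunits_iff]; exact ha0
    rw [hπ.maximalIdeal_eq, Ideal.mem_span_singleton] at ha0'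
    obtain ⟨c, rfl⟩ := ha0'
    refine Ideal.add_mem _ ?_ (Ideal.mul_mem_right _ _ (Ideal.mem_span_singleton_self _))
    rw [map_mul, ← root_pow]
    have hpow : AdjoinRoot.root (X ^ n - C π : A[X]) ^ n
        = AdjoinRoot.root (X ^ n - C π : A[X]) ^ (n - 1) * AdjoinRoot.root (X ^ n - C π : A[X]) := by
      rw [← pow_succ]
      congr 1
      omega
    rw [hpow, mul_assoc]
    exact Ideal.mul_mem_left _ _ (Ideal.mul_mem_right _ _ (Ideal.mem_span_singleton_self _))
  · intro hb hu
    obtain ⟨c, rfl⟩ := Ideal.mem_span_singleton'.mp hb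
    have hru : IsUnit (AdjoinRoot.root (X ^ n - C π : A[X])) := isUnit_of_mul_isUnit_right hu
    obtain ⟨M, hM⟩ := Ideal.exists_maximal (AdjoinRoot (X ^ n - C π : A[X]))
    exact hM.ne_top (Ideal.eq_top_of_isUnit_mem _ (root_mem_max A π hπ n hn M hM) hru)

include hπ hn in
theorem maxIdeal_eq [IsLocalRing (AdjoinRoot (X ^ n - C π : A[X]))] :
    IsLocalRing.maximalIdeal (AdjoinRoot (X ^ n - C π : A[X]))
      = Ideal.span {AdjoinRoot.root (X ^ n - C π : A[X])} := by
  ext b
  rw [IsLocalRing.mem_maximalIdeal, mem_nonunits_iff]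
  exact nonunit_iff A π hπ n hn b


include hπ hn in
theorem isDomain : IsDomain (AdjoinRoot (X ^ n - C π : A[X])) :=
  AdjoinRoot.isDomain_of_prime (irr A π hπ n hn).prime

include hπ hn in
theorem isLocalRing : IsLocalRing (AdjoinRoot (X ^ n - C π : A[X])) := by
  haveI := isDomain A π hπ n hn
  apply IsLocalRing.of_nonunits_add
  intro a b ha hb
  rw [mem_nonunits_iff, nonunit_iff A π hπ n hn] at ha hb ⊢
  exact Ideal.add_mem _ ha hb

include hn in
theorem of_injective : Function.Injective (AdjoinRoot.of (X ^ n - C π : A[X])) := by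
  apply AdjoinRoot.of.injective_of_degree_ne_zero
  rw [degree_X_pow_sub_C (by omega) π]
  exact_mod_cast (by omega : n ≠ 0)

include hπ hn in
theorem root_ne_zero : AdjoinRoot.root (X ^ n - C π : A[X]) ≠ 0 := by
  intro h
  have h2 := root_pow A π n
  rw [h, zero_pow (by omega)] at h2
  exact hπ.ne_zero (of_injective A π n hn (by rw [← h2, map_zero]))

include hπ hn in
theorem isDiscreteValuationRing [IsDomain (AdjoinRoot (X ^ n - C π : A[X]))] :
    IsDiscreteValuationRing (AdjoinRoot (X ^ n - C π : A[X])) := by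
  haveI := isLocalRing A π hπ n hn
  have hmax := maxIdeal_eq A π hπ n hn
  have hmonic : (X ^ n - C π : A[X]).Monic := monic_X_pow_sub_C π (by omega)
  haveI : Module.Finite A (AdjoinRoot (X ^ n - C π : A[X])) := hmonic.finite_adjoinRoot
  haveI hnoeth : IsNoetherianRing (AdjoinRoot (X ^ n - C π : A[X])) :=
    IsNoetherianRing.of_finite A _
  have hnf : ¬ IsField (AdjoinRoot (X ^ n - C π : A[X])) := by
    rw [IsLocalRing.isField_iff_maximalIdeal_eq, hmax, Ideal.span_singleton_eq_bot]
    exact root_ne_zero A π hπ n hn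
  have hprinc : (IsLocalRing.maximalIdeal (AdjoinRoot (X ^ n - C π : A[X]))).IsPrincipal :=
    ⟨⟨AdjoinRoot.root (X ^ n - C π : A[X]), hmax⟩⟩
  exact ((IsDiscreteValuationRing.TFAE (AdjoinRoot (X ^ n - C π : A[X])) hnf).out 4 0).mp hprinc

include hπ hn in
theorem map_maximalIdeal [IsLocalRing (AdjoinRoot (X ^ n - C π : A[X]))] :
    (IsLocalRing.maximalIdeal A).map (algebraMap A (AdjoinRoot (X ^ n - C π : A[X]))) =
      IsLocalRing.maximalIdeal (AdjoinRoot (X ^ n - C π : A[X])) ^ n := by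
  rw [hπ.maximalIdeal_eq, Ideal.map_span, Set.image_singleton, AdjoinRoot.algebraMap_eq,
    ← root_pow, ← Ideal.span_singleton_pow]
  congr 1
  exact (maxIdeal_eq A π hπ n hn).symm

end helpers

end Groth.Agent.Lib.Helper10.KummerDVR
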