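import Mathlib

/-!
# Local generator for an `n`-th root of a principal fractional ideal
-/

set_option autoImplicit false
set_option linter.style.haveILetI false

namespace Groth.Agent.Lib.Helper10.KummerDedGen

open scoped nonZeroDivisors

variable {A K : Type*} [CommRing A] [IsDedekindDomain A] [Field K] [Algebra A K]
  [IsFractionRing A K]

theorem pow_le_pow_of_le {I J : FractionalIdeal A⁰ K} (h : I ≤ J) (n : ℕ) : I ^ n ≤ J ^ n := by
  induction n with
  | zero => simp
  | succ n ih =>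
    rw [pow_succ, pow_succ]
    exact mul_le_mul' ih h

theorem pow_mem_pow' {I : FractionalIdeal A⁰ K} {x : K} (h : x ∈ I) (n : ℕ) : x ^ n ∈ I ^ n := by
  induction n with
  | zero =>
    rw [pow_zero, pow_zero]
    exact (FractionalIdeal.mem_one_iff _).mpr ⟨1, map_one _⟩
  | succ n ih =>
    rw [pow_succ, pow_succ]
    exact FractionalIdeal.mul_mem_mul ih h

theorem exists_local_gen (p : Ideal A) [p.IsPrime] (n : ℕ) (hn : n ≠ 0) (f : K) (hf : f ≠ 0)
    (I : FractionalIdeal A⁰ K) (hI : FractionalIdeal.spanSingleton A⁰ f = I ^ n) :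
    ∃ c : K, c ≠ 0 ∧ ∃ a : A, a ∉ p ∧ c ^ n * f = algebraMap A K a := by
  have hinj : Function.Injective (algebraMap A K) := IsFractionRing.injective A K
  have hI0 : I ≠ 0 := by
    rintro rfl
    rw [zero_pow hn, FractionalIdeal.spanSingleton_eq_zero_iff] at hI
    exact hf hI
  have h1 : I * I⁻¹ = 1 := mul_inv_cancel₀ hI0
  have hex : ∃ g ∈ I, ∃ h ∈ I⁻¹, ∃ s : A, s ∉ p ∧ g * h = algebraMap A K s := by
    by_contra hcon
    push_neg at hcon
    have hone : (1 : K) ∈ I * I⁻¹ := by
      rw [h1]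
      exact (FractionalIdeal.mem_one_iff _).mpr ⟨1, map_one _⟩
    have : ∃ a ∈ p, algebraMap A K a = 1 := by
      refine FractionalIdeal.mul_induction_on (C := fun z => ∃ a ∈ p, algebraMap A K a = z) hone
        ?_ ?_
      · intro i hi j hj
        have hij : i * j ∈ (1 : FractionalIdeal A⁰ K) := h1 ▸ FractionalIdeal.mul_mem_mul hi hj
        obtain ⟨a, ha⟩ := (FractionalIdeal.mem_one_iff _).mp hij
        exact ⟨a, by_contra fun hnp => hcon i hi j hj a hnp ha.symm, ha⟩
      · rintro x y ⟨a, ha, rfl⟩ ⟨b, hb, rfl⟩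
        exact ⟨a + b, p.add_mem ha hb, map_add _ _ _⟩
    obtain ⟨a, ha, ha1⟩ := this
    have : a = 1 := hinj (by rw [ha1, map_one])
    exact (Ideal.IsPrime.ne_top ‹_›) ((Ideal.eq_top_iff_one _).mpr (this ▸ ha))
  obtain ⟨g, hgI, h, hhI, s, hsp, hgh⟩ := hex
  have hs0 : s ≠ 0 := fun h0 => hsp (h0 ▸ p.zero_mem)
  have hsK : algebraMap A K s ≠ 0 := fun h0 => hs0 (hinj (by rw [h0, map_zero]))
  have hg0 : g ≠ 0 := by
    rintro rfl
    rw [zero_mul] at hgh
    exact hsK hgh.symm
  have hle : I ≤ FractionalIdeal.spanSingleton A⁰ (g / algebraMap A K s) := by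
    intro x hx
    have hxh : x * h ∈ (1 : FractionalIdeal A⁰ K) := h1 ▸ FractionalIdeal.mul_mem_mul hx hhI
    obtain ⟨b, hb⟩ := (FractionalIdeal.mem_one_iff _).mp hxh
    rw [FractionalIdeal.mem_spanSingleton]
    refine ⟨b, ?_⟩
    rw [Algebra.smul_def, hb]
    field_simp
    rw [← hgh]
    ring
  have hle' := pow_le_pow_of_le hle n
  rw [FractionalIdeal.spanSingleton_pow, ← hI] at hle'
  obtain ⟨a', ha'⟩ := (FractionalIdeal.mem_spanSingleton _).mp
    (hle' (FractionalIdeal.mem_spanSingleton_self A⁰ f))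
  have hgn : g ^ n ∈ FractionalIdeal.spanSingleton A⁰ f := hI ▸ pow_mem_pow' hgI n
  obtain ⟨a, ha⟩ := (FractionalIdeal.mem_spanSingleton _).mp hgn
  rw [Algebra.smul_def] at ha ha'
  have hgn0 : g ^ n ≠ 0 := pow_ne_zero _ hg0
  have hsn0 : algebraMap A K s ^ n ≠ 0 := pow_ne_zero _ hsK
  have haa : a * a' = s ^ n := by
    apply hinj
    rw [map_mul, map_pow]
    have e1 : algebraMap A K a' * g ^ n = f * algebraMap A K s ^ n := by
      rw [← ha', div_pow]
      field_simp
    have e2 : g ^ n * (algebraMap A K a * algebraMap A K a') = g ^ n * algebraMap A K s ^ n := by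
      calc g ^ n * (algebraMap A K a * algebraMap A K a')
          = algebraMap A K a * (algebraMap A K a' * g ^ n) := by ring
        _ = algebraMap A K a * (f * algebraMap A K s ^ n) := by rw [e1]
        _ = (algebraMap A K a * f) * algebraMap A K s ^ n := by ring
        _ = g ^ n * algebraMap A K s ^ n := by rw [ha]
    exact mul_left_cancel₀ hgn0 e2
  refine ⟨algebraMap A K s / g, div_ne_zero hsK hg0, a', ?_, ?_⟩
  · intro ha'p
    have : s ^ n ∈ p := haa ▸ p.mul_mem_left a ha'p
    exact hsp (Ideal.IsPrime.mem_of_pow_mem ‹_› n this)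
  · rw [← ha', div_pow, div_pow]
    field_simp

end Groth.Agent.Lib.Helper10.KummerDedGen
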