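import Mathlib
import Groth.Prelude.Def_EtRam
import Groth.Agent.Lib.Helper10.KummerDVR
import Groth.Agent.Lib.Helper10.RamTower

/-!
# Adjoining a root of a uniformizer: more on `A' = A[x]/(x^n - π)` and the extension
`L' = L[x]/(g)`, `g ∣ x^n - π` irreducible (helper10)
-/

set_option autoImplicit false
set_option linter.unusedSectionVars false
set_option linter.style.haveILetI false
universe u
open Polynomial IsLocalRing

namespace Groth.Agent.Lib.Helper10.KummerExt

open Groth.Agent.Lib.Helper10.KummerDVR Groth.Agent.Lib.Helper10.RamTower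

section Fraction

/-- Generic "every element is a fraction" induction. -/
theorem exists_fraction_of_adjoin {L M : Type*} [Field L] [Field M] [Algebra L M] (S : Subring M)
    (G : Set M) (hG : Algebra.adjoin L G = ⊤)
    (hGS : ∀ x ∈ G, ∃ c₁ ∈ S, ∃ c₂ ∈ S, c₂ ≠ 0 ∧ x * c₂ = c₁)
    (hLS : ∀ l : L, ∃ c₁ ∈ S, ∃ c₂ ∈ S, c₂ ≠ 0 ∧ algebraMap L M l * c₂ = c₁) :
    ∀ x : M, ∃ c₁ ∈ S, ∃ c₂ ∈ S, c₂ ≠ 0 ∧ x * c₂ = c₁ := by
  intro x
  have hx : x ∈ Algebra.adjoin L G := hG ▸ Algebra.mem_top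
  induction hx using Algebra.adjoin_induction with
  | mem y hy => exact hGS y hy
  | algebraMap l => exact hLS l
  | add y z _ _ hy hz =>
    obtain ⟨c₁, hc₁, c₂, hc₂, hc₂0, hc⟩ := hy
    obtain ⟨d₁, hd₁, d₂, hd₂, hd₂0, hd'⟩ := hz
    refine ⟨c₁ * d₂ + d₁ * c₂, S.add_mem (S.mul_mem hc₁ hd₂) (S.mul_mem hd₁ hc₂), c₂ * d₂,
      S.mul_mem hc₂ hd₂, mul_ne_zero hc₂0 hd₂0, ?_⟩
    linear_combination d₂ * hc + c₂ * hd'
  | mul y z _ _ hy hz =>
    obtain ⟨c₁, hc₁, c₂, hc₂, hc₂0, hc⟩ := hy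
    obtain ⟨d₁, hd₁, d₂, hd₂, hd₂0, hd'⟩ := hz
    refine ⟨c₁ * d₁, S.mul_mem hc₁ hd₁, c₂ * d₂, S.mul_mem hc₂ hd₂, mul_ne_zero hc₂0 hd₂0, ?_⟩
    linear_combination (z * d₂) * hc + c₁ * hd'

/-- Transfer of the fraction property from a subring of `M` to a subring of a valuation
subring. -/
theorem exists_fraction_subring {M : Type*} [Field M] (W : ValuationSubring M) (S : Subring W)
    (h : ∀ x : M, ∃ c₁ ∈ S.map W.subtype, ∃ c₂ ∈ S.map W.subtype, c₂ ≠ 0 ∧ x * c₂ = c₁) :
    ∀ w : W, ∃ c₁ ∈ S, ∃ c₂ ∈ S, c₂ ≠ 0 ∧ w * c₂ = c₁ := by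
  intro w
  obtain ⟨c₁, ⟨c₁', hc₁', rfl⟩, c₂, ⟨c₂', hc₂', rfl⟩, h0, hc⟩ := h (w : M)
  refine ⟨c₁', hc₁', c₂', hc₂', ?_, Subtype.ext hc⟩
  intro h0'
  exact h0 (by rw [h0']; rfl)

end Fraction

section DVR

variable (A : Type u) [CommRing A] [IsDomain A] [IsDiscreteValuationRing A] (π : A)
  (hπ : Irreducible π) (n : ℕ) (hn : 1 ≤ n)

include hπ hn in
theorem isLocalHom_algebraMap [IsLocalRing (AdjoinRoot (X ^ n - C π : A[X]))] :
    IsLocalHom (algebraMap A (AdjoinRoot (X ^ n - C π : A[X]))) := by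
  constructor
  intro a ha
  by_contra hna
  have hm : a ∈ maximalIdeal A := hna
  rw [hπ.maximalIdeal_eq, Ideal.mem_span_singleton] at hm
  obtain ⟨c, rfl⟩ := hm
  rw [AdjoinRoot.algebraMap_eq, map_mul, ← root_pow] at ha
  have h1 : IsUnit (AdjoinRoot.root (X ^ n - C π : A[X]) ^ n) := isUnit_of_mul_isUnit_left ha
  have h2 : IsUnit (AdjoinRoot.root (X ^ n - C π : A[X])) := (isUnit_pow_iff (by omega)).mp h1
  exact (nonunit_iff A π hπ n hn _).mpr (Ideal.mem_span_singleton_self _) h2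

include hπ hn in
theorem ramificationIdx_eq [IsDomain (AdjoinRoot (X ^ n - C π : A[X]))]
    [IsDiscreteValuationRing (AdjoinRoot (X ^ n - C π : A[X]))] :
    Ideal.ramificationIdx' (maximalIdeal A)
      (maximalIdeal (AdjoinRoot (X ^ n - C π : A[X]))) = n := by
  have hmap := map_maximalIdeal A π hπ n hn
  have hmax := maxIdeal_eq A π hπ n hn
  apply Ideal.ramificationIdx'_spec
  · rw [hmap]
  · rw [hmap, hmax, Ideal.span_singleton_pow, Ideal.span_singleton_pow,
      Ideal.span_singleton_le_span_singleton]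
    intro hdvd
    have h0 := root_ne_zero A π hπ n hn
    have hnu : ¬ IsUnit (AdjoinRoot.root (X ^ n - C π : A[X])) :=
      (nonunit_iff A π hπ n hn _).mpr (Ideal.mem_span_singleton_self _)
    have := (pow_dvd_pow_iff h0 hnu).mp hdvd
    omega

include hπ hn in
theorem residue_surjective' [IsLocalRing (AdjoinRoot (X ^ n - C π : A[X]))]
    (x : ResidueField (AdjoinRoot (X ^ n - C π : A[X]))) :
    ∃ a : A, residue _ (algebraMap A (AdjoinRoot (X ^ n - C π : A[X])) a) = x := by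
  obtain ⟨b, rfl⟩ := residue_surjective x
  obtain ⟨a0, b', rfl⟩ := decomp A π n b
  refine ⟨a0, ?_⟩
  rw [map_add, AdjoinRoot.algebraMap_eq, left_eq_add, residue_eq_zero_iff,
    maxIdeal_eq A π hπ n hn]
  exact Ideal.mul_mem_right _ _ (Ideal.mem_span_singleton_self _)

end DVR

section Ext

variable (A : Type u) [CommRing A] [IsDomain A] [IsDiscreteValuationRing A] (π : A)
  (hπ : Irreducible π) (n : ℕ) (hn : 1 ≤ n)
  (L : Type u) [Field L] [Algebra A L] (g : L[X])
  (hg : g ∣ (X ^ n - C (algebraMap A L π) : L[X]))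

/-- The map `A[x]/(x^n - π) → L[x]/(g)` for `g ∣ x^n - π`. -/
noncomputable def liftHom : AdjoinRoot (X ^ n - C π : A[X]) →+* AdjoinRoot g :=
  AdjoinRoot.lift ((algebraMap L (AdjoinRoot g)).comp (algebraMap A L)) (AdjoinRoot.root g) (by
    have h1 : AdjoinRoot.mk g (X ^ n - C (algebraMap A L π) : L[X]) = 0 :=
      AdjoinRoot.mk_eq_zero.mpr hg
    rw [map_sub, map_pow, AdjoinRoot.mk_X, AdjoinRoot.mk_C] at h1
    rw [eval₂_sub, eval₂_pow, eval₂_X, eval₂_C]
    exact h1)

theorem liftHom_of (a : A) : liftHom A π n L g hg (AdjoinRoot.of _ a) =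
    algebraMap L (AdjoinRoot g) (algebraMap A L a) := AdjoinRoot.lift_of _

theorem liftHom_root : liftHom A π n L g hg (AdjoinRoot.root _) = AdjoinRoot.root g :=
  AdjoinRoot.lift_root _

include hπ hn in
theorem liftHom_injective [Fact (Irreducible g)] (hAL : Function.Injective (algebraMap A L)) :
    Function.Injective (liftHom A π n L g hg) := by
  haveI := isDomain A π hπ n hn
  have hmonic : (X ^ n - C π : A[X]).Monic := monic_X_pow_sub_C π (by omega)
  haveI : Module.Finite A (AdjoinRoot (X ^ n - C π : A[X])) := hmonic.finite_adjoinRoot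
  haveI : Algebra.IsIntegral A (AdjoinRoot (X ^ n - C π : A[X])) := Algebra.IsIntegral.of_finite _ _
  rw [RingHom.injective_iff_ker_eq_bot]
  apply Ideal.eq_bot_of_comap_eq_bot (R := A)
  rw [eq_bot_iff]
  intro a ha
  rw [Ideal.mem_comap, RingHom.mem_ker, AdjoinRoot.algebraMap_eq, liftHom_of] at ha
  have h1 : algebraMap A L a = 0 := (algebraMap L (AdjoinRoot g)).injective (by rw [ha, map_zero])
  exact hAL (by rw [h1, map_zero])

include hπ hn in
/-- A valuation subring of `L[x]/(g)` containing the image of `A`, in which `π` is a nonunit,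
dominates `A[x]/(x^n - π)`. -/
theorem dominates_liftHom [Fact (Irreducible g)] [IsLocalRing (AdjoinRoot (X ^ n - C π : A[X]))]
    (W : ValuationSubring (AdjoinRoot g))
    (h1 : ∀ a : A, algebraMap L (AdjoinRoot g) (algebraMap A L a) ∈ W)
    (h2 : W.valuation (algebraMap L (AdjoinRoot g) (algebraMap A L π)) < 1) :
    EtRam.Dominates (AdjoinRoot (X ^ n - C π : A[X])) (liftHom A π n L g hg) W := by
  have hz : W.valuation (AdjoinRoot.root g) < 1 := by
    have h3 : W.valuation (AdjoinRoot.root g) ^ n < 1 := by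
      rw [← map_pow, ← liftHom_root A π n L g hg, ← map_pow, root_pow, liftHom_of]
      exact h2
    exact (pow_lt_one_iff (by omega)).mp h3
  have hzW : AdjoinRoot.root g ∈ W := (W.valuation_le_one_iff _).mp hz.le
  have hall : ∀ x, liftHom A π n L g hg x ∈ W := by
    intro x
    obtain ⟨p, rfl⟩ := AdjoinRoot.mk_surjective x
    induction p using Polynomial.induction_on' with
    | add p q hp hq =>
      rw [map_add, map_add]
      exact W.add_mem _ _ hp hq
    | monomial i a =>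
      rw [← C_mul_X_pow_eq_monomial, map_mul, map_pow, AdjoinRoot.mk_X, AdjoinRoot.mk_C,
        map_mul, map_pow, liftHom_root, liftHom_of]
      exact W.mul_mem _ _ (h1 a) (W.pow_mem hzW i)
  refine ⟨hall, fun x hx => ?_⟩
  rw [maxIdeal_eq A π hπ n hn, Ideal.mem_span_singleton'] at hx
  obtain ⟨y, rfl⟩ := hx
  rw [map_mul, map_mul, liftHom_root]
  calc W.valuation (liftHom A π n L g hg y) * W.valuation (AdjoinRoot.root g)
      ≤ 1 * W.valuation (AdjoinRoot.root g) :=
        mul_le_mul_left ((W.valuation_le_one_iff _).mpr (hall y)) _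
    _ = W.valuation (AdjoinRoot.root g) := one_mul _
    _ < 1 := hz

include hπ hg in
/-- `L[x]/(g)` is separable over `L` when `n` is invertible in `L`. -/
theorem isSeparable_adjoinRoot [Fact (Irreducible g)] (hAL : Function.Injective (algebraMap A L))
    (hnL : (n : L) ≠ 0) : Algebra.IsSeparable L (AdjoinRoot g) := by
  have hπ0 : algebraMap A L π ≠ 0 := fun h => hπ.ne_zero (hAL (by rw [h, map_zero]))
  have hsepP : (X ^ n - C (algebraMap A L π) : L[X]).Separable :=
    separable_X_pow_sub_C _ hnL hπ0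
  have hroot : IsSeparable L (AdjoinRoot.root g) := by
    apply hsepP.of_dvd
    apply minpoly.dvd
    rw [AdjoinRoot.aeval_eq, AdjoinRoot.mk_eq_zero]
    exact hg
  have hle : Algebra.adjoin L ({AdjoinRoot.root g} : Set (AdjoinRoot g)) ≤
      (separableClosure L (AdjoinRoot g)).toSubalgebra := by
    apply Algebra.adjoin_le
    intro x hx
    rw [Set.mem_singleton_iff] at hx
    rw [hx]
    exact mem_separableClosure_iff.mpr hroot
  rw [AdjoinRoot.adjoinRoot_eq_top] at hle
  exact ⟨fun x => mem_separableClosure_iff.mp (hle Algebra.mem_top)⟩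

end Ext

end Groth.Agent.Lib.Helper10.KummerExt
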