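import Mathlib
import Groth.Agent.Lib.Helper10.VNRGen
import Groth.Agent.Lib.Helper10.VNREtale

/-!
# Local unramifiedness of a Kummer extension of DVRs

`R → W` a local injective map of DVRs, `β ∈ W` with `β ^ n = u` a unit of `R`, `n` a unit in `R`,
and `Frac W` generated by `R[β]`: then `m_R W = m_W` and `κ(W)/κ(R)` is separable.
-/

set_option autoImplicit false
set_option linter.style.haveILetI false

namespace Groth.Agent.Lib.Helper10.KummerLoc

open IsLocalRing Polynomial
open Groth.Agent.Lib.Helper10.VNRGen Groth.Agent.Lib.Helper10.VNREtale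

variable {R W : Type*} [CommRing R] [IsDomain R] [IsDiscreteValuationRing R]
  [CommRing W] [IsDomain W] [IsDiscreteValuationRing W] [Algebra R W] [IsLocalHom (algebraMap R W)]
  (hinj : Function.Injective (algebraMap R W))
  (n : ℕ) (hn : IsUnit (n : R)) (u : R) (hu : IsUnit u) (β : W) (hβ : β ^ n = algebraMap R W u)
  (hfrac : ∀ w : W, ∃ c₁ ∈ Algebra.adjoin R {β}, ∃ c₂ ∈ Algebra.adjoin R {β}, c₂ ≠ 0 ∧ w * c₂ = c₁)

include hn in
theorem n_pos : 0 < n := by
  rcases Nat.eq_zero_or_pos n with h | h
  · subst h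
    simp at hn
  · exact h

include hn hu hβ in
theorem isVNR_quot (t : R) (ht : Irreducible t) :
    IsVNR ((Algebra.adjoin R {β}) ⧸
      Ideal.span {(⟨algebraMap R W t, Subalgebra.algebraMap_mem _ t⟩ : Algebra.adjoin R {β})}) := by
  have hn0 := n_pos n hn
  set S' : Subalgebra R W := Algebra.adjoin R {β} with hS'
  set π' : S' := ⟨algebraMap R W t, Subalgebra.algebraMap_mem _ t⟩ with hπ'
  let g : R →+* S' ⧸ Ideal.span {π'} := (Ideal.Quotient.mk _).comp (algebraMap R S')
  have hg : ∀ a ∈ maximalIdeal R, g a = 0 := by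
    intro a ha
    rw [ht.maximalIdeal_eq, Ideal.mem_span_singleton'] at ha
    obtain ⟨r, rfl⟩ := ha
    show Ideal.Quotient.mk _ (algebraMap R S' (r * t)) = 0
    rw [Ideal.Quotient.eq_zero_iff_mem, Ideal.mem_span_singleton']
    refine ⟨algebraMap R S' r, ?_⟩
    rw [map_mul]
    rfl
  letI : Algebra (ResidueField R) (S' ⧸ Ideal.span {π'}) :=
    (Ideal.Quotient.lift (maximalIdeal R) g hg).toAlgebra
  have halg : ∀ r : R, algebraMap (ResidueField R) (S' ⧸ Ideal.span {π'}) (residue R r) =
      Ideal.Quotient.mk _ (algebraMap R S' r) := fun r => rfl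
  let β' : S' := ⟨β, Algebra.subset_adjoin rfl⟩
  refine isVNR_of_kummer (k := ResidueField R) (X := ResidueField R) (RingHom.id _)
    (fun x => ⟨X - C x, monic_X_sub_C x, by simp⟩) (Y := S' ⧸ Ideal.span {π'}) n hn0
    (residue R u) ?_ (hu.map (residue R)) (Ideal.Quotient.mk _ β') ?_ ?_
  · have := hn.map (residue R)
    rwa [map_natCast] at this
  · rw [halg, ← map_pow]
    congr 1
    exact Subtype.ext hβ
  · intro z
    obtain ⟨⟨w, hw⟩, rfl⟩ := Ideal.Quotient.mk_surjective z
    induction hw using Algebra.adjoin_induction with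
    | mem x hx =>
      rw [Set.mem_singleton_iff] at hx
      subst hx
      exact Subring.subset_closure (Or.inr rfl)
    | algebraMap r =>
      refine Subring.subset_closure (Or.inl ⟨residue R r, ?_⟩)
      rw [halg]
      rfl
    | add x y hx hy hx' hy' =>
      exact Subring.add_mem _ hx' hy'
    | mul x y hx hy hx' hy' =>
      exact Subring.mul_mem _ hx' hy'

include hinj hn hu hβ hfrac in
theorem main : (maximalIdeal R).map (algebraMap R W) = maximalIdeal W ∧
    Algebra.IsSeparable (ResidueField R) (ResidueField W) := by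
  have hn0 := n_pos n hn
  obtain ⟨t, ht⟩ := IsDiscreteValuationRing.exists_irreducible R
  set S' : Subalgebra R W := Algebra.adjoin R {β} with hS'
  let S : Subring W := S'.toSubring
  set π : W := algebraMap R W t with hπ
  have hπS : π ∈ S := S'.algebraMap_mem t
  have hπm : π ∈ maximalIdeal W := by
    rw [mem_maximalIdeal, mem_nonunits_iff]
    intro h
    exact ht.not_isUnit (isUnit_of_map_unit (algebraMap R W) t h)
  have hπ0 : π ≠ 0 := fun h => ht.ne_zero (hinj (by rw [← hπ, h, map_zero]))
  have hV := isVNR_quot n hn u hu β hβ t ht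
  have hvnr : ∀ x ∈ S, ∃ y ∈ S, ∃ c ∈ S, x = x * x * y + π * c := by
    intro x hx
    obtain ⟨y, hy⟩ := hV (Ideal.Quotient.mk _ ⟨x, hx⟩)
    obtain ⟨⟨y', hy'⟩, rfl⟩ := Ideal.Quotient.mk_surjective y
    rw [← map_mul, ← map_mul, Ideal.Quotient.eq, Ideal.mem_span_singleton'] at hy
    obtain ⟨⟨c, hc⟩, hc'⟩ := hy
    refine ⟨y', hy', c, hc, ?_⟩
    have := congrArg Subtype.val hc'
    simp only [Subalgebra.coe_mul, Subalgebra.coe_sub] at this
    linear_combination -this
  have hmax := maximalIdeal_eq_span S π hπS hπm hπ0 hvnr hfrac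
  have hres := exists_sub_mem S π hπS hπm hπ0 hvnr hfrac
  have key : ∀ c ∈ Algebra.adjoin R {β},
      residue W c ∈ separableClosure (ResidueField R) (ResidueField W) := by
    intro c hc'
    induction hc' using Algebra.adjoin_induction with
    | mem x hx =>
      rw [Set.mem_singleton_iff] at hx
      subst hx
      rw [mem_separableClosure_iff]
      have hu0 : residue R u ≠ 0 := (hu.map (residue R)).ne_zero
      have hnu : ((n : ℕ) : ResidueField R) ≠ 0 := by
        have := (hn.map (residue R)).ne_zero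
        rwa [map_natCast] at this
      refine (separable_X_pow_sub_C (residue R u) hnu hu0).of_dvd (minpoly.dvd _ _ ?_)
      rw [map_sub, map_pow, aeval_X, aeval_C, ← map_pow, hβ]
      rw [← ResidueField.algebraMap_residue, sub_self]
    | algebraMap r =>
      rw [← ResidueField.algebraMap_residue]
      exact IntermediateField.algebraMap_mem _ _
    | add x y hx hy hx' hy' =>
      rw [map_add]
      exact add_mem hx' hy'
    | mul x y hx hy hx' hy' =>
      rw [map_mul]
      exact mul_mem hx' hy'
  refine ⟨?_, ⟨fun x => ?_⟩⟩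
  · rw [ht.maximalIdeal_eq, Ideal.map_span, Set.image_singleton, hmax]
  · obtain ⟨w, rfl⟩ := residue_surjective x
    obtain ⟨c, hc, hwc⟩ := hres w
    have hwc' : residue W w = residue W c := by
      rw [← sub_eq_zero, ← map_sub]
      exact (residue_eq_zero_iff _).mpr hwc
    rw [hwc', ← mem_separableClosure_iff]
    exact key c hc

end Groth.Agent.Lib.Helper10.KummerLoc
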