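import Mathlib
import Groth.Agent.Lib.Helper10.KummerLoc
import Groth.Agent.Lib.Helper10.KummerDedGen
import Groth.Agent.Lib.Helper10.KummerExt

/-!
# Integral closure of a Dedekind domain in a Kummer extension is finite étale
-/

set_option autoImplicit false
set_option linter.style.haveILetI false

universe u v w

namespace Groth.Agent.Lib.Helper10.KummerDed

open scoped nonZeroDivisors
open Polynomial IntermediateField

section Basic

variable {A : Type u} {K : Type v} {L : Type w} [CommRing A] [IsDedekindDomain A]
    [Field K] [Algebra A K] [IsFractionRing A K]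
    [Field L] [Algebra K L] [Algebra A L] [IsScalarTower A K L]
    (n : ℕ) (hn : IsUnit (n : A)) (f : K) (hf : f ≠ 0)
    (α : L) (hα : α ^ n = algebraMap K L f) (hgen : IntermediateField.adjoin K {α} = ⊤)

include hn in
theorem n_ne_zero : n ≠ 0 := by
  rintro rfl
  simp at hn

include hn in
theorem natCast_ne_zero : (n : K) ≠ 0 := by
  have h1 : (n : K) = algebraMap A K (n : A) := (map_natCast _ _).symm
  rw [h1]
  exact fun h0 => hn.ne_zero ((IsFractionRing.injective A K) (by rw [h0, map_zero]))

include hn hf hα in
theorem isSeparable_alpha : IsSeparable K α := by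
  refine (separable_X_pow_sub_C f (natCast_ne_zero (A := A) n hn) hf).of_dvd (minpoly.dvd _ _ ?_)
  rw [map_sub, map_pow, aeval_X, aeval_C, hα, sub_self]

include hn hf hα hgen in
theorem isSeparable : Algebra.IsSeparable K L := by
  refine (separableClosure.eq_top_iff K L).mp (top_le_iff.mp ?_)
  rw [← hgen, adjoin_simple_le_iff, mem_separableClosure_iff]
  exact isSeparable_alpha (A := A) n hn f hf α hα

include hn hf hα hgen in
theorem finiteDimensional : FiniteDimensional K L := by
  have h1 : IsIntegral K α := (isSeparable_alpha (A := A) n hn f hf α hα).isIntegral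
  have h2 : FiniteDimensional K K⟮α⟯ := adjoin.finiteDimensional h1
  rw [hgen] at h2
  exact topEquiv.toLinearEquiv.finiteDimensional

end Basic

section Local

variable {A : Type u} {K : Type v} {L : Type w} [CommRing A] [IsDedekindDomain A]
    [Field K] [Algebra A K] [IsFractionRing A K]
    [Field L] [Algebra K L] [Algebra A L] [IsScalarTower A K L]
    [FiniteDimensional K L] [Algebra.IsSeparable K L]

include K in
variable (A K L) in
theorem isUnramifiedAt_bot : Algebra.IsUnramifiedAt A (⊥ : Ideal (integralClosure A L)) := by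
  haveI : IsFractionRing (integralClosure A L) L :=
    integralClosure.isFractionRing_of_finite_extension K L
  have h1 : IsFractionRing (integralClosure A L)
      (Localization.AtPrime (⊥ : Ideal (integralClosure A L))) := by
    simpa [Ideal.primeCompl_bot] using
      Localization.isLocalization (M := (⊥ : Ideal (integralClosure A L)).primeCompl)
  have hAK : Algebra.FormallyUnramified A K := .of_isLocalization A⁰
  have hKL : Algebra.FormallyUnramified K L := .of_isSeparable K L
  have hAL : Algebra.FormallyUnramified A L := .comp A K L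
  let e : Localization.AtPrime (⊥ : Ideal (integralClosure A L)) ≃ₐ[integralClosure A L] L :=
    IsLocalization.algEquiv (integralClosure A L)⁰ _ _
  exact Algebra.FormallyUnramified.of_equiv (e.symm.restrictScalars A)

open Groth.Agent.Lib.Helper10 in
include K in
theorem isUnramifiedAt_of_ne_bot (n : ℕ) (hn : IsUnit (n : A)) (f : K) (hf : f ≠ 0)
    (I : FractionalIdeal A⁰ K) (hI : FractionalIdeal.spanSingleton A⁰ f = I ^ n)
    (α : L) (hα : α ^ n = algebraMap K L f) (hgen : IntermediateField.adjoin K {α} = ⊤)
    (Q : Ideal (integralClosure A L)) [Q.IsPrime] (hp : Q.under A ≠ ⊥) :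
    Algebra.IsUnramifiedAt A Q := by
  have hn0 : n ≠ 0 := n_ne_zero (A := A) n hn
  haveI : IsDedekindDomain (integralClosure A L) := integralClosure.isDedekindDomain A K L
  haveI : IsFractionRing (integralClosure A L) L :=
    integralClosure.isFractionRing_of_finite_extension K L
  have hAL : Function.Injective (algebraMap A L) := by
    rw [IsScalarTower.algebraMap_eq A K L]
    exact (algebraMap K L).injective.comp (IsFractionRing.injective A K)
  have hAB : Function.Injective (algebraMap A (integralClosure A L)) :=
    fun x y h => hAL (congrArg Subtype.val h)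
  haveI : FaithfulSMul A (integralClosure A L) := (faithfulSMul_iff_algebraMap_injective _ _).mpr hAB
  obtain ⟨p, hpdef⟩ : ∃ p : Ideal A, p = Q.under A := ⟨_, rfl⟩
  haveI : p.IsPrime := hpdef ▸ inferInstance
  haveI : Q.LiesOver p := ⟨hpdef⟩
  rw [← hpdef] at hp
  have hQ0 : Q ≠ ⊥ := by
    rintro rfl
    apply hp
    rw [hpdef, Ideal.under_bot]
  letI := Localization.AtPrime.algebraOfLiesOver p Q
  haveI : IsDomain (Localization.AtPrime p) := IsLocalization.isDomain_of_atPrime _ p
  haveI : IsDomain (Localization.AtPrime Q) := IsLocalization.isDomain_of_atPrime _ Q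
  haveI : IsDiscreteValuationRing (Localization.AtPrime p) :=
    IsLocalization.AtPrime.isDiscreteValuationRing_of_dedekind_domain A hp _
  haveI : IsDiscreteValuationRing (Localization.AtPrime Q) :=
    IsLocalization.AtPrime.isDiscreteValuationRing_of_dedekind_domain (integralClosure A L) hQ0 _
  haveI : IsLocalHom (algebraMap (Localization.AtPrime p) (Localization.AtPrime Q)) :=
    Localization.isLocalHom_localRingHom _ _ _ _
  -- local generator
  obtain ⟨c, hc0, a, hap, hca⟩ := KummerDedGen.exists_local_gen p n hn0 f hf I hI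
  obtain ⟨β', hβ'def⟩ : ∃ β' : L, β' = algebraMap K L c * α := ⟨_, rfl⟩
  have hβ' : β' ^ n = algebraMap A L a := by
    rw [hβ'def, mul_pow, hα, ← map_pow, ← map_mul, hca, ← IsScalarTower.algebraMap_apply]
  have hβint : IsIntegral A β' := by
    refine ⟨X ^ n - C a, monic_X_pow_sub_C a hn0, ?_⟩
    rw [eval₂_sub, eval₂_pow, eval₂_X, eval₂_C, hβ', sub_self]
  obtain ⟨βB, hβBdef⟩ : ∃ βB : integralClosure A L, βB = ⟨β', hβint⟩ := ⟨_, rfl⟩
  have hβB : βB ^ n = algebraMap A (integralClosure A L) a := by
    rw [hβBdef]
    exact Subtype.ext hβ'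
  obtain ⟨βW, hβWdef⟩ : ∃ βW : Localization.AtPrime Q, βW = algebraMap _ _ βB := ⟨_, rfl⟩
  have hβW : βW ^ n = algebraMap (Localization.AtPrime p) (Localization.AtPrime Q)
      (algebraMap A (Localization.AtPrime p) a) := by
    rw [hβWdef, ← map_pow, hβB, ← IsScalarTower.algebraMap_apply, ← IsScalarTower.algebraMap_apply]
  have hu : IsUnit (algebraMap A (Localization.AtPrime p) a) :=
    IsLocalization.map_units (Localization.AtPrime p) (⟨a, hap⟩ : p.primeCompl)
  have hnR : IsUnit ((n : ℕ) : Localization.AtPrime p) := by
    have := hn.map (algebraMap A (Localization.AtPrime p))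
    rwa [map_natCast] at this
  have hinj : Function.Injective (algebraMap (Localization.AtPrime p) (Localization.AtPrime Q)) := by
    have : algebraMap (Localization.AtPrime p) (Localization.AtPrime Q) =
        Localization.localRingHom p Q (algebraMap A _) Ideal.LiesOver.over := rfl
    rw [this]
    exact IsLocalization.map_injective_of_injective' (M := p.primeCompl)
      (Rₘ := Localization.AtPrime p) (Sₘ := Localization.AtPrime Q)
      (N := Q.primeCompl) (hN := fun h => h Q.zero_mem) (hf' := hAB) ..
  have hfrac : ∀ w : Localization.AtPrime Q,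
      ∃ c₁ ∈ Algebra.adjoin (Localization.AtPrime p) {βW},
      ∃ c₂ ∈ Algebra.adjoin (Localization.AtPrime p) {βW}, c₂ ≠ 0 ∧ w * c₂ = c₁ := by
    have hαβ : α = algebraMap K L c⁻¹ * β' := by
      rw [hβ'def, ← mul_assoc, ← map_mul, inv_mul_cancel₀ hc0, map_one, one_mul]
    have hgen' : IntermediateField.adjoin K {β'} = ⊤ := by
      rw [← top_le_iff, ← hgen, adjoin_simple_le_iff, hαβ]
      exact mul_mem (IntermediateField.algebraMap_mem _ _) (mem_adjoin_simple_self K β')
    have halg : Algebra.adjoin K {β'} = ⊤ := by
      have := IntermediateField.adjoin_simple_toSubalgebra_of_isAlgebraic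
        (Algebra.IsAlgebraic.isAlgebraic (R := K) β')
      rw [hgen', top_toSubalgebra] at this
      exact this.symm
    have hfracL := KummerExt.exists_fraction_of_adjoin (L := K) (M := L)
      (Algebra.adjoin A {β'}).toSubring {β'} halg ?_ ?_
    rotate_left
    · intro x hx
      rw [Set.mem_singleton_iff] at hx
      subst hx
      exact ⟨x, Algebra.subset_adjoin rfl, 1, Subring.one_mem _, one_ne_zero, mul_one _⟩
    · intro l
      obtain ⟨a₁, d, rfl⟩ := IsLocalization.exists_mk'_eq A⁰ l
      refine ⟨algebraMap A L a₁, Subalgebra.algebraMap_mem _ _, algebraMap A L d,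
        Subalgebra.algebraMap_mem _ _, ?_, ?_⟩
      · intro h0
        exact nonZeroDivisors.ne_zero d.2 (hAL (by rw [h0, map_zero]))
      · rw [IsScalarTower.algebraMap_apply A K L, IsScalarTower.algebraMap_apply A K L, ← map_mul,
          IsLocalization.mk'_spec]
    have hmap : ∀ x (hx : x ∈ Algebra.adjoin A {β'}), ∃ hxB : IsIntegral A x,
        algebraMap (integralClosure A L) (Localization.AtPrime Q) ⟨x, hxB⟩ ∈
          Algebra.adjoin (Localization.AtPrime p) {βW} := by
      intro x hx
      induction hx using Algebra.adjoin_induction with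
      | mem y hy =>
        rw [Set.mem_singleton_iff] at hy
        subst hy
        refine ⟨hβint, ?_⟩
        rw [← hβBdef, ← hβWdef]
        exact Algebra.subset_adjoin rfl
      | algebraMap r =>
        refine ⟨isIntegral_algebraMap, ?_⟩
        have : (⟨algebraMap A L r, isIntegral_algebraMap⟩ : integralClosure A L) =
            algebraMap A (integralClosure A L) r := rfl
        rw [this, ← IsScalarTower.algebraMap_apply,
          IsScalarTower.algebraMap_apply A (Localization.AtPrime p) (Localization.AtPrime Q)]
        exact Subalgebra.algebraMap_mem _ _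
      | add y z _ _ hy hz =>
        obtain ⟨hy1, hy2⟩ := hy
        obtain ⟨hz1, hz2⟩ := hz
        refine ⟨hy1.add hz1, ?_⟩
        have : (⟨y + z, hy1.add hz1⟩ : integralClosure A L) = ⟨y, hy1⟩ + ⟨z, hz1⟩ := rfl
        rw [this, map_add]
        exact add_mem hy2 hz2
      | mul y z _ _ hy hz =>
        obtain ⟨hy1, hy2⟩ := hy
        obtain ⟨hz1, hz2⟩ := hz
        refine ⟨hy1.mul hz1, ?_⟩
        have : (⟨y * z, hy1.mul hz1⟩ : integralClosure A L) = ⟨y, hy1⟩ * ⟨z, hz1⟩ := rfl
        rw [this, map_mul]
        exact mul_mem hy2 hz2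
    have hBW : Function.Injective (algebraMap (integralClosure A L) (Localization.AtPrime Q)) :=
      IsLocalization.injective _ Q.primeCompl_le_nonZeroDivisors
    intro w
    obtain ⟨b, s, rfl⟩ := IsLocalization.exists_mk'_eq Q.primeCompl w
    obtain ⟨c₁, hc₁, c₂, hc₂, hc₂0, hbc⟩ := hfracL (b : L)
    obtain ⟨d₁, hd₁, d₂, hd₂, hd₂0, hsd⟩ := hfracL ((s : integralClosure A L) : L)
    obtain ⟨hc₁B, hc₁W⟩ := hmap c₁ hc₁
    obtain ⟨hc₂B, hc₂W⟩ := hmap c₂ hc₂
    obtain ⟨hd₁B, hd₁W⟩ := hmap d₁ hd₁
    obtain ⟨hd₂B, hd₂W⟩ := hmap d₂ hd₂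
    have hs0 : ((s : integralClosure A L) : L) ≠ 0 := by
      intro h0
      have : (s : integralClosure A L) = 0 := Subtype.ext h0
      exact s.2 (this ▸ Q.zero_mem)
    have hd₁0 : d₁ ≠ 0 := hsd ▸ mul_ne_zero hs0 hd₂0
    have e1 : b * (⟨c₂, hc₂B⟩ : integralClosure A L) = ⟨c₁, hc₁B⟩ := Subtype.ext hbc
    have e2 : (s : integralClosure A L) * (⟨d₂, hd₂B⟩ : integralClosure A L) = ⟨d₁, hd₁B⟩ :=
      Subtype.ext hsd
    refine ⟨_, mul_mem hc₁W hd₂W, _, mul_mem hc₂W hd₁W, ?_, ?_⟩
    · refine mul_ne_zero ?_ ?_
      · intro h0
        have := hBW (h0.trans (map_zero _).symm)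
        exact hc₂0 (congrArg Subtype.val this)
      · intro h0
        have := hBW (h0.trans (map_zero _).symm)
        exact hd₁0 (congrArg Subtype.val this)
    · rw [← e1, ← e2, map_mul, map_mul]
      have := IsLocalization.mk'_spec (Localization.AtPrime Q) b s
      linear_combination (algebraMap (integralClosure A L) (Localization.AtPrime Q) ⟨c₂, hc₂B⟩ *
        algebraMap (integralClosure A L) (Localization.AtPrime Q) ⟨d₂, hd₂B⟩) * this
  obtain ⟨h1, h2⟩ := KummerLoc.main hinj n hnR _ hu βW hβW hfrac
  haveI := h2
  haveI : Module.Finite A (integralClosure A L) := IsIntegralClosure.finite A K L _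
  haveI : Algebra.EssFiniteType (Localization.AtPrime p) (Localization.AtPrime Q) :=
    .of_comp A _ _
  haveI : Algebra.FormallyUnramified (Localization.AtPrime p) (Localization.AtPrime Q) :=
    Algebra.FormallyUnramified.of_map_maximalIdeal h1
  exact Algebra.FormallyUnramified.comp A (Localization.AtPrime p) (Localization.AtPrime Q)

end Local

section Main

variable {A : Type u} {K : Type v} {L : Type w} [CommRing A] [IsDedekindDomain A]
    [Field K] [Algebra A K] [IsFractionRing A K]
    [Field L] [Algebra K L] [Algebra A L] [IsScalarTower A K L]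

theorem main (n : ℕ) (hn : IsUnit (n : A)) (f : K) (hf : f ≠ 0)
    (I : FractionalIdeal A⁰ K) (hI : FractionalIdeal.spanSingleton A⁰ f = I ^ n)
    (α : L) (hα : α ^ n = algebraMap K L f) (hgen : IntermediateField.adjoin K {α} = ⊤) :
    Algebra.Etale A (integralClosure A L) ∧ Module.Finite A (integralClosure A L) := by
  haveI : FiniteDimensional K L := finiteDimensional (A := A) n hn f hf α hα hgen
  haveI : Algebra.IsSeparable K L := isSeparable (A := A) n hn f hf α hα hgen
  haveI : IsDedekindDomain (integralClosure A L) := integralClosure.isDedekindDomain A K L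
  haveI : Module.Finite A (integralClosure A L) := IsIntegralClosure.finite A K L _
  refine ⟨?_, inferInstance⟩
  have hAL : Function.Injective (algebraMap A L) := by
    rw [IsScalarTower.algebraMap_eq A K L]
    exact (algebraMap K L).injective.comp (IsFractionRing.injective A K)
  have hAB : Function.Injective (algebraMap A (integralClosure A L)) :=
    fun x y h => hAL (congrArg Subtype.val h)
  haveI : FaithfulSMul A (integralClosure A L) := (faithfulSMul_iff_algebraMap_injective _ _).mpr hAB
  haveI : Module.IsTorsionFree A (integralClosure A L) := inferInstance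
  haveI : Module.Flat A (integralClosure A L) := inferInstance
  haveI : Algebra.FinitePresentation A (integralClosure A L) :=
    Algebra.FinitePresentation.of_finiteType.mp inferInstance
  haveI : Algebra.FormallyUnramified A (integralClosure A L) := by
    rw [← Algebra.unramifiedLocus_eq_univ_iff, Set.eq_univ_iff_forall]
    intro Q
    show Algebra.IsUnramifiedAt A Q.asIdeal
    by_cases hp : Q.asIdeal.under A = ⊥
    · have hQ : Q.asIdeal = ⊥ := by
        haveI : Q.asIdeal.LiesOver (⊥ : Ideal A) := ⟨hp.symm⟩
        exact Ideal.eq_bot_of_liesOver_bot A Q.asIdeal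
      have := isUnramifiedAt_bot A K L
      convert this
    · exact isUnramifiedAt_of_ne_bot (K := K) n hn f hf I hI α hα hgen Q.asIdeal hp
  exact Algebra.Etale.of_formallyUnramified_of_flat

end Main

end Groth.Agent.Lib.Helper10.KummerDed
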