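import Mathlib
import Groth.Prelude.Def_EtRam
import Groth.Agent.Lib.Helper10.KummerExt

/-!
# Domination of `A[x]/(x^n - π)` by a valuation subring along an arbitrary ring map (helper10)
-/

set_option autoImplicit false
set_option linter.unusedSectionVars false
set_option linter.style.haveILetI false
universe u
open Polynomial IsLocalRing

namespace Groth.Agent.Lib.Helper10.KummerExt2

open Groth.Agent.Lib.Helper10.KummerDVR Groth.Agent.Lib.Helper10.KummerExt

variable (A : Type u) [CommRing A] [IsDomain A] [IsDiscreteValuationRing A] (π : A)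
  (hπ : Irreducible π) (n : ℕ) (hn : 1 ≤ n)

include hπ hn in
/-- A valuation subring of a field `M` containing the image of `A` under
`φ : A[x]/(x^n - π) → M`, in which `π` is a nonunit, dominates `A[x]/(x^n - π)`. -/
theorem dominates_of_hom {M : Type u} [Field M] (φ : AdjoinRoot (X ^ n - C π : A[X]) →+* M)
    [IsLocalRing (AdjoinRoot (X ^ n - C π : A[X]))]
    (W : ValuationSubring M)
    (h1 : ∀ a : A, φ (AdjoinRoot.of _ a) ∈ W)
    (h2 : W.valuation (φ (AdjoinRoot.of _ π)) < 1) :
    EtRam.Dominates (AdjoinRoot (X ^ n - C π : A[X])) φ W := by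
  have hz : W.valuation (φ (AdjoinRoot.root _)) < 1 := by
    have h3 : W.valuation (φ (AdjoinRoot.root _)) ^ n < 1 := by
      rw [← map_pow, ← map_pow, root_pow]
      exact h2
    exact (pow_lt_one_iff (by omega)).mp h3
  have hzW : φ (AdjoinRoot.root _) ∈ W := (W.valuation_le_one_iff _).mp hz.le
  have hall : ∀ x, φ x ∈ W := by
    intro x
    obtain ⟨p, rfl⟩ := AdjoinRoot.mk_surjective x
    induction p using Polynomial.induction_on' with
    | add p q hp hq =>
      rw [map_add, map_add]
      exact W.add_mem _ _ hp hq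
    | monomial i a =>
      rw [← C_mul_X_pow_eq_monomial, map_mul, map_pow, AdjoinRoot.mk_X, AdjoinRoot.mk_C,
        map_mul, map_pow]
      exact W.mul_mem _ _ (h1 a) (W.pow_mem hzW i)
  refine ⟨hall, fun x hx => ?_⟩
  rw [maxIdeal_eq A π hπ n hn, Ideal.mem_span_singleton'] at hx
  obtain ⟨y, rfl⟩ := hx
  rw [map_mul, map_mul]
  calc W.valuation (φ y) * W.valuation (φ (AdjoinRoot.root _))
      ≤ 1 * W.valuation (φ (AdjoinRoot.root _)) :=
        mul_le_mul_left ((W.valuation_le_one_iff _).mpr (hall y)) _
    _ = W.valuation (φ (AdjoinRoot.root _)) := one_mul _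
    _ < 1 := hz

include hπ hn in
/-- The residue field of `A[x]/(x^n - π)` is (trivially) separable over that of `A`. -/
theorem isSeparable_residueField [IsLocalRing (AdjoinRoot (X ^ n - C π : A[X]))]
    [IsLocalHom (algebraMap A (AdjoinRoot (X ^ n - C π : A[X])))] :
    Algebra.IsSeparable (ResidueField A) (ResidueField (AdjoinRoot (X ^ n - C π : A[X]))) := by
  refine ⟨fun x => ?_⟩
  obtain ⟨a, rfl⟩ := residue_surjective' A π hπ n hn x
  rw [← ResidueField.algebraMap_residue]
  exact isSeparable_algebraMap _

end Groth.Agent.Lib.Helper10.KummerExt2
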