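import Mathlib

/-!
# Frobenius descent along purely inseparable extensions of bounded exponent (helper10)

* `frobDown`: if `a ^ p ^ n ∈ K` for all `a ∈ L`, the ring hom `L → K`, `a ↦ a ^ p ^ n`.
* `exists_compositum`: for `K₁ ⊂ K₂` finite with `K₂ ^ (p ^ n) ⊂ K₁` and a field `M₁ ⊃ K₁`, a field
  `M₂ ⊃ M₁, K₂` generated by them with `M₂ ^ (p ^ n) ⊂ M₁`.
-/

set_option linter.style.haveILetI false

namespace Groth.Agent.Lib.Helper10.PIFrob

universe u

section frobDown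

variable (K L : Type*) [Field K] [Field L] [Algebra K L] (p : ℕ) [ExpChar K p] (n : ℕ)
  (h : ∀ a : L, a ^ p ^ n ∈ (algebraMap K L).range)

/-- The ring hom `L → K`, `a ↦ a ^ p ^ n`. -/
noncomputable def frobDown : L →+* K where
  toFun a := (h a).choose
  map_zero' := by
    apply (algebraMap K L).injective
    rw [(h 0).choose_spec, map_zero, zero_pow]
    exact Nat.pos_iff_ne_zero.mp <| expChar_pow_pos K p n
  map_one' := by
    apply (algebraMap K L).injective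
    rw [(h 1).choose_spec, map_one, one_pow]
  map_add' a b := by
    have inj := (algebraMap K L).injective
    haveI : ExpChar L p := expChar_of_injective_ringHom inj p
    apply inj
    rw [map_add, (h a).choose_spec, (h b).choose_spec, (h (a + b)).choose_spec,
      add_pow_expChar_pow a b]
  map_mul' a b := by
    apply (algebraMap K L).injective
    rw [map_mul, (h a).choose_spec, (h b).choose_spec, (h (a * b)).choose_spec, mul_pow]

variable {L} in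
theorem algebraMap_frobDown (a : L) : algebraMap K L (frobDown K L p n h a) = a ^ p ^ n :=
  (h a).choose_spec

variable {K} in
theorem frobDown_algebraMap (a : K) : frobDown K L p n h (algebraMap K L a) = a ^ p ^ n := by
  apply (algebraMap K L).injective
  rw [algebraMap_frobDown, map_pow]

end frobDown

open TensorProduct in
theorem exists_compositum (K₁ K₂ M₁ : Type u) [Field K₁] [Field K₂] [Field M₁] [Algebra K₁ K₂]
    [Algebra K₁ M₁] [FiniteDimensional K₁ K₂] (p : ℕ) [ExpChar K₁ p] (n : ℕ)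
    (h : ∀ a : K₂, a ^ p ^ n ∈ (algebraMap K₁ K₂).range) :
    ∃ (M₂ : Type u) (_ : Field M₂) (_ : Algebra M₁ M₂) (_ : Algebra K₂ M₂),
      (∀ c : K₁, algebraMap M₁ M₂ (algebraMap K₁ M₁ c) = algebraMap K₂ M₂ (algebraMap K₁ K₂ c)) ∧
      (∀ z : M₂, z ∈ Subring.closure
        (Set.range (algebraMap M₁ M₂) ∪ Set.range (algebraMap K₂ M₂))) ∧
      (∀ z : M₂, z ^ p ^ n ∈ (algebraMap M₁ M₂).range) := by
  have hrankT : Module.finrank M₁ (M₁ ⊗[K₁] K₂) = Module.finrank K₁ K₂ := Module.finrank_baseChange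
  haveI : Nontrivial (M₁ ⊗[K₁] K₂) :=
    Module.nontrivial_of_finrank_pos (R := M₁) (by rw [hrankT]; exact Module.finrank_pos)
  obtain ⟨𝔪, h𝔪⟩ := Ideal.exists_maximal (M₁ ⊗[K₁] K₂)
  letI fM : Field ((M₁ ⊗[K₁] K₂) ⧸ 𝔪) := Ideal.Quotient.field 𝔪
  letI algK₂M : Algebra K₂ ((M₁ ⊗[K₁] K₂) ⧸ 𝔪) :=
    ((Ideal.Quotient.mk 𝔪).comp
      (Algebra.TensorProduct.includeRight : K₂ →ₐ[K₁] M₁ ⊗[K₁] K₂).toRingHom).toAlgebra
  have hK₂M : ∀ k : K₂, algebraMap K₂ ((M₁ ⊗[K₁] K₂) ⧸ 𝔪) k = Ideal.Quotient.mk 𝔪 (1 ⊗ₜ k) :=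
    fun k => rfl
  have hM₁M : ∀ l : M₁, algebraMap M₁ ((M₁ ⊗[K₁] K₂) ⧸ 𝔪) l = Ideal.Quotient.mk 𝔪 (l ⊗ₜ 1) :=
    fun l => rfl
  have htmul : ∀ (l : M₁) (k : K₂), Ideal.Quotient.mk 𝔪 (l ⊗ₜ[K₁] k) =
      algebraMap M₁ ((M₁ ⊗[K₁] K₂) ⧸ 𝔪) l * algebraMap K₂ ((M₁ ⊗[K₁] K₂) ⧸ 𝔪) k := by
    intro l k
    have h1 : (l ⊗ₜ[K₁] k : M₁ ⊗[K₁] K₂) = (l ⊗ₜ 1) * (1 ⊗ₜ k) := by
      rw [Algebra.TensorProduct.tmul_mul_tmul, mul_one, one_mul]
    rw [h1, map_mul, ← hM₁M, ← hK₂M]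
  have hcompat : ∀ c : K₁, algebraMap M₁ ((M₁ ⊗[K₁] K₂) ⧸ 𝔪) (algebraMap K₁ M₁ c) =
      algebraMap K₂ ((M₁ ⊗[K₁] K₂) ⧸ 𝔪) (algebraMap K₁ K₂ c) := by
    intro c
    rw [hK₂M, hM₁M]
    congr 1
    rw [Algebra.algebraMap_eq_smul_one, Algebra.algebraMap_eq_smul_one, TensorProduct.smul_tmul]
  haveI : ExpChar M₁ p := expChar_of_injective_algebraMap (algebraMap K₁ M₁).injective p
  haveI : ExpChar ((M₁ ⊗[K₁] K₂) ⧸ 𝔪) p :=
    expChar_of_injective_algebraMap (algebraMap M₁ ((M₁ ⊗[K₁] K₂) ⧸ 𝔪)).injective p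
  refine ⟨(M₁ ⊗[K₁] K₂) ⧸ 𝔪, fM, inferInstance, algK₂M, hcompat, ?_, ?_⟩
  · intro x
    obtain ⟨t, rfl⟩ := Ideal.Quotient.mk_surjective x
    induction t using TensorProduct.induction_on with
    | zero => rw [map_zero]; exact Subring.zero_mem _
    | tmul l k =>
      rw [htmul]
      exact Subring.mul_mem _ (Subring.subset_closure (Or.inl ⟨l, rfl⟩))
        (Subring.subset_closure (Or.inr ⟨k, rfl⟩))
    | add x y hx hy => rw [map_add]; exact Subring.add_mem _ hx hy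
  · intro x
    obtain ⟨t, rfl⟩ := Ideal.Quotient.mk_surjective x
    induction t using TensorProduct.induction_on with
    | zero =>
      refine ⟨0, ?_⟩
      rw [map_zero, map_zero, zero_pow]
      exact Nat.pos_iff_ne_zero.mp <| expChar_pow_pos K₁ p n
    | tmul l k =>
      obtain ⟨c, hc⟩ := h k
      refine ⟨l ^ p ^ n * algebraMap K₁ M₁ c, ?_⟩
      rw [htmul, mul_pow, map_mul, map_pow, hcompat, hc, map_pow]
    | add x y hx hy =>
      obtain ⟨a, ha⟩ := hx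
      obtain ⟨b, hb⟩ := hy
      refine ⟨a + b, ?_⟩
      rw [map_add (Ideal.Quotient.mk 𝔪), add_pow_expChar_pow, map_add, ha, hb]

end Groth.Agent.Lib.Helper10.PIFrob
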