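import Mathlib

/-!
# Purely inseparable degree `p` extensions of DVRs: basic facts (helper10)
-/

set_option autoImplicit false
set_option linter.style.haveILetI false
set_option linter.unusedSectionVars false

namespace Groth.Agent.Lib.Helper10.PIns1

open IsLocalRing Polynomial

section Field

variable {L M : Type*} [Field L] [Field M] [Algebra L M]
  (p : ℕ) (hp : p.Prime) [IsPurelyInseparable L M] (hdeg : Module.finrank L M = p)

include hp hdeg in
theorem expChar : ExpChar L p := by
  obtain ⟨q, hq⟩ := ExpChar.exists L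
  haveI : FiniteDimensional L M := Module.finite_of_finrank_pos (hdeg ▸ hp.pos)
  obtain ⟨n, hn⟩ := IsPurelyInseparable.finrank_eq_pow (F := L) M q
  rw [hdeg] at hn
  have h1 : (q ^ n).Prime := hn ▸ hp
  obtain ⟨hqp, -⟩ := (hp.pow_eq_iff).mp hn.symm
  subst hqp
  exact hq

include hp hdeg in
theorem charP : CharP L p := by
  have h := expChar p hp hdeg
  cases h with
  | zero => exact absurd hp Nat.not_prime_one
  | prime _ => assumption

include hp hdeg in
theorem pow_mem_range (x : M) : ∃ l : L, algebraMap L M l = x ^ p := by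
  haveI := expChar p hp hdeg
  haveI : FiniteDimensional L M := Module.finite_of_finrank_pos (hdeg ▸ hp.pos)
  obtain ⟨n, y, hxy⟩ := IsPurelyInseparable.minpoly_eq_X_pow_sub_C L p x
  have hint : IsIntegral L x := Algebra.IsIntegral.isIntegral x
  have hdvd := minpoly.degree_dvd (K := L) (L := M) hint
  rw [hdeg, hxy, natDegree_X_pow_sub_C] at hdvd
  have haev : aeval x (minpoly L x) = 0 := minpoly.aeval L x
  rw [hxy, map_sub, map_pow, aeval_X, aeval_C, sub_eq_zero] at haev
  rcases (Nat.dvd_prime hp).mp hdvd with h1 | h1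
  · rw [h1, pow_one] at haev
    exact ⟨y ^ p, by rw [map_pow, ← haev]⟩
  · rw [h1] at haev
    exact ⟨y, haev.symm⟩

end Field

section DVR

variable {B C L M : Type*} [CommRing B] [IsDomain B] [IsDiscreteValuationRing B]
  [CommRing C] [IsDomain C] [IsDiscreteValuationRing C] [Algebra B C] [IsLocalHom (algebraMap B C)]
  [Field L] [Field M] [Algebra B L] [IsFractionRing B L] [Algebra C M] [IsFractionRing C M]
  [Algebra L M] [Algebra B M] [IsScalarTower B L M] [IsScalarTower B C M]
  (p : ℕ) (hp : p.Prime) [IsPurelyInseparable L M] (hdeg : Module.finrank L M = p)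

include hp hdeg in
theorem pow_mem_range_dvr (x : C) : ∃ b : B, algebraMap B C b = x ^ p := by
  obtain ⟨l, hl⟩ := pow_mem_range p hp hdeg (algebraMap C M x)
  rcases ValuationRing.isInteger_or_isInteger B l with ⟨b, hb⟩ | ⟨b, hb⟩
  · refine ⟨b, IsFractionRing.injective C M ?_⟩
    rw [map_pow, ← hl, ← IsScalarTower.algebraMap_apply, IsScalarTower.algebraMap_apply B L M]
    exact congrArg _ hb
  · have hb' : algebraMap B L b = l⁻¹ := hb
    by_cases hl0 : l = 0
    · refine ⟨0, IsFractionRing.injective C M ?_⟩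
      rw [map_pow, ← hl, hl0, map_zero, map_zero, map_zero]
    have h1 : algebraMap B C b * x ^ p = 1 := by
      apply IsFractionRing.injective C M
      rw [map_mul, map_pow, ← hl, map_one, ← IsScalarTower.algebraMap_apply,
        IsScalarTower.algebraMap_apply B L M, hb', ← map_mul, inv_mul_cancel₀ hl0, map_one]
    have hbu : IsUnit b :=
      isUnit_of_map_unit (algebraMap B C) b (IsUnit.of_mul_eq_one _ h1)
    obtain ⟨b', hbb'⟩ := hbu.exists_right_inv
    refine ⟨b', IsFractionRing.injective C M ?_⟩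
    rw [map_pow, ← hl, ← IsScalarTower.algebraMap_apply, IsScalarTower.algebraMap_apply B L M]
    congr 1
    have h2 : algebraMap B L b * algebraMap B L b' = 1 := by rw [← map_mul, hbb', map_one]
    rw [hb'] at h2
    have hli : l⁻¹ ≠ 0 := inv_ne_zero hl0
    field_simp at h2
    exact h2

include hp hdeg in
theorem ram_dichotomy (hinj : Function.Injective (algebraMap B C)) {π : B} (hπ : Irreducible π)
    {ϖ : C} (hϖ : Irreducible ϖ) :
    (∃ w : Cˣ, algebraMap B C π = w * ϖ) ∨
      (∃ u₀ : B, IsUnit u₀ ∧ ϖ ^ p = algebraMap B C (u₀ * π)) := by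
  obtain ⟨b₀, hb₀⟩ := pow_mem_range_dvr (B := B) (L := L) (M := M) p hp hdeg ϖ
  have hb₀0 : b₀ ≠ 0 := by
    rintro rfl
    rw [map_zero] at hb₀
    exact pow_ne_zero p hϖ.ne_zero hb₀.symm
  obtain ⟨k, u₀, hk⟩ := IsDiscreteValuationRing.eq_unit_mul_pow_irreducible hb₀0 hπ
  have hπ0 : algebraMap B C π ≠ 0 := fun h => hπ.ne_zero (hinj (by rw [h, map_zero]))
  obtain ⟨e, w, he⟩ := IsDiscreteValuationRing.eq_unit_mul_pow_irreducible hπ0 hϖ
  have hpek : p = e * k := by
    have h1 : ((1 : Cˣ) : C) * ϖ ^ p =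
        ((Units.map (algebraMap B C).toMonoidHom u₀ * w ^ k : Cˣ) : C) * ϖ ^ (e * k) := by
      rw [Units.val_one, one_mul, ← hb₀, hk, map_mul, map_pow, he, Units.val_mul, Units.val_pow_eq_pow_val,
        mul_pow, ← pow_mul]
      simp only [Units.coe_map, MonoidHom.coe_coe, RingHom.toMonoidHom_eq_coe]
      ring
    exact IsDiscreteValuationRing.unit_mul_pow_congr_pow hϖ hϖ _ _ _ _ h1
  have hdvd : e ∣ p := ⟨k, hpek⟩
  rcases (Nat.dvd_prime hp).mp hdvd with h1 | h1
  · left
    refine ⟨w, ?_⟩
    rw [he, h1, pow_one]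
  · right
    have hk1 : k = 1 := by
      subst h1
      have : e * k = e * 1 := by rw [mul_one]; exact hpek.symm
      exact Nat.eq_of_mul_eq_mul_left hp.pos this
    refine ⟨u₀, u₀.isUnit, ?_⟩
    rw [← hb₀, hk, hk1, pow_one]

end DVR

end Groth.Agent.Lib.Helper10.PIns1
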