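import Mathlib

/-!
# `p`-adic-expansion dichotomy for a unit of a DVR (helper10)
-/

set_option autoImplicit false
set_option linter.style.haveILetI false
set_option linter.unusedSectionVars false

namespace Groth.Agent.Lib.Helper10.PIns2

open IsLocalRing Finset

variable {B : Type*} [CommRing B] [IsDomain B] [IsDiscreteValuationRing B] (π : B)
  (hπ : Irreducible π) (p : ℕ) (u : B)

include hπ in
theorem dichotomy :
    (∃ (m : ℕ) (s : ℕ → B) (b : B), u = ∑ i ∈ range m, s i ^ p * π ^ i + b * π ^ m ∧
      ∀ r : B, residue B b ≠ residue B r ^ p) ∨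
    ∀ m : ℕ, ∃ (s : ℕ → B) (r : B), u = ∑ i ∈ range m, s i ^ p * π ^ i + r * π ^ m := by
  by_cases h : ∃ (m : ℕ) (s : ℕ → B) (b : B), u = ∑ i ∈ range m, s i ^ p * π ^ i + b * π ^ m ∧
      ∀ r : B, residue B b ≠ residue B r ^ p
  · exact Or.inl h
  · right
    intro m
    induction m with
    | zero => exact ⟨fun _ => 0, u, by simp⟩
    | succ m ih =>
      obtain ⟨s, r, hsr⟩ := ih
      have h1 : ¬ ∀ r' : B, residue B r ≠ residue B r' ^ p := fun hcon => h ⟨m, s, r, hsr, hcon⟩
      push_neg at h1
      obtain ⟨r', hr'⟩ := h1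
      have h2 : r - r' ^ p ∈ maximalIdeal B := by
        rw [← residue_eq_zero_iff, map_sub, map_pow, hr', sub_self]
      rw [hπ.maximalIdeal_eq, Ideal.mem_span_singleton'] at h2
      obtain ⟨r'', hr''⟩ := h2
      refine ⟨Function.update s m r', r'', ?_⟩
      rw [sum_range_succ, Function.update_self]
      have h3 : ∑ i ∈ range m, Function.update s m r' i ^ p * π ^ i =
          ∑ i ∈ range m, s i ^ p * π ^ i := by
        refine sum_congr rfl fun i hi => ?_
        rw [Function.update_of_ne (ne_of_lt (mem_range.mp hi))]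
      rw [h3, hsr]
      have h4 : r = r' ^ p + r'' * π := by rw [hr'']; ring
      rw [h4]
      ring

end Groth.Agent.Lib.Helper10.PIns2
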