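import Mathlib
import Groth.Agent.Lib.Helper39.NormFin
import Groth.Agent.Lib.Helper10.PIns1

/-!
# Purely inseparable degree `p` step: the "all expansions" case gives a `p`-th root of `π`
-/

set_option autoImplicit false
set_option linter.style.haveILetI false
set_option linter.unusedSectionVars false

universe u

namespace Groth.Agent.Lib.Helper10.PIns3

open IsLocalRing Polynomial Finset IntermediateField

/-- Krull intersection: an element of a finite `B`-subalgebra `D ⊆ E` approximated arbitrarily well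
by elements of a submodule `T` lies in `T`. -/
theorem mem_of_approx {B E : Type*} [CommRing B] [IsNoetherianRing B] [IsLocalRing B]
    [CommRing E] [Algebra B E] (D : Subalgebra B E) [Module.Finite B D] (T : Submodule B E)
    (π : B) (hπ : π ∈ maximalIdeal B) (w : E) (hw : w ∈ D)
    (h : ∀ k : ℕ, ∃ y ∈ D, y ∈ T ∧ ∃ t ∈ D, w = y + algebraMap B E (π ^ k) * t) : w ∈ T := by
  let R' : Submodule B D := Submodule.comap D.val.toLinearMap T
  have hkrull : (⨅ i : ℕ, (maximalIdeal B) ^ i • ⊤ : Submodule B (D ⧸ R')) = ⊥ :=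
    Ideal.iInf_pow_smul_eq_bot_of_isLocalRing (maximalIdeal B) (Ideal.IsPrime.ne_top inferInstance)
  have hmem : (Submodule.Quotient.mk (⟨w, hw⟩ : D) : D ⧸ R') ∈
      (⨅ i : ℕ, (maximalIdeal B) ^ i • ⊤ : Submodule B (D ⧸ R')) := by
    rw [Submodule.mem_iInf]
    intro k
    obtain ⟨y, hyD, hyT, t, htD, hwy⟩ := h k
    have h1 : (⟨w, hw⟩ : D) = ⟨y, hyD⟩ + (π ^ k) • (⟨t, htD⟩ : D) := by
      apply Subtype.ext
      rw [Subalgebra.coe_add, Subalgebra.coe_smul, Algebra.smul_def]
      exact hwy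
    have h2 : (Submodule.Quotient.mk (⟨y, hyD⟩ : D) : D ⧸ R') = 0 :=
      (Submodule.Quotient.mk_eq_zero _).mpr hyT
    rw [h1, Submodule.Quotient.mk_add, h2, zero_add, Submodule.Quotient.mk_smul]
    exact Submodule.smul_mem_smul (Ideal.pow_mem_pow hπ k) Submodule.mem_top
  rw [hkrull, Submodule.mem_bot, Submodule.Quotient.mk_eq_zero] at hmem
  exact hmem

set_option maxHeartbeats 1600000 in
theorem core (p : ℕ) (hp : p.Prime) (B C L M : Type u)
    [CommRing B] [IsDomain B] [IsDiscreteValuationRing B] [CommRing C] [IsDomain C]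
    [IsDiscreteValuationRing C]
    [Algebra B C] (hBC : Function.Injective (algebraMap B C)) [IsLocalHom (algebraMap B C)]
    [Field L] [Field M] [Algebra B L] [IsFractionRing B L] [Algebra C M] [IsFractionRing C M]
    [Algebra L M] [Algebra B M] [IsScalarTower B L M] [IsScalarTower B C M]
    [IsPurelyInseparable L M] (hdeg : Module.finrank L M = p) (hB : CAlg.IsNagata B)
    (π : B) (hπ : Irreducible π) (ϖ : C) (u : B) (hu : IsUnit u)
    (hϖp : ϖ ^ p = algebraMap B C (u * π))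
    (happrox : ∀ m : ℕ, ∃ (s : ℕ → B) (r : B), u = ∑ i ∈ range m, s i ^ p * π ^ i + r * π ^ m)
    (F : Type u) [Field F] [Algebra M F] [Algebra L F] [IsScalarTower L M F] [Algebra B F]
    [IsScalarTower B L F] [Algebra C F] [IsScalarTower C M F] [IsScalarTower B C F]
    [FiniteDimensional M F]
    (w : F) (hw : w ^ p = algebraMap B F u) :
    ∃ c : C, c ^ p = algebraMap B C π := by
  classical
  haveI : Fact p.Prime := ⟨hp⟩
  haveI charL : CharP L p := PIns1.charP p hp hdeg
  haveI charF : CharP F p := charP_of_injective_algebraMap (algebraMap L F).injective p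
  haveI : FiniteDimensional L M := Module.finite_of_finrank_pos (hdeg ▸ hp.pos)
  haveI : FiniteDimensional L F := FiniteDimensional.trans L M F
  have hBF : Function.Injective (algebraMap B F) := by
    rw [IsScalarTower.algebraMap_eq B L F]
    exact (algebraMap L F).injective.comp (IsFractionRing.injective B L)
  have huF : algebraMap B F u ≠ 0 := fun h0 => hu.ne_zero (hBF (by rw [h0, map_zero]))
  have hw0 : w ≠ 0 := by
    rintro rfl
    rw [zero_pow hp.ne_zero] at hw
    exact huF hw.symm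
  obtain ⟨ϖF, hϖF⟩ : ∃ x : F, x = algebraMap C F ϖ := ⟨_, rfl⟩
  have hϖFp : ϖF ^ p = algebraMap B F u * algebraMap B F π := by
    rw [hϖF, ← map_pow, hϖp, ← IsScalarTower.algebraMap_apply B C F, map_mul]
  obtain ⟨ϖ₁, hϖ₁⟩ : ∃ x : F, x = ϖF / w := ⟨_, rfl⟩
  have hϖ₁p : ϖ₁ ^ p = algebraMap B F π := by
    rw [hϖ₁, div_pow, hϖFp, hw]
    field_simp
  have hϖFw : ϖF = w * ϖ₁ := by rw [hϖ₁]; field_simp
  have hK : ∀ x : L, ∃ a b : B, algebraMap B L b ≠ 0 ∧ x * algebraMap B L b = algebraMap B L a := by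
    intro x
    obtain ⟨a, d, rfl⟩ := IsLocalization.exists_mk'_eq (nonZeroDivisors B) x
    exact ⟨a, d, fun h0 => nonZeroDivisors.ne_zero d.2
      (IsFractionRing.injective B L (by rw [h0, map_zero])), IsLocalization.mk'_spec _ _ _⟩
  haveI hfin : Module.Finite B (integralClosure B F) :=
    Groth.Agent.Lib.Helper39.NormFin.finite_integralClosure_of_essFiniteType
      (R := B) (K := L) (L := F) hB hK
  have hroot_int : ∀ (x : F) (a : B), x ^ p = algebraMap B F a → IsIntegral B x := by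
    intro x a hxa
    refine ⟨X ^ p - Polynomial.C a, monic_X_pow_sub_C a hp.ne_zero, ?_⟩
    rw [eval₂_sub, eval₂_pow, eval₂_X, eval₂_C, hxa, sub_self]
  have hwint : IsIntegral B w := hroot_int w u hw
  have hϖ₁int : IsIntegral B ϖ₁ := hroot_int ϖ₁ π hϖ₁p
  have hπF0 : algebraMap B F π ≠ 0 := fun h0 => hπ.ne_zero (hBF (by rw [h0, map_zero]))
  have hBmem : ∀ b : B, algebraMap B F b ∈ L⟮ϖ₁⟯ := by
    intro b
    rw [IsScalarTower.algebraMap_apply B L F]
    exact IntermediateField.algebraMap_mem _ _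
  let T : Submodule B F :=
    { carrier := {x | x ∈ L⟮ϖ₁⟯}
      add_mem' := fun {a b} ha hb => (add_mem ha hb : a + b ∈ L⟮ϖ₁⟯)
      zero_mem' := (zero_mem L⟮ϖ₁⟯ : (0 : F) ∈ L⟮ϖ₁⟯)
      smul_mem' := fun b x hx => by
        show b • x ∈ L⟮ϖ₁⟯
        rw [Algebra.smul_def]
        exact mul_mem (hBmem b) hx }
  have hwT : w ∈ T := by
    refine mem_of_approx (integralClosure B F) T π
      ((mem_maximalIdeal _).mpr hπ.not_isUnit) w hwint ?_
    intro k
    obtain ⟨s, r, hsr⟩ := happrox (p * k)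
    obtain ⟨y, hy⟩ : ∃ y : F, y = ∑ i ∈ range (p * k), algebraMap B F (s i) * ϖ₁ ^ i := ⟨_, rfl⟩
    have hyint : IsIntegral B y := by
      rw [hy]
      exact IsIntegral.sum _ (fun i _ => (isIntegral_algebraMap).mul (hϖ₁int.pow i))
    have hyT : y ∈ T := by
      show y ∈ L⟮ϖ₁⟯
      rw [hy]
      exact sum_mem (fun i _ => mul_mem (hBmem (s i)) (pow_mem (mem_adjoin_simple_self L ϖ₁) i))
    have hterm : ∀ i, (algebraMap B F (s i) * ϖ₁ ^ i) ^ p = algebraMap B F (s i ^ p * π ^ i) := by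
      intro i
      rw [mul_pow, ← pow_mul, mul_comm i p, pow_mul, hϖ₁p, map_mul, map_pow, map_pow]
    have hyp : (w - y) ^ p = algebraMap B F r * (algebraMap B F π ^ k) ^ p := by
      rw [sub_pow_char, hw, hy, sum_pow_char]
      simp_rw [hterm]
      rw [← map_sum]
      conv_lhs => rw [hsr]
      rw [map_add, add_sub_cancel_left, map_mul, map_pow, ← pow_mul, mul_comm k p]
    obtain ⟨t, ht⟩ : ∃ t : F, t = (w - y) / algebraMap B F π ^ k := ⟨_, rfl⟩
    have hπk0 : algebraMap B F π ^ k ≠ 0 := pow_ne_zero _ hπF0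
    have htp : t ^ p = algebraMap B F r := by
      rw [ht, div_pow, hyp]
      field_simp
    have htint : IsIntegral B t := hroot_int t r htp
    refine ⟨y, hyint, hyT, t, htint, ?_⟩
    rw [map_pow, ht]
    field_simp
    ring
  have hwL1 : w ∈ L⟮ϖ₁⟯ := hwT
  have hϖF_mem : ϖF ∈ L⟮ϖ₁⟯ := hϖFw ▸ mul_mem hwL1 (mem_adjoin_simple_self L ϖ₁)
  -- `u π` is not a `p`-th power in `L`
  have hnp : ∀ l : L, l ^ p ≠ algebraMap B L (u * π) := by
    intro l hl
    have hlint : IsIntegral B l := by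
      refine ⟨X ^ p - Polynomial.C (u * π), monic_X_pow_sub_C _ hp.ne_zero, ?_⟩
      rw [eval₂_sub, eval₂_pow, eval₂_X, eval₂_C, hl, sub_self]
    obtain ⟨l₀, rfl⟩ := IsIntegrallyClosed.algebraMap_eq_of_integral hlint
    have h1 : l₀ ^ p = u * π := IsFractionRing.injective B L (by rw [map_pow, hl])
    have h2 : π ∣ l₀ := hπ.prime.dvd_of_dvd_pow (h1 ▸ Dvd.intro_left u rfl)
    obtain ⟨l₁, rfl⟩ := h2
    have h3 : π * (π ^ (p - 1) * l₁ ^ p) = π * u := by
      rw [← mul_assoc, ← pow_succ', Nat.sub_add_cancel hp.pos, ← mul_pow, h1, mul_comm]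
    have h4 : π ^ (p - 1) * l₁ ^ p = u := mul_left_cancel₀ hπ.ne_zero h3
    have h5 : π ∣ u := by
      rw [← h4]
      refine Dvd.dvd.mul_right (dvd_pow_self π ?_) _
      have := hp.two_le
      omega
    exact hπ.not_isUnit (isUnit_of_dvd_unit h5 hu)
  have hirr : Irreducible (X ^ p - Polynomial.C (algebraMap B L (u * π)) : L[X]) :=
    X_pow_sub_C_irreducible_of_prime hp hnp
  have hϖFp' : ϖF ^ p = algebraMap L F (algebraMap B L (u * π)) := by
    rw [hϖFp, ← map_mul, IsScalarTower.algebraMap_apply B L F]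
  have hmin : X ^ p - Polynomial.C (algebraMap B L (u * π)) = minpoly L ϖF := by
    refine minpoly.eq_of_irreducible_of_monic hirr ?_ (monic_X_pow_sub_C _ hp.ne_zero)
    rw [map_sub, map_pow, aeval_X, aeval_C, hϖFp', sub_self]
  have hϖFint : IsIntegral L ϖF := Algebra.IsIntegral.isIntegral ϖF
  have hϖ₁intL : IsIntegral L ϖ₁ := Algebra.IsIntegral.isIntegral ϖ₁
  have hfr1 : Module.finrank L L⟮ϖF⟯ = p := by
    rw [adjoin.finrank hϖFint, ← hmin, natDegree_X_pow_sub_C]
  have hfr2 : Module.finrank L L⟮ϖ₁⟯ ≤ p := by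
    rw [adjoin.finrank hϖ₁intL]
    have hdvd : minpoly L ϖ₁ ∣ (X ^ p - Polynomial.C (algebraMap B L π) : L[X]) := by
      apply minpoly.dvd
      rw [map_sub, map_pow, aeval_X, aeval_C, hϖ₁p, IsScalarTower.algebraMap_apply B L F, sub_self]
    have := natDegree_le_of_dvd hdvd (X_pow_sub_C_ne_zero hp.pos _)
    rwa [natDegree_X_pow_sub_C] at this
  have heq : L⟮ϖF⟯ = L⟮ϖ₁⟯ :=
    eq_of_le_of_finrank_le (adjoin_simple_le_iff.mpr hϖF_mem) (by rw [hfr1]; exact hfr2)
  have hϖ₁mem : ϖ₁ ∈ (IsScalarTower.toAlgHom L M F).fieldRange := by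
    have h1 : L⟮ϖF⟯ ≤ (IsScalarTower.toAlgHom L M F).fieldRange := by
      rw [adjoin_simple_le_iff]
      refine ⟨algebraMap C M ϖ, ?_⟩
      rw [hϖF, IsScalarTower.algebraMap_apply C M F]
      rfl
    exact h1 (heq ▸ mem_adjoin_simple_self L ϖ₁)
  obtain ⟨c₀, hc₀⟩ := hϖ₁mem
  have hc₀' : algebraMap M F c₀ = ϖ₁ := hc₀
  have hc₀p : c₀ ^ p = algebraMap B M π := by
    apply (algebraMap M F).injective
    rw [map_pow, hc₀', hϖ₁p, IsScalarTower.algebraMap_apply B L F, IsScalarTower.algebraMap_apply B L M,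
      ← IsScalarTower.algebraMap_apply L M F]
  have hc₀int : IsIntegral C c₀ := by
    refine ⟨X ^ p - Polynomial.C (algebraMap B C π), monic_X_pow_sub_C _ hp.ne_zero, ?_⟩
    rw [eval₂_sub, eval₂_pow, eval₂_X, eval₂_C, hc₀p, ← IsScalarTower.algebraMap_apply B C M, sub_self]
  obtain ⟨c, hc⟩ := IsIntegrallyClosed.algebraMap_eq_of_integral hc₀int
  refine ⟨c, IsFractionRing.injective C M ?_⟩
  rw [map_pow, hc, hc₀p, ← IsScalarTower.algebraMap_apply B C M]

theorem exists_root (p : ℕ) (hp : p.Prime) (B C L M : Type u)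
    [CommRing B] [IsDomain B] [IsDiscreteValuationRing B] [CommRing C] [IsDomain C]
    [IsDiscreteValuationRing C]
    [Algebra B C] (hBC : Function.Injective (algebraMap B C)) [IsLocalHom (algebraMap B C)]
    [Field L] [Field M] [Algebra B L] [IsFractionRing B L] [Algebra C M] [IsFractionRing C M]
    [Algebra L M] [Algebra B M] [IsScalarTower B L M] [IsScalarTower B C M]
    [IsPurelyInseparable L M] (hdeg : Module.finrank L M = p) (hB : CAlg.IsNagata B)
    (π : B) (hπ : Irreducible π) (ϖ : C) (u : B) (hu : IsUnit u)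
    (hϖp : ϖ ^ p = algebraMap B C (u * π))
    (happrox : ∀ m : ℕ, ∃ (s : ℕ → B) (r : B), u = ∑ i ∈ range m, s i ^ p * π ^ i + r * π ^ m) :
    ∃ c : C, c ^ p = algebraMap B C π := by
  obtain ⟨w, hw⟩ := IsAlgClosed.exists_pow_nat_eq (algebraMap B (AlgebraicClosure M) u) hp.pos
  have hwint : IsIntegral M w := (Algebra.IsAlgebraic.isAlgebraic w).isIntegral
  haveI : FiniteDimensional M M⟮w⟯ := adjoin.finiteDimensional hwint
  haveI : IsScalarTower B L ↥M⟮w⟯ := IsScalarTower.of_algebraMap_eq (fun b =>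
    Subtype.ext (IsScalarTower.algebraMap_apply B L (AlgebraicClosure M) b))
  haveI : IsScalarTower L M ↥M⟮w⟯ := IsScalarTower.of_algebraMap_eq (fun b =>
    Subtype.ext (IsScalarTower.algebraMap_apply L M (AlgebraicClosure M) b))
  haveI : IsScalarTower C M ↥M⟮w⟯ := IsScalarTower.of_algebraMap_eq (fun b =>
    Subtype.ext (IsScalarTower.algebraMap_apply C M (AlgebraicClosure M) b))
  haveI : IsScalarTower B C ↥M⟮w⟯ := IsScalarTower.of_algebraMap_eq (fun b =>
    Subtype.ext (IsScalarTower.algebraMap_apply B C (AlgebraicClosure M) b))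
  exact core p hp B C L M hBC hdeg hB π hπ ϖ u hu hϖp happrox ↥M⟮w⟯
    ⟨w, mem_adjoin_simple_self M w⟩ (Subtype.ext hw)

end Groth.Agent.Lib.Helper10.PIns3
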