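import Mathlib
import Groth.Agent.S7132
import Groth.Agent.Lib.Helper39.NormFin
import Groth.Agent.Lib.Helper10.PIns1
import Groth.Agent.Lib.Helper10.PIns3
import Groth.Agent.Lib.Helper10.RamIdx

/-!
# Purely inseparable degree `p` step: `C = B[π^{1/p}]`
-/

set_option autoImplicit false
set_option linter.style.haveILetI false
set_option linter.unusedSectionVars false

universe u

namespace Groth.Agent.Lib.Helper10.PIns4

open IsLocalRing Polynomial Finset Groth.Agent.Lib.Helper10.RamIdx

set_option maxHeartbeats 1600000 in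
theorem adjoin_eq_top (p : ℕ) (hp : p.Prime) (B C L M : Type u)
    [CommRing B] [IsDomain B] [IsDiscreteValuationRing B] [CommRing C] [IsDomain C]
    [IsDiscreteValuationRing C]
    [Algebra B C] (hBC : Function.Injective (algebraMap B C)) [IsLocalHom (algebraMap B C)]
    [Field L] [Field M] [Algebra B L] [IsFractionRing B L] [Algebra C M] [IsFractionRing C M]
    [Algebra L M] [Algebra B M] [IsScalarTower B L M] [IsScalarTower B C M]
    [IsPurelyInseparable L M] (hdeg : Module.finrank L M = p) (hB : CAlg.IsNagata B)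
    (π : B) (hπ : Irreducible π) (c : C) (hc : c ^ p = algebraMap B C π) :
    Algebra.adjoin B {c} = ⊤ := by
  classical
  haveI : FiniteDimensional L M := Module.finite_of_finrank_pos (hdeg ▸ hp.pos)
  haveI := hB.1
  -- `c` is a uniformizer, residue fields agree
  obtain ⟨ϖ, hϖ⟩ := IsDiscreteValuationRing.exists_irreducible C
  obtain ⟨u', hu', hepos⟩ := exists_unit_mul_pow_ramificationIdx hBC hπ hϖ
  obtain ⟨hfinBC, hefBC⟩ := Groth.Agent.S7132.result B C L M hBC
  haveI := hfinBC
  have hπC0 : algebraMap B C π ≠ 0 := fun h0 => hπ.ne_zero (hBC (by rw [h0, map_zero]))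
  have hc0 : c ≠ 0 := by
    rintro rfl
    rw [zero_pow hp.ne_zero] at hc
    exact hπC0 hc.symm
  obtain ⟨j, v, hj⟩ := IsDiscreteValuationRing.eq_unit_mul_pow_irreducible hc0 hϖ
  have hej : Ideal.ramificationIdx' (maximalIdeal B) (maximalIdeal C) = j * p := by
    have h1 : ((u' : Cˣ) : C) * ϖ ^ (Ideal.ramificationIdx' (maximalIdeal B) (maximalIdeal C)) =
        ((v ^ p : Cˣ) : C) * ϖ ^ (j * p) := by
      rw [← hu', ← hc, hj, mul_pow, Units.val_pow_eq_pow_val, ← pow_mul]
    exact IsDiscreteValuationRing.unit_mul_pow_congr_pow hϖ hϖ _ _ _ _ h1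
  have hfpos : 0 < Module.finrank (ResidueField B) (ResidueField C) := Module.finrank_pos
  have hj1 : j = 1 ∧ Module.finrank (ResidueField B) (ResidueField C) = 1 := by
    rw [hej, hdeg] at hefBC
    have hjpos : 0 < j := by
      rcases Nat.eq_zero_or_pos j with h0 | h0
      · rw [hej, h0, zero_mul] at hepos
        exact absurd hepos (lt_irrefl 0)
      · exact h0
    have h2 : j * Module.finrank (ResidueField B) (ResidueField C) * p ≤ 1 * p := by
      calc j * Module.finrank (ResidueField B) (ResidueField C) * p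
          = j * p * Module.finrank (ResidueField B) (ResidueField C) := by ring
        _ ≤ p := hefBC
        _ = 1 * p := (one_mul p).symm
    have h3 := Nat.le_of_mul_le_mul_right h2 hp.pos
    have h4 : j * Module.finrank (ResidueField B) (ResidueField C) = 1 := by
      have := Nat.mul_pos hjpos hfpos
      omega
    exact ⟨Nat.eq_one_of_mul_eq_one_right h4, Nat.eq_one_of_mul_eq_one_left h4⟩
  obtain ⟨hj1', hfBC⟩ := hj1
  have hmC : maximalIdeal C = Ideal.span {c} := by
    rw [hϖ.maximalIdeal_eq, hj, hj1', pow_one]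
    exact (Ideal.span_singleton_eq_span_singleton.mpr ⟨v, mul_comm _ _⟩)
  have hsurjBC : Function.Surjective (algebraMap (ResidueField B) (ResidueField C)) := by
    have h1 : (⊥ : Subalgebra (ResidueField B) (ResidueField C)) = ⊤ :=
      Subalgebra.bot_eq_top_of_finrank_eq_one hfBC
    intro x
    have hx : x ∈ (⊥ : Subalgebra (ResidueField B) (ResidueField C)) := h1 ▸ Algebra.mem_top
    exact Algebra.mem_bot.mp hx
  -- finiteness of `C` over `B`
  have hK : ∀ x : L, ∃ a b : B, algebraMap B L b ≠ 0 ∧ x * algebraMap B L b = algebraMap B L a := by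
    intro x
    obtain ⟨a, d, rfl⟩ := IsLocalization.exists_mk'_eq (nonZeroDivisors B) x
    exact ⟨a, d, fun h0 => nonZeroDivisors.ne_zero d.2
      (IsFractionRing.injective B L (by rw [h0, map_zero])), IsLocalization.mk'_spec _ _ _⟩
  haveI hfinM : Module.Finite B (integralClosure B M) :=
    Groth.Agent.Lib.Helper39.NormFin.finite_integralClosure_of_essFiniteType
      (R := B) (K := L) (L := M) hB hK
  have hCint : ∀ x : C, IsIntegral B (algebraMap C M x) := by
    intro x
    obtain ⟨b, hb⟩ := PIns1.pow_mem_range_dvr (B := B) (L := L) (M := M) p hp hdeg x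
    refine ⟨X ^ p - Polynomial.C b, monic_X_pow_sub_C b hp.ne_zero, ?_⟩
    rw [eval₂_sub, eval₂_pow, eval₂_X, eval₂_C, ← map_pow, ← hb,
      ← IsScalarTower.algebraMap_apply B C M, sub_self]
  let φ : C →ₗ[B] integralClosure B M :=
    { toFun := fun x => ⟨algebraMap C M x, hCint x⟩
      map_add' := fun x y => Subtype.ext (map_add _ _ _)
      map_smul' := fun b x => Subtype.ext (by
        show algebraMap C M (b • x) = b • algebraMap C M x
        rw [Algebra.smul_def, Algebra.smul_def, map_mul, ← IsScalarTower.algebraMap_apply B C M]) }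
  have hφ : Function.Injective φ := fun x y hxy =>
    IsFractionRing.injective C M (congrArg Subtype.val hxy)
  haveI : IsNoetherian B (integralClosure B M) := isNoetherian_of_isNoetherianRing_of_finite B _
  haveI hfinC : Module.Finite B C := Module.Finite.of_injective φ hφ
  -- one step of approximation
  have hstep1 : ∀ (j : ℕ) (x : C), ∃ y ∈ Algebra.adjoin B {c}, ∃ x' : C, x = y + c ^ j * x' := by
    intro j
    induction j with
    | zero => exact fun x => ⟨0, Subalgebra.zero_mem _, x, by simp⟩
    | succ j ih =>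
      intro x
      obtain ⟨y, hy, x', hx'⟩ := ih x
      obtain ⟨b₀, hb₀⟩ := hsurjBC (residue C x')
      obtain ⟨b, rfl⟩ := residue_surjective b₀
      rw [ResidueField.algebraMap_residue] at hb₀
      have h1 : x' - algebraMap B C b ∈ maximalIdeal C := by
        rw [← residue_eq_zero_iff, map_sub, hb₀, sub_self]
      rw [hmC, Ideal.mem_span_singleton'] at h1
      obtain ⟨x'', hx''⟩ := h1
      have hcmem : c ∈ Algebra.adjoin B {c} := Algebra.subset_adjoin (Set.mem_singleton c)
      have hmem : y + c ^ j * algebraMap B C b ∈ Algebra.adjoin B {c} :=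
        Subalgebra.add_mem _ hy (Subalgebra.mul_mem _
          (Subalgebra.pow_mem _ hcmem j) (Subalgebra.algebraMap_mem _ b))
      refine ⟨y + c ^ j * algebraMap B C b, hmem, x'', ?_⟩
      rw [hx', pow_succ]
      linear_combination c ^ j * (-hx'')
  have hstep : ∀ x : C, ∃ y ∈ Algebra.adjoin B {c}, ∃ x' : C, x = y + algebraMap B C π * x' := by
    intro x
    obtain ⟨y, hy, x', hx'⟩ := hstep1 p x
    exact ⟨y, hy, x', by rw [hx', hc]⟩
  have hsteps : ∀ (k : ℕ) (x : C), ∃ y ∈ Algebra.adjoin B {c}, ∃ x' : C,
      x = y + algebraMap B C (π ^ k) * x' := by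
    intro k
    induction k with
    | zero => exact fun x => ⟨0, Subalgebra.zero_mem _, x, by simp⟩
    | succ k ih =>
      intro x
      obtain ⟨y, hy, x', hx'⟩ := ih x
      obtain ⟨y', hy', x'', hx''⟩ := hstep x'
      refine ⟨y + algebraMap B C (π ^ k) * y', Subalgebra.add_mem _ hy
        (Subalgebra.mul_mem _ (Subalgebra.algebraMap_mem _ _) hy'), x'', ?_⟩
      rw [hx', hx'', pow_succ, map_mul]
      ring
  rw [eq_top_iff]
  intro x _
  haveI : Module.Finite B (⊤ : Subalgebra B C) :=
    Module.Finite.equiv (Subalgebra.topEquiv (R := B) (A := C)).symm.toLinearEquiv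
  have := PIns3.mem_of_approx (B := B) (E := C) (⊤ : Subalgebra B C)
    (Subalgebra.toSubmodule (Algebra.adjoin B {c})) π ((mem_maximalIdeal _).mpr hπ.not_isUnit) x
    Algebra.mem_top (fun k => by
      obtain ⟨y, hy, x', hx'⟩ := hsteps k x
      exact ⟨y, Algebra.mem_top, hy, x', Algebra.mem_top, hx'⟩)
  exact this

end Groth.Agent.Lib.Helper10.PIns4
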