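import Mathlib
import Groth.Prelude.Def_EtRam
import Groth.Agent.S7132
import Groth.Agent.Lib.Helper10.RamTower
import Groth.Agent.Lib.Helper10.RamIdx
import Groth.Agent.Lib.Helper10.TotRam

/-!
# Purely inseparable degree `p` step: the "good expansion" case (helper10)
-/

set_option autoImplicit false
set_option linter.style.haveILetI false
set_option linter.unusedSectionVars false

universe u

namespace Groth.Agent.Lib.Helper10.PIns5

open Groth.Agent.Lib.Helper10.RamTower Groth.Agent.Lib.Helper10.RamIdx Groth.Agent.Lib.Helper10.TotRam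
open IsLocalRing Polynomial Finset

/-- residue degree bound from a `p`-th root of a non-`p`-th power -/
theorem le_finrank_of_root {F E : Type*} [Field F] [Field E] [Algebra F E] [Module.Finite F E]
    (p : ℕ) (hp : p.Prime) (a : F) (ha : ∀ r : F, r ^ p ≠ a) (z : E) (hz : z ^ p = algebraMap F E a) :
    p ≤ Module.finrank F E := by
  have hirr : Irreducible (X ^ p - C a : F[X]) := X_pow_sub_C_irreducible_of_prime hp ha
  have hmonic : (X ^ p - C a : F[X]).Monic := monic_X_pow_sub_C a hp.ne_zero
  have haev : aeval z (X ^ p - C a : F[X]) = 0 := by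
    rw [map_sub, map_pow, aeval_X, aeval_C, hz, sub_self]
  have hmin : X ^ p - C a = minpoly F z := minpoly.eq_of_irreducible_of_monic hirr haev hmonic
  have hint : IsIntegral F z := Algebra.IsIntegral.isIntegral z
  have hdvd := minpoly.degree_dvd (K := F) (L := E) hint
  rw [← hmin, natDegree_X_pow_sub_C] at hdvd
  exact Nat.le_of_dvd Module.finrank_pos hdvd

/-- in a valuation ring, `x ^ p = y ^ p * c` with `y ≠ 0` gives `z` with `x = y * z`, `z ^ p = c` -/
theorem exists_root_of_pow_eq {W : Type*} [CommRing W] [IsDomain W] [ValuationRing W]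
    (p : ℕ) (hp : 0 < p) (x y c : W) (hy : y ≠ 0) (h : x ^ p = y ^ p * c) :
    ∃ z : W, x = y * z ∧ z ^ p = c := by
  have hdvd : y ∣ x := by
    rcases ValuationRing.dvd_total x y with h1 | h1
    · obtain ⟨t, ht⟩ := h1
      have hx0 : x ≠ 0 := by
        rintro rfl
        rw [zero_mul] at ht
        exact hy ht
      have h2 : x ^ p * 1 = x ^ p * (t ^ p * c) := by
        rw [mul_one]
        nth_rw 1 [h]
        rw [ht]
        ring
      have h3 : 1 = t ^ p * c := mul_left_cancel₀ (pow_ne_zero p hx0) h2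
      have htu : IsUnit t := by
        have h4 : t * (t ^ (p - 1) * c) = 1 := by
          rw [← mul_assoc, ← pow_succ', Nat.sub_add_cancel hp, ← h3]
        exact IsUnit.of_mul_eq_one _ h4
      obtain ⟨t', ht'⟩ := htu.exists_right_inv
      exact ⟨t', by rw [ht, mul_assoc, ht', mul_one]⟩
    · exact h1
  obtain ⟨z, rfl⟩ := hdvd
  refine ⟨z, rfl, ?_⟩
  rw [mul_pow] at h
  exact mul_left_cancel₀ (pow_ne_zero p hy) h

/-- the key congruence computation -/
theorem key_identity {W : Type*} [CommRing W] (p : ℕ) (hp : p.Prime) [CharP W p]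
    (πW P β₂ u b ϖ : W) (s : ℕ → W) (m : ℕ)
    (h1 : P ^ p = πW + P ^ ((m + 2) * p) * β₂) (h2 : ϖ ^ p = u * πW)
    (h3 : u = ∑ i ∈ range m, s i ^ p * πW ^ i + b * πW ^ m) :
    ∃ β : W, (ϖ - (∑ i ∈ range m, s i * P ^ i) * P) ^ p = (P ^ (m + 1)) ^ p * (b + P ^ p * β) := by
  haveI : Fact p.Prime := ⟨hp⟩
  obtain ⟨Q, hQ⟩ : ∃ Q : W, Q = P ^ p := ⟨_, rfl⟩
  have hQ1 : P ^ ((m + 2) * p) = Q ^ (m + 2) := by rw [hQ, ← pow_mul, mul_comm]
  have hQ2 : (P ^ (m + 1)) ^ p = Q ^ (m + 1) := by rw [hQ, ← pow_mul, ← pow_mul, mul_comm]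
  choose G hG using fun j : ℕ => sub_dvd_pow_sub_pow πW Q j
  have h1' : Q = πW + Q ^ (m + 2) * β₂ := by
    rw [hQ1, ← hQ] at h1
    exact h1
  have hδ : πW - Q = - (Q ^ (m + 2) * β₂) := by linear_combination -h1'
  obtain ⟨S, hS⟩ : ∃ S : W, S = ∑ i ∈ range m, s i ^ p * G (i + 1) + b * G (m + 1) := ⟨_, rfl⟩
  refine ⟨-β₂ * S, ?_⟩
  have hY : (∑ i ∈ range m, s i * P ^ i) ^ p = ∑ i ∈ range m, s i ^ p * Q ^ i := by
    rw [sum_pow_char]
    refine sum_congr rfl fun i _ => ?_
    rw [mul_pow, hQ]
    congr 1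
    rw [← pow_mul, ← pow_mul, Nat.mul_comm]
  have hpow : ∀ j : ℕ, πW ^ j = Q ^ j + (πW - Q) * G j := fun j => by rw [← hG j]; ring
  rw [sub_pow_char, mul_pow, hY, h2, h3, hQ2, ← hQ]
  have e1 : (∑ i ∈ range m, s i ^ p * πW ^ i + b * πW ^ m) * πW - (∑ i ∈ range m, s i ^ p * Q ^ i) * Q
      = ∑ i ∈ range m, s i ^ p * (πW ^ (i + 1) - Q ^ (i + 1)) + b * πW ^ (m + 1) := by
    rw [add_mul, sum_mul, sum_mul, add_sub_right_comm, ← sum_sub_distrib]
    congr 1
    · refine sum_congr rfl fun i _ => ?_
      ring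
    · ring
  rw [e1]
  have e2 : ∑ i ∈ range m, s i ^ p * (πW ^ (i + 1) - Q ^ (i + 1)) =
      (πW - Q) * ∑ i ∈ range m, s i ^ p * G (i + 1) := by
    rw [mul_sum]
    refine sum_congr rfl fun i _ => ?_
    rw [hG (i + 1)]; ring
  rw [e2, hpow (m + 1), hδ]
  have e3 : ∑ i ∈ range m, s i ^ p * G (i + 1) = S - b * G (m + 1) := by rw [hS]; ring
  rw [e3]
  ring

open TensorProduct in
set_option maxHeartbeats 1600000 in
theorem core (p : ℕ) (hp : p.Prime) (A B C K L M : Type u)
    [CommRing A] [IsDomain A] [IsDiscreteValuationRing A] [CommRing B] [IsDomain B] [IsDiscreteValuationRing B]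
    [CommRing C] [IsDomain C] [IsDiscreteValuationRing C]
    [Algebra A B] [Algebra B C] [Algebra A C] [IsScalarTower A B C]
    (hAB : Function.Injective (algebraMap A B)) (hBC : Function.Injective (algebraMap B C))
    [IsLocalHom (algebraMap A B)] [IsLocalHom (algebraMap B C)]
    [Field K] [Field L] [Field M] [Algebra A K] [IsFractionRing A K] [Algebra B L] [IsFractionRing B L]
    [Algebra C M] [IsFractionRing C M] [Algebra K L] [Algebra L M] [Algebra K M] [IsScalarTower K L M]
    [Algebra A L] [IsScalarTower A K L] [IsScalarTower A B L] [Algebra B M] [IsScalarTower B L M] [IsScalarTower B C M]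
    [Algebra A M] [IsScalarTower A K M] [IsScalarTower A C M]
    (π : A) (hπ : maximalIdeal A = Ideal.span {π})
    (hw : EtRam.IsWeaklyUnramified A B) [CharP K p] (hdeg : Module.finrank L M = p)
    (ϖ : C) (hϖ : Irreducible ϖ) (u : B) (hu : IsUnit u)
    (hϖp : ϖ ^ p = algebraMap B C (u * algebraMap A B π))
    (m : ℕ) (s : ℕ → B) (b : B)
    (hub : u = ∑ i ∈ range m, s i ^ p * (algebraMap A B π) ^ i + b * (algebraMap A B π) ^ m)
    (hb : ∀ r : B, residue B b ≠ residue B r ^ p)
    (K₁ : Type u) [Field K₁] [Algebra K K₁] [Algebra A K₁] [IsScalarTower A K K₁]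
    (hdeg1 : Module.finrank K K₁ = p) [Algebra.IsSeparable K K₁]
    (ht : EtRam.IsTotallyRamified A ((algebraMap K K₁).comp (algebraMap A K)))
    (π' b₁ b₂ : K₁) (hπ'int : IsIntegral A π') (hb₁ : IsIntegral A b₁) (hb₂ : IsIntegral A b₂)
    (hπ'1 : π' ^ p = algebraMap A K₁ π + algebraMap A K₁ π ^ (m + 2) * b₁)
    (hπ'2 : π' ^ p = algebraMap A K₁ π + π' ^ ((m + 2) * p) * b₂)
    (M' : Type u) [Field M'] [Algebra K M'] [Algebra M M'] [Algebra K₁ M'] [IsScalarTower K M M']
    [IsScalarTower K K₁ M']
    (hM' : Algebra.adjoin M (Set.range (algebraMap K₁ M')) = ⊤) (W : ValuationSubring M')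
    (hW : EtRam.Dominates C ((algebraMap M M').comp (algebraMap C M)) W) :
    (maximalIdeal (W.comap (algebraMap K₁ M'))).map (EtRam.inclOfComap W (algebraMap K₁ M')) =
      maximalIdeal W ∧ Module.finrank M M' = p := by
  classical
  haveI : FiniteDimensional K K₁ := Module.finite_of_finrank_pos (hdeg1 ▸ hp.pos)
  haveI : FiniteDimensional L M := Module.finite_of_finrank_pos (hdeg ▸ hp.pos)
  have hfA : ∀ a : A, algebraMap K₁ M' (((algebraMap K K₁).comp (algebraMap A K)) a) =
      ((algebraMap M M').comp (algebraMap C M)) (algebraMap A C a) := by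
    intro a
    simp only [RingHom.comp_apply]
    rw [← IsScalarTower.algebraMap_apply K K₁ M', IsScalarTower.algebraMap_apply K M M',
      ← IsScalarTower.algebraMap_apply A K M, ← IsScalarTower.algebraMap_apply A C M]
  have hV₁ : EtRam.Dominates A ((algebraMap K K₁).comp (algebraMap A K))
      (W.comap (algebraMap K₁ M')) :=
    ⟨fun a => by
      show algebraMap K₁ M' _ ∈ W
      rw [hfA]; exact hW.1 _,
    fun a ha => by
      rw [valuation_comap_lt_one_iff, hfA]
      have hAC : IsLocalHom (algebraMap A C) := by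
        rw [IsScalarTower.algebraMap_eq A B C]
        infer_instance
      exact hW.2 _ (map_nonunit (algebraMap A C) a ha)⟩
  letI algAV : Algebra A (W.comap (algebraMap K₁ M')) :=
    (RingHom.codRestrict ((algebraMap K K₁).comp (algebraMap A K)) _ hV₁.1).toAlgebra
  haveI locAV : IsLocalHom (algebraMap A (W.comap (algebraMap K₁ M'))) :=
    isLocalHom_of_dominates A _ _ hV₁
  haveI dvrV : IsDiscreteValuationRing (W.comap (algebraMap K₁ M')) :=
    isDiscreteValuationRing_of_dominates A K K₁ _ hV₁
  letI algCW : Algebra C W :=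
    (RingHom.codRestrict ((algebraMap M M').comp (algebraMap C M)) W hW.1).toAlgebra
  haveI locCW : IsLocalHom (algebraMap C W) := isLocalHom_of_dominates C _ W hW
  -- the surjection `M ⊗ K₁ → M'`
  let Ψ : M ⊗[K] K₁ →ₐ[M] M' :=
    Algebra.TensorProduct.productLeftAlgHom (Algebra.ofId M M') (IsScalarTower.toAlgHom K K₁ M')
  have hΨ : Function.Surjective Ψ := by
    have hrange : Ψ.range = ⊤ := by
      rw [eq_top_iff, ← hM']
      apply Algebra.adjoin_le
      rintro _ ⟨k, rfl⟩
      exact ⟨1 ⊗ₜ k, by simp [Ψ]⟩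
    intro x
    have hx : x ∈ Ψ.range := hrange ▸ Algebra.mem_top
    exact hx
  haveI finMT : Module.Finite M (M ⊗[K] K₁) := inferInstance
  haveI finMM' : FiniteDimensional M M' := Module.Finite.of_surjective Ψ.toLinearMap hΨ
  have hdle : Module.finrank M M' ≤ p := by
    have h1 := LinearMap.finrank_le_finrank_of_surjective (f := Ψ.toLinearMap) hΨ
    rwa [Module.finrank_baseChange, hdeg1] at h1
  haveI dvrW : IsDiscreteValuationRing W := isDiscreteValuationRing_of_dominates C M M' W hW
  letI algVW : Algebra (W.comap (algebraMap K₁ M')) W :=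
    (EtRam.inclOfComap W (algebraMap K₁ M')).toAlgebra
  haveI locVW : IsLocalHom (algebraMap (W.comap (algebraMap K₁ M')) W) :=
    EtRam.isLocalHom_inclOfComap W (algebraMap K₁ M')
  letI algA_W : Algebra A W := ((algebraMap C W).comp (algebraMap A C)).toAlgebra
  haveI : IsScalarTower A C W := IsScalarTower.of_algebraMap_eq (fun _ => rfl)
  letI algB_W : Algebra B W := ((algebraMap C W).comp (algebraMap B C)).toAlgebra
  haveI : IsScalarTower B C W := IsScalarTower.of_algebraMap_eq (fun _ => rfl)
  haveI : IsScalarTower A B W := IsScalarTower.of_algebraMap_eq (fun a => by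
    show algebraMap C W (algebraMap A C a) = algebraMap C W (algebraMap B C (algebraMap A B a))
    rw [← IsScalarTower.algebraMap_apply A B C])
  haveI locAC : IsLocalHom (algebraMap A C) := by
    rw [IsScalarTower.algebraMap_eq A B C]
    infer_instance
  haveI locAW : IsLocalHom (algebraMap A W) := by
    show IsLocalHom ((algebraMap C W).comp (algebraMap A C))
    infer_instance
  haveI : IsScalarTower A (W.comap (algebraMap K₁ M')) W :=
    IsScalarTower.of_algebraMap_eq (fun a => Subtype.ext (hfA a).symm)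
  have hCWinj : Function.Injective (algebraMap C W) := fun a b hab =>
    ((algebraMap M M').injective.comp (IsFractionRing.injective C M)) (congrArg Subtype.val hab)
  have hACinj : Function.Injective (algebraMap A C) := by
    rw [IsScalarTower.algebraMap_eq A B C]
    exact hBC.comp hAB
  have hAWinj : Function.Injective (algebraMap A W) := hCWinj.comp hACinj
  have hVWinj : Function.Injective (algebraMap (W.comap (algebraMap K₁ M')) W) := fun a b hab =>
    Subtype.ext ((algebraMap K₁ M').injective (congrArg Subtype.val hab))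
  have hA0 : maximalIdeal A ≠ ⊥ := IsDiscreteValuationRing.not_a_field A
  have ht1 := ramificationIdx_tower (R := A) (S := W.comap (algebraMap K₁ M')) (T := W)
    hAWinj hVWinj hA0
  have ht2 := ramificationIdx_tower (R := A) (S := C) (T := W) hAWinj hCWinj hA0
  have ht3 := ramificationIdx_tower (R := A) (S := B) (T := C) hACinj hBC hA0
  have heAV := ramificationIdx_eq_finrank A K K₁ (W.comap (algebraMap K₁ M')) hV₁ ht
  have heAB : Ideal.ramificationIdx' (maximalIdeal A) (maximalIdeal B) = 1 := by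
    obtain ⟨π₀, hπ₀⟩ := IsDiscreteValuationRing.exists_irreducible B
    have hmB : maximalIdeal B = Ideal.span {π₀} := hπ₀.maximalIdeal_eq
    apply Ideal.ramificationIdx'_spec
    · rw [pow_one]; exact hw.le
    · have hw' : (maximalIdeal A).map (algebraMap A B) = maximalIdeal B := hw
      rw [hw', hmB, Ideal.span_singleton_pow, Ideal.span_singleton_le_span_singleton]
      intro h3
      have h4 : π₀ ^ 2 ∣ π₀ ^ 1 := by simpa using h3
      have := (pow_dvd_pow_iff hπ₀.ne_zero hπ₀.not_isUnit).mp h4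
      omega
  -- `πB` is a uniformizer of `B`
  have hπB : Irreducible (algebraMap A B π) := by
    rw [IsDiscreteValuationRing.irreducible_iff_uniformizer]
    have hw' : (maximalIdeal A).map (algebraMap A B) = maximalIdeal B := hw
    rw [← hw', hπ, Ideal.map_span, Set.image_singleton]
  have hπA : Irreducible π := (IsDiscreteValuationRing.irreducible_iff_uniformizer π).mpr hπ
  -- `e(C/B) = p`
  have heBC : Ideal.ramificationIdx' (maximalIdeal B) (maximalIdeal C) = p := by
    obtain ⟨u', hu', -⟩ := exists_unit_mul_pow_ramificationIdx hBC hπB hϖ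
    obtain ⟨v, hv⟩ := hu.map (algebraMap B C)
    have h1 : ((1 : Cˣ) : C) * ϖ ^ p = ((v * u' : Cˣ) : C) *
        ϖ ^ (Ideal.ramificationIdx' (maximalIdeal B) (maximalIdeal C)) := by
      rw [Units.val_one, one_mul, hϖp, map_mul, hu', Units.val_mul, hv]
      ring
    exact (IsDiscreteValuationRing.unit_mul_pow_congr_pow hϖ hϖ _ _ _ _ h1).symm
  -- residue fields of `B` and `C` agree
  obtain ⟨hfinBC, hefBC⟩ := Groth.Agent.S7132.result B C L M hBC
  haveI := hfinBC
  have hfBC : Module.finrank (ResidueField B) (ResidueField C) = 1 := by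
    rw [heBC, hdeg] at hefBC
    have hpos : 0 < Module.finrank (ResidueField B) (ResidueField C) := Module.finrank_pos
    have h1 : p * Module.finrank (ResidueField B) (ResidueField C) ≤ p * 1 := by
      rw [mul_one]; exact hefBC
    have := Nat.le_of_mul_le_mul_left h1 hp.pos
    omega
  have hsurjBC : Function.Surjective (algebraMap (ResidueField B) (ResidueField C)) := by
    have h1 : (⊥ : Subalgebra (ResidueField B) (ResidueField C)) = ⊤ :=
      Subalgebra.bot_eq_top_of_finrank_eq_one hfBC
    intro x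
    have hx : x ∈ (⊥ : Subalgebra (ResidueField B) (ResidueField C)) := h1 ▸ Algebra.mem_top
    exact Algebra.mem_bot.mp hx
  have hbC : ∀ r : ResidueField C, r ^ p ≠ residue C (algebraMap B C b) := by
    intro r hr
    obtain ⟨r₀, rfl⟩ := hsurjBC r
    obtain ⟨r₁, rfl⟩ := residue_surjective r₀
    rw [← ResidueField.algebraMap_residue, ← map_pow] at hr
    have := (algebraMap (ResidueField B) (ResidueField C)).injective hr
    exact hb r₁ this.symm
  -- S7132 for `C → W`
  letI algCM' : Algebra C M' := ((algebraMap M M').comp (algebraMap C M)).toAlgebra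
  haveI : IsScalarTower C M M' := IsScalarTower.of_algebraMap_eq (fun _ => rfl)
  haveI : IsScalarTower C W M' := IsScalarTower.of_algebraMap_eq (fun _ => rfl)
  obtain ⟨hfinCW, hefCW⟩ := Groth.Agent.S7132.result C W M M' hCWinj
  haveI := hfinCW
  -- elements of `W`
  have hintW : ∀ x : K₁, IsIntegral A x → algebraMap K₁ M' x ∈ W := by
    intro x hx
    letI : Algebra A M' := ((algebraMap K₁ M').comp (algebraMap A K₁)).toAlgebra
    haveI : IsScalarTower A K₁ M' := IsScalarTower.of_algebraMap_eq (fun _ => rfl)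
    refine Groth.Agent.Lib.Helper39.KA.mem_valuationSubring_of_isIntegral (A := A) W ?_
      (hx.map (IsScalarTower.toAlgHom A K₁ M'))
    intro a
    have h1 : algebraMap A M' a = algebraMap K₁ M' (algebraMap A K₁ a) := rfl
    rw [h1, IsScalarTower.algebraMap_apply A K K₁]
    have := hfA a
    simp only [RingHom.comp_apply] at this
    rw [this]
    exact hW.1 _
  obtain ⟨PW, hPW⟩ : ∃ PW : W, (PW : M') = algebraMap K₁ M' π' := ⟨⟨_, hintW π' hπ'int⟩, rfl⟩
  obtain ⟨β₁W, hβ₁W⟩ : ∃ x : W, (x : M') = algebraMap K₁ M' b₁ := ⟨⟨_, hintW b₁ hb₁⟩, rfl⟩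
  obtain ⟨β₂W, hβ₂W⟩ : ∃ x : W, (x : M') = algebraMap K₁ M' b₂ := ⟨⟨_, hintW b₂ hb₂⟩, rfl⟩
  have hπWval : ((algebraMap A W π : W) : M') = algebraMap K₁ M' (algebraMap A K₁ π) := by
    have := hfA π
    simp only [RingHom.comp_apply] at this
    rw [IsScalarTower.algebraMap_apply A K K₁, this]
    rfl
  have h1W : PW ^ p = algebraMap A W π + PW ^ ((m + 2) * p) * β₂W := by
    apply Subtype.ext
    push_cast
    rw [hPW, hβ₂W, hπWval, ← map_pow, ← map_pow, ← map_mul, ← map_add, hπ'2]
  have h1W' : PW ^ p = algebraMap A W π + algebraMap A W π ^ (m + 2) * β₁W := by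
    apply Subtype.ext
    push_cast
    rw [hPW, hβ₁W, hπWval, ← map_pow, ← map_pow, ← map_mul, ← map_add, hπ'1]
  have h2W : (algebraMap C W ϖ) ^ p = algebraMap B W u * algebraMap A W π := by
    rw [← map_pow, hϖp, ← IsScalarTower.algebraMap_apply B C W, map_mul,
      ← IsScalarTower.algebraMap_apply A B W]
  have h3W : algebraMap B W u = ∑ i ∈ range m, (fun i => algebraMap B W (s i)) i ^ p *
      algebraMap A W π ^ i + algebraMap B W b * algebraMap A W π ^ m := by
    conv_lhs => rw [hub]
    rw [map_add, map_sum, map_mul, map_pow, ← IsScalarTower.algebraMap_apply A B W]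
    congr 1
    refine sum_congr rfl fun i _ => ?_
    rw [map_mul, map_pow, map_pow, ← IsScalarTower.algebraMap_apply A B W]
  haveI charM' : CharP M' p := charP_of_injective_algebraMap (algebraMap K M').injective p
  haveI charW : CharP (↥W) p :=
    (RingHom.charP_iff W.subtype Subtype.val_injective p).mpr charM'
  obtain ⟨β, hβ⟩ := key_identity p hp (algebraMap A W π) PW β₂W (algebraMap B W u)
    (algebraMap B W b) (algebraMap C W ϖ) (fun i => algebraMap B W (s i)) m h1W h2W h3W
  have hπW0 : algebraMap A W π ≠ 0 := fun h0 => hπA.ne_zero (hAWinj (by rw [h0, map_zero]))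
  have hPW0 : PW ≠ 0 := by
    rintro rfl
    rw [zero_pow hp.ne_zero, zero_pow (Nat.mul_ne_zero (by omega) hp.ne_zero), zero_mul,
      add_zero] at h1W
    exact hπW0 h1W.symm
  obtain ⟨z, -, hz⟩ := exists_root_of_pow_eq p hp.pos _ _ _ (pow_ne_zero (m + 1) hPW0) hβ
  have hπWm : algebraMap A W π ∈ maximalIdeal W :=
    map_nonunit (algebraMap A W) π (by
      rw [mem_maximalIdeal, mem_nonunits_iff]; exact hπA.not_isUnit)
  have hPWm : PW ∈ maximalIdeal W := by
    have h4 : PW ^ p ∈ maximalIdeal W := by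
      rw [h1W']
      refine Ideal.add_mem _ hπWm (Ideal.mul_mem_right _ _ (Ideal.pow_mem_of_mem _ hπWm _ (by omega)))
    exact Ideal.IsPrime.mem_of_pow_mem inferInstance p h4
  have hzres : (residue W z) ^ p =
      algebraMap (ResidueField C) (ResidueField W) (residue C (algebraMap B C b)) := by
    rw [← map_pow, hz, map_add, map_mul, map_pow, (residue_eq_zero_iff _).mpr hPWm,
      zero_pow hp.ne_zero, zero_mul, add_zero, IsScalarTower.algebraMap_apply B C W,
      ResidueField.algebraMap_residue]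
  have hfCW : p ≤ Module.finrank (ResidueField C) (ResidueField W) :=
    le_finrank_of_root p hp _ hbC _ hzres
  obtain ⟨πV, hπV⟩ := IsDiscreteValuationRing.exists_irreducible (W.comap (algebraMap K₁ M'))
  obtain ⟨πW', hπW'⟩ := IsDiscreteValuationRing.exists_irreducible W
  obtain ⟨uVW, huVW, heVWpos⟩ := exists_unit_mul_pow_ramificationIdx hVWinj hπV hπW'
  obtain ⟨-, -, heCWpos⟩ := exists_unit_mul_pow_ramificationIdx hCWinj hϖ hπW'
  set eVW := Ideal.ramificationIdx' (maximalIdeal (W.comap (algebraMap K₁ M'))) (maximalIdeal W)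
    with heVW
  set eCW := Ideal.ramificationIdx' (maximalIdeal C) (maximalIdeal W) with heCW
  set fCW := Module.finrank (ResidueField C) (ResidueField W) with hfCWdef
  set d := Module.finrank M M' with hd
  have h5 : eCW * p ≤ p * 1 := by
    calc eCW * p ≤ eCW * fCW := Nat.mul_le_mul_left _ hfCW
      _ ≤ d := hefCW
      _ ≤ p := hdle
      _ = p * 1 := (mul_one p).symm
  have h6 : eCW = 1 := by
    have : eCW ≤ 1 := by
      rw [mul_comm] at h5
      exact Nat.le_of_mul_le_mul_left h5 hp.pos
    omega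
  have h7 : d = p := by
    apply le_antisymm hdle
    calc p ≤ fCW := hfCW
      _ = 1 * fCW := (one_mul _).symm
      _ = eCW * fCW := by rw [h6]
      _ ≤ d := hefCW
  have h8 : eVW = 1 := by
    have h9 : p * eVW = p * 1 := by
      rw [mul_one]
      have := ht1
      rw [heAV, hdeg1, ht2, ht3, heAB, heBC, one_mul, h6, mul_one] at this
      exact this.symm
    exact Nat.eq_of_mul_eq_mul_left hp.pos h9
  refine ⟨?_, h7⟩
  rw [hπV.maximalIdeal_eq, Ideal.map_span, Set.image_singleton, hπW'.maximalIdeal_eq]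
  have hu' : (EtRam.inclOfComap W (algebraMap K₁ M')) πV = uVW * πW' := by
    have := huVW
    rw [h8, pow_one] at this
    exact this
  rw [hu']
  exact Ideal.span_singleton_eq_span_singleton.mpr ⟨uVW⁻¹, by rw [mul_comm, ← mul_assoc]; simp⟩

end Groth.Agent.Lib.Helper10.PIns5
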