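import Mathlib

/-!
# Adjoining a `p`-th root of a lift of a non-`p`-th power of the residue field (helper10)

`S` a local domain with maximal ideal `(π)` in which every nonzero element is a unit times a power
of `π`, residue characteristic `p`, and `y : S` whose residue is not a `p`-th power.  Then
`S̃ = S[X]/(X^p - y)` has the same properties (with the same `π`), and its residue field is
obtained by adjoining the `p`-th root of the residue of `y`.
-/

set_option linter.style.haveILetI false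
set_option linter.unusedSectionVars false

namespace Groth.Agent.Lib.Helper10.PerfStep

open Polynomial IsLocalRing

section Basic

variable {S : Type*} [CommRing S] [Nontrivial S] (p : ℕ) (hp : p.Prime) (y : S)

/-- The polynomial `X^p - y`. -/
noncomputable def fy : S[X] := X ^ p - C y

include hp in
theorem fy_monic : (fy p y).Monic := monic_X_pow_sub_C y hp.ne_zero

include hp in
theorem fy_natDegree : (fy p y).natDegree = p := natDegree_X_pow_sub_C

theorem root_pow : (AdjoinRoot.root (fy p y)) ^ p = AdjoinRoot.of (fy p y) y := by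
  have h := AdjoinRoot.mk_self (f := fy p y)
  unfold fy at h
  rw [map_sub, map_pow, AdjoinRoot.mk_X, AdjoinRoot.mk_C] at h
  exact sub_eq_zero.mp h

end Basic

variable {S : Type*} [CommRing S] [IsDomain S] [IsLocalRing S] (π : S)
  (hπ : maximalIdeal S = Ideal.span {π})
  (hfac : ∀ x : S, x ≠ 0 → ∃ (n : ℕ) (u : Sˣ), x = u * π ^ n)
  (p : ℕ) (hp : p.Prime) (hpS : (p : S) ∈ Ideal.span {π})
  (y : S) (hy : ∀ r : S, y - r ^ p ∉ Ideal.span {π})

theorem fy_map : (fy p y).map (residue S) = X ^ p - C (residue S y) := by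
  simp [fy, Polynomial.map_sub, Polynomial.map_pow]

include hπ hp hy in
theorem irreducible_fbar : Irreducible (X ^ p - C (residue S y) : (ResidueField S)[X]) := by
  apply X_pow_sub_C_irreducible_of_prime hp
  intro b hb
  obtain ⟨r, rfl⟩ := residue_surjective b
  apply hy r
  rw [← hπ, ← residue_eq_zero_iff, map_sub, map_pow, hb, sub_self]

include hπ hpS hp in
theorem charP_res : CharP (ResidueField S) p := by
  have h0 : ((p : ℕ) : ResidueField S) = 0 := by
    rw [← map_natCast (residue S), residue_eq_zero_iff, hπ]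
    exact hpS
  exact (CharP.charP_iff_prime_eq_zero hp).mpr h0

/-- Reduction map `S[X]/(X^p - y) → k[X]/(X^p - ȳ)`. -/
noncomputable def ρ : AdjoinRoot (fy p y) →+* AdjoinRoot (X ^ p - C (residue S y) : (ResidueField S)[X]) :=
  AdjoinRoot.map (residue S) (fy p y) _ (by rw [fy_map])

theorem ρ_mk (P : S[X]) : ρ p y (AdjoinRoot.mk _ P) = AdjoinRoot.mk _ (P.map (residue S)) := by
  unfold ρ AdjoinRoot.map
  rw [AdjoinRoot.lift_mk, ← Polynomial.eval₂_map, ← AdjoinRoot.algebraMap_eq, ← aeval_def,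
    AdjoinRoot.aeval_eq]

include hπ in
theorem ker_ρ (g : AdjoinRoot (fy p y)) (hg : ρ p y g = 0) :
    ∃ g' : AdjoinRoot (fy p y), g = AdjoinRoot.of _ π * g' := by
  obtain ⟨P, rfl⟩ := AdjoinRoot.mk_surjective g
  rw [ρ_mk, AdjoinRoot.mk_eq_zero] at hg
  obtain ⟨Qb, hQb⟩ := hg
  obtain ⟨Q, rfl⟩ := Polynomial.map_surjective (residue S) residue_surjective Qb
  have h1 : (P - fy p y * Q).map (residue S) = 0 := by
    rw [Polynomial.map_sub, Polynomial.map_mul, fy_map, hQb, sub_self]
  have h2 : C π ∣ P - fy p y * Q := by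
    rw [Polynomial.C_dvd_iff_dvd_coeff]
    intro i
    have h3 : residue S ((P - fy p y * Q).coeff i) = 0 := by
      rw [← Polynomial.coeff_map, h1, coeff_zero]
    rw [residue_eq_zero_iff, hπ, Ideal.mem_span_singleton] at h3
    exact h3
  obtain ⟨P', hP'⟩ := h2
  refine ⟨AdjoinRoot.mk _ P', ?_⟩
  have h4 : P = fy p y * Q + C π * P' := by rw [← hP']; ring
  rw [h4, map_add, map_mul, AdjoinRoot.mk_self, zero_mul, zero_add, map_mul, AdjoinRoot.mk_C]

theorem ρ_surjective : Function.Surjective (ρ p y) := by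
  intro g
  obtain ⟨Pb, rfl⟩ := AdjoinRoot.mk_surjective g
  obtain ⟨P, rfl⟩ := Polynomial.map_surjective (residue S) residue_surjective Pb
  exact ⟨AdjoinRoot.mk _ P, ρ_mk p y P⟩

include hp hπ in
theorem of_pi_mem_max (M : Ideal (AdjoinRoot (fy p y))) (hM : M.IsMaximal) :
    AdjoinRoot.of (fy p y) π ∈ M := by
  haveI : Module.Finite S (AdjoinRoot (fy p y)) := (fy_monic p hp y).finite_adjoinRoot
  haveI : Algebra.IsIntegral S (AdjoinRoot (fy p y)) := Algebra.IsIntegral.of_finite _ _
  have h1 : (M.comap (algebraMap S (AdjoinRoot (fy p y)))).IsMaximal :=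
    Ideal.isMaximal_comap_of_isIntegral_of_isMaximal M
  have h2 := IsLocalRing.eq_maximalIdeal h1
  have h3 : π ∈ M.comap (algebraMap S (AdjoinRoot (fy p y))) := by
    rw [h2, hπ]; exact Ideal.mem_span_singleton_self _
  exact h3

include hπ hp hy in
theorem isUnit_or (g : AdjoinRoot (fy p y)) :
    (∃ g', g = AdjoinRoot.of _ π * g') ∨ IsUnit g := by
  haveI : Fact (Irreducible (X ^ p - C (residue S y) : (ResidueField S)[X])) :=
    ⟨irreducible_fbar π hπ p hp y hy⟩
  by_cases h0 : ρ p y g = 0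
  · exact Or.inl (ker_ρ π hπ p y g h0)
  · right
    obtain ⟨g', hg'⟩ := ρ_surjective p y (ρ p y g)⁻¹
    have h1 : ρ p y (g * g' - 1) = 0 := by
      rw [map_sub, map_mul, hg', mul_inv_cancel₀ h0, map_one, sub_self]
    obtain ⟨t, ht⟩ := ker_ρ π hπ p y _ h1
    have h2 : IsUnit (g * g') := by
      by_contra hnu
      obtain ⟨M, hM, hmem⟩ := exists_max_ideal_of_mem_nonunits (mem_nonunits_iff.mpr hnu)
      have h3 := of_pi_mem_max π hπ p hp y M hM
      have h4 : (1 : AdjoinRoot (fy p y)) ∈ M := by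
        have : (1 : AdjoinRoot (fy p y)) = g * g' - AdjoinRoot.of _ π * t := by
          rw [← ht]; ring
        rw [this]
        exact M.sub_mem hmem (M.mul_mem_right _ h3)
      exact hM.ne_top ((Ideal.eq_top_iff_one _).mpr h4)
    exact isUnit_of_mul_isUnit_left h2

include hπ hp hy in
theorem not_isUnit_of_pi : ¬ IsUnit (AdjoinRoot.of (fy p y) π) := by
  haveI : Fact (Irreducible (X ^ p - C (residue S y) : (ResidueField S)[X])) :=
    ⟨irreducible_fbar π hπ p hp y hy⟩
  intro h
  have h1 : IsUnit (ρ p y (AdjoinRoot.of (fy p y) π)) := h.map _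
  have h2 : ρ p y (AdjoinRoot.of (fy p y) π) = 0 := by
    rw [← AdjoinRoot.mk_C, ρ_mk, Polynomial.map_C]
    have : residue S π = 0 := by
      rw [residue_eq_zero_iff, hπ]; exact Ideal.mem_span_singleton_self _
    rw [this, map_zero, map_zero]
  rw [h2] at h1
  exact not_isUnit_zero h1

include hp in
theorem of_injective : Function.Injective (AdjoinRoot.of (fy p y)) := by
  apply AdjoinRoot.of.injective_of_degree_ne_zero
  rw [Polynomial.degree_eq_natDegree (fy_monic p hp y).ne_zero, fy_natDegree p hp y]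
  exact_mod_cast hp.ne_zero

include hπ hfac hp hy in
theorem fac' (hπ0 : π ≠ 0) (g : AdjoinRoot (fy p y)) (hg : g ≠ 0) :
    ∃ (n : ℕ) (u : (AdjoinRoot (fy p y))ˣ), g = u * (AdjoinRoot.of (fy p y) π) ^ n := by
  classical
  have hπnu : ¬ IsUnit π := by
    have : π ∈ maximalIdeal S := by rw [hπ]; exact Ideal.mem_span_singleton_self _
    exact this
  have hrepr : ∀ (n : ℕ) (h : AdjoinRoot (fy p y)) i,
      (AdjoinRoot.powerBasis' (fy_monic p hp y)).basis.repr
        ((AdjoinRoot.of (fy p y) π) ^ n * h) i =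
      π ^ n * (AdjoinRoot.powerBasis' (fy_monic p hp y)).basis.repr h i := by
    intro n h i
    have : (AdjoinRoot.of (fy p y) π) ^ n * h = (π ^ n) • h := by
      rw [Algebra.smul_def, AdjoinRoot.algebraMap_eq, map_pow]
    rw [this, map_smul, Finsupp.smul_apply, smul_eq_mul]
  have hex : ∃ n : ℕ, ¬ ∃ h, g = (AdjoinRoot.of (fy p y) π) ^ (n + 1) * h := by
    have h1 : (AdjoinRoot.powerBasis' (fy_monic p hp y)).basis.repr g ≠ 0 := by
      intro h0
      exact hg ((LinearEquiv.map_eq_zero_iff _).mp h0)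
    obtain ⟨i, hi⟩ := Finsupp.ne_iff.mp h1
    rw [Finsupp.zero_apply] at hi
    obtain ⟨m, u, hu⟩ := hfac _ hi
    refine ⟨m, ?_⟩
    rintro ⟨h, hh⟩
    have h2 := hrepr (m + 1) h i
    rw [← hh, hu] at h2
    have h3 : π ^ m * ((u : S) - π * (AdjoinRoot.powerBasis' (fy_monic p hp y)).basis.repr h i) = 0 := by
      rw [pow_succ] at h2
      linear_combination h2
    rcases mul_eq_zero.mp h3 with h4 | h4
    · exact pow_ne_zero _ hπ0 h4
    · apply hπnu
      have h5 : π * ((AdjoinRoot.powerBasis' (fy_monic p hp y)).basis.repr h i * ((u⁻¹ : Sˣ) : S)) = 1 := by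
        have h6 : (u : S) * ((u⁻¹ : Sˣ) : S) = 1 := u.mul_inv
        linear_combination (-((u⁻¹ : Sˣ) : S)) * h4 + h6
      exact IsUnit.of_mul_eq_one _ h5
  obtain ⟨N, hspec, hmin⟩ : ∃ N : ℕ, (¬ ∃ h, g = (AdjoinRoot.of (fy p y) π) ^ (N + 1) * h) ∧
      ∀ m, m < N → ∃ h, g = (AdjoinRoot.of (fy p y) π) ^ (m + 1) * h :=
    ⟨Nat.find hex, Nat.find_spec hex, fun m hm => by
      have := Nat.find_min hex hm
      push Not at this
      exact this⟩
  obtain ⟨h, hh⟩ : ∃ h, g = (AdjoinRoot.of (fy p y) π) ^ N * h := by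
    rcases Nat.eq_zero_or_pos N with h0 | h0
    · exact ⟨g, by rw [h0, pow_zero, one_mul]⟩
    · obtain ⟨h, hh⟩ := hmin (N - 1) (by omega)
      refine ⟨h, ?_⟩
      have e1 : N - 1 + 1 = N := by omega
      rw [e1] at hh
      exact hh
  rcases isUnit_or π hπ p hp y hy h with ⟨h', hh'⟩ | hu
  · exfalso
    apply hspec
    refine ⟨h', ?_⟩
    refine hh.trans ?_
    rw [hh', pow_succ]
    ring
  · obtain ⟨u, rfl⟩ := hu
    exact ⟨N, u, hh.trans (mul_comm _ _)⟩

include hπ hp hpS hy in
theorem pth (g : AdjoinRoot (fy p y)) :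
    ∃ (z : S) (t : AdjoinRoot (fy p y)),
      AdjoinRoot.of (fy p y) z - g ^ p = AdjoinRoot.of (fy p y) π * t := by
  classical
  haveI : Fact (Irreducible (X ^ p - C (residue S y) : (ResidueField S)[X])) :=
    ⟨irreducible_fbar π hπ p hp y hy⟩
  haveI : CharP (ResidueField S) p := charP_res π hπ p hp hpS
  haveI : CharP (AdjoinRoot (X ^ p - C (residue S y) : (ResidueField S)[X])) p :=
    charP_of_injective_algebraMap (algebraMap (ResidueField S) _).injective p
  haveI : Fact p.Prime := ⟨hp⟩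
  set b := (AdjoinRoot.powerBasis' (fy_monic p hp y)) with hb
  have hsum : g = ∑ i, AdjoinRoot.of (fy p y) (b.basis.repr g i) * AdjoinRoot.root (fy p y) ^ (i : ℕ) := by
    conv_lhs => rw [← b.basis.sum_repr g]
    refine Finset.sum_congr rfl (fun i _ => ?_)
    rw [b.basis_eq_pow, Algebra.smul_def, AdjoinRoot.algebraMap_eq]
    rfl
  refine ⟨∑ i, (b.basis.repr g i) ^ p * y ^ (i : ℕ), ?_⟩
  have h1 : ρ p y g = ∑ i, ρ p y (AdjoinRoot.of (fy p y) (b.basis.repr g i)) *
      ρ p y (AdjoinRoot.root (fy p y)) ^ (i : ℕ) := by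
    conv_lhs => rw [hsum]
    simp only [map_sum, map_mul, map_pow]
  have hker : ρ p y (AdjoinRoot.of (fy p y) (∑ i, (b.basis.repr g i) ^ p * y ^ (i : ℕ)) - g ^ p) = 0 := by
    rw [map_sub, map_pow, h1, sum_pow_char p, map_sum, map_sum, sub_eq_zero]
    refine Finset.sum_congr rfl (fun i _ => ?_)
    rw [map_mul, map_mul, map_pow, map_pow, map_pow, mul_pow, ← pow_mul, mul_comm (i : ℕ) p,
      pow_mul, ← map_pow (ρ p y) (AdjoinRoot.root (fy p y)) p, root_pow, map_pow]
  exact ker_ρ π hπ p y _ hker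

end Groth.Agent.Lib.Helper10.PerfStep
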