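import Mathlib
import Groth.Agent.Lib.Helper10.PerfStep

/-!
# Finite free subalgebras of `p`-power rank pass to `S[X]/(X^p - y)` (helper10)
-/

set_option linter.style.haveILetI false
set_option linter.unusedSectionVars false

namespace Groth.Agent.Lib.Helper10.PerfFin

open Polynomial Groth.Agent.Lib.Helper10.PerfStep

/-- Every finite subset lies in a finite free subalgebra whose rank is a power of `q`. -/
def FinProp (R S : Type*) [CommRing R] [CommRing S] [Algebra R S] (q : ℕ) : Prop :=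
  ∀ s : Finset S, ∃ T : Subalgebra R S, (↑s : Set S) ⊆ ↑T ∧ Module.Finite R T ∧ Module.Free R T ∧
    ∃ m : ℕ, Module.finrank R T = q ^ m

theorem map_mk {A B : Type*} [CommRing A] [CommRing B] (φ : A →+* B) (f : A[X]) (g : B[X])
    (h : g ∣ f.map φ) (P : A[X]) :
    AdjoinRoot.map φ f g h (AdjoinRoot.mk f P) = AdjoinRoot.mk g (P.map φ) := by
  unfold AdjoinRoot.map
  rw [AdjoinRoot.lift_mk, ← Polynomial.eval₂_map, ← AdjoinRoot.algebraMap_eq, ← aeval_def,
    AdjoinRoot.aeval_eq]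

theorem sum_repr' {S : Type*} [CommRing S] [Nontrivial S] (p : ℕ) (hp : p.Prime) (y : S)
    (g : AdjoinRoot (fy p y)) :
    g = ∑ i, AdjoinRoot.of (fy p y)
      ((AdjoinRoot.powerBasis' (fy_monic p hp y)).basis.repr g i) *
        AdjoinRoot.root (fy p y) ^ (i : ℕ) := by
  conv_lhs => rw [← (AdjoinRoot.powerBasis' (fy_monic p hp y)).basis.sum_repr g]
  refine Finset.sum_congr rfl (fun i _ => ?_)
  rw [(AdjoinRoot.powerBasis' (fy_monic p hp y)).basis_eq_pow, Algebra.smul_def,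
    AdjoinRoot.algebraMap_eq]
  rfl

theorem finProp_step {R S : Type*} [CommRing R] [Nontrivial R] [CommRing S] [IsDomain S]
    [Algebra R S] (p : ℕ) (hp : p.Prime) (y : S) (h : FinProp R S p) :
    FinProp R (AdjoinRoot (fy p y)) p := by
  classical
  intro s
  let F : Finset S := (s.biUnion (fun g => Finset.univ.image
    (fun i => (AdjoinRoot.powerBasis' (fy_monic p hp y)).basis.repr g i))) ∪ {y}
  obtain ⟨T, hFT, hfin, hfree, m, hm⟩ := h F
  have hyT : y ∈ T := hFT (by simp [F])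
  have hcT : ∀ g ∈ s, ∀ i, (AdjoinRoot.powerBasis' (fy_monic p hp y)).basis.repr g i ∈ T := by
    intro g hg i
    apply hFT
    simp only [F, Finset.coe_union, Finset.coe_biUnion, Finset.coe_image, Finset.coe_univ,
      Set.image_univ, Finset.coe_singleton, Set.mem_union, Set.mem_iUnion, Set.mem_range,
      Set.mem_singleton_iff]
    exact Or.inl ⟨g, hg, i, rfl⟩
  haveI : Nontrivial T := ⟨⟨0, 1, fun h => zero_ne_one (congrArg Subtype.val h)⟩⟩
  have hmapf : (fy p (⟨y, hyT⟩ : T)).map (T.val : T →+* S) = fy p y := by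
    simp [fy, Polynomial.map_sub, Polynomial.map_pow]
  have hdvd : fy p y ∣ (fy p (⟨y, hyT⟩ : T)).map (T.val : T →+* S) := by rw [hmapf]
  let Θ : AdjoinRoot (fy p (⟨y, hyT⟩ : T)) →ₐ[R] AdjoinRoot (fy p y) :=
    AdjoinRoot.mapAlgHom T.val (fy p (⟨y, hyT⟩ : T)) (fy p y) hdvd
  have hΘmk : ∀ P : T[X], Θ (AdjoinRoot.mk _ P) = AdjoinRoot.mk _ (P.map (T.val : T →+* S)) :=
    fun P => map_mk _ _ _ hdvd P
  have hΘof : ∀ t : T, Θ (AdjoinRoot.of _ t) = AdjoinRoot.of _ (t : S) := by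
    intro t
    rw [← AdjoinRoot.mk_C, hΘmk, Polynomial.map_C, AdjoinRoot.mk_C]
    rfl
  have hΘroot : Θ (AdjoinRoot.root _) = AdjoinRoot.root _ := by
    rw [← AdjoinRoot.mk_X, hΘmk, Polynomial.map_X, AdjoinRoot.mk_X]
  have hmonT := fy_monic p hp (⟨y, hyT⟩ : T)
  have hinj : Function.Injective Θ := by
    rw [injective_iff_map_eq_zero]
    intro g hg
    obtain ⟨P, rfl⟩ := AdjoinRoot.mk_surjective g
    have h1 : AdjoinRoot.mk (fy p (⟨y, hyT⟩ : T)) P =
        AdjoinRoot.mk (fy p (⟨y, hyT⟩ : T)) (P %ₘ fy p (⟨y, hyT⟩ : T)) := by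
      rw [AdjoinRoot.mk_eq_mk, modByMonic_eq_sub_mul_div P, sub_sub_cancel]
      exact dvd_mul_right _ _
    rw [h1] at hg ⊢
    rw [hΘmk, AdjoinRoot.mk_eq_zero] at hg
    have hdeg : ((P %ₘ fy p (⟨y, hyT⟩ : T)).map (T.val : T →+* S)).degree < (fy p y).degree := by
      calc ((P %ₘ fy p (⟨y, hyT⟩ : T)).map (T.val : T →+* S)).degree
          ≤ (P %ₘ fy p (⟨y, hyT⟩ : T)).degree := Polynomial.degree_map_le
        _ < (fy p (⟨y, hyT⟩ : T)).degree := degree_modByMonic_lt _ hmonT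
        _ = (fy p y).degree := by
          rw [degree_eq_natDegree hmonT.ne_zero, degree_eq_natDegree (fy_monic p hp y).ne_zero,
            fy_natDegree p hp, fy_natDegree p hp]
    have h2 := Polynomial.eq_zero_of_dvd_of_degree_lt hg hdeg
    have h3 : P %ₘ fy p (⟨y, hyT⟩ : T) = 0 := by
      have hvi : Function.Injective (T.val : T →+* S) := Subtype.val_injective
      exact (Polynomial.map_eq_zero_iff hvi).mp h2
    rw [h3, map_zero]
  refine ⟨Θ.range, ?_, ?_, ?_, m + 1, ?_⟩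
  · intro g hg
    have hg' : g ∈ s := hg
    refine ⟨∑ i, AdjoinRoot.of _ (⟨_, hcT g hg' i⟩ : T) * AdjoinRoot.root _ ^ (i : ℕ), ?_⟩
    conv_rhs => rw [sum_repr' p hp y g]
    simp only [AlgHom.toRingHom_eq_coe, RingHom.coe_coe, map_sum, map_mul, map_pow, hΘof, hΘroot]
  all_goals
    haveI : Module.Finite T (AdjoinRoot (fy p (⟨y, hyT⟩ : T))) := hmonT.finite_adjoinRoot
    haveI : Module.Free T (AdjoinRoot (fy p (⟨y, hyT⟩ : T))) := hmonT.free_adjoinRoot
    haveI : Module.Finite R (AdjoinRoot (fy p (⟨y, hyT⟩ : T))) := Module.Finite.trans T _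
    haveI : Module.Free R (AdjoinRoot (fy p (⟨y, hyT⟩ : T))) := Module.Free.trans (S := T)
  · exact Module.Finite.equiv (AlgEquiv.ofInjective Θ hinj).toLinearEquiv
  · exact Module.Free.of_equiv (AlgEquiv.ofInjective Θ hinj).toLinearEquiv
  · rw [← (AlgEquiv.ofInjective Θ hinj).toLinearEquiv.finrank_eq,
      ← Module.finrank_mul_finrank R T (AdjoinRoot (fy p (⟨y, hyT⟩ : T))), hm,
      (AdjoinRoot.powerBasis' hmonT).finrank, AdjoinRoot.powerBasis'_dim, fy_natDegree p hp,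
      pow_succ]

end Groth.Agent.Lib.Helper10.PerfFin
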