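import Mathlib
import Groth.Agent.Lib.Helper10.PerfStep
import Groth.Agent.Lib.Helper10.PerfFin

/-!
# "Good" algebras over a DVR and their closure properties (helper10)

`GoodAlg R π₀ p S`: in the `R`-algebra `S` every nonzero element is a unit times a power of `π₀`,
`π₀` is not a unit, every element has a `p`-power-th power congruent to an element of `R` mod `π₀`,
and every finite subset lies in a finite free `R`-subalgebra of `p`-power rank.
-/

set_option linter.style.haveILetI false
set_option linter.unusedSectionVars false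

universe u

namespace Groth.Agent.Lib.Helper10.PerfGood

open Polynomial IsLocalRing Groth.Agent.Lib.Helper10.PerfStep Groth.Agent.Lib.Helper10.PerfFin

/-- The property of an `R`-algebra `S`. -/
structure GoodAlg (R : Type*) [CommRing R] (π₀ : R) (p : ℕ) (S : Type*) [CommRing S]
    [Algebra R S] : Prop where
  fac : ∀ x : S, x ≠ 0 → ∃ (n : ℕ) (u : Sˣ), x = u * (algebraMap R S π₀) ^ n
  npi : ¬ IsUnit (algebraMap R S π₀)
  pin : ∀ y : S, ∃ (m : ℕ) (z : R) (t : S),
    algebraMap R S z - y ^ (p ^ m) = algebraMap R S π₀ * t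
  fin : FinProp R S p

section transfer

variable {R : Type*} [CommRing R] {S S' : Type*} [CommRing S] [CommRing S'] [Algebra R S]
  [Algebra R S']

theorem finProp_transfer (q : ℕ) (f : S →ₐ[R] S') (hf : Function.Injective f) (h : FinProp R S q)
    (s' : Finset S') (hs : ∀ x ∈ s', ∃ a, f a = x) :
    ∃ T' : Subalgebra R S', (↑s' : Set S') ⊆ ↑T' ∧ Module.Finite R T' ∧ Module.Free R T' ∧
      ∃ m : ℕ, Module.finrank R T' = q ^ m := by
  classical
  let s : Finset S := s'.attach.image (fun x => Classical.choose (hs x.1 x.2))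
  obtain ⟨T, hsT, hfin, hfree, m, hm⟩ := h s
  refine ⟨T.map f, ?_, ?_, ?_, m, ?_⟩
  · intro x hx
    have hx' : x ∈ s' := hx
    refine ⟨Classical.choose (hs x hx'), hsT ?_, Classical.choose_spec (hs x hx')⟩
    simp only [s, Finset.coe_image, Set.mem_image, Finset.mem_coe, Finset.mem_attach, true_and,
      Subtype.exists]
    exact ⟨x, hx', rfl⟩
  · exact Module.Finite.equiv (Subalgebra.equivMapOfInjective T f hf).toLinearEquiv
  · exact Module.Free.of_equiv (Subalgebra.equivMapOfInjective T f hf).toLinearEquiv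
  · rw [← (Subalgebra.equivMapOfInjective T f hf).toLinearEquiv.finrank_eq, hm]

theorem GoodAlg.of_equiv {π₀ : R} {p : ℕ} (e : S ≃ₐ[R] S') (h : GoodAlg R π₀ p S) :
    GoodAlg R π₀ p S' := by
  have hπ : e (algebraMap R S π₀) = algebraMap R S' π₀ := e.commutes π₀
  refine ⟨?_, ?_, ?_, ?_⟩
  · intro x hx
    have hx' : e.symm x ≠ 0 := fun h0 => hx (by rw [← e.apply_symm_apply x, h0, map_zero])
    obtain ⟨n, u, hu⟩ := h.fac _ hx'
    refine ⟨n, Units.map (e : S →* S') u, ?_⟩
    have := congrArg e hu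
    rw [e.apply_symm_apply, map_mul, map_pow, hπ] at this
    exact this
  · intro hu
    apply h.npi
    have := hu.map e.symm
    rwa [← hπ, e.symm_apply_apply] at this
  · intro y
    obtain ⟨m, z, t, ht⟩ := h.pin (e.symm y)
    refine ⟨m, z, e t, ?_⟩
    have := congrArg e ht
    rw [map_sub, map_pow, e.apply_symm_apply, e.commutes, map_mul, hπ] at this
    exact this
  · intro s'
    exact finProp_transfer p e.toAlgHom e.injective h.fin s' (fun x _ => ⟨e.symm x, e.apply_symm_apply x⟩)

end transfer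

section basic

variable {R : Type*} [CommRing R] {π₀ : R} {p : ℕ} {S : Type*} [CommRing S] [IsDomain S]
  [Algebra R S] (h : GoodAlg R π₀ p S) (hπ0 : algebraMap R S π₀ ≠ 0)

include h

theorem GoodAlg.isLocalRing : IsLocalRing S := by
  apply IsLocalRing.of_isUnit_or_isUnit_one_sub_self
  intro a
  by_cases ha : a = 0
  · right; rw [ha, sub_zero]; exact isUnit_one
  obtain ⟨n, u, hu⟩ := h.fac a ha
  rcases Nat.eq_zero_or_pos n with hn | hn
  · left; rw [hu, hn, pow_zero, mul_one]; exact u.isUnit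
  right
  by_cases h1 : 1 - a = 0
  · exfalso
    apply h.npi
    have h2 : a = 1 := (sub_eq_zero.mp h1).symm
    have h3 : algebraMap R S π₀ * ((u : S) * algebraMap R S π₀ ^ (n - 1)) = 1 := by
      rw [← h2, hu]
      obtain ⟨k, rfl⟩ : ∃ k, n = k + 1 := ⟨n - 1, by omega⟩
      rw [Nat.add_sub_cancel, pow_succ]; ring
    exact IsUnit.of_mul_eq_one _ h3
  obtain ⟨k, v, hv⟩ := h.fac (1 - a) h1
  rcases Nat.eq_zero_or_pos k with hk | hk
  · rw [hv, hk, pow_zero, mul_one]; exact v.isUnit
  exfalso
  apply h.npi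
  obtain ⟨n', rfl⟩ : ∃ n', n = n' + 1 := ⟨n - 1, by omega⟩
  obtain ⟨k', rfl⟩ : ∃ k', k = k' + 1 := ⟨k - 1, by omega⟩
  have h3 : algebraMap R S π₀ * ((u : S) * algebraMap R S π₀ ^ n' +
      (v : S) * algebraMap R S π₀ ^ k') = 1 := by
    rw [pow_succ] at hu hv
    linear_combination (-1 : S) * hu - hv
  exact IsUnit.of_mul_eq_one _ h3

theorem GoodAlg.maximalIdeal_eq [IsLocalRing S] :
    maximalIdeal S = Ideal.span {algebraMap R S π₀} := by
  ext x
  rw [mem_maximalIdeal, mem_nonunits_iff, Ideal.mem_span_singleton]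
  constructor
  · intro hx
    by_cases hx0 : x = 0
    · rw [hx0]; exact dvd_zero _
    obtain ⟨n, u, hu⟩ := h.fac x hx0
    rcases Nat.eq_zero_or_pos n with hn | hn
    · exfalso; apply hx; rw [hu, hn, pow_zero, mul_one]; exact u.isUnit
    · obtain ⟨n', rfl⟩ : ∃ n', n = n' + 1 := ⟨n - 1, by omega⟩
      exact ⟨(u : S) * algebraMap R S π₀ ^ n', by rw [hu, pow_succ]; ring⟩
  · rintro ⟨c, rfl⟩ hu
    exact h.npi (isUnit_of_mul_isUnit_left hu)

include hπ0 in
theorem GoodAlg.isDiscreteValuationRing : IsDiscreteValuationRing S := by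
  haveI := h.isLocalRing
  have hmax := h.maximalIdeal_eq
  apply IsDiscreteValuationRing.ofHasUnitMulPowIrreducibleFactorization
  refine ⟨algebraMap R S π₀, ?_, ?_⟩
  · have hprime : (Ideal.span {algebraMap R S π₀}).IsPrime := by
      rw [← hmax]; exact (maximalIdeal.isMaximal S).isPrime
    exact ((Ideal.span_singleton_prime hπ0).mp hprime).irreducible
  · intro x hx
    obtain ⟨n, u, hu⟩ := h.fac x hx
    exact ⟨n, u, by rw [hu]; ring⟩

end basic

end Groth.Agent.Lib.Helper10.PerfGood
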