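import Mathlib
import Groth.Agent.Lib.Helper10.PerfGood

/-!
# Maximal good subalgebras of an algebraic closure (helper10)
-/

set_option linter.style.haveILetI false
set_option linter.unusedSectionVars false

universe u

namespace Groth.Agent.Lib.Helper10.PerfZorn

open Polynomial IsLocalRing Groth.Agent.Lib.Helper10.PerfStep Groth.Agent.Lib.Helper10.PerfFin
  Groth.Agent.Lib.Helper10.PerfGood

theorem GoodAlg.step {R : Type*} [CommRing R] [Nontrivial R] {π₀ : R} {p : ℕ} (hp : p.Prime)
    {S : Type*} [CommRing S] [IsDomain S] [Algebra R S]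
    (h : GoodAlg R π₀ p S) (hπ0 : algebraMap R S π₀ ≠ 0)
    (hpS : (p : S) ∈ Ideal.span {algebraMap R S π₀})
    (y : S) (hy : ∀ r : S, y - r ^ p ∉ Ideal.span {algebraMap R S π₀}) :
    GoodAlg R π₀ p (AdjoinRoot (fy p y)) := by
  haveI := h.isLocalRing
  have hmax := h.maximalIdeal_eq
  have hπ : algebraMap R (AdjoinRoot (fy p y)) π₀ = AdjoinRoot.of (fy p y) (algebraMap R S π₀) := rfl
  refine ⟨?_, ?_, ?_, finProp_step p hp y h.fin⟩
  · intro g hg
    rw [hπ]
    exact fac' _ hmax h.fac p hp y hy hπ0 g hg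
  · rw [hπ]
    exact not_isUnit_of_pi _ hmax p hp y hy
  · intro g
    obtain ⟨z, t, ht⟩ := pth _ hmax p hp hpS y hy g
    obtain ⟨m, r, t', ht'⟩ := h.pin z
    obtain ⟨c, hc⟩ := sub_dvd_pow_sub_pow (AdjoinRoot.of (fy p y) z) (g ^ p) (p ^ m)
    refine ⟨m + 1, r, AdjoinRoot.of (fy p y) t' + t * c, ?_⟩
    have h1 : algebraMap R (AdjoinRoot (fy p y)) r = AdjoinRoot.of (fy p y) (algebraMap R S r) := rfl
    have h2 := congrArg (AdjoinRoot.of (fy p y)) ht'
    rw [map_sub, map_pow, map_mul] at h2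
    rw [hπ, h1, pow_succ, mul_comm (p ^ m) p, pow_mul]
    rw [ht] at hc
    linear_combination h2 + hc

theorem GoodAlg.self (R : Type*) [CommRing R] [IsDomain R] [IsDiscreteValuationRing R] (π₀ : R)
    (hπ₀ : Irreducible π₀) (p : ℕ) : GoodAlg R π₀ p R := by
  refine ⟨?_, ?_, ?_, ?_⟩
  · intro x hx
    obtain ⟨n, u, hu⟩ := IsDiscreteValuationRing.eq_unit_mul_pow_irreducible hx hπ₀
    exact ⟨n, u, hu⟩
  · exact hπ₀.not_isUnit
  · intro y
    exact ⟨0, y, 0, by simp⟩
  · intro s
    refine ⟨⊤, fun x _ => Algebra.mem_top, ?_, ?_, 0, ?_⟩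
    · exact Module.Finite.equiv (Subalgebra.topEquiv (R := R) (A := R)).symm.toLinearEquiv
    · exact Module.Free.of_equiv (Subalgebra.topEquiv (R := R) (A := R)).symm.toLinearEquiv
    · rw [(Subalgebra.topEquiv (R := R) (A := R)).toLinearEquiv.finrank_eq, Module.finrank_self,
        pow_zero]

section Zorn

variable (R : Type u) [CommRing R] [IsDomain R] [IsDiscreteValuationRing R] (π₀ : R)
  (hπ₀ : Irreducible π₀) (p : ℕ)

theorem algebraMap_injective :
    Function.Injective (algebraMap R (AlgebraicClosure (FractionRing R))) := by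
  rw [IsScalarTower.algebraMap_eq R (FractionRing R) (AlgebraicClosure (FractionRing R))]
  exact (algebraMap (FractionRing R) _).injective.comp (IsFractionRing.injective R _)

/-- The set of good subalgebras. -/
def goodSet : Set (Subalgebra R (AlgebraicClosure (FractionRing R))) :=
  {S | GoodAlg R π₀ p S}

include hπ₀ in
theorem bot_mem : (⊥ : Subalgebra R (AlgebraicClosure (FractionRing R))) ∈ goodSet R π₀ p :=
  (GoodAlg.self R π₀ hπ₀ p).of_equiv (Algebra.botEquivOfInjective (algebraMap_injective R)).symm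

theorem iSup_mem {ι : Type*} [Nonempty ι]
    (K : ι → Subalgebra R (AlgebraicClosure (FractionRing R)))
    (hdir : Directed (· ≤ ·) K) (hK : ∀ i, K i ∈ goodSet R π₀ p) :
    iSup K ∈ goodSet R π₀ p := by
  classical
  have hU : ((iSup K : Subalgebra R _) : Set (AlgebraicClosure (FractionRing R))) =
      ⋃ i, (K i : Set _) := Subalgebra.coe_iSup_of_directed hdir
  have hmem : ∀ x : AlgebraicClosure (FractionRing R), x ∈ iSup K ↔ ∃ i, x ∈ K i := by
    intro x
    rw [← SetLike.mem_coe, hU, Set.mem_iUnion]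
    rfl
  have hinclπ : ∀ i, Subalgebra.inclusion (le_iSup K i) (algebraMap R (K i) π₀) =
      algebraMap R (iSup K : Subalgebra R _) π₀ := fun i => rfl
  have hfinset : ∀ s : Finset (AlgebraicClosure (FractionRing R)),
      (∀ x ∈ s, x ∈ iSup K) → ∃ i, ∀ x ∈ s, x ∈ K i := by
    intro s
    induction s using Finset.induction_on with
    | empty => intro _; exact ⟨Classical.arbitrary ι, fun x hx => absurd hx (Finset.notMem_empty x)⟩
    | insert a s _ ih =>
      intro hs
      obtain ⟨i, hi⟩ := ih (fun x hx => hs x (Finset.mem_insert_of_mem hx))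
      obtain ⟨j, hj⟩ := (hmem a).mp (hs a (Finset.mem_insert_self a s))
      obtain ⟨k, hik, hjk⟩ := hdir i j
      refine ⟨k, fun x hx => ?_⟩
      rcases Finset.mem_insert.mp hx with rfl | hx
      · exact hjk hj
      · exact hik (hi x hx)
  refine ⟨?_, ?_, ?_, ?_⟩
  · intro x hx
    obtain ⟨i, hi⟩ := (hmem x.1).mp x.2
    have hxi : (⟨x.1, hi⟩ : K i) ≠ 0 := by
      intro h0
      apply hx
      have e : ((⟨x.1, hi⟩ : K i) : AlgebraicClosure (FractionRing R)) = ((0 : K i) : _) :=
        congrArg Subtype.val h0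
      exact Subtype.ext e
    obtain ⟨n, u, hu⟩ := (hK i).fac _ hxi
    refine ⟨n, Units.map (Subalgebra.inclusion (le_iSup K i) : K i →* _) u, ?_⟩
    have := congrArg (Subalgebra.inclusion (le_iSup K i)) hu
    rw [map_mul, map_pow, hinclπ] at this
    exact this
  · intro hu
    obtain ⟨v, hv⟩ := hu.exists_right_inv
    obtain ⟨i, hi⟩ := (hmem v.1).mp v.2
    apply (hK i).npi
    have e : ((algebraMap R (iSup K : Subalgebra R _) π₀ * v : (iSup K : Subalgebra R _)) :
        AlgebraicClosure (FractionRing R)) = ((1 : (iSup K : Subalgebra R _)) : _) :=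
      congrArg Subtype.val hv
    exact IsUnit.of_mul_eq_one (⟨v.1, hi⟩ : K i) (Subtype.ext e)
  · intro y
    obtain ⟨i, hi⟩ := (hmem y.1).mp y.2
    obtain ⟨m, z, t, ht⟩ := (hK i).pin ⟨y.1, hi⟩
    refine ⟨m, z, Subalgebra.inclusion (le_iSup K i) t, ?_⟩
    have := congrArg (Subalgebra.inclusion (le_iSup K i)) ht
    rw [map_sub, map_pow, map_mul, hinclπ] at this
    exact this
  · intro s
    obtain ⟨i, hi⟩ := hfinset (s.image Subtype.val) (fun x hx => by
      obtain ⟨a, _, rfl⟩ := Finset.mem_image.mp hx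
      exact a.2)
    exact finProp_transfer p (Subalgebra.inclusion (le_iSup K i))
      (Subalgebra.inclusion_injective _) (hK i).fin s
      (fun x hx => ⟨⟨x.1, hi x.1 (Finset.mem_image_of_mem _ hx)⟩, Subtype.ext rfl⟩)

include hπ₀ in
theorem exists_maximal :
    ∃ S : Subalgebra R (AlgebraicClosure (FractionRing R)), Maximal (· ∈ goodSet R π₀ p) S := by
  have key : ∀ c ⊆ goodSet R π₀ p, IsChain (· ≤ ·) c → ∀ y ∈ c,
      ∃ ub ∈ goodSet R π₀ p, ∀ z ∈ c, z ≤ ub := by
    intro c hc hchain y hy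
    haveI : Nonempty c := ⟨⟨y, hy⟩⟩
    let K : c → Subalgebra R (AlgebraicClosure (FractionRing R)) := fun i => i.1
    refine ⟨iSup K, ?_, fun z hz => ?_⟩
    · apply iSup_mem
      · exact hchain.directedOn.directed_val
      · exact fun i => hc i.2
    · exact le_iSup K ⟨z, hz⟩
  obtain ⟨S, -, hS⟩ := zorn_le_nonempty₀ (goodSet R π₀ p) key ⊥ (bot_mem R π₀ hπ₀ p)
  exact ⟨S, hS⟩

end Zorn

end Groth.Agent.Lib.Helper10.PerfZorn
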