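import Mathlib
import Groth.Agent.Lib.Helper10.PerfZorn
import Groth.Agent.Lib.Helper37.Hz30

/-!
# A henselian DVR has a weakly unramified henselian DVR extension with perfect-closure residue
field (helper10)
-/

set_option linter.style.haveILetI false
set_option linter.unusedSectionVars false

universe u

namespace Groth.Agent.Lib.Helper10.PerfMain

open Polynomial IsLocalRing Groth.Agent.Lib.Helper10.PerfStep Groth.Agent.Lib.Helper10.PerfFin
  Groth.Agent.Lib.Helper10.PerfGood Groth.Agent.Lib.Helper10.PerfZorn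

variable (R : Type u) [CommRing R] [IsDomain R] [IsDiscreteValuationRing R] (π₀ : R)
  (hπ₀ : Irreducible π₀) (p : ℕ)

include hπ₀ in
theorem pi_ne_zero (S : Subalgebra R (AlgebraicClosure (FractionRing R))) :
    algebraMap R S π₀ ≠ 0 := by
  intro h0
  have h1 : algebraMap R (AlgebraicClosure (FractionRing R)) π₀ = 0 := congrArg Subtype.val h0
  exact hπ₀.ne_zero (algebraMap_injective R (by rw [h1, map_zero]))

include hπ₀ in
theorem perfect_of_maximal (hp : p.Prime) (S : Subalgebra R (AlgebraicClosure (FractionRing R)))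
    (hS : Maximal (· ∈ goodSet R π₀ p) S)
    (hpS : (p : S) ∈ Ideal.span {algebraMap R S π₀}) (y : S) :
    ∃ r : S, y - r ^ p ∈ Ideal.span {algebraMap R S π₀} := by
  by_contra hcon
  push Not at hcon
  have hgood : GoodAlg R π₀ p S := hS.prop
  have hπ0 := pi_ne_zero R π₀ hπ₀ S
  have hstep := GoodAlg.step hp hgood hπ0 hpS y hcon
  obtain ⟨w, hw⟩ := IsAlgClosed.exists_pow_nat_eq (y : AlgebraicClosure (FractionRing R)) hp.pos
  have hev : (fy p y).eval₂ (S.val : S →+* AlgebraicClosure (FractionRing R)) w = 0 := by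
    simp [fy, eval₂_sub, eval₂_pow, hw]
  let φ : AdjoinRoot (fy p y) →ₐ[R] AlgebraicClosure (FractionRing R) :=
    AdjoinRoot.liftAlgHom (fy p y) S.val w hev
  have hφof : ∀ s : S, φ (AdjoinRoot.of (fy p y) s) = (s : AlgebraicClosure (FractionRing R)) :=
    fun s => AdjoinRoot.liftAlgHom_of _ _ _ _ s
  have hφroot : φ (AdjoinRoot.root (fy p y)) = w := AdjoinRoot.liftAlgHom_root _ _ _ _
  have hinj : Function.Injective φ := by
    rw [injective_iff_map_eq_zero]
    intro g hg
    by_contra hg0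
    obtain ⟨n, u, hu⟩ := hstep.fac g hg0
    rw [hu, map_mul, map_pow, φ.commutes] at hg
    rcases mul_eq_zero.mp hg with h1 | h1
    · exact (u.isUnit.map φ).ne_zero h1
    · have h2 := eq_zero_of_pow_eq_zero h1
      exact hπ₀.ne_zero (algebraMap_injective R (by rw [h2, map_zero]))
  have hS' : φ.range ∈ goodSet R π₀ p := hstep.of_equiv (AlgEquiv.ofInjective φ hinj)
  have hle : S ≤ φ.range := fun x hx => ⟨AdjoinRoot.of (fy p y) ⟨x, hx⟩, hφof ⟨x, hx⟩⟩
  have hle' : φ.range ≤ S := hS.2 hS' hle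
  have hwS : w ∈ S := hle' ⟨AdjoinRoot.root (fy p y), hφroot⟩
  apply hcon ⟨w, hwS⟩
  have : y - (⟨w, hwS⟩ : S) ^ p = 0 := by
    apply Subtype.ext
    push_cast
    rw [hw, sub_self]
  rw [this]
  exact Ideal.zero_mem _

theorem main [HenselianLocalRing R] :
    ∃ (R' : Type u) (_ : CommRing R') (_ : IsDomain R') (_ : IsDiscreteValuationRing R')
      (_ : HenselianLocalRing R') (_ : Algebra R R'),
      Function.Injective (algebraMap R R') ∧
      Ideal.map (algebraMap R R') (IsLocalRing.maximalIdeal R) = IsLocalRing.maximalIdeal R' ∧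
      (∀ s : Finset R', ∃ S : Subalgebra R R', (↑s : Set R') ⊆ ↑S ∧ Module.Finite R S ∧
        Module.Free R S ∧
        ∃ m : ℕ, Module.finrank R S = ringExpChar (IsLocalRing.ResidueField R) ^ m) ∧
      (∀ y : R', ∃ z : R',
        z ^ ringExpChar (IsLocalRing.ResidueField R) - y ∈ IsLocalRing.maximalIdeal R') ∧
      (∀ y : R', ∃ (m : ℕ) (z : R),
        algebraMap R R' z - y ^ (ringExpChar (IsLocalRing.ResidueField R) ^ m) ∈
          IsLocalRing.maximalIdeal R') := by
  classical
  obtain ⟨π₀, hπ₀⟩ := IsDiscreteValuationRing.exists_irreducible R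
  obtain ⟨q, hq⟩ := ExpChar.exists (ResidueField R)
  rw [ringExpChar.eq (ResidueField R) q]
  obtain ⟨S, hS⟩ := exists_maximal R π₀ hπ₀ q
  have hgood : GoodAlg R π₀ q S := hS.prop
  have hπ0 := pi_ne_zero R π₀ hπ₀ S
  haveI dvr : IsDiscreteValuationRing S := hgood.isDiscreteValuationRing hπ0
  haveI : Algebra.IsIntegral R S := by
    refine ⟨fun x => ?_⟩
    obtain ⟨T, hxT, hfin, -, -⟩ := hgood.fin {x}
    have hx : x ∈ T := hxT (by simp)
    have h1 : IsIntegral R (⟨x, hx⟩ : T) := IsIntegral.of_finite R _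
    exact h1.map T.val
  haveI hens : HenselianLocalRing S :=
    Groth.Agent.Lib.Helper37.Hz.henselianLocalRing_of_isIntegral R S
  have hmax : maximalIdeal S = Ideal.span {algebraMap R S π₀} := hgood.maximalIdeal_eq
  refine ⟨S, inferInstance, inferInstance, dvr, hens, inferInstance, ?_, ?_, hgood.fin, ?_, ?_⟩
  · intro a b hab
    exact algebraMap_injective R (congrArg Subtype.val hab)
  · rw [hπ₀.maximalIdeal_eq, Ideal.map_span, Set.image_singleton, hmax]
  · intro y
    rcases hq with _ | ⟨hprime⟩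
    · exact ⟨y, by rw [pow_one, sub_self]; exact Ideal.zero_mem _⟩
    · have hpR : ((q : ℕ) : R) ∈ maximalIdeal R := by
        rw [← residue_eq_zero_iff, map_natCast]
        exact CharP.cast_eq_zero _ q
      have hpS : ((q : ℕ) : S) ∈ Ideal.span {algebraMap R S π₀} := by
        rw [hπ₀.maximalIdeal_eq, Ideal.mem_span_singleton] at hpR
        obtain ⟨c, hc⟩ := hpR
        rw [Ideal.mem_span_singleton]
        refine ⟨algebraMap R S c, ?_⟩
        rw [← map_mul, ← hc, map_natCast]
      obtain ⟨r, hr⟩ := perfect_of_maximal R π₀ hπ₀ q hprime S hS hpS y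
      refine ⟨r, ?_⟩
      rw [hmax]
      have : r ^ q - y = -(y - r ^ q) := by ring
      rw [this]
      exact neg_mem hr
  · intro y
    obtain ⟨m, z, t, ht⟩ := hgood.pin y
    refine ⟨m, z, ?_⟩
    rw [hmax, ht]
    exact Ideal.mul_mem_right _ _ (Ideal.mem_span_singleton_self _)

end Groth.Agent.Lib.Helper10.PerfMain
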