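import Mathlib
import Groth.Prelude.Def_EtRam
import Groth.Agent.Lib.Helper10.FinEtDVR

/-!
# Finite étale covers of proper schemes are unramified along DVRs of residue fields (helper10)
-/

set_option autoImplicit false
set_option linter.style.haveILetI false
set_option linter.unusedSectionVars false
universe u

namespace Groth.Agent.Lib.Helper10.ProperTame

open AlgebraicGeometry CategoryTheory CategoryTheory.Limits IsLocalRing EtRam

/-- Step 1: the lift given by the valuative criterion. -/
theorem exists_lift {X S : Scheme.{u}} (s : X ⟶ S) [IsProper s] (x : X)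
    (A : ValuationSubring (X.residueField x))
    (a : Spec (CommRingCat.of A) ⟶ S)
    (ha : Spec.map (CommRingCat.ofHom A.subtype) ≫ a = X.fromSpecResidueField x ≫ s) :
    ∃ ℓ : Spec (CommRingCat.of A) ⟶ X,
      Spec.map (CommRingCat.ofHom A.subtype) ≫ ℓ = X.fromSpecResidueField x ∧ ℓ ≫ s = a := by
  have hex : ValuativeCriterion.Existence s := by
    have h : UniversallyClosed s := inferInstance
    rw [UniversallyClosed.eq_valuativeCriterion] at h
    exact h.1
  let Sq : ValuativeCommSq s :=
    { R := A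
      K := X.residueField x
      i₁ := X.fromSpecResidueField x
      i₂ := a
      commSq := ⟨ha.symm⟩ }
  obtain ⟨⟨l⟩⟩ := hex Sq
  exact ⟨l.l, l.fac_left, l.fac_right⟩

/-- Step 2: the finite étale algebra over `A` and its point. -/
theorem exists_algebra {X Y : Scheme.{u}} (f : Y ⟶ X) [IsFinite f] [Etale f] (y : Y)
    (A : ValuationSubring (X.residueField (f.base y)))
    (ℓ : Spec (CommRingCat.of A) ⟶ X)
    (hℓ : Spec.map (CommRingCat.ofHom A.subtype) ≫ ℓ = X.fromSpecResidueField (f.base y)) :
    ∃ (C : Type u) (_ : CommRing C) (_ : Algebra A C) (_ : Algebra.Etale A C)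
      (_ : Module.Finite A C) (φ : C →+* Y.residueField y),
      φ.comp (algebraMap A C) = (f.residueFieldMap y).hom.comp A.subtype ∧
      ∀ z : Y.residueField y, ∃ c d : C, φ d ≠ 0 ∧ z * φ d = φ c := by
  -- the pullback
  let P : Scheme.{u} := pullback f ℓ
  let pr₂ : P ⟶ Spec (CommRingCat.of A) := pullback.snd f ℓ
  haveI : IsAffine P := isAffine_of_isAffineHom pr₂
  let e : P ≅ Spec Γ(P, ⊤) := P.isoSpec
  let q : Spec Γ(P, ⊤) ⟶ Spec (CommRingCat.of A) := e.inv ≫ pr₂
  haveI : IsFinite q := inferInstance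
  haveI : Etale q := inferInstance
  let ρ' : CommRingCat.of A ⟶ Γ(P, ⊤) := Spec.preimage q
  have hρ' : Spec.map ρ' = q := Spec.map_preimage q
  have hfin : ρ'.hom.Finite := by
    rw [← IsFinite.SpecMap_iff, hρ']; infer_instance
  have het : ρ'.hom.Etale := by
    rw [← HasRingHomProperty.Spec_iff (P := @Etale), hρ']; infer_instance
  -- the point
  have hcomm : Y.fromSpecResidueField y ≫ f =
      (Spec.map (f.residueFieldMap y) ≫ Spec.map (CommRingCat.ofHom A.subtype)) ≫ ℓ := by
    refine Eq.trans ?_ (Category.assoc _ _ _).symm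
    refine Eq.trans ?_ (congrArg (fun t => Spec.map (f.residueFieldMap y) ≫ t) hℓ.symm)
    exact (Scheme.Hom.SpecMap_residueFieldMap_fromSpecResidueField f y).symm
  let j : Spec (Y.residueField y) ⟶ P :=
    pullback.lift (Y.fromSpecResidueField y)
      (Spec.map (f.residueFieldMap y) ≫ Spec.map (CommRingCat.ofHom A.subtype)) hcomm
  have hj1 : j ≫ pullback.fst f ℓ = Y.fromSpecResidueField y := pullback.lift_fst _ _ _
  have hj2 : j ≫ pr₂ = Spec.map (f.residueFieldMap y) ≫ Spec.map (CommRingCat.ofHom A.subtype) :=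
    pullback.lift_snd _ _ _
  haveI : IsPreimmersion (j ≫ pullback.fst f ℓ) := by rw [hj1]; infer_instance
  haveI hjpre : IsPreimmersion j :=
    { isEmbedding := by
        have h := (j ≫ pullback.fst f ℓ).isEmbedding
        exact Topology.IsEmbedding.of_comp j.continuous (pullback.fst f ℓ).continuous h
      stalkMap_surjective := fun x => by
        have h := (j ≫ pullback.fst f ℓ).stalkMap_surjective x
        rw [Scheme.Hom.stalkMap_comp] at h
        exact Function.Surjective.of_comp h }
  let j' : Spec (Y.residueField y) ⟶ Spec Γ(P, ⊤) := j ≫ e.hom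
  haveI : IsPreimmersion j' := inferInstance
  let φ' : Γ(P, ⊤) ⟶ Y.residueField y := Spec.preimage j'
  have hφ' : Spec.map φ' = j' := Spec.map_preimage j'
  have hcomp : ρ' ≫ φ' = CommRingCat.ofHom A.subtype ≫ f.residueFieldMap y := by
    apply Spec.map_injective
    rw [Spec.map_comp, Spec.map_comp, hφ', hρ']
    show (j ≫ e.hom) ≫ e.inv ≫ pr₂ = _
    rw [Category.assoc, Iso.hom_inv_id_assoc]
    exact hj2
  have hsos : φ'.hom.SurjectiveOnStalks := by
    have h : IsPreimmersion (Spec.map φ') := by rw [hφ']; infer_instance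
    exact ((IsPreimmersion.SpecMap_iff φ').mp h).2
  letI algAC : Algebra A Γ(P, ⊤) := ρ'.hom.toAlgebra
  refine ⟨Γ(P, ⊤), inferInstance, algAC, het, hfin, φ'.hom, ?_, ?_⟩
  · have := congrArg CommRingCat.Hom.hom hcomp
    exact this
  · intro z
    have h1 := (RingHom.surjective_localRingHom_iff (f := φ'.hom) (⊥ : Ideal (Y.residueField y))).mp
      (hsos ⊥ inferInstance) z
    obtain ⟨x, r, c, hc, hr, hcr⟩ := h1
    have hc0 : c ≠ 0 := fun h => hc (by rw [h]; exact Ideal.zero_mem _)
    have hr0 : φ'.hom r ≠ 0 := fun h => hr (by rw [h]; exact Ideal.zero_mem _)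
    refine ⟨x, r, hr0, ?_⟩
    have h2 : c * (z * φ'.hom r) = c * φ'.hom x := by
      rw [← hcr]; ring
    exact mul_left_cancel₀ hc0 h2

end Groth.Agent.Lib.Helper10.ProperTame
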