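import Mathlib
import Groth.Prelude.Def_EtRam
import Groth.Agent.Lib.Helper10.RamTower
import Groth.Agent.Lib.Helper10.GeomRedLib

/-!
# Composition of the local-extension conditions along `K₁ → M → M'` (helper10)
-/

set_option autoImplicit false
set_option linter.style.haveILetI false
set_option linter.unusedSectionVars false
universe u

namespace Groth.Agent.Lib.Helper10.SolCompose

open IsLocalRing EtRam Groth.Agent.Lib.Helper10.RamTower

section

variable {K₁ M M' : Type u} [Field K₁] [Field M] [Field M'] (j : M →+* M') (f : K₁ →+* M)
  (W' : ValuationSubring M')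

theorem weaklyUnramified_comp
    (h1 : letI : Algebra ((W'.comap j).comap f) (W'.comap j) := (inclOfComap (W'.comap j) f).toAlgebra
      IsWeaklyUnramified ((W'.comap j).comap f) (W'.comap j))
    (h2 : letI : Algebra (W'.comap j) W' := (inclOfComap W' j).toAlgebra
      IsWeaklyUnramified (W'.comap j) W') :
    letI : Algebra (W'.comap (j.comp f)) W' := (inclOfComap W' (j.comp f)).toAlgebra
    IsWeaklyUnramified (W'.comap (j.comp f)) W' := by
  have h1' : (maximalIdeal ((W'.comap j).comap f)).map (inclOfComap (W'.comap j) f) =
      maximalIdeal (W'.comap j) := h1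
  have h2' : (maximalIdeal (W'.comap j)).map (inclOfComap W' j) = maximalIdeal W' := h2
  show (maximalIdeal ((W'.comap j).comap f)).map
    ((inclOfComap W' j).comp (inclOfComap (W'.comap j) f)) = maximalIdeal W'
  rw [← Ideal.map_map, h1', h2']

theorem geomReduced_comp
    (h1 : @Algebra.IsGeometricallyReduced (ResidueField ((W'.comap j).comap f))
      (ResidueField (W'.comap j)) _ _ (ResidueField.map (inclOfComap (W'.comap j) f)).toAlgebra)
    (h2 : @Algebra.IsGeometricallyReduced (ResidueField (W'.comap j)) (ResidueField W') _ _
      (ResidueField.map (inclOfComap W' j)).toAlgebra) :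
    @Algebra.IsGeometricallyReduced (ResidueField (W'.comap (j.comp f))) (ResidueField W') _ _
      (ResidueField.map (inclOfComap W' (j.comp f))).toAlgebra := by
  letI alg12 : Algebra (ResidueField ((W'.comap j).comap f)) (ResidueField (W'.comap j)) :=
    (ResidueField.map (inclOfComap (W'.comap j) f)).toAlgebra
  letI alg23 : Algebra (ResidueField (W'.comap j)) (ResidueField W') :=
    (ResidueField.map (inclOfComap W' j)).toAlgebra
  letI alg13 : Algebra (ResidueField ((W'.comap j).comap f)) (ResidueField W') :=
    (ResidueField.map (inclOfComap W' (j.comp f))).toAlgebra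
  haveI : IsScalarTower (ResidueField ((W'.comap j).comap f)) (ResidueField (W'.comap j))
      (ResidueField W') := by
    apply IsScalarTower.of_algebraMap_eq
    intro x
    obtain ⟨x, rfl⟩ := residue_surjective x
    rfl
  haveI := h1
  haveI := h2
  exact GeomRedLib.geomReduced_trans (ResidueField ((W'.comap j).comap f))
    (ResidueField (W'.comap j)) (ResidueField W')

end

end Groth.Agent.Lib.Helper10.SolCompose
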