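import Mathlib
import Groth.Agent.Lib.Helper10.SolCore3
import Groth.Agent.Lib.Helper10.RamIdx

/-!
# Dual Abhyankar lemma (helper10)

`A → V` a tame extension of DVRs with finite separable residue extension, `A → B` any extension of
DVRs whose ramification index is divisible by that of `V`; `W` a DVR receiving `B` and `V`
compatibly and "generated" by them.  Then `B → W` is weakly unramified with separable residue
field extension.
-/

set_option linter.unusedSectionVars false
set_option linter.style.haveILetI false

universe u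

namespace Groth.Agent.Lib.Helper10.TameUnram

open IsLocalRing TensorProduct Groth.Agent.Lib.Helper10.VNRGen Groth.Agent.Lib.Helper10.SolCore3
  Groth.Agent.Lib.Helper10.RamIdx

variable {A V B W : Type u} [CommRing A] [IsDomain A] [IsDiscreteValuationRing A]
  [CommRing V] [IsDomain V] [IsDiscreteValuationRing V]
  [CommRing B] [IsDomain B] [IsDiscreteValuationRing B]
  [CommRing W] [IsDomain W] [IsDiscreteValuationRing W]
  [Algebra A V] [IsLocalHom (algebraMap A V)] [Algebra A B] [IsLocalHom (algebraMap A B)]
  [Module.Finite (ResidueField A) (ResidueField V)]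
  [Algebra.IsSeparable (ResidueField A) (ResidueField V)]

theorem unramified_of_tame (hAV : Function.Injective (algebraMap A V))
    (hAB : Function.Injective (algebraMap A B))
    (β : B →+* W) (ν : V →+* W) [IsLocalHom β] [IsLocalHom ν]
    (hβ : Function.Injective β) (hν : Function.Injective ν)
    (hcomp : ∀ a, β (algebraMap A B a) = ν (algebraMap A V a))
    (hek : ((Ideal.ramificationIdx' (maximalIdeal A) (maximalIdeal V) : ℕ) : ResidueField A) ≠ 0)
    (hdvd : Ideal.ramificationIdx' (maximalIdeal A) (maximalIdeal V) ∣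
      Ideal.ramificationIdx' (maximalIdeal A) (maximalIdeal B))
    (hfrac : ∀ w : W, ∃ c₁ ∈ Subring.closure (Set.range β ∪ Set.range ν),
      ∃ c₂ ∈ Subring.closure (Set.range β ∪ Set.range ν), c₂ ≠ 0 ∧ w * c₂ = c₁) :
    (maximalIdeal B).map β = maximalIdeal W ∧
      @Algebra.IsSeparable (ResidueField B) (ResidueField W) _ _
        (ResidueField.map β).toAlgebra := by
  classical
  obtain ⟨πA, hπA⟩ := IsDiscreteValuationRing.exists_irreducible A
  obtain ⟨πV, hπV⟩ := IsDiscreteValuationRing.exists_irreducible V
  obtain ⟨πB, hπB⟩ := IsDiscreteValuationRing.exists_irreducible B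
  have hπVm : maximalIdeal V = Ideal.span {πV} := hπV.maximalIdeal_eq
  have hπBm : maximalIdeal B = Ideal.span {πB} := hπB.maximalIdeal_eq
  obtain ⟨uV, huV, hepos⟩ := exists_unit_mul_pow_ramificationIdx hAV hπA hπV
  obtain ⟨uB, huB, he₁pos⟩ := exists_unit_mul_pow_ramificationIdx hAB hπA hπB
  set e := Ideal.ramificationIdx' (maximalIdeal A) (maximalIdeal V) with he
  set e₁ := Ideal.ramificationIdx' (maximalIdeal A) (maximalIdeal B) with he₁
  obtain ⟨d, hd⟩ : e ∣ e₁ := hdvd
  have hdpos : 0 < d := by
    rcases Nat.eq_zero_or_pos d with h0 | h0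
    · rw [h0, mul_zero] at hd; omega
    · exact h0
  have hrel : ν (uV : V) * ν πV ^ e = β (uB : B) * (β πB ^ d) ^ e := by
    rw [← pow_mul, mul_comm d e, ← hd, ← map_pow, ← map_mul, ← map_pow, ← map_mul, ← huB, ← huV]
    exact (hcomp πA).symm
  have hy0 : β πB ^ d ≠ 0 := by
    apply pow_ne_zero
    intro h0
    exact hπB.ne_zero (hβ (by rw [h0, map_zero]))
  have hx0 : ν πV ≠ 0 := fun h0 => hπV.ne_zero (hν (by rw [h0, map_zero]))
  have hβu : IsUnit (β (uB : B)) := uB.isUnit.map β
  have hνu : IsUnit (ν (uV : V)) := uV.isUnit.map ν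
  -- the Kummer element
  obtain ⟨θ, hθ⟩ : ∃ θ : W, ν πV = θ * β πB ^ d := by
    rcases ValuationRing.dvd_total (ν πV) (β πB ^ d) with ⟨t, ht⟩ | ⟨t, ht⟩
    · -- `β πB ^ d = ν πV * t`, so `t ^ e` is a unit
      have h1 : ν (uV : V) * ν πV ^ e = (β (uB : B) * t ^ e) * ν πV ^ e := by
        rw [hrel, ht]; ring
      have h2 : ν (uV : V) = β (uB : B) * t ^ e := mul_right_cancel₀ (pow_ne_zero _ hx0) h1
      have h3 : IsUnit (t ^ e) := by
        have : IsUnit (β (uB : B) * t ^ e) := h2 ▸ hνu
        exact isUnit_of_mul_isUnit_right this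
      have h4 : IsUnit t := (isUnit_pow_iff (by omega)).mp h3
      obtain ⟨t', rfl⟩ := h4
      refine ⟨((t'⁻¹ : Wˣ) : W), ?_⟩
      rw [ht, mul_comm (ν πV), ← mul_assoc, Units.inv_mul, one_mul]
    · exact ⟨t, by rw [ht, mul_comm]⟩
  have hθe : θ ^ e * ν (uV : V) = β (uB : B) := by
    apply mul_right_cancel₀ (pow_ne_zero e hy0)
    rw [← hrel, hθ]
    ring
  -- von Neumann regularity modulo `β πB`
  have hred : IsReduced (ResidueField V ⊗[ResidueField A] ResidueField B) :=
    isReduced_tensor_of_separable _ _ _
  have hvnr := vnr_mod_uniformizer_kummer' (A := A) (B := V) (V := B) (W := W) hred _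
    (isIntegral_includeRight (ResidueField A) (ResidueField V) (ResidueField B))
    ν β (fun a => (hcomp a).symm) πV hπVm πB hπBm θ d hdpos hθ e hepos hek
    (uV : V) uV.isUnit (uB : B) uB.isUnit hθe
  set S := Subring.closure (Set.range ν ∪ Set.range β ∪ {θ}) with hS
  have hβS : ∀ b, β b ∈ S := fun b => Subring.subset_closure (Or.inl (Or.inr ⟨b, rfl⟩))
  have hνS : ∀ v, ν v ∈ S := fun v => Subring.subset_closure (Or.inl (Or.inl ⟨v, rfl⟩))
  have hle : Subring.closure (Set.range β ∪ Set.range ν) ≤ S := by
    apply Subring.closure_mono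
    rintro x (hx | hx)
    · exact Or.inl (Or.inr hx)
    · exact Or.inl (Or.inl hx)
  have hfrac' : ∀ w : W, ∃ c₁ ∈ S, ∃ c₂ ∈ S, c₂ ≠ 0 ∧ w * c₂ = c₁ := by
    intro w
    obtain ⟨c₁, hc₁, c₂, hc₂, h0, h⟩ := hfrac w
    exact ⟨c₁, hle hc₁, c₂, hle hc₂, h0, h⟩
  have hπS : β πB ∈ S := hβS πB
  have hπmW : β πB ∈ maximalIdeal W :=
    map_nonunit β πB (by rw [hπBm]; exact Ideal.mem_span_singleton_self _)
  have hπ0 : β πB ≠ 0 := fun h0 => hπB.ne_zero (hβ (by rw [h0, map_zero]))
  have hmW := maximalIdeal_eq_span S _ hπS hπmW hπ0 hvnr hfrac'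
  refine ⟨?_, ?_⟩
  · rw [hπBm, Ideal.map_span, Set.image_singleton, hmW]
  · letI algκ : Algebra (ResidueField B) (ResidueField W) := (ResidueField.map β).toAlgebra
    letI algκA : Algebra (ResidueField A) (ResidueField W) :=
      ((ResidueField.map β).comp (algebraMap (ResidueField A) (ResidueField B))).toAlgebra
    haveI : IsScalarTower (ResidueField A) (ResidueField B) (ResidueField W) :=
      IsScalarTower.of_algebraMap_eq (fun _ => rfl)
    let νκ : ResidueField V →ₐ[ResidueField A] ResidueField W :=
      { ResidueField.map ν with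
        commutes' := by
          intro r
          obtain ⟨a, rfl⟩ := residue_surjective r
          show ResidueField.map ν (algebraMap (ResidueField A) (ResidueField V) (residue A a)) =
            ResidueField.map β (algebraMap (ResidueField A) (ResidueField B) (residue A a))
          rw [ResidueField.algebraMap_residue, ResidueField.algebraMap_residue,
            ResidueField.map_residue, ResidueField.map_residue, hcomp] }
    have hνκ : ∀ v, νκ (residue V v) = residue W (ν v) := fun v => rfl
    set T := separableClosure (ResidueField B) (ResidueField W) with hT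
    have hTB : ∀ b, residue W (β b) ∈ T := by
      intro b
      have : residue W (β b) = algebraMap (ResidueField B) (ResidueField W) (residue B b) := rfl
      rw [this]
      exact T.algebraMap_mem _
    have hTV : ∀ v, residue W (ν v) ∈ T := by
      intro v
      rw [hT, mem_separableClosure_iff, ← hνκ]
      have h1 : IsSeparable (ResidueField A) (residue V v) :=
        Algebra.IsSeparable.isSeparable _ _
      have h2 : IsSeparable (ResidueField A) (νκ (residue V v)) :=
        h1.map νκ νκ.toRingHom.injective
      exact h2.tower_top (ResidueField B)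
    have huV0 : residue W (ν (uV : V)) ≠ 0 := by
      rw [Ne, residue_eq_zero_iff]
      exact fun h => (mem_maximalIdeal _).mp h hνu
    have huB0 : residue W (β (uB : B)) ≠ 0 := by
      rw [Ne, residue_eq_zero_iff]
      exact fun h => (mem_maximalIdeal _).mp h hβu
    have hTθ : residue W θ ∈ T := by
      rw [hT, mem_separableClosure_iff]
      let cV : T := ⟨_, hTV (uV : V)⟩
      let cB : T := ⟨_, hTB (uB : B)⟩
      have hcV0 : cV ≠ 0 := fun h => huV0 (congrArg Subtype.val h)
      have hcB0 : cB ≠ 0 := fun h => huB0 (congrArg Subtype.val h)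
      have hroot : (residue W θ) ^ e = algebraMap T (ResidueField W) (cB * cV⁻¹) := by
        have h1 := congrArg (residue W) hθe
        rw [map_mul, map_pow] at h1
        have h2 : algebraMap T (ResidueField W) (cB * cV⁻¹) =
            residue W (β (uB : B)) * (residue W (ν (uV : V)))⁻¹ := by
          rw [map_mul, map_inv₀]; rfl
        rw [h2, ← h1, mul_assoc, mul_inv_cancel₀ huV0, mul_one]
      have heT : ((e : ℕ) : T) ≠ 0 := by
        have h1 : ((e : ℕ) : T) = algebraMap (ResidueField A) T ((e : ℕ) : ResidueField A) :=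
          (map_natCast _ e).symm
        rw [h1]
        exact (map_ne_zero _).mpr hek
      have hsepP : (Polynomial.X ^ e - Polynomial.C (cB * cV⁻¹) : Polynomial T).Separable :=
        Polynomial.separable_X_pow_sub_C _ heT (mul_ne_zero hcB0 (inv_ne_zero hcV0))
      have hsepT : IsSeparable T (residue W θ) := by
        apply hsepP.of_dvd
        apply minpoly.dvd
        rw [map_sub, map_pow, Polynomial.aeval_X, Polynomial.aeval_C, hroot, sub_self]
      exact IsSeparable.of_algebra_isSeparable_of_isSeparable (ResidueField B) hsepT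
    have hST : ∀ c ∈ S, residue W c ∈ T := by
      intro c hcS
      induction hcS using Subring.closure_induction with
      | mem x hx =>
        rcases hx with (⟨v, rfl⟩ | ⟨b, rfl⟩) | hx
        · exact hTV v
        · exact hTB b
        · rw [Set.mem_singleton_iff] at hx
          rw [hx]; exact hTθ
      | zero => rw [map_zero]; exact T.zero_mem
      | one => rw [map_one]; exact T.one_mem
      | add x y _ _ hx hy => rw [map_add]; exact T.add_mem hx hy
      | neg x _ hx => rw [map_neg]; exact T.neg_mem hx
      | mul x y _ _ hx hy => rw [map_mul]; exact T.mul_mem hx hy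
    refine ⟨fun z => ?_⟩
    rw [← mem_separableClosure_iff, ← hT]
    obtain ⟨w, rfl⟩ := residue_surjective z
    obtain ⟨c, hcS, hwc⟩ := exists_sub_mem S _ hπS hπmW hπ0 hvnr hfrac' w
    have hres : residue W w = residue W c := by
      rw [← sub_eq_zero, ← map_sub, residue_eq_zero_iff]
      exact hwc
    rw [hres]
    exact hST c hcS

end Groth.Agent.Lib.Helper10.TameUnram
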