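import Mathlib
import Groth.Prelude.Def_EtRam
import Groth.Agent.S7132
import Groth.Agent.Lib.Helper10.TameUnram
import Groth.Agent.Lib.Helper10.KummerExt
import Groth.Agent.Lib.Helper10.RamTower

/-!
# Killing tame ramification by adjoining a root of a uniformizer (helper10)

`A → B` DVRs with fraction fields `K ⊆ L`, `K'/K` finite and tamely ramified w.r.t. `A`,
`F = L·K'` a compositum, `n` divisible by all possible tame ramification indices,
`g ∣ x^n - π_B` irreducible over `F`.  Then `F[x]/(g)` is unramified over `B[x]/(x^n - π_B)`.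
-/

set_option autoImplicit false
set_option linter.unusedSectionVars false
set_option linter.style.haveILetI false
universe u
open Polynomial IsLocalRing TensorProduct

namespace Groth.Agent.Lib.Helper10.TameKill

open Groth.Agent.Lib.Helper10.KummerDVR Groth.Agent.Lib.Helper10.KummerExt
  Groth.Agent.Lib.Helper10.RamTower Groth.Agent.Lib.Helper10.RamIdx
  Groth.Agent.Lib.Helper10.TameUnram

theorem residueField_algebra_eq (R S : Type*) [CommRing R] [CommRing S] [IsLocalRing R]
    [IsLocalRing S] [Algebra R S] [IsLocalHom (algebraMap R S)] :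
    (ResidueField.map (algebraMap R S)).toAlgebra =
      (inferInstance : Algebra (ResidueField R) (ResidueField S)) := by
  apply Algebra.algebra_ext
  intro r
  obtain ⟨a, rfl⟩ := residue_surjective r
  rfl

/-- A compositum `F` of `L` and a finite extension `K'/K` is finite over `L`. -/
theorem finite_of_adjoin_range (K L K' F : Type u) [Field K] [Field L] [Field K'] [Field F]
    [Algebra K L] [Algebra K K'] [FiniteDimensional K K'] [Algebra K F] [Algebra L F] [Algebra K' F]
    [IsScalarTower K L F] [IsScalarTower K K' F]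
    (hF : Algebra.adjoin L (Set.range (algebraMap K' F)) = ⊤) : FiniteDimensional L F := by
  let Ψ : L ⊗[K] K' →ₐ[L] F :=
    Algebra.TensorProduct.productLeftAlgHom (Algebra.ofId L F) (IsScalarTower.toAlgHom K K' F)
  have hΨ : Function.Surjective Ψ := by
    have hrange : Ψ.range = ⊤ := by
      rw [eq_top_iff, ← hF]
      apply Algebra.adjoin_le
      rintro _ ⟨k, rfl⟩
      exact ⟨1 ⊗ₜ k, by simp [Ψ]⟩
    intro x
    have hx : x ∈ Ψ.range := hrange ▸ Algebra.mem_top
    exact hx
  haveI finLT : Module.Finite L (L ⊗[K] K') := inferInstance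
  exact Module.Finite.of_surjective Ψ.toLinearMap hΨ

theorem isUnramifiedExt_liftHom
    (A B K L K' F : Type u) [CommRing A] [IsDomain A] [IsDiscreteValuationRing A]
    [CommRing B] [IsDomain B] [IsDiscreteValuationRing B] [Algebra A B]
    [IsLocalHom (algebraMap A B)] (hinj : Function.Injective (algebraMap A B))
    [Field K] [Field L] [Field K'] [Field F] [Algebra A K] [IsFractionRing A K] [Algebra B L]
    [IsFractionRing B L] [Algebra K L] [Algebra A L] [IsScalarTower A K L] [IsScalarTower A B L]
    [Algebra K K'] [FiniteDimensional K K']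
    [Algebra K F] [Algebra L F] [Algebra K' F] [IsScalarTower K L F] [IsScalarTower K K' F]
    [Algebra B F] [IsScalarTower B L F]
    (hF : Algebra.adjoin L (Set.range (algebraMap K' F)) = ⊤)
    (h : EtRam.IsTamelyRamified A ((algebraMap K K').comp (algebraMap A K)))
    (πB : B) (hπB : Irreducible πB) (n : ℕ) (hn : 1 ≤ n)
    (hdiv : ∀ k : ℕ, 0 < k → k ≤ Module.finrank K K' → ((k : ℕ) : ResidueField A) ≠ 0 → k ∣ n)
    (g : F[X]) [Fact (Irreducible g)] (hg : g ∣ (X ^ n - C (algebraMap B F πB) : F[X]))
    [IsLocalRing (AdjoinRoot (X ^ n - C πB : B[X]))] :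
    EtRam.IsUnramifiedExt (AdjoinRoot (X ^ n - C πB : B[X])) (liftHom B πB n F g hg) := by
  classical
  intro W' hW'
  intro instLoc
  haveI domB' : IsDomain (AdjoinRoot (X ^ n - C πB : B[X])) :=
    KummerDVR.isDomain B πB hπB n hn
  haveI dvrB' : IsDiscreteValuationRing (AdjoinRoot (X ^ n - C πB : B[X])) :=
    KummerDVR.isDiscreteValuationRing B πB hπB n hn
  letI algB'W' : Algebra (AdjoinRoot (X ^ n - C πB : B[X])) W' :=
    (RingHom.codRestrict (liftHom B πB n F g hg) W' hW'.1).toAlgebra
  -- maps
  have hBF : ∀ b : B, algebraMap B F b = algebraMap L F (algebraMap B L b) :=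
    IsScalarTower.algebraMap_apply B L F
  have hBFinj : Function.Injective (algebraMap B F) := by
    rw [IsScalarTower.algebraMap_eq B L F]
    exact (algebraMap L F).injective.comp (IsFractionRing.injective B L)
  have hliftinj := liftHom_injective B πB hπB n hn F g hg hBFinj
  let fK' : K' →+* AdjoinRoot g := (algebraMap F (AdjoinRoot g)).comp (algebraMap K' F)
  let gA : A →+* K' := (algebraMap K K').comp (algebraMap A K)
  have hfA : ∀ a : A, fK' (gA a) =
      liftHom B πB n F g hg (AdjoinRoot.of _ (algebraMap A B a)) := by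
    intro a
    rw [liftHom_of, hBF]
    show algebraMap F _ (algebraMap K' F (algebraMap K K' (algebraMap A K a))) = _
    rw [← IsScalarTower.algebraMap_apply K K' F, IsScalarTower.algebraMap_apply K L F,
      ← IsScalarTower.algebraMap_apply A K L, IsScalarTower.algebraMap_apply A B L]
  haveI locBB' : IsLocalHom (algebraMap B (AdjoinRoot (X ^ n - C πB : B[X]))) :=
    isLocalHom_algebraMap B πB hπB n hn
  have hofm : ∀ b ∈ maximalIdeal B,
      AdjoinRoot.of (X ^ n - C πB : B[X]) b ∈ maximalIdeal (AdjoinRoot (X ^ n - C πB : B[X])) := by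
    intro b hb
    rw [← AdjoinRoot.algebraMap_eq]
    exact map_nonunit (algebraMap B (AdjoinRoot (X ^ n - C πB : B[X]))) b hb
  have hV : EtRam.Dominates A gA (W'.comap fK') :=
    ⟨fun a => by
      show fK' (gA a) ∈ W'
      rw [hfA]; exact hW'.1 _,
    fun a ha => by
      rw [valuation_comap_lt_one_iff, hfA]
      exact hW'.2 _ (hofm _ (map_nonunit (algebraMap A B) a ha))⟩
  letI algAV : Algebra A (W'.comap fK') := (RingHom.codRestrict gA (W'.comap fK') hV.1).toAlgebra
  haveI locAV : IsLocalHom (algebraMap A (W'.comap fK')) := isLocalHom_of_dominates A gA _ hV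
  haveI dvrV : IsDiscreteValuationRing (W'.comap fK') :=
    isDiscreteValuationRing_of_dominates A K K' _ hV
  obtain ⟨hsepV, hpV⟩ := h (W'.comap fK') hV
  letI algAK' : Algebra A K' := gA.toAlgebra
  haveI : IsScalarTower A K K' := IsScalarTower.of_algebraMap_eq (fun _ => rfl)
  haveI : IsScalarTower A (W'.comap fK') K' := IsScalarTower.of_algebraMap_eq (fun _ => rfl)
  have hAVinj : Function.Injective (algebraMap A (W'.comap fK')) := fun a b hab =>
    ((algebraMap K K').injective.comp (IsFractionRing.injective A K)) (congrArg Subtype.val hab)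
  obtain ⟨hfinV, hefV⟩ := Groth.Agent.S7132.result A (W'.comap fK') K K' hAVinj
  haveI := hfinV
  haveI := hsepV
  -- `W'` is a DVR
  haveI finLF : FiniteDimensional L F := finite_of_adjoin_range K L K' F hF
  have hg0 : g ≠ 0 := (Fact.out : Irreducible g).ne_zero
  haveI finFF' : FiniteDimensional F (AdjoinRoot g) := (AdjoinRoot.powerBasis hg0).finite
  haveI finLF' : FiniteDimensional L (AdjoinRoot g) := Module.Finite.trans F (AdjoinRoot g)
  have hBL' : ∀ b : B, ((algebraMap L (AdjoinRoot g)).comp (algebraMap B L)) b =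
      liftHom B πB n F g hg (AdjoinRoot.of _ b) := by
    intro b
    rw [liftHom_of, hBF, RingHom.comp_apply, IsScalarTower.algebraMap_apply L F (AdjoinRoot g)]
  have hW'B : EtRam.Dominates B ((algebraMap L (AdjoinRoot g)).comp (algebraMap B L)) W' :=
    ⟨fun b => by rw [hBL']; exact hW'.1 _, fun b hb => by rw [hBL']; exact hW'.2 _ (hofm b hb)⟩
  haveI dvrW' : IsDiscreteValuationRing W' :=
    isDiscreteValuationRing_of_dominates B L (AdjoinRoot g) W' hW'B
  -- the tower `A → B → B'`
  haveI locAB' : IsLocalHom (algebraMap A (AdjoinRoot (X ^ n - C πB : B[X]))) := by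
    rw [IsScalarTower.algebraMap_eq A B (AdjoinRoot (X ^ n - C πB : B[X]))]
    infer_instance
  have hBB'inj : Function.Injective (algebraMap B (AdjoinRoot (X ^ n - C πB : B[X]))) := by
    rw [AdjoinRoot.algebraMap_eq]
    exact of_injective B πB n hn
  have hAB'inj : Function.Injective (algebraMap A (AdjoinRoot (X ^ n - C πB : B[X]))) := by
    rw [IsScalarTower.algebraMap_eq A B (AdjoinRoot (X ^ n - C πB : B[X]))]
    exact hBB'inj.comp hinj
  have hA0 : maximalIdeal A ≠ ⊥ := IsDiscreteValuationRing.not_a_field A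
  have htower := ramificationIdx_tower (R := A) (S := B) (T := AdjoinRoot (X ^ n - C πB : B[X]))
    hAB'inj hBB'inj hA0
  rw [ramificationIdx_eq B πB hπB n hn] at htower
  -- the two maps into `W'`
  let ν := EtRam.inclOfComap W' fK'
  have hβinj : Function.Injective (algebraMap (AdjoinRoot (X ^ n - C πB : B[X])) W') :=
    fun a b hab => hliftinj (congrArg Subtype.val hab)
  have hνinj : Function.Injective ν := fun a b hab =>
    Subtype.ext (fK'.injective (congrArg Subtype.val hab))
  have hcomp : ∀ a, (algebraMap (AdjoinRoot (X ^ n - C πB : B[X])) W')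
      (algebraMap A (AdjoinRoot (X ^ n - C πB : B[X])) a) = ν (algebraMap A (W'.comap fK') a) := by
    intro a
    apply Subtype.ext
    show liftHom B πB n F g hg (algebraMap A (AdjoinRoot (X ^ n - C πB : B[X])) a) = fK' (gA a)
    rw [hfA, IsScalarTower.algebraMap_apply A B (AdjoinRoot (X ^ n - C πB : B[X])),
      AdjoinRoot.algebraMap_eq]
  -- ramification index of `V`
  obtain ⟨πA, hπA⟩ := IsDiscreteValuationRing.exists_irreducible A
  obtain ⟨πV, hπV⟩ := IsDiscreteValuationRing.exists_irreducible (W'.comap fK')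
  obtain ⟨_, _, heVpos⟩ := exists_unit_mul_pow_ramificationIdx hAVinj hπA hπV
  have hfpos : 0 < Module.finrank (ResidueField A) (ResidueField (W'.comap fK')) :=
    Module.finrank_pos
  have heVle : Ideal.ramificationIdx' (maximalIdeal A) (maximalIdeal (W'.comap fK')) ≤
      Module.finrank K K' := le_trans (Nat.le_mul_of_pos_right _ hfpos) hefV
  have hek : ((Ideal.ramificationIdx' (maximalIdeal A) (maximalIdeal (W'.comap fK')) : ℕ) :
      ResidueField A) ≠ 0 := by
    obtain ⟨p, hp⟩ := CharP.exists (ResidueField A)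
    rcases CharP.char_is_prime_or_zero (ResidueField A) p with hpp | hp0
    · rw [Ne, CharP.cast_eq_zero_iff (ResidueField A) p]
      exact hpV p hpp hp
    · subst hp0
      haveI : CharZero (ResidueField A) := CharP.charP_to_charZero _
      exact Nat.cast_ne_zero.mpr (by omega)
  have hdvd : Ideal.ramificationIdx' (maximalIdeal A) (maximalIdeal (W'.comap fK')) ∣
      Ideal.ramificationIdx' (maximalIdeal A)
        (maximalIdeal (AdjoinRoot (X ^ n - C πB : B[X]))) := by
    rw [htower]
    exact Dvd.dvd.mul_left (hdiv _ heVpos heVle hek) _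
  -- fractions
  set SW := Subring.closure (Set.range (algebraMap (AdjoinRoot (X ^ n - C πB : B[X])) W') ∪
    Set.range ν) with hSW
  have hβS : ∀ x, liftHom B πB n F g hg x ∈ SW.map W'.subtype := fun x =>
    ⟨algebraMap (AdjoinRoot (X ^ n - C πB : B[X])) W' x,
      Subring.subset_closure (Or.inl ⟨x, rfl⟩), rfl⟩
  have hνS : ∀ v : W'.comap fK', fK' (v : K') ∈ SW.map W'.subtype := fun v =>
    ⟨ν v, Subring.subset_closure (Or.inr ⟨v, rfl⟩), rfl⟩
  have hfracF : ∀ f : F, ∃ c₁ ∈ (SW.map W'.subtype).comap (algebraMap F (AdjoinRoot g)),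
      ∃ c₂ ∈ (SW.map W'.subtype).comap (algebraMap F (AdjoinRoot g)), c₂ ≠ 0 ∧ f * c₂ = c₁ := by
    apply exists_fraction_of_adjoin (L := L) _ _ hF
    · rintro _ ⟨k, rfl⟩
      obtain ⟨⟨v₁, v₂⟩, hv⟩ := IsLocalization.surj (nonZeroDivisors (W'.comap fK')) k
      refine ⟨algebraMap K' F (v₁ : K'), hνS v₁, algebraMap K' F ((v₂ : W'.comap fK') : K'),
        hνS v₂, ?_, ?_⟩
      · intro h0
        have h2 : ((v₂ : W'.comap fK') : K') = 0 :=
          (algebraMap K' F).injective (by rw [h0, map_zero])
        exact nonZeroDivisors.ne_zero v₂.2 (Subtype.ext h2)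
      · rw [← map_mul]
        exact congrArg _ hv
    · intro l
      obtain ⟨⟨b₁, b₂⟩, hb⟩ := IsLocalization.surj (nonZeroDivisors B) l
      refine ⟨algebraMap B F b₁, ?_, algebraMap B F (b₂ : B), ?_, ?_, ?_⟩
      · rw [Subring.mem_comap, ← liftHom_of B πB n F g hg]; exact hβS _
      · rw [Subring.mem_comap, ← liftHom_of B πB n F g hg]; exact hβS _
      · intro h0
        exact nonZeroDivisors.ne_zero b₂.2 (hBFinj (by rw [h0, map_zero]))
      · rw [hBF, hBF, ← map_mul]
        exact congrArg _ hb
  have hfracF' : ∀ x : AdjoinRoot g, ∃ c₁ ∈ SW.map W'.subtype, ∃ c₂ ∈ SW.map W'.subtype,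
      c₂ ≠ 0 ∧ x * c₂ = c₁ := by
    apply exists_fraction_of_adjoin (L := F) _ _ (AdjoinRoot.adjoinRoot_eq_top (f := g))
    · intro x hx
      rw [Set.mem_singleton_iff] at hx
      subst hx
      refine ⟨AdjoinRoot.root g, ?_, 1, Subring.one_mem _, one_ne_zero, mul_one _⟩
      rw [← liftHom_root B πB n F g hg]; exact hβS _
    · intro f
      obtain ⟨c₁, hc₁, c₂, hc₂, h0, hc⟩ := hfracF f
      refine ⟨_, hc₁, _, hc₂, ?_, ?_⟩
      · exact (_root_.map_ne_zero _).mpr h0
      · rw [← map_mul, hc]
  have hfrac := exists_fraction_subring W' SW hfracF'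
  obtain ⟨hw, hs⟩ := unramified_of_tame (A := A) (V := W'.comap fK')
    (B := AdjoinRoot (X ^ n - C πB : B[X])) (W := W') hAVinj hAB'inj
    (algebraMap (AdjoinRoot (X ^ n - C πB : B[X])) W') ν hβinj hνinj hcomp hek hdvd hfrac
  refine ⟨hw, ?_⟩
  rw [residueField_algebra_eq] at hs
  exact hs

end Groth.Agent.Lib.Helper10.TameKill
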