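import Mathlib
import Groth.Prelude.Def_EtRam
import Groth.Agent.Lib.Helper10.RamTower
import Groth.Agent.S1983
import Groth.Agent.Lib.Helper10.TameKill

/-!
# Solutions persist under finite extension (helper10)

If `K₁/K` is a solution for `A ⊂ B` then so is every finite extension `K₂ ⊇ K₁`.
-/

set_option autoImplicit false
set_option linter.style.haveILetI false
set_option linter.unusedSectionVars false
universe u

namespace Groth.Agent.Lib.Helper10.SolPersist

open IsLocalRing EtRam TensorProduct Groth.Agent.Lib.Helper10.RamTower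

theorem adjoin_eq_top_of_le {L M₁ M₂ : Type u} [Field L] [Field M₁] [Field M₂] [Algebra L M₁]
    [Algebra L M₂] [Algebra M₁ M₂] [IsScalarTower L M₁ M₂] (S : Set M₂)
    (h : Algebra.adjoin L S = ⊤) : Algebra.adjoin M₁ S = ⊤ := by
  have key : ∀ x ∈ Algebra.adjoin L S, x ∈ Algebra.adjoin M₁ S := by
    intro x hx
    induction hx using Algebra.adjoin_induction with
    | mem y hy => exact Algebra.subset_adjoin hy
    | algebraMap r =>
      rw [IsScalarTower.algebraMap_apply L M₁ M₂]
      exact Subalgebra.algebraMap_mem _ _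
    | add y z _ _ hy hz => exact Subalgebra.add_mem _ hy hz
    | mul y z _ _ hy hz => exact Subalgebra.mul_mem _ hy hz
  rw [eq_top_iff]
  intro x _
  exact key x (h ▸ Algebra.mem_top)

theorem isSolution_of_tower (A B K L : Type u) [CommRing A] [IsDomain A] [IsDiscreteValuationRing A]
    [CommRing B] [IsDomain B] [IsDiscreteValuationRing B] [Algebra A B] [IsLocalHom (algebraMap A B)]
    [Field K] [Field L] [Algebra A K] [IsFractionRing A K] [Algebra B L] [IsFractionRing B L]
    [Algebra K L] [Algebra A L] [IsScalarTower A K L] [IsScalarTower A B L]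
    (K₁ K₂ : Type u) [Field K₁] [Field K₂] [Algebra K K₁] [Algebra K K₂] [Algebra K₁ K₂]
    [IsScalarTower K K₁ K₂] [FiniteDimensional K K₁] [FiniteDimensional K₁ K₂]
    (h : IsSolution B K L K₁) : IsSolution B K L K₂ := by
  intro M₂ _ _ _ _ _ _ hgen W₂ hW₂
  letI algK₁M₂ : Algebra K₁ M₂ := ((algebraMap K₂ M₂).comp (algebraMap K₁ K₂)).toAlgebra
  haveI tw1 : IsScalarTower K₁ K₂ M₂ := IsScalarTower.of_algebraMap_eq (fun _ => rfl)
  haveI tw2 : IsScalarTower K K₁ M₂ := by
    apply IsScalarTower.of_algebraMap_eq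
    intro x
    show algebraMap K M₂ x = algebraMap K₂ M₂ (algebraMap K₁ K₂ (algebraMap K K₁ x))
    rw [← IsScalarTower.algebraMap_apply K K₁ K₂, ← IsScalarTower.algebraMap_apply K K₂ M₂]
  -- the intermediate compositum
  let M₁ : IntermediateField L M₂ := IntermediateField.adjoin L (Set.range (algebraMap K₁ M₂))
  have hmem : ∀ x : K₁, algebraMap K₁ M₂ x ∈ M₁ :=
    fun x => IntermediateField.subset_adjoin _ _ ⟨x, rfl⟩
  letI algK₁M₁ : Algebra K₁ M₁ := (RingHom.codRestrict (algebraMap K₁ M₂) M₁ hmem).toAlgebra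
  haveI tw3 : IsScalarTower K₁ M₁ M₂ := IsScalarTower.of_algebraMap_eq (fun _ => rfl)
  haveI tw4 : IsScalarTower K K₁ M₁ := by
    apply IsScalarTower.of_algebraMap_eq
    intro x
    apply Subtype.ext
    show algebraMap K M₂ x = algebraMap K₁ M₂ (algebraMap K K₁ x)
    rw [← IsScalarTower.algebraMap_apply K K₁ M₂]
  -- algebra adjoin is everything
  have halg : ∀ y ∈ Set.range (algebraMap K₁ M₂), IsAlgebraic L y := by
    rintro _ ⟨x, rfl⟩
    have h1 : IsAlgebraic K x := Algebra.IsAlgebraic.isAlgebraic x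
    have h2 : IsAlgebraic K (algebraMap K₁ M₂ x) := h1.algebraMap
    exact h2.tower_top L
  have htoSub : M₁.toSubalgebra = Algebra.adjoin L (Set.range (algebraMap K₁ M₂)) :=
    IntermediateField.adjoin_toSubalgebra_of_isAlgebraic halg
  have hgen₁ : Algebra.adjoin L (Set.range (algebraMap K₁ M₁)) = ⊤ := by
    apply Subalgebra.map_injective (f := M₁.val) Subtype.val_injective
    rw [Algebra.map_top, AlgHom.map_adjoin]
    have e1 : (M₁.val : M₁ → M₂) '' Set.range (algebraMap K₁ M₁) = Set.range (algebraMap K₁ M₂) := by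
      ext y
      constructor
      · rintro ⟨_, ⟨x, rfl⟩, rfl⟩
        exact ⟨x, rfl⟩
      · rintro ⟨x, rfl⟩
        exact ⟨algebraMap K₁ M₁ x, ⟨x, rfl⟩, rfl⟩
    rw [e1, ← htoSub]
    ext y
    simp
  -- valuation ring on M₁
  let W₁ : ValuationSubring M₁ := W₂.comap (algebraMap M₁ M₂)
  have hW₁ : Dominates B ((algebraMap L M₁).comp (algebraMap B L)) W₁ :=
    ⟨fun b => hW₂.1 b, fun b hb => by
      rw [valuation_comap_lt_one_iff]
      exact hW₂.2 b hb⟩
  have key := h M₁ hgen₁ W₁ hW₁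
  -- finiteness
  let Ψ : L ⊗[K] K₁ →ₐ[L] M₁ :=
    Algebra.TensorProduct.productLeftAlgHom (Algebra.ofId L M₁) (IsScalarTower.toAlgHom K K₁ M₁)
  have hΨ : Function.Surjective Ψ := by
    have hrange : Ψ.range = ⊤ := by
      rw [eq_top_iff, ← hgen₁]
      apply Algebra.adjoin_le
      rintro _ ⟨k, rfl⟩
      exact ⟨1 ⊗ₜ k, by simp [Ψ]⟩
    intro x
    have hx : x ∈ Ψ.range := hrange ▸ Algebra.mem_top
    exact hx
  haveI finLT : Module.Finite L (L ⊗[K] K₁) := inferInstance
  haveI finLM₁ : FiniteDimensional L M₁ := Module.Finite.of_surjective Ψ.toLinearMap hΨ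
  haveI dvrW₁ : IsDiscreteValuationRing W₁ := isDiscreteValuationRing_of_dominates B L M₁ W₁ hW₁
  -- the bottom DVR
  have hfA : ∀ a : A, algebraMap K₁ M₁ (((algebraMap K K₁).comp (algebraMap A K)) a) =
      ((algebraMap L M₁).comp (algebraMap B L)) (algebraMap A B a) := by
    intro a
    show algebraMap K₁ M₁ (algebraMap K K₁ (algebraMap A K a)) =
      algebraMap L M₁ (algebraMap B L (algebraMap A B a))
    rw [← IsScalarTower.algebraMap_apply K K₁ M₁, ← IsScalarTower.algebraMap_apply A B L,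
      IsScalarTower.algebraMap_apply A K L, ← IsScalarTower.algebraMap_apply K L M₁]
  have hV₁ : Dominates A ((algebraMap K K₁).comp (algebraMap A K))
      (W₁.comap (algebraMap K₁ M₁)) :=
    ⟨fun a => by
      show algebraMap K₁ M₁ _ ∈ W₁
      rw [hfA]; exact hW₁.1 _,
    fun a ha => by
      rw [valuation_comap_lt_one_iff, hfA]
      exact hW₁.2 _ (map_nonunit (algebraMap A B) a ha)⟩
  haveI dvrV₁ : IsDiscreteValuationRing (W₁.comap (algebraMap K₁ M₁)) :=
    isDiscreteValuationRing_of_dominates A K K₁ _ hV₁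
  -- apply S1983 to `W₁ ∩ K₁ → W₁`
  letI algAW : Algebra (W₁.comap (algebraMap K₁ M₁)) W₁ :=
    (inclOfComap W₁ (algebraMap K₁ M₁)).toAlgebra
  haveI locAW : IsLocalHom (algebraMap (W₁.comap (algebraMap K₁ M₁)) W₁) :=
    isLocalHom_inclOfComap W₁ (algebraMap K₁ M₁)
  have hinj : Function.Injective (algebraMap (W₁.comap (algebraMap K₁ M₁)) W₁) := by
    intro x y hxy
    apply Subtype.ext
    apply (algebraMap K₁ M₁).injective
    exact congrArg Subtype.val hxy
  letI algAM : Algebra (W₁.comap (algebraMap K₁ M₁)) M₁ :=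
    ((algebraMap K₁ M₁).comp (algebraMap (W₁.comap (algebraMap K₁ M₁)) K₁)).toAlgebra
  haveI twA1 : IsScalarTower (W₁.comap (algebraMap K₁ M₁)) K₁ M₁ :=
    IsScalarTower.of_algebraMap_eq (fun _ => rfl)
  haveI twA2 : IsScalarTower (W₁.comap (algebraMap K₁ M₁)) W₁ M₁ :=
    IsScalarTower.of_algebraMap_eq (fun _ => rfl)
  haveI gr : Algebra.IsGeometricallyReduced (ResidueField (W₁.comap (algebraMap K₁ M₁)))
      (ResidueField W₁) := by
    have h2 := key.2
    have hinst : (ResidueField.map (inclOfComap W₁ (algebraMap K₁ M₁))).toAlgebra =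
        (inferInstance : Algebra (ResidueField (W₁.comap (algebraMap K₁ M₁))) (ResidueField W₁)) := by
      apply Algebra.algebra_ext
      intro r
      obtain ⟨a, rfl⟩ := residue_surjective r
      rfl
    rw [hinst] at h2
    exact h2
  have sol₂ : IsSolution W₁ K₁ M₁ K₂ :=
    Groth.Agent.S1983.result (W₁.comap (algebraMap K₁ M₁)) W₁ K₁ M₁ hinj key.1 K₂
  have hgen₂ : Algebra.adjoin M₁ (Set.range (algebraMap K₂ M₂)) = ⊤ :=
    adjoin_eq_top_of_le (L := L) (M₁ := M₁) _ hgen
  have hW₂' : Dominates W₁ ((algebraMap M₁ M₂).comp (algebraMap W₁ M₁)) W₂ :=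
    ⟨fun w => w.2, fun w hw => by
      rw [ValuationSubring.valuation_lt_one_iff] at hw
      exact (valuation_comap_lt_one_iff W₂ (algebraMap M₁ M₂) _).mp hw⟩
  exact sol₂ M₂ hgen₂ W₂ hW₂'

end Groth.Agent.Lib.Helper10.SolPersist
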