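import Mathlib
import Groth.Prelude.Def_EtRam
import Groth.Agent.Lib.Helper10.RamTower
import Groth.Agent.Lib.Helper10.SolCompose
import Groth.Agent.Lib.Helper10.SolPersist
import Groth.Agent.S1983

/-!
# Descending solutions along a weakly unramified separable base extension (helper10)

`A ⊂ A'` weakly unramified with separable residue extension, `A' ⊂ B'`.  If the finite
extension `K₂'/K'` is a solution for `A' ⊂ B'` and `K₂/K` is a finite extension such that
every pair of compatible embeddings `L' → M ← K₂` factors through `K₂'`, then `K₂` is a solution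
for `A ⊂ B'`.
-/

set_option autoImplicit false
set_option linter.style.haveILetI false
set_option linter.unusedSectionVars false
universe u

namespace Groth.Agent.Lib.Helper10.SolDescend

open IsLocalRing EtRam TensorProduct Groth.Agent.Lib.Helper10.RamTower

theorem exists_of_normal {F E Ω : Type*} [Field F] [Field E] [Field Ω] [Algebra F E] [Algebra F Ω]
    [Normal F E] (f g : E →ₐ[F] Ω) (y : E) : ∃ z, f z = g y := by
  have hs := Normal.splits (inferInstance : Normal F E) y
  have hy : g y ∈ (minpoly F y).rootSet Ω := by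
    rw [Polynomial.mem_rootSet]
    refine ⟨minpoly.ne_zero (Normal.isIntegral inferInstance y), ?_⟩
    rw [Polynomial.aeval_algHom_apply, minpoly.aeval, map_zero]
  rw [← hs.image_rootSet f] at hy
  obtain ⟨z, _, hz⟩ := hy
  exact ⟨z, hz⟩

theorem isSolution_of_embeddings
    (A A' B' K K' L' : Type u)
    [CommRing A] [IsDomain A] [IsDiscreteValuationRing A]
    [CommRing A'] [IsDomain A'] [IsDiscreteValuationRing A']
    [CommRing B'] [IsDomain B'] [IsDiscreteValuationRing B']
    [Algebra A A'] [IsLocalHom (algebraMap A A')] (hAA' : Function.Injective (algebraMap A A'))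
    [Algebra A' B'] [IsLocalHom (algebraMap A' B')]
    [Field K] [Field K'] [Field L']
    [Algebra A K] [IsFractionRing A K] [Algebra A' K'] [IsFractionRing A' K']
    [Algebra B' L'] [IsFractionRing B' L']
    [Algebra K K'] [Algebra A K'] [IsScalarTower A K K'] [IsScalarTower A A' K']
    [Algebra K' L'] [Algebra A' L'] [IsScalarTower A' K' L'] [IsScalarTower A' B' L']
    [Algebra K L'] [IsScalarTower K K' L']
    (hw : IsWeaklyUnramified A A')
    [Algebra.IsGeometricallyReduced (ResidueField A) (ResidueField A')]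
    (K₂ K₂' : Type u) [Field K₂] [Field K₂'] [Algebra K K₂] [FiniteDimensional K K₂]
    [Algebra K' K₂']
    (hsol₂ : IsSolution B' K' L' K₂')
    (H : ∀ (M : Type u) [Field M] (fL : L' →+* M) (fK : K₂ →+* M),
      fL.comp (algebraMap K L') = fK.comp (algebraMap K K₂) →
      ∃ (ι : K₂' →+* M) (i : K₂ →+* K₂'),
        ι.comp (algebraMap K' K₂') = fL.comp (algebraMap K' L') ∧
        i.comp (algebraMap K K₂) = (algebraMap K' K₂').comp (algebraMap K K') ∧
        ι.comp i = fK ∧ Algebra.adjoin K' (Set.range i) = ⊤) :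
    IsSolution B' K L' K₂ := by
  intro M _ _ _ _ _ _ hgen W hW
  obtain ⟨ι, i, h1, h2, h3, h4⟩ := H M (algebraMap L' M) (algebraMap K₂ M) (by
    ext x
    show algebraMap L' M (algebraMap K L' x) = algebraMap K₂ M (algebraMap K K₂ x)
    rw [← IsScalarTower.algebraMap_apply, ← IsScalarTower.algebraMap_apply])
  -- Step 1: the solution `K₂'` on `M`
  letI algK'M : Algebra K' M := ((algebraMap L' M).comp (algebraMap K' L')).toAlgebra
  letI algK₂'M : Algebra K₂' M := ι.toAlgebra
  haveI tw1 : IsScalarTower K' L' M := IsScalarTower.of_algebraMap_eq (fun _ => rfl)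
  haveI tw2 : IsScalarTower K' K₂' M :=
    IsScalarTower.of_algebraMap_eq (fun x => (RingHom.congr_fun h1 x).symm)
  have hgen' : Algebra.adjoin L' (Set.range (algebraMap K₂' M)) = ⊤ := by
    rw [eq_top_iff, ← hgen]
    apply Algebra.adjoin_mono
    rintro _ ⟨y, rfl⟩
    exact ⟨i y, RingHom.congr_fun h3 y⟩
  have r1 := hsol₂ M hgen' W hW
  -- Step 2: `S1983` on `K₂'`
  letI algKK₂' : Algebra K K₂' := ((algebraMap K' K₂').comp (algebraMap K K')).toAlgebra
  letI algK₂K₂' : Algebra K₂ K₂' := i.toAlgebra
  haveI tw3 : IsScalarTower K K' K₂' := IsScalarTower.of_algebraMap_eq (fun _ => rfl)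
  haveI tw4 : IsScalarTower K K₂ K₂' :=
    IsScalarTower.of_algebraMap_eq (fun x => (RingHom.congr_fun h2 x).symm)
  have hS : IsSolution A' K K' K₂ := Groth.Agent.S1983.result A A' K K' hAA' hw K₂
  have hfA : ∀ a : A', ι (((algebraMap K' K₂').comp (algebraMap A' K')) a) =
      ((algebraMap L' M).comp (algebraMap B' L')) (algebraMap A' B' a) := by
    intro a
    show ι (algebraMap K' K₂' (algebraMap A' K' a)) =
      algebraMap L' M (algebraMap B' L' (algebraMap A' B' a))
    have := RingHom.congr_fun h1 (algebraMap A' K' a)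
    simp only [RingHom.comp_apply] at this
    rw [this, ← IsScalarTower.algebraMap_apply A' K' L', ← IsScalarTower.algebraMap_apply A' B' L']
  have hdom : Dominates A' ((algebraMap K' K₂').comp (algebraMap A' K')) (W.comap ι) :=
    ⟨fun a => by
      show ι _ ∈ W
      rw [hfA]; exact hW.1 _,
    fun a ha => by
      rw [valuation_comap_lt_one_iff, hfA]
      exact hW.2 _ (map_nonunit (algebraMap A' B') a ha)⟩
  have r2 := hS K₂' h4 (W.comap ι) hdom
  -- combine
  have c1 := SolCompose.weaklyUnramified_comp ι i W r2.1 r1.1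
  have c2 := SolCompose.geomReduced_comp ι i W r2.2 r1.2
  have h3' : ι.comp i = algebraMap K₂ M := h3
  rw [← h3']
  exact ⟨c1, c2⟩

end Groth.Agent.Lib.Helper10.SolDescend
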