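import Mathlib
import Groth.Prelude.Def_EtRam
import Groth.Agent.Lib.Helper10.SolDescend

/-!
# Descending solutions, II: construction of the normal extension (helper10)
-/

set_option autoImplicit false
set_option linter.style.haveILetI false
set_option linter.unusedSectionVars false
universe u

namespace Groth.Agent.Lib.Helper10.SolDescend

open IsLocalRing EtRam TensorProduct Polynomial Groth.Agent.Lib.Helper10.RamTower

section Emb

variable {K K' L' : Type u} [Field K] [Field K'] [Field L']
  [Algebra K K'] [Algebra K' L'] [Algebra K L'] [IsScalarTower K K' L']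
  {Ω' : Type u} [Field Ω'] [Algebra K Ω'] [Algebra K' Ω'] [IsScalarTower K K' Ω']
  [Algebra.IsAlgebraic K' Ω']
  (T : Set Ω')

/-- The embedding property: with `K₂ = K(T)` normal over `K` and `K₂' = K'(T)`. -/
theorem embeddings_of_normal [FiniteDimensional K (IntermediateField.adjoin K T)]
    [Normal K (IntermediateField.adjoin K T)]
    (M : Type u) [Field M] (fL : L' →+* M) (fK : (IntermediateField.adjoin K T) →+* M)
    (hcomp : fL.comp (algebraMap K L') = fK.comp (algebraMap K (IntermediateField.adjoin K T))) :
    ∃ (ι : (IntermediateField.adjoin K' T) →+* M)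
      (i : (IntermediateField.adjoin K T) →+* (IntermediateField.adjoin K' T)),
      ι.comp (algebraMap K' (IntermediateField.adjoin K' T)) = fL.comp (algebraMap K' L') ∧
      i.comp (algebraMap K (IntermediateField.adjoin K T)) =
        (algebraMap K' (IntermediateField.adjoin K' T)).comp (algebraMap K K') ∧
      ι.comp i = fK ∧ Algebra.adjoin K' (Set.range i) = ⊤ := by
  have hT₂ : ∀ t ∈ T, t ∈ IntermediateField.adjoin K T :=
    fun t ht => IntermediateField.subset_adjoin K T ht
  have hT₂' : ∀ t ∈ T, t ∈ IntermediateField.adjoin K' T :=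
    fun t ht => IntermediateField.subset_adjoin K' T ht
  have hle : IntermediateField.adjoin K T ≤ (IntermediateField.adjoin K' T).restrictScalars K := by
    rw [IntermediateField.adjoin_le_iff]
    intro t ht
    exact hT₂' t ht
  -- the `M` side
  letI algK'M : Algebra K' M := (fL.comp (algebraMap K' L')).toAlgebra
  letI algKM : Algebra K M := (fL.comp (algebraMap K L')).toAlgebra
  haveI twM : IsScalarTower K K' M := IsScalarTower.of_algebraMap_eq (fun x => by
    show fL (algebraMap K L' x) = fL (algebraMap K' L' (algebraMap K K' x))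
    rw [← IsScalarTower.algebraMap_apply K K' L'])
  haveI twΩ : IsScalarTower K K' (AlgebraicClosure M) := IsScalarTower.of_algebraMap_eq (fun x => by
    rw [IsScalarTower.algebraMap_apply K M (AlgebraicClosure M),
      IsScalarTower.algebraMap_apply K' M (AlgebraicClosure M),
      ← IsScalarTower.algebraMap_apply K K' M])
  let Φ : Ω' →ₐ[K'] AlgebraicClosure M := IsAlgClosed.lift
  let ΦK : Ω' →ₐ[K] AlgebraicClosure M := Φ.restrictScalars K
  let fK' : (IntermediateField.adjoin K T) →ₐ[K] M :=
    { fK with commutes' := fun x => (RingHom.congr_fun hcomp x).symm }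
  let j₁ : (IntermediateField.adjoin K T) →ₐ[K] AlgebraicClosure M :=
    (IsScalarTower.toAlgHom K M (AlgebraicClosure M)).comp fK'
  let j₂ : (IntermediateField.adjoin K T) →ₐ[K] AlgebraicClosure M :=
    ΦK.comp (IntermediateField.adjoin K T).val
  have h12 : ∀ y, ∃ z, j₂ z = j₁ y := exists_of_normal j₂ j₁
  have h21 : ∀ y, ∃ z, j₁ z = j₂ y := exists_of_normal j₁ j₂
  let e₂ := AlgEquiv.ofInjective j₂ j₂.toRingHom.injective
  let τ : (IntermediateField.adjoin K T) →ₐ[K] (IntermediateField.adjoin K T) :=
    (e₂.symm : j₂.range →ₐ[K] (IntermediateField.adjoin K T)).comp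
      (j₁.codRestrict j₂.range (fun y => by obtain ⟨z, hz⟩ := h12 y; exact ⟨z, hz⟩))
  have hτ : ∀ y, j₂ (τ y) = j₁ y := by
    intro y
    have : (e₂ (τ y) : AlgebraicClosure M) = j₁ y := by
      show ((e₂ (e₂.symm _) : j₂.range) : AlgebraicClosure M) = _
      rw [AlgEquiv.apply_symm_apply]
      rfl
    exact this
  have hτs : Function.Surjective τ := (AlgHom.bijective τ).2
  let mΩ : M →ₐ[K'] AlgebraicClosure M := IsScalarTower.toAlgHom K' M (AlgebraicClosure M)
  have hmem : IntermediateField.adjoin K' T ≤ (mΩ.fieldRange).comap Φ := by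
    rw [IntermediateField.adjoin_le_iff]
    intro t ht
    show Φ t ∈ mΩ.fieldRange
    obtain ⟨z, hz⟩ := h21 ⟨t, hT₂ t ht⟩
    exact ⟨fK z, hz⟩
  let em := AlgEquiv.ofInjective mΩ mΩ.toRingHom.injective
  let ι : (IntermediateField.adjoin K' T) →ₐ[K'] M :=
    (em.symm : mΩ.range →ₐ[K'] M).comp
      ((Φ.comp (IntermediateField.adjoin K' T).val).codRestrict mΩ.range (fun w => hmem w.2))
  have hι : ∀ w : IntermediateField.adjoin K' T, mΩ (ι w) = Φ (w : Ω') := by
    intro w
    have : (em (ι w) : AlgebraicClosure M) = Φ (w : Ω') := by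
      show ((em (em.symm _) : mΩ.range) : AlgebraicClosure M) = _
      rw [AlgEquiv.apply_symm_apply]
      rfl
    exact this
  let inc : (IntermediateField.adjoin K T) →+* (IntermediateField.adjoin K' T) :=
    RingHom.codRestrict ((IntermediateField.adjoin K T).val : _ →+* Ω')
      (IntermediateField.adjoin K' T) (fun y => hle y.2)
  refine ⟨(ι : _ →+* M), inc.comp τ.toRingHom, ?_, ?_, ?_, ?_⟩
  · ext x
    exact ι.commutes x
  · ext x
    show ((inc (τ (algebraMap K _ x)) : IntermediateField.adjoin K' T) : Ω') = _
    rw [τ.commutes]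
    show algebraMap K Ω' x = algebraMap K' Ω' (algebraMap K K' x)
    rw [← IsScalarTower.algebraMap_apply K K' Ω']
  · ext y
    apply mΩ.toRingHom.injective
    show mΩ (ι (inc (τ y))) = mΩ (fK y)
    rw [hι]
    exact hτ y
  · have hrange : Set.range (inc.comp τ.toRingHom) = Set.range inc := by
      ext w
      constructor
      · rintro ⟨y, rfl⟩
        exact ⟨τ y, rfl⟩
      · rintro ⟨y, rfl⟩
        obtain ⟨z, rfl⟩ := hτs y
        exact ⟨z, rfl⟩
    rw [hrange]
    clear hrange
    have halg : ∀ t ∈ T, IsAlgebraic K' t := fun t _ => Algebra.IsAlgebraic.isAlgebraic t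
    have htoSub : (IntermediateField.adjoin K' T).toSubalgebra = Algebra.adjoin K' T :=
      IntermediateField.adjoin_toSubalgebra_of_isAlgebraic halg
    apply Subalgebra.map_injective (f := (IntermediateField.adjoin K' T).val) Subtype.val_injective
    rw [Algebra.map_top, AlgHom.map_adjoin]
    have e1 : ((IntermediateField.adjoin K' T).val : _ → Ω') '' Set.range inc =
        ((IntermediateField.adjoin K T : IntermediateField K Ω') : Set Ω') := by
      ext y
      constructor
      · rintro ⟨_, ⟨x, rfl⟩, rfl⟩
        exact x.2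
      · intro hy
        exact ⟨inc ⟨y, hy⟩, ⟨_, rfl⟩, rfl⟩
    rw [e1]
    have hr : (IntermediateField.adjoin K' T).val.range = Algebra.adjoin K' T := by
      rw [← htoSub]
      ext y
      constructor
      · rintro ⟨w, rfl⟩
        exact w.2
      · intro hy
        exact ⟨⟨y, hy⟩, rfl⟩
    rw [hr]
    apply le_antisymm
    · apply Algebra.adjoin_le
      intro y hy
      have : y ∈ (IntermediateField.adjoin K' T).toSubalgebra := hle hy
      rw [htoSub] at this
      exact this
    · apply Algebra.adjoin_mono
      intro t ht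
      exact hT₂ t ht

end Emb

end Groth.Agent.Lib.Helper10.SolDescend
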