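import Mathlib
import Groth.Prelude.Def_EtRam
import Groth.Agent.Lib.Helper10.SolDescend
import Groth.Agent.Lib.Helper10.SolDescend2

/-!
# Descending solutions, III: the descent theorem (helper10)
-/

set_option autoImplicit false
set_option linter.style.haveILetI false
set_option linter.unusedSectionVars false
universe u

namespace Groth.Agent.Lib.Helper10.SolDescend

open IsLocalRing EtRam TensorProduct Polynomial Groth.Agent.Lib.Helper10.RamTower

theorem exists_solution_descend
    (A A' B' K K' L' : Type u)
    [CommRing A] [IsDomain A] [IsDiscreteValuationRing A]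
    [CommRing A'] [IsDomain A'] [IsDiscreteValuationRing A']
    [CommRing B'] [IsDomain B'] [IsDiscreteValuationRing B']
    [Algebra A A'] [IsLocalHom (algebraMap A A')] (hAA' : Function.Injective (algebraMap A A'))
    [Algebra A' B'] [IsLocalHom (algebraMap A' B')]
    [Field K] [Field K'] [Field L']
    [Algebra A K] [IsFractionRing A K] [Algebra A' K'] [IsFractionRing A' K']
    [Algebra B' L'] [IsFractionRing B' L']
    [Algebra K K'] [Algebra A K'] [IsScalarTower A K K'] [IsScalarTower A A' K']
    [Algebra K' L'] [Algebra A' L'] [IsScalarTower A' K' L'] [IsScalarTower A' B' L']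
    [Algebra K L'] [IsScalarTower K K' L']
    [Algebra.IsAlgebraic K K']
    (hw : IsWeaklyUnramified A A')
    [Algebra.IsGeometricallyReduced (ResidueField A) (ResidueField A')]
    (K₁' : Type u) [Field K₁'] [Algebra K' K₁'] [FiniteDimensional K' K₁']
    (hsol : IsSolution B' K' L' K₁') :
    ∃ (K₂ : Type u) (_ : Field K₂) (_ : Algebra K K₂), FiniteDimensional K K₂ ∧
      IsSolution B' K L' K₂ ∧
      (Algebra.IsSeparable K K' → Algebra.IsSeparable K' K₁' → Algebra.IsSeparable K K₂) := by
  letI algKK₁' : Algebra K K₁' := ((algebraMap K' K₁').comp (algebraMap K K')).toAlgebra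
  haveI tw0 : IsScalarTower K K' K₁' := IsScalarTower.of_algebraMap_eq (fun _ => rfl)
  haveI twΩ : IsScalarTower K K' (AlgebraicClosure K₁') :=
    IsScalarTower.of_algebraMap_eq (fun x => by
      rw [IsScalarTower.algebraMap_apply K K₁' (AlgebraicClosure K₁'),
        IsScalarTower.algebraMap_apply K' K₁' (AlgebraicClosure K₁'),
        ← IsScalarTower.algebraMap_apply K K' K₁'])
  haveI alg1 : Algebra.IsAlgebraic K' K₁' := inferInstance
  haveI alg2 : Algebra.IsAlgebraic K' (AlgebraicClosure K₁') :=
    Algebra.IsAlgebraic.trans K' K₁' (AlgebraicClosure K₁')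
  haveI alg3 : Algebra.IsAlgebraic K (AlgebraicClosure K₁') :=
    Algebra.IsAlgebraic.trans K K' (AlgebraicClosure K₁')
  -- the generators
  let b := Module.finBasis K' K₁'
  let s : Fin (Module.finrank K' K₁') → AlgebraicClosure K₁' :=
    fun i => algebraMap K₁' (AlgebraicClosure K₁') (b i)
  let p : K[X] := ∏ i, minpoly K (s i)
  have hsint : ∀ i, IsIntegral K (s i) := fun i => (Algebra.IsAlgebraic.isAlgebraic (s i)).isIntegral
  have hp0 : p ≠ 0 := Finset.prod_ne_zero_iff.mpr (fun i _ => minpoly.ne_zero (hsint i))
  let T : Set (AlgebraicClosure K₁') := p.rootSet (AlgebraicClosure K₁')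
  have hsT : ∀ i, s i ∈ T := by
    intro i
    rw [Polynomial.mem_rootSet]
    refine ⟨hp0, ?_⟩
    rw [map_prod]
    exact Finset.prod_eq_zero (Finset.mem_univ i) (minpoly.aeval K (s i))
  haveI finT : Finite T := (Polynomial.rootSet_finite p _).to_subtype
  haveI spl : p.IsSplittingField K (IntermediateField.adjoin K T) :=
    IntermediateField.adjoin_rootSet_isSplittingField (IsAlgClosed.splits _)
  haveI nor : Normal K (IntermediateField.adjoin K T) := Normal.of_isSplittingField p
  haveI fin2 : FiniteDimensional K (IntermediateField.adjoin K T) :=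
    Polynomial.IsSplittingField.finiteDimensional _ p
  haveI fin2' : FiniteDimensional K' (IntermediateField.adjoin K' T) :=
    IntermediateField.finiteDimensional_adjoin
      (fun t _ => (Algebra.IsAlgebraic.isAlgebraic t).isIntegral)
  -- `K₁'` embeds in `K₂' = K'(T)`
  have hK₁' : ∀ x : K₁', algebraMap K₁' (AlgebraicClosure K₁') x ∈
      IntermediateField.adjoin K' T := by
    intro x
    rw [← b.sum_repr x, map_sum]
    apply sum_mem
    intro i _
    rw [Algebra.smul_def, map_mul, ← IsScalarTower.algebraMap_apply]
    exact mul_mem (IntermediateField.algebraMap_mem _ _)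
      (IntermediateField.subset_adjoin K' T (hsT i))
  letI algK₁'K₂' : Algebra K₁' (IntermediateField.adjoin K' T) :=
    (RingHom.codRestrict (algebraMap K₁' (AlgebraicClosure K₁'))
      (IntermediateField.adjoin K' T) hK₁').toAlgebra
  haveI tw5 : IsScalarTower K' K₁' (IntermediateField.adjoin K' T) := by
    apply IsScalarTower.of_algebraMap_eq
    intro x
    apply Subtype.ext
    show algebraMap K' (AlgebraicClosure K₁') x =
      algebraMap K₁' (AlgebraicClosure K₁') (algebraMap K' K₁' x)
    rw [← IsScalarTower.algebraMap_apply]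
  haveI fin3 : FiniteDimensional K₁' (IntermediateField.adjoin K' T) :=
    Module.Finite.of_restrictScalars_finite K' K₁' _
  have hsol₂ : IsSolution B' K' L' (IntermediateField.adjoin K' T) :=
    SolPersist.isSolution_of_tower A' B' K' L' K₁' (IntermediateField.adjoin K' T) hsol
  refine ⟨IntermediateField.adjoin K T, inferInstance, inferInstance, fin2, ?_, ?_⟩
  · exact isSolution_of_embeddings A A' B' K K' L' hAA' hw (IntermediateField.adjoin K T)
      (IntermediateField.adjoin K' T) hsol₂
      (fun M _ fL fK hcomp => embeddings_of_normal T M fL fK hcomp)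
  · intro hs1 hs2
    haveI := hs1
    haveI := hs2
    haveI hs3 : Algebra.IsSeparable K K₁' := Algebra.IsSeparable.trans K K' K₁'
    rw [IntermediateField.isSeparable_adjoin_iff_isSeparable]
    intro t ht
    have ht' := ht
    rw [Polynomial.mem_rootSet] at ht'
    obtain ⟨_, hroot⟩ := ht'
    rw [map_prod, Finset.prod_eq_zero_iff] at hroot
    obtain ⟨i, _, hi⟩ := hroot
    have hsep : (minpoly K (s i)).Separable := by
      have : minpoly K (s i) = minpoly K (b i) :=
        minpoly.algebraMap_eq (algebraMap K₁' (AlgebraicClosure K₁')).injective (b i)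
      rw [this]
      exact Algebra.IsSeparable.isSeparable K (b i)
    exact hsep.of_dvd (minpoly.dvd K t hi)

end Groth.Agent.Lib.Helper10.SolDescend
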