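import Mathlib
import Groth.Prelude.Def_EtRam
import Groth.Agent.Lib.Helper10.RamTower

/-!
# Transfer of (weak) solution conditions along a field embedding (helper10)

If `W'` is a valuation subring of `M'`, `j : M → M'`, `f : K₁ → M`, then the local extension
`W' ∩ K₁ → W' ∩ M` inherits weak unramifiedness and separability of the residue extension from
`W' ∩ K₁ → W'`.
-/

set_option linter.style.haveILetI false
set_option linter.unusedSectionVars false

universe u

namespace Groth.Agent.Lib.Helper10.SolTransfer

open IsLocalRing EtRam Groth.Agent.Lib.Helper10.RamTower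

section

variable {R S : Type*} [CommRing R] [IsDomain R] [ValuationRing R] [CommRing S] (φ : R →+* S)

/-- Elements of an extended ideal of a valuation ring are single products. -/
theorem exists_mul_of_mem_map (I : Ideal R) {x : S} (hx : x ∈ I.map φ) :
    ∃ a ∈ I, ∃ s : S, x = φ a * s := by
  unfold Ideal.map at hx
  induction hx using Submodule.span_induction with
  | zero => exact ⟨0, I.zero_mem, 0, by simp⟩
  | mem y hy =>
    obtain ⟨a, ha, rfl⟩ := hy
    exact ⟨a, ha, 1, by simp⟩
  | add y z _ _ hy hz =>
    obtain ⟨a, ha, s, rfl⟩ := hy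
    obtain ⟨b, hb, t, rfl⟩ := hz
    rcases ValuationRing.dvd_total a b with ⟨c, rfl⟩ | ⟨c, rfl⟩
    · exact ⟨a, ha, s + φ c * t, by rw [map_mul]; ring⟩
    · exact ⟨b, hb, φ c * s + t, by rw [map_mul]; ring⟩
  | smul r y _ hy =>
    obtain ⟨a, ha, s, rfl⟩ := hy
    exact ⟨a, ha, r * s, by rw [smul_eq_mul]; ring⟩

end

section

variable {K₁ M M' : Type u} [Field K₁] [Field M] [Field M'] (j : M →+* M') (f : K₁ →+* M)
  (W' : ValuationSubring M')

theorem weaklyUnramified_comap_of
    (h : letI : Algebra (W'.comap (j.comp f)) W' := (inclOfComap W' (j.comp f)).toAlgebra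
      IsWeaklyUnramified (W'.comap (j.comp f)) W') :
    letI : Algebra ((W'.comap j).comap f) (W'.comap j) := (inclOfComap (W'.comap j) f).toAlgebra
    IsWeaklyUnramified ((W'.comap j).comap f) (W'.comap j) := by
  letI alg1 : Algebra (W'.comap (j.comp f)) W' := (inclOfComap W' (j.comp f)).toAlgebra
  letI alg2 : Algebra ((W'.comap j).comap f) (W'.comap j) :=
    (inclOfComap (W'.comap j) f).toAlgebra
  haveI : IsLocalHom (algebraMap ((W'.comap j).comap f) (W'.comap j)) :=
    isLocalHom_inclOfComap (W'.comap j) f
  have h' : (maximalIdeal (W'.comap (j.comp f))).map (algebraMap (W'.comap (j.comp f)) W') =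
      maximalIdeal W' := h
  show (maximalIdeal ((W'.comap j).comap f)).map
    (algebraMap ((W'.comap j).comap f) (W'.comap j)) = maximalIdeal (W'.comap j)
  apply le_antisymm
  · exact map_maximalIdeal_le
  · intro x hx
    have hx' : (⟨j (x : M), x.2⟩ : W') ∈ maximalIdeal W' := by
      rw [ValuationSubring.valuation_lt_one_iff] at hx ⊢
      exact (valuation_comap_lt_one_iff W' j _).mp hx
    rw [← h'] at hx'
    obtain ⟨a, ha, s, hs⟩ := exists_mul_of_mem_map _ _ hx'
    have hs' : j (x : M) = j (f (a : K₁)) * (s : M') := congrArg Subtype.val hs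
    by_cases ha0 : (a : K₁) = 0
    · have hx0 : x = 0 := by
        apply Subtype.ext
        apply j.injective
        rw [hs', ha0, map_zero, map_zero, zero_mul]
        simp
      rw [hx0]
      exact Ideal.zero_mem _
    · have hfa0 : f (a : K₁) ≠ 0 := fun h0 => ha0 (f.injective (by rw [h0, map_zero]))
      have hjfa0 : j (f (a : K₁)) ≠ 0 := fun h0 => hfa0 (j.injective (by rw [h0, map_zero]))
      have hmem : (x : M) / f (a : K₁) ∈ W'.comap j := by
        rw [ValuationSubring.mem_comap, map_div₀, hs', mul_div_cancel_left₀ _ hjfa0]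
        exact s.2
      have ha' : (⟨(a : K₁), a.2⟩ : (W'.comap j).comap f) ∈
          maximalIdeal ((W'.comap j).comap f) := by
        rw [ValuationSubring.valuation_lt_one_iff] at ha ⊢
        exact ha
      have hx_eq : x = algebraMap ((W'.comap j).comap f) (W'.comap j) ⟨(a : K₁), a.2⟩ *
          ⟨(x : M) / f (a : K₁), hmem⟩ := by
        apply Subtype.ext
        show (x : M) = f (a : K₁) * ((x : M) / f (a : K₁))
        rw [mul_div_cancel₀ _ hfa0]
      rw [hx_eq]
      exact Ideal.mul_mem_right _ _ (Ideal.mem_map_of_mem _ ha')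

theorem geomReduced_comap_of
    (h : @Algebra.IsGeometricallyReduced (ResidueField (W'.comap (j.comp f))) (ResidueField W') _ _
      (ResidueField.map (inclOfComap W' (j.comp f))).toAlgebra) :
    @Algebra.IsGeometricallyReduced (ResidueField ((W'.comap j).comap f))
      (ResidueField (W'.comap j)) _ _
      (ResidueField.map (inclOfComap (W'.comap j) f)).toAlgebra := by
  letI alg1 : Algebra (ResidueField ((W'.comap j).comap f)) (ResidueField W') :=
    (ResidueField.map (inclOfComap W' (j.comp f))).toAlgebra
  letI alg2 : Algebra (ResidueField ((W'.comap j).comap f)) (ResidueField (W'.comap j)) :=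
    (ResidueField.map (inclOfComap (W'.comap j) f)).toAlgebra
  haveI : Algebra.IsGeometricallyReduced (ResidueField ((W'.comap j).comap f))
    (ResidueField W') := h
  let g : ResidueField (W'.comap j) →ₐ[ResidueField ((W'.comap j).comap f)] ResidueField W' :=
    { ResidueField.map (inclOfComap W' j) with
      commutes' := by
        intro r
        show ResidueField.map (inclOfComap W' j)
          (ResidueField.map (inclOfComap (W'.comap j) f) r) =
          ResidueField.map (inclOfComap W' (j.comp f)) r
        obtain ⟨r, rfl⟩ := IsLocalRing.residue_surjective r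
        rfl }
  exact Algebra.IsGeometricallyReduced.of_injective g (RingHom.injective _)

end

end Groth.Agent.Lib.Helper10.SolTransfer
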