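import Mathlib
import Groth.Prelude.Def_EtRam
import Groth.Agent.Lib.Helper10.RamTower

/-!
# Composita of valued fields (helper10)

Given an extension of DVRs `B → C` with fraction fields `L ⊆ M₀` and a valuation subring `W` of a
field `M ⊇ L` dominating `B`, we construct a field `M'` receiving `M` and `M₀` compatibly over `L`,
generated by their images, with a valuation subring `W'` restricting to `W` on `M` and dominating `C`.
-/

set_option linter.style.haveILetI false
set_option linter.unusedSectionVars false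
set_option linter.overlappingInstances false

universe u

namespace Groth.Agent.Lib.Helper10.ValCompositum

open IsLocalRing TensorProduct Groth.Agent.Lib.Helper10.RamTower

section Basic

variable {L M : Type*} [Field L] [Field M]

/-- A valuation subring dominated by the restriction of another one equals that restriction. -/
theorem comap_eq_of_dominates (f : L →+* M) (V : ValuationSubring L) (W : ValuationSubring M)
    (h1 : ∀ v : V, f v ∈ W) (h2 : ∀ v : V, v ∈ maximalIdeal V → f v ∈ W.nonunits) :
    W.comap f = V := by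
  ext x
  rw [ValuationSubring.mem_comap]
  constructor
  · intro hx
    by_contra hxV
    have hinv : x⁻¹ ∈ V := (V.mem_or_inv_mem x).resolve_left hxV
    have hx0 : x ≠ 0 := fun h => hxV (h ▸ V.zero_mem)
    have hmax : (⟨x⁻¹, hinv⟩ : V) ∈ maximalIdeal V := by
      rw [mem_maximalIdeal, mem_nonunits_iff]
      intro hu
      obtain ⟨u, hu⟩ := hu
      apply hxV
      have h3 : ((u⁻¹ : Vˣ) : V) * (⟨x⁻¹, hinv⟩ : V) = 1 := by rw [← hu]; exact u.inv_mul
      have h4 : (((u⁻¹ : Vˣ) : V) : L) * x⁻¹ = 1 := congrArg Subtype.val h3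
      have h5 : (((u⁻¹ : Vˣ) : V) : L) = x := by
        field_simp at h4
        exact h4
      rw [← h5]
      exact ((u⁻¹ : Vˣ) : V).2
    have h6 := h2 _ hmax
    rw [ValuationSubring.mem_nonunits_iff] at h6
    have h7 : W.valuation (f x) ≤ 1 := (ValuationSubring.valuation_le_one_iff W _).mpr hx
    have h8 : W.valuation (f x) * W.valuation (f x⁻¹) = 1 := by
      rw [← map_mul, ← map_mul, mul_inv_cancel₀ hx0, map_one, map_one]
    have h9 : W.valuation (f x) * W.valuation (f x⁻¹) < 1 := by
      calc W.valuation (f x) * W.valuation (f x⁻¹) ≤ 1 * W.valuation (f x⁻¹) :=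
            mul_le_mul_left h7 _
        _ = W.valuation (f x⁻¹) := one_mul _
        _ < 1 := h6
    rw [h8] at h9
    exact lt_irrefl _ h9
  · intro hx
    exact h1 ⟨x, hx⟩

end Basic

section Core

variable {B W₀ C : Type u} [CommRing B] [IsDomain B] [IsDiscreteValuationRing B]
  [CommRing W₀] [IsDomain W₀] [IsLocalRing W₀] [Algebra B W₀] [IsLocalHom (algebraMap B W₀)]
  [CommRing C] [IsDomain C] [IsDiscreteValuationRing C] [Algebra B C]
  [IsLocalHom (algebraMap B C)]

theorem exists_compositum_core (hBWinj : Function.Injective (algebraMap B W₀))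
    (hinj : Function.Injective (algebraMap B C)) :
    ∃ (D : Type u) (_ : CommRing D) (_ : IsDomain D) (iW : W₀ →+* D) (iC : C →+* D)
      (q' : Ideal D) (_ : q'.IsPrime),
      Function.Injective iW ∧ Function.Injective iC ∧
      (∀ b, iW (algebraMap B W₀ b) = iC (algebraMap B C b)) ∧
      (∀ w ∈ maximalIdeal W₀, iW w ∈ q') ∧ (∀ c ∈ maximalIdeal C, iC c ∈ q') ∧
      ∀ S : Subring D, (∀ w, iW w ∈ S) → (∀ c, iC c ∈ S) → S = ⊤ := by
  classical
  haveI : Module.IsTorsionFree B C := by
    refine Module.IsTorsionFree.of_smul_eq_zero fun r m h => ?_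
    rw [Algebra.smul_def, mul_eq_zero] at h
    rcases h with h | h
    · left; exact hinj (by rw [h, map_zero])
    · right; exact h
  haveI : Module.Flat B C := inferInstance
  haveI : Module.FaithfullyFlat B C := Module.FaithfullyFlat.of_flat_of_isLocalHom
  haveI : Module.FaithfullyFlat W₀ (W₀ ⊗[B] C) := inferInstance
  obtain ⟨q, hqp, hqo⟩ :=
    Ideal.exists_isPrime_liesOver_of_faithfullyFlat (B := W₀ ⊗[B] C) (maximalIdeal W₀)
  obtain ⟨q₀, hq₀min, hq₀le⟩ :=
    Ideal.exists_minimalPrimes_le (bot_le : (⊥ : Ideal (W₀ ⊗[B] C)) ≤ q)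
  haveI : q₀.IsPrime := hq₀min.1.1
  let iW : W₀ →+* (W₀ ⊗[B] C) ⧸ q₀ := (Ideal.Quotient.mk q₀).comp (algebraMap W₀ (W₀ ⊗[B] C))
  let iC : C →+* (W₀ ⊗[B] C) ⧸ q₀ := (Ideal.Quotient.mk q₀).comp
    (Algebra.TensorProduct.includeRight : C →ₐ[B] W₀ ⊗[B] C).toRingHom
  have hiWC : ∀ b : B, iW (algebraMap B W₀ b) = iC (algebraMap B C b) := by
    intro b
    show Ideal.Quotient.mk q₀ (algebraMap W₀ (W₀ ⊗[B] C) (algebraMap B W₀ b)) =
      Ideal.Quotient.mk q₀ ((Algebra.TensorProduct.includeRight : C →ₐ[B] W₀ ⊗[B] C)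
        (algebraMap B C b))
    rw [AlgHom.commutes, ← IsScalarTower.algebraMap_apply]
  have hiW : Function.Injective iW := by
    rw [injective_iff_map_eq_zero]
    intro w hw
    by_contra hw0
    have hmem : algebraMap W₀ (W₀ ⊗[B] C) w ∈ q₀ := Ideal.Quotient.eq_zero_iff_mem.mp hw
    have hreg := Module.Flat.isSMulRegular_of_nonZeroDivisors (M := W₀ ⊗[B] C)
      (mem_nonZeroDivisors_of_ne_zero hw0)
    have hnzd : algebraMap W₀ (W₀ ⊗[B] C) w ∈ nonZeroDivisors (W₀ ⊗[B] C) := by
      rw [mem_nonZeroDivisors_iff_right]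
      intro x hx
      apply hreg
      show w • x = w • (0 : W₀ ⊗[B] C)
      rw [smul_zero, Algebra.smul_def, mul_comm]
      exact hx
    exact Set.disjoint_left.mp (Ideal.disjoint_nonZeroDivisors_of_mem_minimalPrimes hq₀min)
      hmem hnzd
  obtain ⟨ϖ, hϖ⟩ := IsDiscreteValuationRing.exists_irreducible B
  have hϖm : ϖ ∈ maximalIdeal B := by
    rw [mem_maximalIdeal, mem_nonunits_iff]
    exact hϖ.not_isUnit
  have hkerC : ∀ (p : Ideal C), p.IsPrime → algebraMap B C ϖ ∈ p → p = maximalIdeal C := by
    intro p hp hmem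
    have hp0 : p ≠ ⊥ := by
      intro h0
      rw [h0, Ideal.mem_bot] at hmem
      exact hϖ.ne_zero (hinj (by rw [hmem, map_zero]))
    exact IsLocalRing.eq_maximalIdeal (hp.isMaximal hp0)
  have hiC : Function.Injective iC := by
    rw [injective_iff_map_eq_zero]
    intro c hc
    by_contra hc0
    have hker : RingHom.ker iC = maximalIdeal C := by
      have hp : (RingHom.ker iC).IsPrime := RingHom.ker_isPrime iC
      have hne : RingHom.ker iC ≠ ⊥ := fun h0 => hc0 (by
        have : c ∈ RingHom.ker iC := hc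
        rwa [h0, Ideal.mem_bot] at this)
      exact IsLocalRing.eq_maximalIdeal (hp.isMaximal hne)
    have h1 : algebraMap B C ϖ ∈ RingHom.ker iC := by
      rw [hker]
      exact map_nonunit (algebraMap B C) ϖ hϖm
    rw [RingHom.mem_ker, ← hiWC] at h1
    have h2 : algebraMap B W₀ ϖ = 0 := hiW (by rw [h1, map_zero])
    exact hϖ.ne_zero (hBWinj (by rw [h2, map_zero]))
  have hkerle : RingHom.ker (Ideal.Quotient.mk q₀) ≤ q := by
    rw [Ideal.mk_ker]; exact hq₀le
  let q' : Ideal ((W₀ ⊗[B] C) ⧸ q₀) := q.map (Ideal.Quotient.mk q₀)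
  have hq'p : q'.IsPrime :=
    Ideal.map_isPrime_of_surjective Ideal.Quotient.mk_surjective hkerle
  have hq'mem : ∀ x : W₀ ⊗[B] C, Ideal.Quotient.mk q₀ x ∈ q' ↔ x ∈ q := by
    intro x
    rw [← Ideal.mem_comap, Ideal.comap_map_of_surjective _ Ideal.Quotient.mk_surjective,
      ← RingHom.ker_eq_comap_bot, sup_eq_left.mpr hkerle]
  have hqW : ∀ w : W₀, w ∈ maximalIdeal W₀ → algebraMap W₀ (W₀ ⊗[B] C) w ∈ q := by
    intro w hw
    have := hqo.over
    rw [this] at hw
    exact hw
  have hqC : ∀ c : C, c ∈ maximalIdeal C →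
      (Algebra.TensorProduct.includeRight : C →ₐ[B] W₀ ⊗[B] C) c ∈ q := by
    intro c hc
    have hp : (q.comap (Algebra.TensorProduct.includeRight :
        C →ₐ[B] W₀ ⊗[B] C).toRingHom).IsPrime := Ideal.comap_isPrime _ _
    have hmem : algebraMap B C ϖ ∈
        q.comap (Algebra.TensorProduct.includeRight : C →ₐ[B] W₀ ⊗[B] C).toRingHom := by
      rw [Ideal.mem_comap]
      show (Algebra.TensorProduct.includeRight : C →ₐ[B] W₀ ⊗[B] C) (algebraMap B C ϖ) ∈ q
      rw [AlgHom.commutes, IsScalarTower.algebraMap_apply B W₀ (W₀ ⊗[B] C)]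
      exact hqW _ (map_nonunit (algebraMap B W₀) ϖ hϖm)
    have := hkerC _ hp hmem
    rw [← this] at hc
    exact hc
  refine ⟨(W₀ ⊗[B] C) ⧸ q₀, inferInstance, inferInstance, iW, iC, q', hq'p, hiW, hiC, hiWC,
    fun w hw => (hq'mem _).mpr (hqW w hw), fun c hc => (hq'mem _).mpr (hqC c hc), ?_⟩
  intro S hS hS₀
  rw [eq_top_iff]
  rintro d -
  obtain ⟨t, rfl⟩ := Ideal.Quotient.mk_surjective d
  induction t using TensorProduct.induction_on with
  | zero => simp
  | tmul w c =>
    have h1 : Ideal.Quotient.mk q₀ (w ⊗ₜ[B] c) = iW w * iC c := by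
      show _ = Ideal.Quotient.mk q₀ (algebraMap W₀ (W₀ ⊗[B] C) w) *
          Ideal.Quotient.mk q₀ ((Algebra.TensorProduct.includeRight : C →ₐ[B] W₀ ⊗[B] C) c)
      rw [← map_mul, Algebra.TensorProduct.algebraMap_apply,
        Algebra.TensorProduct.includeRight_apply, Algebra.TensorProduct.tmul_mul_tmul]
      simp
    rw [h1]
    exact S.mul_mem (hS _) (hS₀ _)
  | add x y hx hy =>
    rw [map_add]
    exact S.add_mem hx hy

end Core

section Compositum

variable {B L M C M₀ : Type u} [CommRing B] [IsDomain B] [IsDiscreteValuationRing B]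
  [Field L] [Algebra B L] [IsFractionRing B L] [Field M] [Algebra L M]
  [CommRing C] [IsDomain C] [IsDiscreteValuationRing C] [Algebra B C]
  [IsLocalHom (algebraMap B C)]
  [Field M₀] [Algebra C M₀] [IsFractionRing C M₀] [Algebra L M₀] [Algebra B M₀]
  [IsScalarTower B C M₀] [IsScalarTower B L M₀]

theorem exists_compositum (hinj : Function.Injective (algebraMap B C))
    (W : ValuationSubring M)
    (hW : EtRam.Dominates B ((algebraMap L M).comp (algebraMap B L)) W) :
    ∃ (M' : Type u) (_ : Field M') (j : M →+* M') (j₀ : M₀ →+* M') (W' : ValuationSubring M'),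
      j.comp (algebraMap L M) = j₀.comp (algebraMap L M₀) ∧ W'.comap j = W ∧
      EtRam.Dominates C (j₀.comp (algebraMap C M₀)) W' ∧
      ∀ S : Subfield M', (∀ x, j x ∈ S) → (∀ y, j₀ y ∈ S) → S = ⊤ := by
  classical
  letI algBW : Algebra B W :=
    (RingHom.codRestrict ((algebraMap L M).comp (algebraMap B L)) W hW.1).toAlgebra
  haveI locBW : IsLocalHom (algebraMap B W) := isLocalHom_of_dominates B _ W hW
  have hBWinj : Function.Injective (algebraMap B W) := fun a b hab =>
    ((algebraMap L M).injective.comp (IsFractionRing.injective B L)) (congrArg Subtype.val hab)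
  obtain ⟨D, instD, instDom, iW, iC, q', hq'p, hiW, hiC, hiWC, hqW, hqC, hgen⟩ :=
    exists_compositum_core (W₀ := W) hBWinj hinj
  let M' := FractionRing D
  have hDM' : Function.Injective (algebraMap D M') := IsFractionRing.injective D M'
  let gW : W →+* M' := (algebraMap D M').comp iW
  let gC : C →+* M' := (algebraMap D M').comp iC
  have hgW : Function.Injective gW := hDM'.comp hiW
  have hgC : Function.Injective gC := hDM'.comp hiC
  let j : M →+* M' := IsFractionRing.lift hgW
  let j₀ : M₀ →+* M' := IsFractionRing.lift hgC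
  have hj : ∀ w : W, j (w : M) = gW w := fun w => IsFractionRing.lift_algebraMap hgW w
  have hj₀ : ∀ c : C, j₀ (algebraMap C M₀ c) = gC c := fun c => IsFractionRing.lift_algebraMap hgC c
  have hcompat : j.comp (algebraMap L M) = j₀.comp (algebraMap L M₀) := by
    apply IsLocalization.ringHom_ext (nonZeroDivisors B)
    ext b
    simp only [RingHom.comp_apply]
    have h1 : j (algebraMap L M (algebraMap B L b)) = gW (algebraMap B W b) := hj (algebraMap B W b)
    have h2 : j₀ (algebraMap L M₀ (algebraMap B L b)) = gC (algebraMap B C b) := by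
      rw [← IsScalarTower.algebraMap_apply B L M₀, IsScalarTower.algebraMap_apply B C M₀, hj₀]
    rw [h1, h2]
    show algebraMap D M' (iW _) = algebraMap D M' (iC _)
    rw [hiWC]
  let f : Localization.AtPrime q' →+* M' :=
    IsLocalization.lift (M := q'.primeCompl) (g := algebraMap D M') (fun y => by
      have hy0 : (y : D) ≠ 0 := fun h0 => y.2 (h0 ▸ q'.zero_mem)
      exact (isUnit_iff_ne_zero.mpr (fun h => hy0 (hDM' (by rw [h, map_zero])))))
  have hf : ∀ d : D, f (algebraMap D (Localization.AtPrime q') d) = algebraMap D M' d :=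
    fun d => IsLocalization.lift_eq _ d
  obtain ⟨W', hW'1, hW'2⟩ :=
    Groth.Agent.Lib.Helper39.KA.exists_valuationSubring_dominating f
  have hDW' : ∀ d : D, algebraMap D M' d ∈ W' := fun d => hf d ▸ hW'1 _
  have hDW'm : ∀ d : D, d ∈ q' → algebraMap D M' d ∈ W'.nonunits := by
    intro d hd
    rw [← hf d]
    apply hW'2
    rw [IsLocalization.AtPrime.to_map_mem_maximal_iff _ q']
    exact hd
  refine ⟨M', inferInstance, j, j₀, W', hcompat, ?_, ⟨?_, ?_⟩, ?_⟩
  · apply comap_eq_of_dominates
    · intro w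
      rw [hj]
      exact hDW' _
    · intro w hw
      rw [hj]
      exact hDW'm _ (hqW w hw)
  · intro c
    rw [RingHom.comp_apply, hj₀]
    exact hDW' _
  · intro c hc
    rw [RingHom.comp_apply, hj₀, ← ValuationSubring.mem_nonunits_iff]
    exact hDW'm _ (hqC c hc)
  · intro S hS hS₀
    rw [eq_top_iff]
    intro x _
    have hD : ∀ d : D, algebraMap D M' d ∈ S := by
      intro d
      have hSD : (S.toSubring.comap (algebraMap D M')) = ⊤ := by
        apply hgen
        · intro w
          show algebraMap D M' (iW w) ∈ S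
          have := hS (w : M)
          rwa [hj] at this
        · intro c
          show algebraMap D M' (iC c) ∈ S
          have := hS₀ (algebraMap C M₀ c)
          rwa [hj₀] at this
      have : d ∈ (S.toSubring.comap (algebraMap D M')) := hSD ▸ Subring.mem_top d
      exact this
    obtain ⟨d₁, d₂, hd₂, rfl⟩ := IsFractionRing.div_surjective (A := D) x
    exact S.div_mem (hD _) (hD _)

end Compositum

end Groth.Agent.Lib.Helper10.ValCompositum
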