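import Mathlib
import Groth.Prelude.Def_EtRam
import Groth.Agent.Lib.Helper10.SolDescend3
import Groth.Agent.Lib.Helper10.GeomRedLib
import Groth.Agent.S1988

/-!
# Assembling the square of DVR extensions (helper10)
-/

set_option autoImplicit false
set_option linter.style.haveILetI false
set_option linter.unusedSectionVars false
universe u

namespace Groth.Agent.Lib.Helper10.SHAssemble

open IsLocalRing EtRam Groth.Agent.Lib.Helper10.SolDescend

theorem assemble (A B K L : Type u) [CommRing A] [IsDomain A]
    [IsDiscreteValuationRing A] [CommRing B] [IsDomain B] [IsDiscreteValuationRing B] [Algebra A B]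
    (hinj : Function.Injective (algebraMap A B)) [IsLocalHom (algebraMap A B)]
    [Field K] [Field L] [Algebra A K] [IsFractionRing A K] [Algebra B L] [IsFractionRing B L]
    [Algebra K L] [Algebra A L] [IsScalarTower A K L] [IsScalarTower A B L]
    (A' B' : Type u) [CommRing A'] [IsDomain A'] [IsDiscreteValuationRing A']
    [CommRing B'] [IsDomain B'] [IsDiscreteValuationRing B']
    [Algebra A A'] [Algebra B B'] [locA : IsLocalHom (algebraMap A A')]
    [locB : IsLocalHom (algebraMap B B')]
    (hA : Function.Injective (algebraMap A A')) (hB : Function.Injective (algebraMap B B'))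
    (g : A' →+* B') [locg : IsLocalHom g]
    (hg : g.comp (algebraMap A A') = (algebraMap B B').comp (algebraMap A B))
    (hginj : Function.Injective g)
    (hwA : IsWeaklyUnramified A A')
    (hsA : letI := (IsLocalRing.ResidueField.map (algebraMap A A')).toAlgebra
      IsSepClosure (IsLocalRing.ResidueField A) (IsLocalRing.ResidueField A'))
    (hsB : letI := (IsLocalRing.ResidueField.map (algebraMap B B')).toAlgebra
      IsSepClosure (IsLocalRing.ResidueField B) (IsLocalRing.ResidueField B'))
    (hsepK : ∀ (K' : Type u) [Field K'] [Algebra A' K'] [IsFractionRing A' K'] [Algebra K K']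
      [Algebra A K'] [IsScalarTower A K K'] [IsScalarTower A A' K'], Algebra.IsSeparable K K')
    (hsepL : ∀ (L' : Type u) [Field L'] [Algebra B' L'] [IsFractionRing B' L'] [Algebra L L']
      [Algebra B L'] [IsScalarTower B L L'] [IsScalarTower B B' L'], Algebra.IsSeparable L L') :
    ∃ (A' B' K' L' : Type u) (_ : CommRing A') (_ : IsDomain A') (_ : IsDiscreteValuationRing A')
      (_ : CommRing B') (_ : IsDomain B') (_ : IsDiscreteValuationRing B') (_ : Field K') (_ : Field L')
      (_ : Algebra A A') (_ : Algebra B B') (_ : Algebra A' B') (_ : Algebra A B')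
      (_ : IsScalarTower A B B') (_ : IsScalarTower A A' B')
      (_ : Algebra A' K') (_ : IsFractionRing A' K') (_ : Algebra B' L') (_ : IsFractionRing B' L')
      (_ : Algebra K' L') (_ : Algebra A' L') (_ : IsScalarTower A' K' L') (_ : IsScalarTower A' B' L')
      (_ : Algebra K K') (_ : Algebra A K') (_ : IsScalarTower A K K') (_ : IsScalarTower A A' K')
      (_ : Algebra L L') (_ : Algebra B L') (_ : IsScalarTower B L L') (_ : IsScalarTower B B' L')
      (hA : IsLocalHom (algebraMap A A')) (hB : IsLocalHom (algebraMap B B')) (_ : IsLocalHom (algebraMap A' B')),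
      Function.Injective (algebraMap A A') ∧ Function.Injective (algebraMap B B') ∧
      Function.Injective (algebraMap A' B') ∧
      Algebra.IsSeparable K K' ∧ Algebra.IsSeparable L L' ∧
      (letI := (IsLocalRing.ResidueField.map (algebraMap A A')).toAlgebra
       IsSepClosure (IsLocalRing.ResidueField A) (IsLocalRing.ResidueField A')) ∧
      (letI := (IsLocalRing.ResidueField.map (algebraMap B B')).toAlgebra
       IsSepClosure (IsLocalRing.ResidueField B) (IsLocalRing.ResidueField B')) ∧
      ((∃ (K₁ : Type u) (_ : Field K₁) (_ : Algebra K' K₁), FiniteDimensional K' K₁ ∧ EtRam.IsSolution B' K' L' K₁) →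
        ∃ (K₁ : Type u) (_ : Field K₁) (_ : Algebra K K₁), FiniteDimensional K K₁ ∧ EtRam.IsSolution B K L K₁) ∧
      ((∃ (K₁ : Type u) (_ : Field K₁) (_ : Algebra K' K₁), FiniteDimensional K' K₁ ∧ Algebra.IsSeparable K' K₁ ∧
          EtRam.IsSolution B' K' L' K₁) →
        ∃ (K₁ : Type u) (_ : Field K₁) (_ : Algebra K K₁), FiniteDimensional K K₁ ∧ Algebra.IsSeparable K K₁ ∧
          EtRam.IsSolution B K L K₁) := by
  -- abstract fraction fields
  obtain ⟨K', fK', algA'K', frA'⟩ : ∃ (K' : Type u) (_ : Field K') (_ : Algebra A' K'),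
      IsFractionRing A' K' := ⟨FractionRing A', inferInstance, inferInstance, inferInstance⟩
  obtain ⟨L', fL', algB'L', frB'⟩ : ∃ (L' : Type u) (_ : Field L') (_ : Algebra B' L'),
      IsFractionRing B' L' := ⟨FractionRing B', inferInstance, inferInstance, inferInstance⟩
  -- algebra structures
  letI algA'B' : Algebra A' B' := g.toAlgebra
  letI algAB' : Algebra A B' := ((algebraMap B B').comp (algebraMap A B)).toAlgebra
  haveI tw1 : IsScalarTower A B B' := IsScalarTower.of_algebraMap_eq (fun _ => rfl)
  haveI tw2 : IsScalarTower A A' B' :=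
    IsScalarTower.of_algebraMap_eq (fun x => (RingHom.congr_fun hg x).symm)
  have injA'L' : Function.Injective ((algebraMap B' L').comp g) :=
    (IsFractionRing.injective B' L').comp hginj
  letI algK'L' : Algebra K' L' := (IsFractionRing.lift injA'L').toAlgebra
  letI algA'L' : Algebra A' L' := ((algebraMap B' L').comp g).toAlgebra
  haveI tw3 : IsScalarTower A' K' L' :=
    IsScalarTower.of_algebraMap_eq (fun x => (IsFractionRing.lift_algebraMap injA'L' x).symm)
  haveI tw4 : IsScalarTower A' B' L' := IsScalarTower.of_algebraMap_eq (fun _ => rfl)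
  have injAK' : Function.Injective ((algebraMap A' K').comp (algebraMap A A')) :=
    (IsFractionRing.injective A' K').comp hA
  letI algKK' : Algebra K K' := (IsFractionRing.lift injAK').toAlgebra
  letI algAK' : Algebra A K' := ((algebraMap A' K').comp (algebraMap A A')).toAlgebra
  haveI tw5 : IsScalarTower A K K' :=
    IsScalarTower.of_algebraMap_eq (fun x => (IsFractionRing.lift_algebraMap injAK' x).symm)
  haveI tw6 : IsScalarTower A A' K' := IsScalarTower.of_algebraMap_eq (fun _ => rfl)
  have injBL' : Function.Injective ((algebraMap B' L').comp (algebraMap B B')) :=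
    (IsFractionRing.injective B' L').comp hB
  letI algLL' : Algebra L L' := (IsFractionRing.lift injBL').toAlgebra
  letI algBL' : Algebra B L' := ((algebraMap B' L').comp (algebraMap B B')).toAlgebra
  haveI tw7 : IsScalarTower B L L' :=
    IsScalarTower.of_algebraMap_eq (fun x => (IsFractionRing.lift_algebraMap injBL' x).symm)
  haveI tw8 : IsScalarTower B B' L' := IsScalarTower.of_algebraMap_eq (fun _ => rfl)
  haveI locg' : IsLocalHom (algebraMap A' B') := locg
  have sepK : Algebra.IsSeparable K K' := hsepK K'
  have sepL : Algebra.IsSeparable L L' := hsepL L'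
  -- the square of fields commutes
  letI algKL' : Algebra K L' := ((algebraMap L L').comp (algebraMap K L)).toAlgebra
  haveI tw9 : IsScalarTower K L L' := IsScalarTower.of_algebraMap_eq (fun _ => rfl)
  have hsq : (algebraMap K' L').comp (algebraMap K K') =
      (algebraMap L L').comp (algebraMap K L) := by
    apply IsLocalization.ringHom_ext (nonZeroDivisors A)
    ext a
    show algebraMap K' L' (algebraMap K K' (algebraMap A K a)) =
      algebraMap L L' (algebraMap K L (algebraMap A K a))
    rw [← IsScalarTower.algebraMap_apply A K K', IsScalarTower.algebraMap_apply A A' K',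
      ← IsScalarTower.algebraMap_apply A' K' L', IsScalarTower.algebraMap_apply A' B' L',
      ← IsScalarTower.algebraMap_apply A K L, IsScalarTower.algebraMap_apply A B L,
      ← IsScalarTower.algebraMap_apply B L L', IsScalarTower.algebraMap_apply B B' L',
      ← IsScalarTower.algebraMap_apply A A' B', IsScalarTower.algebraMap_apply A B B']
  haveI tw10 : IsScalarTower K K' L' :=
    IsScalarTower.of_algebraMap_eq (fun x => (RingHom.congr_fun hsq x).symm)
  -- residue fields
  haveI algKK'alg : Algebra.IsAlgebraic K K' := Algebra.IsSeparable.isAlgebraic K K'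
  haveI grA : Algebra.IsGeometricallyReduced (ResidueField A) (ResidueField A') := by
    have hinst : (ResidueField.map (algebraMap A A')).toAlgebra =
        (inferInstance : Algebra (ResidueField A) (ResidueField A')) := by
      apply Algebra.algebra_ext
      intro r
      obtain ⟨a, rfl⟩ := residue_surjective r
      rfl
    have hs := hsA
    rw [hinst] at hs
    haveI := hs.separable
    exact GeomRedLib.geomReduced_of_isSeparable _ _
  -- main
  have main : ∀ (K₁' : Type u) [Field K₁'] [Algebra K' K₁'] [FiniteDimensional K' K₁'],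
      IsSolution B' K' L' K₁' → ∃ (K₂ : Type u) (_ : Field K₂) (_ : Algebra K K₂),
        FiniteDimensional K K₂ ∧ IsSolution B K L K₂ ∧
          (Algebra.IsSeparable K' K₁' → Algebra.IsSeparable K K₂) := by
    intro K₁' _ _ _ hsol
    obtain ⟨K₂, fK₂, algK₂, finK₂, hsol₂, hsep₂⟩ :=
      exists_solution_descend A A' B' K K' L' hA hwA K₁' hsol
    refine ⟨K₂, fK₂, algK₂, finK₂, ?_, fun h => hsep₂ sepK h⟩
    exact (Groth.Agent.S1988.result A B B' K L L' K₂ hinj hB).2 hsol₂
  refine ⟨A', B', K', L', inferInstance, inferInstance, inferInstance, inferInstance,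
    inferInstance, inferInstance, fK', fL', inferInstance, inferInstance, algA'B', algAB', tw1, tw2,
    algA'K', frA', algB'L', frB', algK'L', algA'L', tw3, tw4, algKK', algAK', tw5, tw6,
    algLL', algBL', tw7, tw8, locA, locB, locg', hA, hB, hginj, sepK, sepL, hsA, hsB, ?_, ?_⟩
  · rintro ⟨K₁', _, _, fin, hsol⟩
    obtain ⟨K₂, fK₂, algK₂, finK₂, hsol₂, -⟩ := main K₁' hsol
    exact ⟨K₂, fK₂, algK₂, finK₂, hsol₂⟩
  · rintro ⟨K₁', _, _, fin, hsep, hsol⟩
    obtain ⟨K₂, fK₂, algK₂, finK₂, hsol₂, hsep₂⟩ := main K₁' hsol
    exact ⟨K₂, fK₂, algK₂, finK₂, hsep₂ hsep, hsol₂⟩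

end Groth.Agent.Lib.Helper10.SHAssemble
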