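import Mathlib
import Groth.Prelude.Def_EtRam
import Groth.Agent.Lib.Helper10.RamTower
import Groth.Agent.Lib.Helper10.SolCore

/-!
# Frobenius twist of a solution (helper10)

A commutative square of fields
```
K₂ --f₂--> M₂
|Fr        |βM
K₁ --f₁--> M₁
```
and a valuation subring `W₁` of `M₁`.  If the local extension `(W₁.comap βM) ∩ K₂ → W₁.comap βM` is
weakly unramified with geometrically reduced residue extension, `Fr` hits all `q`-th powers, and
`M₁` is the fraction field of the subring generated by the images of `W₁.comap βM` and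
`W₁ ∩ K₁`, then `W₁ ∩ K₁ → W₁` is also weakly unramified with geometrically reduced residue
extension.
-/

set_option linter.style.haveILetI false
set_option linter.unusedSectionVars false

universe u

namespace Groth.Agent.Lib.Helper10.SepTwist

open IsLocalRing EtRam Groth.Agent.Lib.Helper10.RamTower Groth.Agent.Lib.Helper10.SolCore
  Groth.Agent.Lib.Helper10.VNRGen

variable {K₁ K₂ M₁ M₂ : Type u} [Field K₁] [Field K₂] [Field M₁] [Field M₂]
  (f₁ : K₁ →+* M₁) (f₂ : K₂ →+* M₂) (Fr : K₂ →+* K₁) (βM : M₂ →+* M₁)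
  (hsq : ∀ x, f₁ (Fr x) = βM (f₂ x))
  (W₁ : ValuationSubring M₁)

/-- The map `V₂ → V₁`. -/
def α : (W₁.comap βM).comap f₂ →+* W₁.comap f₁ :=
  RingHom.codRestrict (Fr.comp ((W₁.comap βM).comap f₂).subtype) (W₁.comap f₁) (fun x => by
    show f₁ (Fr (x : K₂)) ∈ W₁
    rw [hsq]; exact x.2)

theorem α_coe (x : (W₁.comap βM).comap f₂) :
    ((α f₁ f₂ Fr βM hsq W₁ x : W₁.comap f₁) : K₁) = Fr (x : K₂) := rfl

theorem isLocalHom_α : IsLocalHom (α f₁ f₂ Fr βM hsq W₁) := by
  constructor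
  intro x hx
  obtain ⟨u, hu⟩ := hx
  have hux : ((u : W₁.comap f₁) : K₁) = Fr (x : K₂) := by rw [hu]; rfl
  have hmul : Fr (x : K₂) * (((u⁻¹ : (W₁.comap f₁)ˣ) : W₁.comap f₁) : K₁) = 1 := by
    have h1 := congrArg Subtype.val u.mul_inv
    simp only [MulMemClass.coe_mul, OneMemClass.coe_one] at h1
    rw [hux] at h1
    exact h1
  have hx0 : Fr (x : K₂) ≠ 0 := left_ne_zero_of_mul_eq_one hmul
  have hx0' : (x : K₂) ≠ 0 := fun h => hx0 (by rw [h, map_zero])
  have hinv : (((u⁻¹ : (W₁.comap f₁)ˣ) : W₁.comap f₁) : K₁) = (Fr (x : K₂))⁻¹ :=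
    eq_inv_of_mul_eq_one_right hmul
  have hmem : (x : K₂)⁻¹ ∈ (W₁.comap βM).comap f₂ := by
    show βM (f₂ _) ∈ W₁
    rw [← hsq, map_inv₀, ← hinv]
    exact (((u⁻¹ : (W₁.comap f₁)ˣ) : W₁.comap f₁)).2
  exact ⟨⟨x, ⟨_, hmem⟩, Subtype.ext (mul_inv_cancel₀ hx0'), Subtype.ext (inv_mul_cancel₀ hx0')⟩, rfl⟩

include hsq in
theorem twist [IsDiscreteValuationRing W₁] [IsDiscreteValuationRing (W₁.comap f₁)]
    (q : ℕ) (hq : 0 < q) (hFr : ∀ y : K₁, ∃ x : K₂, Fr x = y ^ q)
    (hsol : letI : Algebra ((W₁.comap βM).comap f₂) (W₁.comap βM) :=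
        (inclOfComap (W₁.comap βM) f₂).toAlgebra
      IsWeaklyUnramified ((W₁.comap βM).comap f₂) (W₁.comap βM) ∧
      @Algebra.IsGeometricallyReduced (ResidueField ((W₁.comap βM).comap f₂))
        (ResidueField (W₁.comap βM)) _ _
        (ResidueField.map (inclOfComap (W₁.comap βM) f₂)).toAlgebra)
    (hfrac : ∀ x : M₁,
      ∃ c₁ ∈ Subring.closure (Set.range (inclOfComap W₁ βM) ∪ Set.range (inclOfComap W₁ f₁)),
      ∃ c₂ ∈ Subring.closure (Set.range (inclOfComap W₁ βM) ∪ Set.range (inclOfComap W₁ f₁)),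
        c₂ ≠ 0 ∧ x * (c₂ : M₁) = (c₁ : M₁)) :
    letI : Algebra (W₁.comap f₁) W₁ := (inclOfComap W₁ f₁).toAlgebra
    IsWeaklyUnramified (W₁.comap f₁) W₁ ∧
      @Algebra.IsGeometricallyReduced (ResidueField (W₁.comap f₁)) (ResidueField W₁) _ _
        (ResidueField.map (inclOfComap W₁ f₁)).toAlgebra := by
  classical
  letI alg21 : Algebra ((W₁.comap βM).comap f₂) (W₁.comap βM) :=
    (inclOfComap (W₁.comap βM) f₂).toAlgebra
  haveI loc21 : IsLocalHom (algebraMap ((W₁.comap βM).comap f₂) (W₁.comap βM)) :=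
    isLocalHom_inclOfComap (W₁.comap βM) f₂
  letI algα : Algebra ((W₁.comap βM).comap f₂) (W₁.comap f₁) :=
    (α f₁ f₂ Fr βM hsq W₁).toAlgebra
  haveI locα : IsLocalHom (algebraMap ((W₁.comap βM).comap f₂) (W₁.comap f₁)) :=
    isLocalHom_α f₁ f₂ Fr βM hsq W₁
  letI algβ : Algebra (W₁.comap βM) W₁ := (inclOfComap W₁ βM).toAlgebra
  haveI locβ : IsLocalHom (algebraMap (W₁.comap βM) W₁) := isLocalHom_inclOfComap W₁ βM
  letI algν : Algebra (W₁.comap f₁) W₁ := (inclOfComap W₁ f₁).toAlgebra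
  haveI locν : IsLocalHom (algebraMap (W₁.comap f₁) W₁) := isLocalHom_inclOfComap W₁ f₁
  -- residue field of `V₁` is algebraic over that of `V₂`
  haveI algRes : Algebra.IsAlgebraic (ResidueField ((W₁.comap βM).comap f₂))
      (ResidueField (W₁.comap f₁)) := by
    refine ⟨fun z => ?_⟩
    obtain ⟨y, rfl⟩ := residue_surjective z
    obtain ⟨x, hx⟩ := hFr (y : K₁)
    have hxmem : x ∈ (W₁.comap βM).comap f₂ := by
      show βM (f₂ x) ∈ W₁
      rw [← hsq, hx, map_pow]
      exact pow_mem (show f₁ (y : K₁) ∈ W₁ from y.2) q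
    have hαx : algebraMap ((W₁.comap βM).comap f₂) (W₁.comap f₁) ⟨x, hxmem⟩ = y ^ q :=
      Subtype.ext hx
    apply IsIntegral.isAlgebraic
    refine ⟨Polynomial.X ^ q - Polynomial.C (residue ((W₁.comap βM).comap f₂) ⟨x, hxmem⟩),
      Polynomial.monic_X_pow_sub_C _ hq.ne', ?_⟩
    rw [Polynomial.eval₂_sub, Polynomial.eval₂_pow, Polynomial.eval₂_X, Polynomial.eval₂_C,
      ResidueField.algebraMap_residue, hαx, map_pow, sub_self]
  have hinst : (ResidueField.map (inclOfComap (W₁.comap βM) f₂)).toAlgebra =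
      (inferInstance : Algebra (ResidueField ((W₁.comap βM).comap f₂))
        (ResidueField (W₁.comap βM))) := by
    apply Algebra.algebra_ext
    intro r
    obtain ⟨a, rfl⟩ := residue_surjective r
    rfl
  haveI gr : Algebra.IsGeometricallyReduced (ResidueField ((W₁.comap βM).comap f₂))
      (ResidueField (W₁.comap βM)) := by
    have h2 := hsol.2
    rw [hinst] at h2
    exact h2
  have hw : (maximalIdeal ((W₁.comap βM).comap f₂)).map
      (algebraMap ((W₁.comap βM).comap f₂) (W₁.comap βM)) = maximalIdeal (W₁.comap βM) := hsol.1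
  have hcomp : ∀ a, (inclOfComap W₁ βM) (algebraMap ((W₁.comap βM).comap f₂) (W₁.comap βM) a) =
      (inclOfComap W₁ f₁) (algebraMap ((W₁.comap βM).comap f₂) (W₁.comap f₁) a) :=
    fun a => Subtype.ext (hsq a).symm
  obtain ⟨π₁, hπ₁⟩ := IsDiscreteValuationRing.exists_irreducible (W₁.comap f₁)
  have hπm : maximalIdeal (W₁.comap f₁) = Ideal.span {π₁} := hπ₁.maximalIdeal_eq
  have hvnr := vnr_mod_uniformizer (inclOfComap W₁ βM) (inclOfComap W₁ f₁) hcomp hw π₁ hπm
  set S := Subring.closure (Set.range (inclOfComap W₁ βM) ∪ Set.range (inclOfComap W₁ f₁)) with hS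
  have hνS : ∀ v, inclOfComap W₁ f₁ v ∈ S := fun v => Subring.subset_closure (Or.inr ⟨v, rfl⟩)
  have hfrac' : ∀ w : W₁, ∃ c₁ ∈ S, ∃ c₂ ∈ S, c₂ ≠ 0 ∧ w * c₂ = c₁ := by
    intro w
    obtain ⟨c₁, hc₁, c₂, hc₂, hc₂0, hc⟩ := hfrac (w : M₁)
    exact ⟨c₁, hc₁, c₂, hc₂, hc₂0, Subtype.ext hc⟩
  have hπS : inclOfComap W₁ f₁ π₁ ∈ S := hνS π₁
  have hπmW : inclOfComap W₁ f₁ π₁ ∈ maximalIdeal W₁ :=
    map_nonunit (inclOfComap W₁ f₁) π₁ (by
      rw [hπm]; exact Ideal.mem_span_singleton_self _)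
  have hπ0 : inclOfComap W₁ f₁ π₁ ≠ 0 := by
    intro h0
    have h1 : f₁ (π₁ : K₁) = 0 := congrArg Subtype.val h0
    have h2 : (π₁ : K₁) = 0 := f₁.injective (by rw [h1, map_zero])
    exact hπ₁.ne_zero (Subtype.ext h2)
  have hmW := maximalIdeal_eq_span S _ hπS hπmW hπ0 hvnr hfrac'
  refine ⟨?_, ?_⟩
  · show (maximalIdeal (W₁.comap f₁)).map (inclOfComap W₁ f₁) = maximalIdeal W₁
    rw [hπm, Ideal.map_span, Set.image_singleton, hmW]
  · letI algA_W : Algebra ((W₁.comap βM).comap f₂) W₁ :=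
      ((algebraMap (W₁.comap βM) W₁).comp
        (algebraMap ((W₁.comap βM).comap f₂) (W₁.comap βM))).toAlgebra
    haveI : IsScalarTower ((W₁.comap βM).comap f₂) (W₁.comap βM) W₁ :=
      IsScalarTower.of_algebraMap_eq (fun _ => rfl)
    haveI locAW : IsLocalHom (algebraMap ((W₁.comap βM).comap f₂) W₁) := by
      show IsLocalHom ((algebraMap (W₁.comap βM) W₁).comp
        (algebraMap ((W₁.comap βM).comap f₂) (W₁.comap βM)))
      infer_instance
    letI algκ : Algebra (ResidueField (W₁.comap f₁)) (ResidueField W₁) :=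
      (ResidueField.map (inclOfComap W₁ f₁)).toAlgebra
    haveI : IsScalarTower (ResidueField ((W₁.comap βM).comap f₂)) (ResidueField (W₁.comap f₁))
        (ResidueField W₁) := by
      refine IsScalarTower.of_algebraMap_eq (fun r => ?_)
      obtain ⟨a, rfl⟩ := residue_surjective r
      show algebraMap (ResidueField ((W₁.comap βM).comap f₂)) (ResidueField W₁) (residue _ a) =
        ResidueField.map (inclOfComap W₁ f₁)
          (algebraMap (ResidueField ((W₁.comap βM).comap f₂)) (ResidueField (W₁.comap f₁))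
            (residue _ a))
      rw [ResidueField.algebraMap_residue, ResidueField.algebraMap_residue,
        ResidueField.map_residue, ← hcomp]
      rfl
    apply geomReduced_of_generated (kA := ResidueField ((W₁.comap βM).comap f₂))
      (kB := ResidueField (W₁.comap βM))
    intro z
    obtain ⟨w, rfl⟩ := residue_surjective z
    obtain ⟨c, hcS, hwc⟩ := exists_sub_mem S _ hπS hπmW hπ0 hvnr hfrac' w
    have hres : residue W₁ w = residue W₁ c := by
      rw [← sub_eq_zero, ← map_sub, residue_eq_zero_iff]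
      exact hwc
    rw [hres]
    have h1 : residue W₁ c ∈ (S.map (residue W₁)) := ⟨c, hcS, rfl⟩
    rw [hS, RingHom.map_closure] at h1
    refine Subring.closure_mono ?_ h1
    rintro _ ⟨x, hx | hx, rfl⟩
    · obtain ⟨b, rfl⟩ := hx
      exact Or.inl ⟨residue _ b, rfl⟩
    · obtain ⟨v, rfl⟩ := hx
      exact Or.inr ⟨residue _ v, rfl⟩

end Groth.Agent.Lib.Helper10.SepTwist
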