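import Mathlib
import Groth.Prelude.Def_EtRam
import Groth.Agent.Lib.Helper10.RamTower
import Groth.Agent.Lib.Helper10.PIFrob
import Groth.Agent.Lib.Helper10.SepTwist

/-!
# Descent of solutions along purely inseparable extensions (helper10)

`A → B` an extension of DVRs with separable algebraic fraction field extension `L/K`.  If
`K ⊂ K₁ ⊂ K₂` with `K₂ ^ (p ^ e) ⊂ K₁` and `K₂` is a solution, then so is `K₁`.
-/

set_option linter.style.haveILetI false
set_option linter.unusedSectionVars false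

universe u

namespace Groth.Agent.Lib.Helper10.SepDescend

open IsLocalRing EtRam Groth.Agent.Lib.Helper10.RamTower Groth.Agent.Lib.Helper10.PIFrob
  Groth.Agent.Lib.Helper10.SepTwist

/-- The subfield of fractions of elements of a subring `S` of a valuation subring. -/
def fracSubfield {M : Type*} [Field M] (W : ValuationSubring M) (S : Subring W) : Subfield M where
  carrier := {x | ∃ c₁ ∈ S, ∃ c₂ ∈ S, c₂ ≠ 0 ∧ x * (c₂ : M) = (c₁ : M)}
  zero_mem' := ⟨0, S.zero_mem, 1, S.one_mem, one_ne_zero, by simp⟩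
  one_mem' := ⟨1, S.one_mem, 1, S.one_mem, one_ne_zero, by simp⟩
  add_mem' := by
    rintro y z ⟨c₁, hc₁, c₂, hc₂, hc₂0, hc⟩ ⟨d₁, hd₁, d₂, hd₂, hd₂0, hd⟩
    refine ⟨c₁ * d₂ + d₁ * c₂, S.add_mem (S.mul_mem hc₁ hd₂) (S.mul_mem hd₁ hc₂), c₂ * d₂,
      S.mul_mem hc₂ hd₂, mul_ne_zero hc₂0 hd₂0, ?_⟩
    push_cast
    linear_combination (d₂ : M) * hc + (c₂ : M) * hd
  mul_mem' := by
    rintro y z ⟨c₁, hc₁, c₂, hc₂, hc₂0, hc⟩ ⟨d₁, hd₁, d₂, hd₂, hd₂0, hd⟩
    refine ⟨c₁ * d₁, S.mul_mem hc₁ hd₁, c₂ * d₂, S.mul_mem hc₂ hd₂, mul_ne_zero hc₂0 hd₂0, ?_⟩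
    push_cast
    linear_combination (z * (d₂ : M)) * hc + (c₁ : M) * hd
  neg_mem' := by
    rintro y ⟨c₁, hc₁, c₂, hc₂, hc₂0, hc⟩
    refine ⟨-c₁, S.neg_mem hc₁, c₂, hc₂, hc₂0, ?_⟩
    push_cast
    linear_combination (-1 : M) * hc
  inv_mem' := by
    rintro y ⟨c₁, hc₁, c₂, hc₂, hc₂0, hc⟩
    by_cases hy : y = 0
    · exact ⟨0, S.zero_mem, 1, S.one_mem, one_ne_zero, by simp [hy]⟩
    · have hc₂0' : (c₂ : M) ≠ 0 := fun h => hc₂0 (Subtype.ext h)
      have hc₁0 : c₁ ≠ 0 := by
        intro h0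
        rw [h0] at hc
        exact mul_ne_zero hy hc₂0' hc
      refine ⟨c₂, hc₂, c₁, hc₁, hc₁0, ?_⟩
      rw [← hc]
      field_simp

theorem mem_fracSubfield {M : Type*} [Field M] (W : ValuationSubring M) (S : Subring W) (x : M) :
    x ∈ fracSubfield W S ↔ ∃ c₁ ∈ S, ∃ c₂ ∈ S, c₂ ≠ 0 ∧ x * (c₂ : M) = (c₁ : M) := Iff.rfl

theorem coe_mem_fracSubfield {M : Type*} [Field M] (W : ValuationSubring M) (S : Subring W)
    (s : W) (hs : s ∈ S) : (s : M) ∈ fracSubfield W S :=
  ⟨s, hs, 1, S.one_mem, one_ne_zero, by simp⟩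

theorem descend (A B K L : Type u) [CommRing A] [IsDomain A] [IsDiscreteValuationRing A]
    [CommRing B] [IsDomain B] [IsDiscreteValuationRing B] [Algebra A B]
    [IsLocalHom (algebraMap A B)]
    [Field K] [Field L] [Algebra A K] [IsFractionRing A K] [Algebra B L] [IsFractionRing B L]
    [Algebra K L] [Algebra A L] [IsScalarTower A K L] [IsScalarTower A B L]
    [Algebra.IsSeparable K L]
    (K₁ K₂ : Type u) [Field K₁] [Field K₂] [Algebra K K₁] [Algebra K K₂] [Algebra K₁ K₂]
    [IsScalarTower K K₁ K₂] [FiniteDimensional K K₁] [FiniteDimensional K₁ K₂]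
    (p : ℕ) [ExpChar K p] (e : ℕ) (hpow : ∀ a : K₂, a ^ p ^ e ∈ (algebraMap K₁ K₂).range)
    (h₂ : EtRam.IsSolution B K L K₂) : EtRam.IsSolution B K L K₁ := by
  classical
  intro M₁ _ _ _ _ _ _ hM₁ W₁ hW₁
  have hfK : ∀ k : K, algebraMap K₁ M₁ (algebraMap K K₁ k) = algebraMap L M₁ (algebraMap K L k) := by
    intro k
    rw [← IsScalarTower.algebraMap_apply K K₁ M₁, ← IsScalarTower.algebraMap_apply K L M₁]
  have hfA : ∀ a : A, algebraMap K₁ M₁ (((algebraMap K K₁).comp (algebraMap A K)) a) =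
      ((algebraMap L M₁).comp (algebraMap B L)) (algebraMap A B a) := by
    intro a
    simp only [RingHom.comp_apply]
    rw [hfK, ← IsScalarTower.algebraMap_apply A K L, ← IsScalarTower.algebraMap_apply A B L]
  have hV₁ : EtRam.Dominates A ((algebraMap K K₁).comp (algebraMap A K))
      (W₁.comap (algebraMap K₁ M₁)) :=
    ⟨fun a => by
      show algebraMap K₁ M₁ _ ∈ W₁
      rw [hfA]; exact hW₁.1 _,
    fun a ha => by
      rw [valuation_comap_lt_one_iff, hfA]
      exact hW₁.2 _ (map_nonunit (algebraMap A B) a ha)⟩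
  haveI dvrV : IsDiscreteValuationRing (W₁.comap (algebraMap K₁ M₁)) :=
    isDiscreteValuationRing_of_dominates A K K₁ _ hV₁
  -- `M₁` is finite over `L`
  haveI finLM : FiniteDimensional L M₁ := by
    let bs := Module.finBasis K K₁
    have hsub : Set.range (algebraMap K₁ M₁) ⊆
        Algebra.adjoin L (Set.range (fun i => algebraMap K₁ M₁ (bs i))) := by
      rintro _ ⟨x, rfl⟩
      rw [← bs.sum_repr x, map_sum]
      refine Subalgebra.sum_mem _ (fun i _ => ?_)
      rw [Algebra.smul_def, map_mul, hfK]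
      exact Subalgebra.mul_mem _ (Subalgebra.algebraMap_mem _ _)
        (Algebra.subset_adjoin ⟨i, rfl⟩)
    have htop : Algebra.adjoin L (Set.range (fun i => algebraMap K₁ M₁ (bs i))) = ⊤ := by
      rw [eq_top_iff, ← hM₁]
      exact Algebra.adjoin_le hsub
    have hfg : (Algebra.adjoin L (Set.range (fun i => algebraMap K₁ M₁ (bs i)))).toSubmodule.FG := by
      apply fg_adjoin_of_finite (Set.finite_range _)
      rintro _ ⟨i, rfl⟩
      have h1 : IsIntegral K (bs i) := Algebra.IsIntegral.isIntegral _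
      have h2 : IsIntegral K (algebraMap K₁ M₁ (bs i)) := h1.algebraMap
      exact h2.tower_top
    rw [htop] at hfg
    exact ⟨by simpa using hfg⟩
  haveI dvrW : IsDiscreteValuationRing W₁ := isDiscreteValuationRing_of_dominates B L M₁ W₁ hW₁
  haveI : ExpChar K₁ p := expChar_of_injective_algebraMap (algebraMap K K₁).injective p
  haveI : ExpChar M₁ p := expChar_of_injective_algebraMap (algebraMap K M₁).injective p
  obtain ⟨M₂, fM₂, algM₁M₂, algK₂M₂, hcompat, hgen, hpowM⟩ :=
    exists_compositum K₁ K₂ M₁ p e hpow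
  letI algLM₂ : Algebra L M₂ := ((algebraMap M₁ M₂).comp (algebraMap L M₁)).toAlgebra
  letI algKM₂ : Algebra K M₂ := ((algebraMap M₁ M₂).comp (algebraMap K M₁)).toAlgebra
  haveI : IsScalarTower K L M₂ := IsScalarTower.of_algebraMap_eq (fun k => by
    show algebraMap M₁ M₂ (algebraMap K M₁ k) =
      algebraMap M₁ M₂ (algebraMap L M₁ (algebraMap K L k))
    rw [← IsScalarTower.algebraMap_apply K L M₁])
  haveI : IsScalarTower K K₂ M₂ := IsScalarTower.of_algebraMap_eq (fun k => by
    show algebraMap M₁ M₂ (algebraMap K M₁ k) = algebraMap K₂ M₂ (algebraMap K K₂ k)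
    rw [IsScalarTower.algebraMap_apply K K₁ M₁, hcompat,
      ← IsScalarTower.algebraMap_apply K K₁ K₂])
  have hM₂ : Algebra.adjoin L (Set.range (algebraMap K₂ M₂)) = ⊤ := by
    rw [eq_top_iff]
    rintro z -
    have hz := hgen z
    induction hz using Subring.closure_induction with
    | mem x hx =>
      rcases hx with ⟨m, rfl⟩ | ⟨k, rfl⟩
      · have hm : m ∈ Algebra.adjoin L (Set.range (algebraMap K₁ M₁)) := hM₁ ▸ Algebra.mem_top
        induction hm using Algebra.adjoin_induction with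
        | mem y hy =>
          obtain ⟨c, rfl⟩ := hy
          rw [hcompat]
          exact Algebra.subset_adjoin ⟨_, rfl⟩
        | algebraMap l => exact Subalgebra.algebraMap_mem _ l
        | add y z _ _ hy hz => rw [map_add]; exact Subalgebra.add_mem _ hy hz
        | mul y z _ _ hy hz => rw [map_mul]; exact Subalgebra.mul_mem _ hy hz
      · exact Algebra.subset_adjoin ⟨k, rfl⟩
    | zero => exact Subalgebra.zero_mem _
    | one => exact Subalgebra.one_mem _
    | add x y _ _ hx hy => exact Subalgebra.add_mem _ hx hy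
    | neg x _ hx => exact Subalgebra.neg_mem _ hx
    | mul x y _ _ hx hy => exact Subalgebra.mul_mem _ hx hy
  have hβM : ∀ m : M₁, frobDown M₁ M₂ p e hpowM (algebraMap M₁ M₂ m) = m ^ p ^ e :=
    frobDown_algebraMap M₂ p e hpowM
  have hsq : ∀ x, algebraMap K₁ M₁ (frobDown K₁ K₂ p e hpow x) =
      frobDown M₁ M₂ p e hpowM (algebraMap K₂ M₂ x) := by
    intro x
    apply (algebraMap M₁ M₂).injective
    rw [hcompat, algebraMap_frobDown, algebraMap_frobDown, map_pow]
  have hb : ∀ b : B, frobDown M₁ M₂ p e hpowM (((algebraMap L M₂).comp (algebraMap B L)) b) =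
      (((algebraMap L M₁).comp (algebraMap B L)) b) ^ p ^ e := fun b => hβM _
  have hW₂ : EtRam.Dominates B ((algebraMap L M₂).comp (algebraMap B L))
      (W₁.comap (frobDown M₁ M₂ p e hpowM)) := by
    refine ⟨fun b => ?_, fun b hb' => ?_⟩
    · show frobDown M₁ M₂ p e hpowM _ ∈ W₁
      rw [hb]; exact pow_mem (hW₁.1 b) _
    · rw [valuation_comap_lt_one_iff, hb, map_pow]
      exact pow_lt_one₀ zero_le (hW₁.2 b hb') (expChar_pow_pos K p e).ne'
  have hsol := h₂ M₂ hM₂ (W₁.comap (frobDown M₁ M₂ p e hpowM)) hW₂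
  refine twist (algebraMap K₁ M₁) (algebraMap K₂ M₂) (frobDown K₁ K₂ p e hpow)
    (frobDown M₁ M₂ p e hpowM) hsq W₁ (p ^ e) (expChar_pow_pos K p e) ?_ hsol ?_
  · intro y
    exact ⟨algebraMap K₁ K₂ y, frobDown_algebraMap K₂ p e hpow y⟩
  · -- fractions
    set S := Subring.closure (Set.range (inclOfComap W₁ (frobDown M₁ M₂ p e hpowM)) ∪
      Set.range (inclOfComap W₁ (algebraMap K₁ M₁))) with hS
    intro x
    rw [← mem_fracSubfield]
    -- (i) elements of `K₁`
    have h1 : ∀ c : K₁, algebraMap K₁ M₁ c ∈ fracSubfield W₁ S := by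
      intro c
      obtain ⟨v₁, v₂, -, hv⟩ := IsFractionRing.div_surjective
        (A := W₁.comap (algebraMap K₁ M₁)) c
      have hv' : c = (v₁ : K₁) / (v₂ : K₁) := hv.symm
      rw [hv', map_div₀]
      exact div_mem
        (coe_mem_fracSubfield W₁ S (inclOfComap W₁ (algebraMap K₁ M₁) v₁)
          (Subring.subset_closure (Or.inr ⟨v₁, rfl⟩)))
        (coe_mem_fracSubfield W₁ S (inclOfComap W₁ (algebraMap K₁ M₁) v₂)
          (Subring.subset_closure (Or.inr ⟨v₂, rfl⟩)))
    -- (ii) `q`-th powers of elements of `B`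
    have h2 : ∀ b : B, (algebraMap L M₁ (algebraMap B L b)) ^ p ^ e ∈ fracSubfield W₁ S := by
      intro b
      have hmem : ((algebraMap L M₂).comp (algebraMap B L)) b ∈
          W₁.comap (frobDown M₁ M₂ p e hpowM) := hW₂.1 b
      have := coe_mem_fracSubfield W₁ S
        (inclOfComap W₁ (frobDown M₁ M₂ p e hpowM) ⟨_, hmem⟩)
        (Subring.subset_closure (Or.inl ⟨_, rfl⟩))
      rw [inclOfComap_apply_coe] at this
      rw [← RingHom.comp_apply, ← hb]
      exact this
    -- (iii) `q`-th powers of elements of `L`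
    have h3 : ∀ l : L, (algebraMap L M₁ l) ^ p ^ e ∈ fracSubfield W₁ S := by
      intro l
      obtain ⟨b₁, b₂, -, hbl⟩ := IsFractionRing.div_surjective (A := B) l
      rw [← hbl, map_div₀, div_pow]
      exact div_mem (h2 b₁) (h2 b₂)
    -- (iv) elements of `L`
    have h4 : ∀ l : L, algebraMap L M₁ l ∈ fracSubfield W₁ S := by
      intro l
      have hl : l ∈ Algebra.adjoin K {l ^ p ^ e} := by
        have e1 := IntermediateField.adjoin_simple_eq_adjoin_pow_expChar_pow_of_isSeparable'
          K L l p e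
        have e2 : l ∈ IntermediateField.adjoin K {l ^ p ^ e} :=
          e1 ▸ IntermediateField.mem_adjoin_simple_self K l
        have e3 : IsAlgebraic K (l ^ p ^ e) := Algebra.IsAlgebraic.isAlgebraic _
        rw [← IntermediateField.mem_toSubalgebra,
          IntermediateField.adjoin_simple_toSubalgebra_of_isAlgebraic e3] at e2
        exact e2
      have hall : ∀ y ∈ Algebra.adjoin K {l ^ p ^ e}, algebraMap L M₁ y ∈ fracSubfield W₁ S := by
        intro y hy
        induction hy using Algebra.adjoin_induction with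
        | mem y hy =>
          rw [Set.mem_singleton_iff] at hy
          rw [hy, map_pow]
          exact h3 l
        | algebraMap k =>
          rw [← hfK]
          exact h1 _
        | add y z _ _ hy hz => rw [map_add]; exact add_mem hy hz
        | mul y z _ _ hy hz => rw [map_mul]; exact mul_mem hy hz
      exact hall l hl
    -- (v) everything
    have hx : x ∈ Algebra.adjoin L (Set.range (algebraMap K₁ M₁)) := hM₁ ▸ Algebra.mem_top
    induction hx using Algebra.adjoin_induction with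
    | mem y hy =>
      obtain ⟨c, rfl⟩ := hy
      exact h1 c
    | algebraMap l => exact h4 l
    | add y z _ _ hy hz => exact add_mem hy hz
    | mul y z _ _ hy hz => exact mul_mem hy hz

end Groth.Agent.Lib.Helper10.SepDescend
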