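import Mathlib

/-!
# Finite-level tame structure (abstract form)

`O` a DVR, `Γ` a group acting faithfully on `O` by ring automorphisms, trivially on the residue field.
We define the character `θ : Γ →* κˣ`, show elements of its kernel of finite order prime to the residue
characteristic are trivial, and deduce the "r-divisibility" statement used for the fundamental character.
-/

set_option autoImplicit false
set_option linter.style.haveILetI false

open IsLocalRing

namespace Groth.Agent.Lib.Helper10.TameFL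

section Cyc

/-- Arithmetic in a finite cyclic group. -/
theorem cyc {C : Type*} [CommGroup C] [Finite C] [IsCyclic C] (r t : ℕ) (hr : 0 < r)
    (ha : ∀ z : C, z ^ (r * r * t) = 1) (y : C) (hy : orderOf (y ^ t) = r * r)
    (x : C) (hx : x ^ (r * t) = 1) : ∃ z : C, z ^ r = x := by
  obtain ⟨g, hg⟩ := IsCyclic.exists_generator (α := C)
  set h := g ^ t with hh
  set c' := orderOf h with hc'
  have h1 : c' ∣ r * r := by
    apply orderOf_dvd_of_pow_eq_one
    rw [hh, ← pow_mul, mul_comm t]; exact ha g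
  obtain ⟨a, ha'⟩ : ∃ a : ℤ, g ^ a = y := by
    have := hg y; rwa [Subgroup.mem_zpowers_iff] at this
  have h2 : r * r ∣ c' := by
    rw [← hy]
    apply orderOf_dvd_of_pow_eq_one
    have : y ^ t = h ^ a := by
      rw [hh, ← ha', ← zpow_natCast, ← zpow_natCast, ← zpow_mul, ← zpow_mul, mul_comm]
    rw [this, ← zpow_natCast, ← zpow_mul, mul_comm, zpow_mul, zpow_natCast, pow_orderOf_eq_one,
      one_zpow]
  have h3 : c' = r * r := Nat.dvd_antisymm h1 h2
  obtain ⟨b, hb⟩ : ∃ b : ℤ, g ^ b = x := by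
    have := hg x; rwa [Subgroup.mem_zpowers_iff] at this
  have h4 : h ^ (b * r) = 1 := by
    have : x ^ (r * t) = h ^ (b * r) := by
      rw [hh, ← hb, ← zpow_natCast, ← zpow_natCast, ← zpow_mul, ← zpow_mul]
      congr 1; push_cast; ring
    rw [← this]; exact hx
  have h5 : (c' : ℤ) ∣ b * r := (orderOf_dvd_iff_zpow_eq_one).mpr h4
  rw [h3] at h5
  have h6 : (r : ℤ) ∣ b := by
    have hr0 : (r : ℤ) ≠ 0 := by exact_mod_cast hr.ne'
    push_cast at h5
    exact (mul_dvd_mul_iff_right hr0).mp h5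
  obtain ⟨q, hq⟩ := h6
  refine ⟨g ^ q, ?_⟩
  rw [← hb, hq, ← zpow_natCast, ← zpow_mul, mul_comm]

end Cyc

section Main

variable {O : Type*} [CommRing O] [IsDomain O] [IsDiscreteValuationRing O]
variable {Γ : Type*} [Group Γ] [MulSemiringAction Γ O]

/-- The action is trivial on the residue field. -/
def TrivRes (Γ O : Type*) [CommRing O] [IsLocalRing O] [Group Γ] [MulSemiringAction Γ O] : Prop :=
  ∀ (g : Γ) (x : O), g • x - x ∈ maximalIdeal O

variable (htr : TrivRes Γ O) {π : O} (hπ : Irreducible π)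

include htr in
theorem residue_smul (g : Γ) (x : O) : residue O (g • x) = residue O x := by
  have := htr g x
  rw [← Ideal.Quotient.eq] at this
  exact this

include htr in
theorem smul_mem_maximalIdeal (g : Γ) {x : O} (hx : x ∈ maximalIdeal O) : g • x ∈ maximalIdeal O := by
  have := htr g x
  have h2 := Ideal.add_mem _ this hx
  rwa [sub_add_cancel] at h2

include htr hπ in
theorem exists_c (g : Γ) : ∃ c : O, g • π = c * π := by
  have h1 : g • π ∈ maximalIdeal O := smul_mem_maximalIdeal htr g hπ.not_isUnit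
  rw [(IsDiscreteValuationRing.irreducible_iff_uniformizer _).mp hπ, Ideal.mem_span_singleton'] at h1
  obtain ⟨c, hc⟩ := h1
  exact ⟨c, hc.symm⟩

/-- The cocycle `c_g` with `g • π = c_g π`. -/
noncomputable def cfun (g : Γ) : O := Classical.choose (exists_c htr hπ g)

theorem cfun_spec (g : Γ) : g • π = cfun htr hπ g * π := Classical.choose_spec (exists_c htr hπ g)

/-- The character, valued in the residue field. -/
noncomputable def θ₀ (g : Γ) : ResidueField O := residue O (cfun htr hπ g)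

/-- Key computation: if `y = w π^t` with `w` a unit and `g • y = η y`, then `η ≡ θ(g)^t`. -/
theorem key (g : Γ) (y w η : O) (t : ℕ) (hw : IsUnit w) (hy : y = w * π ^ t) (hg : g • y = η * y) :
    residue O η = θ₀ htr hπ g ^ t := by
  have hπ0 : π ≠ 0 := hπ.ne_zero
  have h1 : g • y = (g • w) * (cfun htr hπ g * π) ^ t := by
    rw [hy, smul_mul', smul_pow', cfun_spec htr hπ g]
  rw [hg, hy, mul_pow] at h1
  have h2 : (η * w) * π ^ t = ((g • w) * cfun htr hπ g ^ t) * π ^ t := by
    rw [← mul_assoc] at h1; rw [h1]; ring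
  have h3 : η * w = (g • w) * cfun htr hπ g ^ t := mul_right_cancel₀ (pow_ne_zero t hπ0) h2
  have h4 := congrArg (residue O) h3
  rw [map_mul, map_mul, map_pow, residue_smul htr] at h4
  have hw' : residue O w ≠ 0 := by
    intro h0
    rw [residue_eq_zero_iff] at h0
    exact (mem_maximalIdeal _).mp h0 hw
  unfold θ₀
  have h5 : residue O w * residue O η = residue O w * residue O (cfun htr hπ g) ^ t := by
    rw [mul_comm, h4]
  exact mul_left_cancel₀ hw' h5

theorem θ₀_one : θ₀ htr hπ (1 : Γ) = 1 := by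
  have := key htr hπ (1 : Γ) π 1 1 1 isUnit_one (by simp) (by simp)
  rw [pow_one] at this
  rw [← this, map_one]

theorem θ₀_mul (g h : Γ) : θ₀ htr hπ (g * h) = θ₀ htr hπ g * θ₀ htr hπ h := by
  have hπ0 : π ≠ 0 := hπ.ne_zero
  have h1 : (g * h) • π = ((g • cfun htr hπ h) * cfun htr hπ g) * π := by
    rw [mul_smul, cfun_spec htr hπ h, smul_mul', cfun_spec htr hπ g]; ring
  rw [cfun_spec htr hπ (g * h)] at h1
  have h2 := mul_right_cancel₀ hπ0 h1
  unfold θ₀
  rw [h2, map_mul, residue_smul htr, mul_comm]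

/-- The character as a monoid hom into the units of the residue field. -/
noncomputable def θ : Γ →* (ResidueField O)ˣ :=
  MonoidHom.toHomUnits
    { toFun := θ₀ htr hπ
      map_one' := θ₀_one htr hπ
      map_mul' := θ₀_mul htr hπ }

theorem θ_coe (g : Γ) : ((θ htr hπ g : (ResidueField O)ˣ) : ResidueField O) = θ₀ htr hπ g := rfl

include htr in
theorem smul_mem_pow (g : Γ) (i : ℕ) {x : O} (hx : x ∈ maximalIdeal O ^ i) :
    g • x ∈ maximalIdeal O ^ i := by
  induction i generalizing x with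
  | zero => simp
  | succ i ih =>
    rw [pow_succ] at hx ⊢
    refine Submodule.mul_induction_on hx ?_ ?_
    · intro a ha b hb
      rw [smul_mul']
      exact Ideal.mul_mem_mul (ih ha) (smul_mem_maximalIdeal htr g hb)
    · intro a b ha hb
      rw [smul_add]
      exact Ideal.add_mem _ ha hb

/-- An element of the kernel of `θ` of order `ℓ` invertible in `O` acts trivially. -/
theorem smul_eq_of_pow_eq_one (g : Γ) (hg : θ₀ htr hπ g = 1) (ℓ : ℕ) (hℓ : IsUnit (ℓ : O))
    (hgℓ : g ^ ℓ = 1) (x : O) : g • x = x := by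
  have hm : maximalIdeal O = Ideal.span {π} := (IsDiscreteValuationRing.irreducible_iff_uniformizer _).mp hπ
  have hc1 : cfun htr hπ g - 1 ∈ maximalIdeal O := by
    unfold θ₀ at hg
    rw [← map_one (residue O)] at hg
    exact (Ideal.Quotient.eq).mp hg
  -- P(j): ∀ i x, x ∈ m^i → g • x - x ∈ m^(i+j)
  have P1 : ∀ (i : ℕ) (x : O), x ∈ maximalIdeal O ^ i → g • x - x ∈ maximalIdeal O ^ (i + 1) := by
    intro i x hx
    rw [hm, Ideal.span_singleton_pow, Ideal.mem_span_singleton'] at hx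
    obtain ⟨y, rfl⟩ := hx
    have h1 : g • (y * π ^ i) - y * π ^ i = π ^ i * (cfun htr hπ g ^ i * (g • y) - y) := by
      rw [smul_mul', smul_pow', cfun_spec htr hπ g]; ring
    rw [h1, pow_succ]
    refine Ideal.mul_mem_mul ?_ ?_
    · rw [hm, Ideal.span_singleton_pow]; exact Ideal.mem_span_singleton_self _
    · have h2 : cfun htr hπ g ^ i - 1 ∈ maximalIdeal O := by
        have : (cfun htr hπ g - 1) ∣ cfun htr hπ g ^ i - 1 := by
          simpa using sub_dvd_pow_sub_pow (cfun htr hπ g) 1 i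
        exact Ideal.mem_of_dvd _ this hc1
      have h3 : cfun htr hπ g ^ i * (g • y) - y =
          (cfun htr hπ g ^ i - 1) * (g • y) + (g • y - y) := by ring
      rw [h3]
      exact Ideal.add_mem _ (Ideal.mul_mem_right _ _ h2) (htr g y)
  have Pstep : ∀ j : ℕ, 1 ≤ j →
      (∀ (i : ℕ) (x : O), x ∈ maximalIdeal O ^ i → g • x - x ∈ maximalIdeal O ^ (i + j)) →
      ∀ (i : ℕ) (x : O), x ∈ maximalIdeal O ^ i → g • x - x ∈ maximalIdeal O ^ (i + (j + 1)) := by
    intro j hj Pj i x hx
    obtain ⟨y, hy⟩ : ∃ y, y = g • x - x := ⟨_, rfl⟩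
    have hyM : y ∈ maximalIdeal O ^ (i + j) := by rw [hy]; exact Pj i x hx
    have hdy : g • y - y ∈ maximalIdeal O ^ (i + j + j) := Pj (i + j) y hyM
    have hT : ∀ t : ℕ, g ^ t • y - y ∈ maximalIdeal O ^ (i + j + j) := by
      intro t
      induction t with
      | zero => simp
      | succ t ih =>
        have : g ^ (t + 1) • y - y = g ^ t • (g • y - y) + (g ^ t • y - y) := by
          rw [pow_succ, mul_smul, smul_sub]; abel
        rw [this]
        exact Ideal.add_mem _ (smul_mem_pow htr _ _ hdy) ih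
    have hsum : ∑ t ∈ Finset.range ℓ, g ^ t • y = 0 := by
      have h1 : ∀ t : ℕ, g ^ t • y = g ^ (t + 1) • x - g ^ t • x := by
        intro t
        rw [hy, smul_sub, pow_succ, mul_smul]
      rw [Finset.sum_congr rfl (fun t _ => h1 t), Finset.sum_range_sub (fun t => g ^ t • x), hgℓ]
      simp
    have h2 : (ℓ : O) * y = - ∑ t ∈ Finset.range ℓ, (g ^ t • y - y) := by
      rw [Finset.sum_sub_distrib, hsum]
      simp
    have h3 : (ℓ : O) * y ∈ maximalIdeal O ^ (i + j + j) := by
      rw [h2]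
      exact Ideal.neg_mem_iff _ |>.mpr (Ideal.sum_mem _ (fun t _ => hT t))
    have h4 : y ∈ maximalIdeal O ^ (i + j + j) := by
      obtain ⟨u, hu⟩ := hℓ
      have : y = (↑u⁻¹ : O) * ((ℓ : O) * y) := by
        rw [← mul_assoc, ← hu, Units.inv_mul, one_mul]
      rw [this]
      exact Ideal.mul_mem_left _ _ h3
    have h5 : g • x - x ∈ maximalIdeal O ^ (i + j + j) := by rw [← hy]; exact h4
    exact Ideal.pow_le_pow_right (by omega) h5
  have Pall : ∀ j : ℕ, 1 ≤ j →
      ∀ (i : ℕ) (x : O), x ∈ maximalIdeal O ^ i → g • x - x ∈ maximalIdeal O ^ (i + j) := by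
    intro j hj
    induction j, hj using Nat.le_induction with
    | base => exact P1
    | succ j hj ih => exact Pstep j hj ih
  have h0 : g • x - x ∈ (⨅ j : ℕ, maximalIdeal O ^ j : Ideal O) := by
    rw [Ideal.mem_iInf]
    intro j
    rcases Nat.eq_zero_or_pos j with rfl | hj
    · simp
    · have := Pall j hj 0 x (by simp)
      rwa [zero_add] at this
  rw [Ideal.iInf_pow_eq_bot_of_isLocalRing _ (maximalIdeal.isMaximal O).ne_top] at h0
  exact sub_eq_zero.mp h0

variable [FaithfulSMul Γ O]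

/-- Elements of the kernel of `θ` have order prime to any `r` invertible in `O`. -/
theorem coprime_orderOf [Finite Γ] (g : Γ) (hg : θ₀ htr hπ g = 1) (r : ℕ) (hr : IsUnit (r : O)) :
    Nat.Coprime (orderOf g) r := by
  by_contra hcop
  obtain ⟨ℓ, hℓp, hℓ1, hℓ2⟩ := Nat.Prime.not_coprime_iff_dvd.mp hcop
  set g' := g ^ (orderOf g / ℓ) with hg'
  have hpos : 0 < orderOf g := orderOf_pos g
  have hord : orderOf g' = ℓ := by
    rw [hg']
    exact orderOf_pow_orderOf_div hpos.ne' hℓ1
  have hθ : θ₀ htr hπ g' = 1 := by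
    have : θ htr hπ g' = 1 := by
      have h1 : θ htr hπ g = 1 := Units.ext (by rw [θ_coe, hg]; rfl)
      rw [hg', map_pow, h1, one_pow]
    rw [← θ_coe, this]; rfl
  have hℓu : IsUnit (ℓ : O) := by
    obtain ⟨q, hq⟩ := hℓ2
    have : (r : O) = (ℓ : O) * (q : O) := by rw [hq]; push_cast; ring
    rw [this] at hr
    exact isUnit_of_mul_isUnit_left hr
  have hpow : g' ^ ℓ = 1 := by rw [← hord]; exact pow_orderOf_eq_one g'
  have htriv : ∀ x : O, g' • x = x := smul_eq_of_pow_eq_one htr hπ g' hθ ℓ hℓu hpow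
  have : g' = 1 := by
    apply FaithfulSMul.eq_of_smul_eq_smul (α := O)
    intro x; rw [htriv x, one_smul]
  rw [this, orderOf_one] at hord
  exact hℓp.one_lt.ne hord

include htr hπ in
/-- The finite-level divisibility statement. -/
theorem main [Finite Γ] (r : ℕ) (hr0 : 0 < r) (hr : IsUnit (r : O)) (ρ₂ : O) (hρ₂ : ρ₂ ≠ 0)
    (hfix : ∀ g : Γ, g • (ρ₂ ^ (r * r)) = ρ₂ ^ (r * r))
    (τ₀ : Γ) (ζ : O) (hτ₀ : τ₀ • ρ₂ = ζ * ρ₂) (hζ1 : ζ ^ (r * r) = 1)
    (hζ2 : ∀ j : ℕ, 0 < j → j < r * r → ζ ^ j ≠ 1)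
    (σ : Γ) (hσ : σ • (ρ₂ ^ r) = ρ₂ ^ r) :
    ∃ τ π' : Γ, σ = τ ^ r * π' ^ r := by
  obtain ⟨t₂, w, hw⟩ := IsDiscreteValuationRing.eq_unit_mul_pow_irreducible hρ₂ hπ
  -- (a)
  have hA : ∀ g : Γ, θ₀ htr hπ g ^ (r * r * t₂) = 1 := by
    intro g
    have := key htr hπ g (ρ₂ ^ (r * r)) ((w : O) ^ (r * r)) 1 (r * r * t₂) (w.isUnit.pow _)
      (by rw [hw, mul_pow, ← pow_mul, mul_comm t₂]) (by rw [hfix g, one_mul])
    rw [← this, map_one]
  have hC : θ₀ htr hπ σ ^ (r * t₂) = 1 := by
    have := key htr hπ σ (ρ₂ ^ r) ((w : O) ^ r) 1 (r * t₂) (w.isUnit.pow _)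
      (by rw [hw, mul_pow, ← pow_mul, mul_comm t₂]) (by rw [hσ, one_mul])
    rw [← this, map_one]
  have hB : θ₀ htr hπ τ₀ ^ t₂ = residue O ζ := by
    have := key htr hπ τ₀ ρ₂ (w : O) ζ t₂ w.isUnit hw hτ₀
    exact this.symm
  -- order of residue ζ
  have hrr : 0 < r * r := Nat.mul_pos hr0 hr0
  have hres_ne : ∀ j : ℕ, 0 < j → j < r * r → residue O ζ ^ j ≠ 1 := by
    intro j hj0 hj hcontra
    set η := ζ ^ j with hη
    have hη1 : η ≠ 1 := hζ2 j hj0 hj
    have hηrr : η ^ (r * r) = 1 := by rw [hη, ← pow_mul, mul_comm, pow_mul, hζ1, one_pow]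
    have hgeom : (∑ i ∈ Finset.range (r * r), η ^ i) * (η - 1) = 0 := by
      rw [geom_sum_mul, hηrr, sub_self]
    have hsum0 : ∑ i ∈ Finset.range (r * r), η ^ i = 0 := by
      rcases mul_eq_zero.mp hgeom with h | h
      · exact h
      · exact absurd (sub_eq_zero.mp h) hη1
    have hresη : residue O η = 1 := by rw [hη, map_pow]; exact hcontra
    have h1 := congrArg (residue O) hsum0
    rw [map_sum, map_zero] at h1
    simp only [map_pow, hresη, one_pow, Finset.sum_const, Finset.card_range, nsmul_eq_mul,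
      mul_one] at h1
    have h2 : residue O ((r * r : ℕ) : O) = 0 := by rw [map_natCast]; exact h1
    rw [residue_eq_zero_iff] at h2
    have h3 : IsUnit (((r * r : ℕ) : O)) := by push_cast; exact hr.mul hr
    exact (mem_maximalIdeal _).mp h2 h3
  -- the range of θ
  set Θ := θ htr hπ with hΘ
  let C := Θ.range
  haveI : Finite C := Set.finite_range Θ |>.to_subtype
  haveI : IsCyclic C := inferInstance
  let θ' : Γ →* C := Θ.rangeRestrict
  have hsurj : Function.Surjective θ' := Θ.rangeRestrict_surjective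
  have hcoe : ∀ g : Γ, (((θ' g : C) : (ResidueField O)ˣ) : ResidueField O) = θ₀ htr hπ g := fun g => rfl
  have hext : ∀ z : C, (((z : C) : (ResidueField O)ˣ) : ResidueField O) = 1 → z = 1 := by
    intro z hz
    apply Subtype.ext
    apply Units.ext
    exact hz
  have ha' : ∀ z : C, z ^ (r * r * t₂) = 1 := by
    intro z
    obtain ⟨g, rfl⟩ := hsurj z
    apply hext
    rw [Subgroup.coe_pow, Units.val_pow_eq_pow_val, hcoe, hA]
  have hx' : (θ' σ) ^ (r * t₂) = 1 := by
    apply hext
    rw [Subgroup.coe_pow, Units.val_pow_eq_pow_val, hcoe, hC]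
  have hy' : orderOf ((θ' τ₀) ^ t₂) = r * r := by
    rw [orderOf_eq_iff hrr]
    constructor
    · apply hext
      rw [Subgroup.coe_pow, Units.val_pow_eq_pow_val, Subgroup.coe_pow, Units.val_pow_eq_pow_val,
        hcoe, hB, ← map_pow, hζ1, map_one]
    · intro m hm hm0 hcontra
      apply hres_ne m hm0 hm
      have := congrArg (fun z : C => (((z : C) : (ResidueField O)ˣ) : ResidueField O)) hcontra
      simp only [Subgroup.coe_pow, Units.val_pow_eq_pow_val, hcoe, hB] at this
      rw [this]; rfl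
  obtain ⟨z, hz⟩ := cyc r t₂ hr0 ha' (θ' τ₀) hy' (θ' σ) hx'
  obtain ⟨τ, rfl⟩ := hsurj z
  set π₀ := (τ ^ r)⁻¹ * σ with hπ₀
  have hker : θ₀ htr hπ π₀ = 1 := by
    have h1 : θ' π₀ = 1 := by
      rw [hπ₀, map_mul, map_inv, map_pow, hz, inv_mul_cancel]
    have := congrArg (fun z : C => (((z : C) : (ResidueField O)ˣ) : ResidueField O)) h1
    simpa [hcoe] using this
  have hcop : Nat.Coprime r (orderOf π₀) := (coprime_orderOf htr hπ π₀ hker r hr).symm
  obtain ⟨m, hm⟩ := exists_pow_eq_self_of_coprime hcop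
  refine ⟨τ, π₀ ^ m, ?_⟩
  rw [← pow_mul, mul_comm m r, pow_mul, hm, hπ₀, mul_inv_cancel_left]

end Main

end Groth.Agent.Lib.Helper10.TameFL
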