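import Mathlib
import Groth.Agent.Lib.Helper10.TameFL
import Groth.Agent.Lib.Helper10.KummerDVR
import Groth.Agent.Lib.Helper37.Hz50

/-!
# Finite-level tame structure for a strictly henselian DVR (helper10)
-/

set_option autoImplicit false
set_option linter.style.haveILetI false
set_option linter.unusedSectionVars false
universe u
open Polynomial IsLocalRing

namespace Groth.Agent.Lib.Helper10.TameInst

section RU

variable (R : Type u) [CommRing R] [HenselianLocalRing R] [IsSepClosed (ResidueField R)]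

/-- Roots of unity of order invertible in the (separably closed) residue field lift to a henselian
local ring. -/
theorem exists_primitiveRoot (n : ℕ) (hn : IsUnit (n : ResidueField R)) :
    ∃ ζ : R, IsPrimitiveRoot ζ n := by
  haveI : NeZero (n : ResidueField R) := ⟨hn.ne_zero⟩
  obtain ⟨ζb, hζb⟩ := HasEnoughRootsOfUnity.prim (M := ResidueField R) (n := n)
  obtain ⟨a₀, ha₀⟩ := residue_surjective ζb
  have hn0 : n ≠ 0 := by
    rintro rfl
    simp at hn
  have hmonic : (X ^ n - C (1 : R) : R[X]).Monic := monic_X_pow_sub_C 1 hn0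
  have hζbn : ζb ^ n = 1 := hζb.pow_eq_one
  have hζb0 : ζb ≠ 0 := by
    intro h0
    rw [h0, zero_pow hn0] at hζbn
    exact zero_ne_one hζbn
  have h1 : (X ^ n - C (1 : R) : R[X]).eval a₀ ∈ maximalIdeal R := by
    rw [← residue_eq_zero_iff]
    rw [eval_sub, eval_pow, eval_X, eval_C, map_sub, map_pow, map_one, ha₀, hζbn, sub_self]
  have h2 : IsUnit ((X ^ n - C (1 : R) : R[X]).derivative.eval a₀) := by
    have hd : (X ^ n - C (1 : R) : R[X]).derivative.eval a₀ = (n : R) * a₀ ^ (n - 1) := by
      simp [derivative_X_pow]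
    rw [hd]
    by_contra hnu
    have hmem : (n : R) * a₀ ^ (n - 1) ∈ maximalIdeal R := (mem_maximalIdeal _).mpr hnu
    rw [← residue_eq_zero_iff, map_mul, map_pow, map_natCast, ha₀] at hmem
    rcases mul_eq_zero.mp hmem with h | h
    · exact hn.ne_zero h
    · exact hζb0 (pow_eq_zero_iff (by
        intro h0; exact (pow_ne_zero _ hζb0) h) |>.mp h)
  obtain ⟨a, ha, haa⟩ := HenselianLocalRing.is_henselian _ hmonic a₀ h1 h2
  have hres : residue R a = ζb := by
    rw [← ha₀]
    exact (Ideal.Quotient.eq).mpr haa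
  have han : a ^ n = 1 := by
    have := ha
    simp only [IsRoot.def, eval_sub, eval_pow, eval_X, eval_C] at this
    exact sub_eq_zero.mp this
  refine ⟨a, (IsPrimitiveRoot.iff_def a n).mpr ⟨han, fun l hl => ?_⟩⟩
  apply hζb.dvd_of_pow_eq_one
  rw [← hres, ← map_pow, hl, map_one]

end RU

section Irr

variable (R K : Type u) [CommRing R] [IsDomain R] [IsDiscreteValuationRing R]
  [Field K] [Algebra R K] [IsFractionRing R K]

theorem irreducible_X_pow_sub (ϖ : R) (hϖ : Irreducible ϖ) (n : ℕ) (hn : 1 ≤ n) :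
    Irreducible (X ^ n - C (algebraMap R K ϖ) : K[X]) := by
  have h1 := KummerDVR.irr R ϖ hϖ n hn
  have hmonic : (X ^ n - C ϖ : R[X]).Monic := monic_X_pow_sub_C ϖ (by omega)
  have h2 := (Polynomial.Monic.irreducible_iff_irreducible_map_fraction_map (K := K) hmonic).mp h1
  simpa using h2

variable (E : Type u) [Field E] [Algebra K E] [Normal K E]

/-- Conjugates of an `n`-th root of a uniformizer. -/
theorem exists_conj (ϖ : R) (hϖ : Irreducible ϖ) (n : ℕ) (hn : 1 ≤ n) (ρ : E)
    (hρ : ρ ^ n = algebraMap K E (algebraMap R K ϖ)) (ζ : E) (hζ : ζ ^ n = 1) :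
    ∃ τ : E ≃ₐ[K] E, τ ρ = ζ * ρ := by
  have hirr := irreducible_X_pow_sub R K ϖ hϖ n hn
  have hmonic : (X ^ n - C (algebraMap R K ϖ) : K[X]).Monic := monic_X_pow_sub_C _ (by omega)
  have hroot : aeval ρ (X ^ n - C (algebraMap R K ϖ) : K[X]) = 0 := by
    simp [hρ]
  have hmin : minpoly K ρ = X ^ n - C (algebraMap R K ϖ) :=
    (minpoly.eq_of_irreducible_of_monic hirr hroot hmonic).symm
  have halg : IsAlgebraic K ρ := ⟨_, hmonic.ne_zero, hroot⟩
  apply minpoly.exists_algEquiv_of_root' halg
  rw [hmin]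
  simp [mul_pow, hζ, hρ]

end Irr

end Groth.Agent.Lib.Helper10.TameInst
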