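import Mathlib
import Groth.Agent.Lib.Helper10.TameInst

/-!
# Finite-level tame structure for a strictly henselian DVR, II (helper10)
-/

set_option autoImplicit false
set_option linter.style.haveILetI false
set_option linter.unusedSectionVars false
universe u
open Polynomial IsLocalRing

namespace Groth.Agent.Lib.Helper10.TameInst

section OE

variable (R K E : Type u) [CommRing R] [IsDomain R] [IsDiscreteValuationRing R]
  [HenselianLocalRing R] [Field K] [Algebra R K] [IsFractionRing R K] [Field E] [Algebra K E]
  [Algebra R E] [IsScalarTower R K E] [FiniteDimensional K E] [Algebra.IsSeparable K E]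

theorem isLocalRing_O : IsLocalRing (integralClosure R E) :=
  Groth.Agent.Lib.Helper37.Hz.TotNorm.isLocalRing_of_isIntegral_of_isDomain R (integralClosure R E)

include K in
theorem algebraMap_O_injective : Function.Injective (algebraMap R (integralClosure R E)) := by
  have h1 : Function.Injective (algebraMap R E) := by
    rw [IsScalarTower.algebraMap_eq R K E]
    exact (algebraMap K E).injective.comp (IsFractionRing.injective R K)
  intro a b hab
  apply h1
  have := congrArg (algebraMap (integralClosure R E) E) hab
  rwa [← IsScalarTower.algebraMap_apply, ← IsScalarTower.algebraMap_apply] at this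

include K in
theorem isDVR_O : IsDiscreteValuationRing (integralClosure R E) := by
  haveI := isLocalRing_O R E
  haveI hded : IsDedekindDomain (integralClosure R E) := integralClosure.isDedekindDomain R K E
  have hnf : ¬ IsField (integralClosure R E) := by
    intro hf
    exact IsDiscreteValuationRing.not_isField R
      (isField_of_isIntegral_of_isField (algebraMap_O_injective R K E) hf)
  have h := (IsDiscreteValuationRing.TFAE (integralClosure R E) hnf).out 0 2
  exact h.mpr hded

end OE

section Act

variable (R K E : Type u) [CommRing R] [IsDomain R] [IsDiscreteValuationRing R]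
  [HenselianLocalRing R] [Field K] [Algebra R K] [IsFractionRing R K] [Field E] [Algebra K E]
  [Algebra R E] [IsScalarTower R K E] [FiniteDimensional K E] [Algebra.IsSeparable K E]

include K in
theorem instFrac : IsFractionRing (integralClosure R E) E :=
  integralClosure.isFractionRing_of_finite_extension K E

/-- The Galois action on the integral closure. -/
@[reducible] noncomputable def act : MulSemiringAction (E ≃ₐ[K] E) (integralClosure R E) :=
  haveI := instFrac R K E
  IsIntegralClosure.MulSemiringAction R K E (integralClosure R E)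

theorem coe_smul (g : E ≃ₐ[K] E) (x : integralClosure R E) :
    letI := act R K E
    ((g • x : integralClosure R E) : E) = g (x : E) := by
  haveI := instFrac R K E
  exact algebraMap_galRestrict_apply R g x

theorem faithful : letI := act R K E
    FaithfulSMul (E ≃ₐ[K] E) (integralClosure R E) := by
  letI := act R K E
  haveI := instFrac R K E
  refine ⟨fun {g h} hgh => ?_⟩
  ext y
  obtain ⟨a, b, hb, rfl⟩ := IsFractionRing.div_surjective (A := integralClosure R E) y
  have ha' : g (a : E) = h (a : E) := by
    rw [← coe_smul R K E g a, ← coe_smul R K E h a, hgh a]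
  have hb' : g (b : E) = h (b : E) := by
    rw [← coe_smul R K E g b, ← coe_smul R K E h b, hgh b]
  have e1 : algebraMap (integralClosure R E) E a = (a : E) := rfl
  have e2 : algebraMap (integralClosure R E) E b = (b : E) := rfl
  rw [e1, e2, map_div₀, map_div₀, ha', hb']

theorem smul_algebraMap (g : E ≃ₐ[K] E) (a : R) :
    letI := act R K E
    g • (algebraMap R (integralClosure R E) a) = algebraMap R (integralClosure R E) a := by
  letI := act R K E
  apply Subtype.ext
  rw [coe_smul]
  have : ((algebraMap R (integralClosure R E) a : integralClosure R E) : E) =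
      algebraMap K E (algebraMap R K a) := by
    rw [← IsScalarTower.algebraMap_apply R K E]
    rfl
  rw [this, AlgEquiv.commutes]

variable [IsSepClosed (ResidueField R)]

theorem trivRes : letI := act R K E
    haveI := isLocalRing_O R E
    TameFL.TrivRes (E ≃ₐ[K] E) (integralClosure R E) := by
  letI := act R K E
  haveI := isLocalRing_O R E
  haveI : FaithfulSMul R (integralClosure R E) :=
    (faithfulSMul_iff_algebraMap_injective R _).mpr (algebraMap_O_injective R K E)
  haveI : IsLocalHom (algebraMap R (integralClosure R E)) := inferInstance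
  haveI : Algebra.IsAlgebraic (ResidueField R) (ResidueField (integralClosure R E)) := by
    refine ⟨fun x => ?_⟩
    obtain ⟨y, rfl⟩ := residue_surjective x
    have hy : IsIntegral R y := Algebra.IsIntegral.isIntegral y
    obtain ⟨p, hp, hpy⟩ := hy
    refine IsIntegral.isAlgebraic ⟨p.map (residue R), hp.map _, ?_⟩
    have h1 : eval₂ (algebraMap (ResidueField R) (ResidueField (integralClosure R E)))
        (residue (integralClosure R E) y) (p.map (residue R)) =
        residue (integralClosure R E) (eval₂ (algebraMap R (integralClosure R E)) y p) := by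
      rw [eval₂_map, hom_eval₂]
      congr 1
    rw [h1, hpy, map_zero]
  intro g x
  obtain ⟨q, hq⟩ := ExpChar.exists (ResidueField R)
  haveI := hq
  haveI : ExpChar (ResidueField (integralClosure R E)) q :=
    expChar_of_injective_algebraMap (algebraMap (ResidueField R)
      (ResidueField (integralClosure R E))).injective q
  obtain ⟨n, a, ha⟩ := IsPurelyInseparable.pow_mem (ResidueField R) q
    (residue (integralClosure R E) x)
  obtain ⟨a, rfl⟩ := residue_surjective a
  have h1 : x ^ q ^ n - algebraMap R (integralClosure R E) a ∈ maximalIdeal (integralClosure R E) := by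
    rw [← residue_eq_zero_iff, map_sub, map_pow, ← ha, sub_eq_zero]
    rfl
  have h2 : g • (x ^ q ^ n - algebraMap R (integralClosure R E) a) ∈
      maximalIdeal (integralClosure R E) := by
    rw [mem_maximalIdeal, mem_nonunits_iff]
    intro hu
    apply (mem_maximalIdeal _).mp h1
    obtain ⟨u, hu⟩ := hu.exists_right_inv
    have h5 := congrArg (fun z => g⁻¹ • z) hu
    simp only [smul_mul', inv_smul_smul, smul_one] at h5
    exact IsUnit.of_mul_eq_one _ h5
  rw [smul_sub, smul_pow', smul_algebraMap] at h2
  have h3 : (g • x) ^ q ^ n - x ^ q ^ n ∈ maximalIdeal (integralClosure R E) := by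
    have := Ideal.sub_mem _ h2 h1
    simpa using this
  rw [← residue_eq_zero_iff] at h3 ⊢
  rw [map_sub, map_pow, map_pow, ← sub_pow_expChar_pow] at h3
  rw [map_sub]
  exact (pow_eq_zero_iff (pow_ne_zero n (expChar_pos (ResidueField R) q).ne')).mp h3

end Act

end Groth.Agent.Lib.Helper10.TameInst

namespace Groth.Agent.Lib.Helper10.TameInst

section FL

variable (R K E : Type u) [CommRing R] [IsDomain R] [IsDiscreteValuationRing R]
  [HenselianLocalRing R] [IsSepClosed (ResidueField R)] [Field K] [Algebra R K]
  [IsFractionRing R K] [Field E] [Algebra K E]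
  [Algebra R E] [IsScalarTower R K E] [FiniteDimensional K E] [IsGalois K E]

/-- Finite-level divisibility: an automorphism fixing an `r`-th root `ρ = ρ₂ ^ r` of the uniformizer
(where `ρ₂` is an `r²`-th root) is a product of two `r`-th powers. -/
theorem finite_level (r : ℕ) (hr0 : 0 < r) (hr : IsUnit (r : ResidueField R)) (ϖ : R)
    (hϖ : Irreducible ϖ) (ρ₂ : E) (hρ₂ : ρ₂ ^ (r * r) = algebraMap K E (algebraMap R K ϖ))
    (σ : E ≃ₐ[K] E) (hσ : σ (ρ₂ ^ r) = ρ₂ ^ r) : ∃ τ π' : E ≃ₐ[K] E, σ = τ ^ r * π' ^ r := by
  letI := act R K E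
  haveI := isLocalRing_O R E
  haveI := isDVR_O R K E
  haveI := faithful R K E
  have htr := trivRes R K E
  obtain ⟨π, hπ⟩ := IsDiscreteValuationRing.exists_irreducible (integralClosure R E)
  have hrr : 0 < r * r := Nat.mul_pos hr0 hr0
  have hrR : IsUnit (r : R) := by
    by_contra h
    have : (r : R) ∈ maximalIdeal R := (mem_maximalIdeal _).mpr h
    rw [← residue_eq_zero_iff, map_natCast] at this
    exact hr.ne_zero this
  have hrO : IsUnit ((r : ℕ) : integralClosure R E) := by
    have := hrR.map (algebraMap R (integralClosure R E))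
    rwa [map_natCast] at this
  have hint : IsIntegral R ρ₂ := by
    refine ⟨X ^ (r * r) - C ϖ, monic_X_pow_sub_C ϖ hrr.ne', ?_⟩
    rw [eval₂_sub, eval₂_pow, eval₂_X, eval₂_C, hρ₂, ← IsScalarTower.algebraMap_apply, sub_self]
  let ρ₂' : integralClosure R E := ⟨ρ₂, hint⟩
  have hϖE : algebraMap K E (algebraMap R K ϖ) ≠ 0 := by
    rw [Ne, map_eq_zero_iff _ (algebraMap K E).injective,
      map_eq_zero_iff _ (IsFractionRing.injective R K)]
    exact hϖ.ne_zero
  have hρ₂0 : ρ₂ ≠ 0 := by
    rintro rfl
    rw [zero_pow hrr.ne'] at hρ₂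
    exact hϖE hρ₂.symm
  have hρ₂'0 : ρ₂' ≠ 0 := by
    intro h
    exact hρ₂0 (congrArg Subtype.val h)
  have hrrk : IsUnit ((r * r : ℕ) : ResidueField R) := by push_cast; exact hr.mul hr
  obtain ⟨ζ, hζ⟩ := exists_primitiveRoot R (r * r) hrrk
  obtain ⟨τ₀, hτ₀⟩ := exists_conj R K E ϖ hϖ (r * r) hrr ρ₂ hρ₂ (algebraMap R E ζ)
    (by rw [← map_pow, hζ.pow_eq_one, map_one])
  have hζO : IsPrimitiveRoot (algebraMap R (integralClosure R E) ζ) (r * r) :=
    hζ.map_of_injective (algebraMap_O_injective R K E)
  refine TameFL.main htr hπ r hr0 hrO ρ₂' hρ₂'0 ?_ τ₀ (algebraMap R _ ζ) ?_ hζO.pow_eq_one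
    (fun j hj0 hj => hζO.pow_ne_one_of_pos_of_lt hj0.ne' hj) σ ?_
  · intro g
    apply Subtype.ext
    rw [coe_smul]
    show g (ρ₂ ^ (r * r)) = ρ₂ ^ (r * r)
    rw [hρ₂, AlgEquiv.commutes]
  · apply Subtype.ext
    rw [coe_smul]
    exact hτ₀
  · apply Subtype.ext
    rw [coe_smul]
    exact hσ

end FL

end Groth.Agent.Lib.Helper10.TameInst
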