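import Mathlib
import Groth.Agent.Lib.Helper10.TameInst2

/-!
# The fundamental character of a strictly henselian DVR: divisibility at the profinite level (helper10)
-/

set_option autoImplicit false
set_option linter.style.haveILetI false
set_option linter.unusedSectionVars false
universe u
open Polynomial IsLocalRing

namespace Groth.Agent.Lib.Helper10.TameTop

open Groth.Agent.Lib.Helper10.TameInst

section

variable (R : Type u) [CommRing R] [IsDomain R] [IsDiscreteValuationRing R] [HenselianLocalRing R]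
  [IsSepClosed (ResidueField R)] (K : Type u) [Field K] [Algebra R K] [IsFractionRing R K]
  (Ω : Type u) [Field Ω] [Algebra K Ω] [IsSepClosure K Ω]

omit [IsSepClosure K Ω] in
theorem res_eq_iff (E : IntermediateField K Ω) [Normal K E] (g h : Ω ≃ₐ[K] Ω) :
    AlgEquiv.restrictNormalHom E g = AlgEquiv.restrictNormalHom E h ↔ ∀ x ∈ E, g x = h x := by
  constructor
  · intro hgh x hx
    have h1 := AlgEquiv.restrictNormal_commutes g E ⟨x, hx⟩
    have h2 := AlgEquiv.restrictNormal_commutes h E ⟨x, hx⟩
    have h3 : g.restrictNormal E = h.restrictNormal E := hgh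
    rw [h3] at h1
    exact h1.symm.trans h2
  · intro hgh
    apply AlgEquiv.ext
    intro x
    apply (algebraMap E Ω).injective
    have h1 := AlgEquiv.restrictNormal_commutes g E x
    have h2 := AlgEquiv.restrictNormal_commutes h E x
    show algebraMap E Ω (g.restrictNormal E x) = algebraMap E Ω (h.restrictNormal E x)
    rw [h1, h2]
    exact hgh _ x.2

include K in
theorem natCast_ne_zero (r : ℕ) (hr : IsUnit (r : ResidueField R)) : (r : Ω) ≠ 0 := by
  have hrR : IsUnit (r : R) := by
    by_contra h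
    have : (r : R) ∈ maximalIdeal R := (mem_maximalIdeal _).mpr h
    rw [← residue_eq_zero_iff, map_natCast] at this
    exact hr.ne_zero this
  have h1 := (hrR.map (algebraMap R K)).map (algebraMap K Ω)
  rw [map_natCast, map_natCast] at h1
  exact h1.ne_zero

/-- An automorphism fixing an `r`-th root of the uniformizer is a product of two `r`-th powers. -/
theorem exists_pow_mul_pow (r : ℕ) [NeZero r] (hr : IsUnit (r : ResidueField R)) (ϖ : R)
    (hϖ : Irreducible ϖ) (ρ : Ω) (hρ : ρ ^ r = algebraMap K Ω (algebraMap R K ϖ))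
    (σ : Ω ≃ₐ[K] Ω) (hσ : σ ρ = ρ) : ∃ τ π' : Ω ≃ₐ[K] Ω, σ = τ ^ r * π' ^ r := by
  have hr0 : 0 < r := Nat.pos_of_ne_zero (NeZero.ne r)
  haveI : NeZero (r : Ω) := ⟨natCast_ne_zero R K Ω r hr⟩
  haveI : IsSepClosed Ω := IsSepClosure.sep_closed K
  obtain ⟨ρ₂, hρ₂⟩ := IsSepClosed.exists_pow_nat_eq ρ r
  have hρ₂rr : ρ₂ ^ (r * r) = algebraMap K Ω (algebraMap R K ϖ) := by
    rw [pow_mul, hρ₂, hρ]
  let S : FiniteGaloisIntermediateField K Ω → Set ((Ω ≃ₐ[K] Ω) × (Ω ≃ₐ[K] Ω)) := fun E =>
    {p | AlgEquiv.restrictNormalHom E.toIntermediateField (p.1 ^ r * p.2 ^ r) =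
      AlgEquiv.restrictNormalHom E.toIntermediateField σ}
  have hmono : ∀ E₁ E₂ : FiniteGaloisIntermediateField K Ω, E₁ ≤ E₂ → S E₂ ⊆ S E₁ := by
    intro E₁ E₂ hle p hp
    have hle' : E₁.toIntermediateField ≤ E₂.toIntermediateField := hle
    show AlgEquiv.restrictNormalHom E₁.toIntermediateField (p.1 ^ r * p.2 ^ r) =
      AlgEquiv.restrictNormalHom E₁.toIntermediateField σ
    rw [res_eq_iff]
    intro x hx
    have hp' : AlgEquiv.restrictNormalHom E₂.toIntermediateField (p.1 ^ r * p.2 ^ r) =
      AlgEquiv.restrictNormalHom E₂.toIntermediateField σ := hp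
    rw [res_eq_iff] at hp'
    exact hp' x (hle' hx)
  have htd : Directed (· ⊇ ·) S := by
    intro E₁ E₂
    exact ⟨E₁ ⊔ E₂, hmono _ _ le_sup_left, hmono _ _ le_sup_right⟩
  have htn : ∀ E, (S E).Nonempty := by
    intro E
    let E' : FiniteGaloisIntermediateField K Ω := E ⊔ FiniteGaloisIntermediateField.adjoin K {ρ₂}
    have hmem : ρ₂ ∈ E'.toIntermediateField := by
      have h1 : ρ₂ ∈ (FiniteGaloisIntermediateField.adjoin K {ρ₂}).toIntermediateField :=
        FiniteGaloisIntermediateField.subset_adjoin K {ρ₂} (Set.mem_singleton _)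
      have h2 : FiniteGaloisIntermediateField.adjoin K {ρ₂} ≤ E' := le_sup_right
      exact h2 h1
    letI : Algebra R E'.toIntermediateField :=
      ((algebraMap K E'.toIntermediateField).comp (algebraMap R K)).toAlgebra
    haveI : IsScalarTower R K E'.toIntermediateField := IsScalarTower.of_algebraMap_eq (fun _ => rfl)
    have h1 : (⟨ρ₂, hmem⟩ : E'.toIntermediateField) ^ (r * r) =
        algebraMap K E'.toIntermediateField (algebraMap R K ϖ) := by
      apply Subtype.ext
      rw [SubmonoidClass.coe_pow]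
      exact hρ₂rr
    have h2 : (AlgEquiv.restrictNormalHom E'.toIntermediateField σ)
        ((⟨ρ₂, hmem⟩ : E'.toIntermediateField) ^ r) = (⟨ρ₂, hmem⟩ : E'.toIntermediateField) ^ r := by
      apply Subtype.ext
      have := AlgEquiv.restrictNormal_commutes σ E'.toIntermediateField
        ((⟨ρ₂, hmem⟩ : E'.toIntermediateField) ^ r)
      have e1 : algebraMap E'.toIntermediateField Ω ((⟨ρ₂, hmem⟩ : E'.toIntermediateField) ^ r) = ρ := by
        rw [map_pow]; exact hρ₂
      rw [e1, hσ] at this
      rw [SubmonoidClass.coe_pow]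
      show _ = ρ₂ ^ r
      rw [hρ₂]
      exact this
    obtain ⟨τE, πE, hE⟩ := finite_level R K E'.toIntermediateField r hr0 hr ϖ hϖ ⟨ρ₂, hmem⟩ h1
      (AlgEquiv.restrictNormalHom E'.toIntermediateField σ) h2
    obtain ⟨τ, hτ⟩ := AlgEquiv.restrictNormalHom_surjective (F := K) (K₁ := E'.toIntermediateField) Ω τE
    obtain ⟨π', hπ'⟩ := AlgEquiv.restrictNormalHom_surjective (F := K) (K₁ := E'.toIntermediateField) Ω πE
    refine ⟨(τ, π'), hmono E E' le_sup_left ?_⟩
    show AlgEquiv.restrictNormalHom E'.toIntermediateField (τ ^ r * π' ^ r) =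
      AlgEquiv.restrictNormalHom E'.toIntermediateField σ
    rw [map_mul, map_pow, map_pow, hτ, hπ', hE]
  have htcl : ∀ E, IsClosed (S E) := by
    intro E
    have hcont : Continuous (fun p : (Ω ≃ₐ[K] Ω) × (Ω ≃ₐ[K] Ω) =>
        AlgEquiv.restrictNormalHom E.toIntermediateField (p.1 ^ r * p.2 ^ r)) := by
      refine (InfiniteGalois.restrictNormalHom_continuous E.toIntermediateField).comp ?_
      exact ((continuous_fst.pow r).mul (continuous_snd.pow r))
    exact isClosed_singleton.preimage hcont
  have htc : ∀ E, IsCompact (S E) := fun E => (htcl E).isCompact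
  obtain ⟨p, hp⟩ := IsCompact.nonempty_iInter_of_directed_nonempty_isCompact_isClosed S htd htn htc htcl
  refine ⟨p.1, p.2, ?_⟩
  apply AlgEquiv.ext
  intro x
  have hx : x ∈ (FiniteGaloisIntermediateField.adjoin K {x}).toIntermediateField :=
    FiniteGaloisIntermediateField.subset_adjoin K {x} (Set.mem_singleton _)
  have h1 := Set.mem_iInter.mp hp (FiniteGaloisIntermediateField.adjoin K {x})
  have h2 : AlgEquiv.restrictNormalHom (FiniteGaloisIntermediateField.adjoin K {x}).toIntermediateField
      (p.1 ^ r * p.2 ^ r) =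
      AlgEquiv.restrictNormalHom (FiniteGaloisIntermediateField.adjoin K {x}).toIntermediateField σ := h1
  rw [res_eq_iff] at h2
  exact (h2 x hx).symm

end

end Groth.Agent.Lib.Helper10.TameTop
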