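import Mathlib

/-!
# Cofinality for extensions of valuation rings (helper10)

`cofinal`: for an algebraic extension `L/K` of valued fields with `vL` extending `vK`, a prime `P`
of `L°` and `s ∈ L° ∖ P`, some `u ∈ K°` with image outside `P` is a multiple of `s` in `L°`.
-/

set_option linter.style.haveILetI false
set_option linter.unusedSectionVars false
set_option linter.unnecessarySimpa false

universe u

namespace Groth.Agent.Lib.Helper10.ValEtA

open Polynomial

theorem exists_dvd_all {A : Type*} [CommRing A] [IsDomain A] [ValuationRing A] (S : Finset A)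
    (hS : S.Nonempty) : ∃ c ∈ S, ∀ x ∈ S, c ∣ x := by
  induction hS using Finset.Nonempty.cons_induction with
  | singleton a => exact ⟨a, by simp, by simp⟩
  | cons a S ha hS ih =>
    obtain ⟨c, hc, hcS⟩ := ih
    rcases ValuationRing.dvd_total a c with h | h
    · refine ⟨a, by simp, fun x hx => ?_⟩
      rcases Finset.mem_cons.mp hx with rfl | hx
      · exact dvd_rfl
      · exact h.trans (hcS x hx)
    · refine ⟨c, by simp [hc], fun x hx => ?_⟩
      rcases Finset.mem_cons.mp hx with rfl | hx
      · exact h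
      · exact hcS x hx

/-- a primitive relation: a polynomial over `A` killing `s` with some coefficient `1`. -/
theorem exists_primitive {A B : Type*} [CommRing A] [IsDomain A] [ValuationRing A]
    [CommRing B] [IsDomain B] [Algebra A B] (hinj : Function.Injective (algebraMap A B))
    (s : B) (hs : IsAlgebraic A s) :
    ∃ q : A[X], (∃ j, q.coeff j = 1) ∧ eval₂ (algebraMap A B) s q = 0 := by
  classical
  obtain ⟨q₁, hq₁, hq₁s⟩ := hs
  have hne : (q₁.support.image q₁.coeff).Nonempty := by
    rw [Finset.image_nonempty]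
    exact Polynomial.support_nonempty.mpr hq₁
  obtain ⟨c, hc, hcall⟩ := exists_dvd_all _ hne
  obtain ⟨j, hj, rfl⟩ := Finset.mem_image.mp hc
  have hcj : q₁.coeff j ≠ 0 := Polynomial.mem_support_iff.mp hj
  have hdvd : C (q₁.coeff j) ∣ q₁ := by
    rw [Polynomial.C_dvd_iff_dvd_coeff]
    intro i
    by_cases hi : i ∈ q₁.support
    · exact hcall _ (Finset.mem_image_of_mem _ hi)
    · rw [Polynomial.notMem_support_iff.mp hi]
      exact dvd_zero _
  obtain ⟨q, hq⟩ := hdvd
  refine ⟨q, ⟨j, ?_⟩, ?_⟩
  · have := congrArg (fun r => r.coeff j) hq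
    simp only [Polynomial.coeff_C_mul] at this
    exact mul_left_cancel₀ hcj (by rw [← this, mul_one])
  · rw [Polynomial.aeval_def, hq, Polynomial.eval₂_mul, Polynomial.eval₂_C] at hq₁s
    rcases mul_eq_zero.mp hq₁s with h | h
    · exact absurd ((map_eq_zero_iff _ hinj).mp h) hcj
    · exact h

/-- abstract cofinality: `A → B` injective map of valuation rings, `B` algebraic over `A`. -/
theorem cofinal_aux {A B : Type*} [CommRing A] [IsDomain A] [ValuationRing A]
    [CommRing B] [IsDomain B] [ValuationRing B] [Algebra A B]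
    (hinj : Function.Injective (algebraMap A B))
    (P : Ideal B) [P.IsPrime] (s : B) (hs : s ∉ P) (halg : IsAlgebraic A s) :
    ∃ u : A, algebraMap A B u ∉ P ∧ s ∣ algebraMap A B u := by
  obtain ⟨q, ⟨j, hj⟩, hqs⟩ := exists_primitive hinj s halg
  let f : A →+* B ⧸ P := (Ideal.Quotient.mk P).comp (algebraMap A B)
  set qb : (B ⧸ P)[X] := q.map f with hqb
  have hqb0 : qb ≠ 0 := by
    intro h
    have := congrArg (fun r => r.coeff j) h
    simp only [hqb, Polynomial.coeff_map, hj, map_one, Polynomial.coeff_zero] at this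
    exact one_ne_zero this
  have hev : qb.eval (Ideal.Quotient.mk P s) = 0 := by
    rw [hqb, Polynomial.eval_map, ← Polynomial.hom_eval₂, hqs, map_zero]
  have hsb : Ideal.Quotient.mk P s ≠ 0 := by
    rwa [Ne, Ideal.Quotient.eq_zero_iff_mem]
  set k := qb.natTrailingDegree with hk
  have hXk : X ^ k ∣ qb := by
    rw [Polynomial.X_pow_dvd_iff]
    intro d hd
    exact Polynomial.coeff_eq_zero_of_lt_natTrailingDegree hd
  obtain ⟨q1, hq1⟩ := hXk
  have hc0 : q1.coeff 0 = f (q.coeff k) := by
    have h1 : qb.coeff (0 + k) = q1.coeff 0 := by rw [hq1, Polynomial.coeff_X_pow_mul]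
    rw [← h1, zero_add, hqb, Polynomial.coeff_map]
  have hc0ne : q1.coeff 0 ≠ 0 := by
    have h1 : qb.coeff (0 + k) = q1.coeff 0 := by rw [hq1, Polynomial.coeff_X_pow_mul]
    rw [← h1, zero_add]
    exact Polynomial.trailingCoeff_nonzero_iff_nonzero.mpr hqb0
  have hev1 : q1.eval (Ideal.Quotient.mk P s) = 0 := by
    rw [hq1, Polynomial.eval_mul, Polynomial.eval_pow, Polynomial.eval_X] at hev
    rcases mul_eq_zero.mp hev with h | h
    · exact absurd h (pow_ne_zero k hsb)
    · exact h
  have hsplit := Polynomial.divX_mul_X_add q1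
  obtain ⟨r, hr⟩ := Ideal.Quotient.mk_surjective ((divX q1).eval (Ideal.Quotient.mk P s))
  set c := q.coeff k with hc
  have hmem : r * s + algebraMap A B c ∈ P := by
    rw [← Ideal.Quotient.eq_zero_iff_mem, map_add, map_mul, hr]
    have : f c = Ideal.Quotient.mk P (algebraMap A B c) := rfl
    rw [← this, ← hc0, ← hev1]
    conv_rhs => rw [← hsplit]
    simp
  have hcP : algebraMap A B c ∉ P := by
    intro h
    apply hc0ne
    rw [hc0]
    exact Ideal.Quotient.eq_zero_iff_mem.mpr h
  refine ⟨c, hcP, ?_⟩
  rcases ValuationRing.dvd_total s (algebraMap A B c) with h | ⟨s', hs'⟩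
  · exact h
  · -- s = c * s'
    have h1 : algebraMap A B c * (r * s' + 1) ∈ P := by
      have : algebraMap A B c * (r * s' + 1) = r * s + algebraMap A B c := by rw [hs']; ring
      rw [this]; exact hmem
    have h2 : r * s' + 1 ∈ P := (Ideal.IsPrime.mem_or_mem inferInstance h1).resolve_left hcP
    have hloc : IsLocalRing B := inferInstance
    have h3 : r * s' + 1 ∈ IsLocalRing.maximalIdeal B :=
      IsLocalRing.le_maximalIdeal (Ideal.IsPrime.ne_top inferInstance) h2
    have h4 : IsUnit (r * s') := by
      by_contra hnu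
      have : r * s' ∈ IsLocalRing.maximalIdeal B := (IsLocalRing.mem_maximalIdeal _).mpr hnu
      have h5 : (1 : B) ∈ IsLocalRing.maximalIdeal B := by
        have := (IsLocalRing.maximalIdeal B).sub_mem h3 this
        simpa using this
      exact (IsLocalRing.maximalIdeal B).ne_top_iff_one.mp
        (IsLocalRing.maximalIdeal.isMaximal B).ne_top h5
    have h6 : IsUnit s' := isUnit_of_mul_isUnit_right h4
    obtain ⟨w, hw⟩ := h6
    refine ⟨(w⁻¹ : Bˣ), ?_⟩
    rw [hs', ← hw, mul_assoc, Units.mul_inv, mul_one]

theorem cofinal {K L Γ₀ Γ₁ : Type*} [Field K] [Field L] [Algebra K L] [Algebra.IsAlgebraic K L]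
    [LinearOrderedCommGroupWithZero Γ₀] [LinearOrderedCommGroupWithZero Γ₁]
    (vK : Valuation K Γ₀) (vL : Valuation L Γ₁) [vK.HasExtension vL]
    (P : Ideal vL.valuationSubring) [P.IsPrime] (s : vL.valuationSubring) (hs : s ∉ P) :
    ∃ u : vK.valuationSubring, algebraMap vK.valuationSubring vL.valuationSubring u ∉ P ∧
      s ∣ algebraMap vK.valuationSubring vL.valuationSubring u := by
  have hinj : Function.Injective (algebraMap vK.valuationSubring vL.valuationSubring) := by
    intro x y hxy
    have h1 := congrArg (fun z : vL.valuationSubring => (z : L)) hxy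
    simp only [Valuation.HasExtension.coe_algebraMap_valuationSubring_eq] at h1
    exact Subtype.ext ((algebraMap K L).injective h1)
  refine cofinal_aux hinj P s hs ?_
  have h1 : IsAlgebraic K (s : L) := Algebra.IsAlgebraic.isAlgebraic _
  have h2 : IsAlgebraic vK.valuationSubring (s : L) :=
    (IsFractionRing.isAlgebraic_iff vK.valuationSubring K L).mpr h1
  obtain ⟨q, hq0, hq⟩ := h2
  refine ⟨q, hq0, ?_⟩
  apply Subtype.ext
  have := Polynomial.aeval_algebraMap_apply L s q
  rw [ZeroMemClass.coe_zero, ← hq]
  exact this.symm
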