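import Mathlib

/-!
# Composite étale extensions of valuation rings: basic lemmas (helper10)
-/

set_option linter.style.haveILetI false
set_option linter.unusedSectionVars false
set_option linter.unnecessarySimpa false

universe u

namespace Groth.Agent.Lib.Helper10.ValEtB

open IsLocalRing

variable {A B : Type u} [CommRing A] [IsDomain A] [ValuationRing A] [CommRing B] [IsDomain B]
  [ValuationRing B] [Algebra A B]

theorem dvd_of_mem_of_notMem (P : Ideal B) [P.IsPrime] {a u : A} (ha : algebraMap A B a ∈ P)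
    (hu : algebraMap A B u ∉ P) : ∃ a' : A, a = u * a' ∧ algebraMap A B a' ∈ P := by
  rcases ValuationRing.dvd_total u a with ⟨c, hc⟩ | ⟨c, hc⟩
  · refine ⟨c, hc, ?_⟩
    rw [hc, map_mul] at ha
    exact (Ideal.IsPrime.mem_or_mem inferInstance ha).resolve_left hu
  · exfalso
    apply hu
    rw [hc, map_mul]
    exact P.mul_mem_right _ ha

theorem flat (hinj : Function.Injective (algebraMap A B)) : Module.Flat A B := by
  rw [Module.Flat.flat_iff_torsion_eq_bot_of_isBezout, eq_bot_iff]
  intro x hx
  rw [Submodule.mem_torsion_iff] at hx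
  obtain ⟨a, ha⟩ := hx
  rw [Submodule.mem_bot]
  have ha0 : (a : A) ≠ 0 := nonZeroDivisors.coe_ne_zero a
  have h1 : algebraMap A B (a : A) * x = 0 := by
    rw [← Algebra.smul_def]; exact ha
  rcases mul_eq_zero.mp h1 with h | h
  · exact absurd ((map_eq_zero_iff _ hinj).mp h) ha0
  · exact h

/-- elements of `pB` are divisible by a single element of `p`. -/
theorem exists_dvd_of_mem_map (p : Ideal A) {y : B} (hy : y ∈ p.map (algebraMap A B)) :
    ∃ a ∈ p, algebraMap A B a ∣ y := by
  induction hy using Submodule.span_induction with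
  | zero => exact ⟨0, p.zero_mem, by simp⟩
  | mem x h => obtain ⟨a, ha, rfl⟩ := h; exact ⟨a, ha, dvd_rfl⟩
  | add x y _ _ hx hy =>
    obtain ⟨a, ha, hax⟩ := hx
    obtain ⟨b, hb, hby⟩ := hy
    rcases ValuationRing.dvd_total a b with h | h
    · exact ⟨a, ha, dvd_add hax (((algebraMap A B).map_dvd h).trans hby)⟩
    · exact ⟨b, hb, dvd_add (((algebraMap A B).map_dvd h).trans hax) hby⟩
  | smul c x _ hx =>
    obtain ⟨a, ha, hax⟩ := hx
    exact ⟨a, ha, by rw [smul_eq_mul]; exact hax.mul_left c⟩

/-- If `A_p → B_P` is étale then `P = pB` elementwise. -/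
theorem exists_dvd_of_mem (P : Ideal B) [P.IsPrime]
    (hcof : ∀ s : B, s ∉ P → ∃ u : A, algebraMap A B u ∉ P ∧ s ∣ algebraMap A B u)
    (hA : (Localization.localRingHom (P.comap (algebraMap A B)) P (algebraMap A B) rfl).Etale)
    {x : B} (hx : x ∈ P) : ∃ a : A, algebraMap A B a ∈ P ∧ algebraMap A B a ∣ x := by
  set p := P.comap (algebraMap A B) with hp
  set f := Localization.localRingHom p P (algebraMap A B) rfl with hf
  letI := f.toAlgebra
  haveI : Algebra.Etale (Localization.AtPrime p) (Localization.AtPrime P) := hA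
  haveI : IsLocalHom (algebraMap (Localization.AtPrime p) (Localization.AtPrime P)) :=
    Localization.isLocalHom_localRingHom _ _ _ _
  have hmax := Algebra.FormallyUnramified.map_maximalIdeal (R := Localization.AtPrime p)
    (S := Localization.AtPrime P)
  have h1 : algebraMap B (Localization.AtPrime P) x ∈ maximalIdeal (Localization.AtPrime P) := by
    rw [← Localization.AtPrime.map_eq_maximalIdeal]
    exact Ideal.mem_map_of_mem _ hx
  rw [← hmax, ← Localization.AtPrime.map_eq_maximalIdeal, Ideal.map_map] at h1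
  have hcomp : (algebraMap (Localization.AtPrime p) (Localization.AtPrime P)).comp
      (algebraMap A (Localization.AtPrime p)) =
      (algebraMap B (Localization.AtPrime P)).comp (algebraMap A B) := by
    ext a
    exact Localization.localRingHom_to_map p P (algebraMap A B) rfl a
  rw [hcomp, ← Ideal.map_map, IsLocalization.mem_map_algebraMap_iff P.primeCompl] at h1
  obtain ⟨⟨⟨y, hy⟩, s⟩, hys⟩ := h1
  simp only at hys
  rw [← map_mul] at hys
  have hys' : x * (s : B) = y :=
    IsLocalization.injective _ P.primeCompl_le_nonZeroDivisors hys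
  obtain ⟨a, ha, c, hc⟩ := exists_dvd_of_mem_map p hy
  obtain ⟨u, hu, s', hs'⟩ := hcof (s : B) s.2
  obtain ⟨a', ha', ha'P⟩ := dvd_of_mem_of_notMem P (a := a) (u := u) ha hu
  refine ⟨a', ha'P, s' * c, ?_⟩
  have hs0 : (s : B) ≠ 0 := fun h => s.2 (by rw [h]; exact P.zero_mem)
  apply mul_right_cancel₀ hs0
  rw [hys', hc, ha', map_mul, hs']
  ring

/-- key vanishing lemma. -/
theorem subsingleton_of_smul_top_eq (P : Ideal B) [P.IsPrime] (M : Type*) [AddCommGroup M]
    [Module B M] (h1 : ∀ m : M, ∃ s : B, s ∉ P ∧ s • m = 0)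
    (h2 : P • (⊤ : Submodule B M) = ⊤) : Subsingleton M := by
  have h3 : ∀ m : M, m = 0 := by
    intro m
    have hm : m ∈ P • (⊤ : Submodule B M) := by rw [h2]; trivial
    refine Submodule.smul_induction_on hm ?_ ?_
    · intro x hx n _
      obtain ⟨s, hs, hsn⟩ := h1 n
      rcases ValuationRing.dvd_total s x with ⟨c, hc⟩ | ⟨c, hc⟩
      · rw [hc, mul_comm, mul_smul, hsn, smul_zero]
      · exfalso; apply hs; rw [hc]; exact P.mul_mem_right _ hx
    · intro x y hx hy
      rw [hx, hy, add_zero]
  exact ⟨fun a b => by rw [h3 a, h3 b]⟩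

end Groth.Agent.Lib.Helper10.ValEtB
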