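import Mathlib
import Groth.Agent.Lib.Helper10.ValEtB

/-!
# Composite étale extensions of valuation rings: formally unramified (helper10)
-/

set_option linter.style.haveILetI false
set_option linter.unusedSectionVars false
set_option linter.unnecessarySimpa false

universe u

namespace Groth.Agent.Lib.Helper10.ValEtC

open IsLocalRing TensorProduct KaehlerDifferential Groth.Agent.Lib.Helper10.ValEtB

variable {A B : Type u} [CommRing A] [IsDomain A] [ValuationRing A] [CommRing B] [IsDomain B]
  [ValuationRing B] [Algebra A B]

theorem formallyUnramified (P : Ideal B) [P.IsPrime]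
    (hcof : ∀ s : B, s ∉ P → ∃ u : A, algebraMap A B u ∉ P ∧ s ∣ algebraMap A B u)
    (hA : (Localization.localRingHom (P.comap (algebraMap A B)) P (algebraMap A B) rfl).Etale)
    (hB : (Ideal.quotientMap P (algebraMap A B)
      (le_refl (Ideal.comap (algebraMap A B) P))).Etale) :
    Algebra.FormallyUnramified A B := by
  set p := P.comap (algebraMap A B) with hp
  have h1 : ∀ ω : Ω[B⁄A], ∃ s : B, s ∉ P ∧ s • ω = 0 := by
    set f := Localization.localRingHom p P (algebraMap A B) rfl with hf
    letI := f.toAlgebra
    haveI : Algebra.Etale (Localization.AtPrime p) (Localization.AtPrime P) := hA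
    haveI : IsScalarTower A (Localization.AtPrime p) (Localization.AtPrime P) :=
      IsScalarTower.of_algebraMap_eq (fun a => by
        rw [IsScalarTower.algebraMap_apply A B (Localization.AtPrime P)]
        exact (Localization.localRingHom_to_map p P (algebraMap A B) rfl a).symm)
    haveI : Algebra.FormallyUnramified A (Localization.AtPrime p) :=
      Algebra.FormallyUnramified.of_isLocalization p.primeCompl
    have hu : Algebra.FormallyUnramified A (Localization.AtPrime P) :=
      Algebra.FormallyUnramified.comp A (Localization.AtPrime p) _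
    have hmem : (⟨P, inferInstance⟩ : PrimeSpectrum B) ∈ Algebra.unramifiedLocus A B := hu
    rw [Algebra.unramifiedLocus_eq_compl_support, Set.mem_compl_iff,
      Module.notMem_support_iff'] at hmem
    exact hmem
  have h2 : P • (⊤ : Submodule B Ω[B⁄A]) = ⊤ := by
    haveI : Algebra.Etale (A ⧸ p) (B ⧸ P) := RingHom.etale_algebraMap.mp hB
    haveI : Algebra.FormallyUnramified A (A ⧸ p) :=
      Algebra.FormallyUnramified.of_surjective (Algebra.ofId A (A ⧸ p))
        Ideal.Quotient.mk_surjective
    haveI : Algebra.FormallyUnramified A (B ⧸ P) :=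
      Algebra.FormallyUnramified.comp A (A ⧸ p) _
    have hsub : Subsingleton ((B ⧸ P) ⊗[B] Ω[B⁄A]) := by
      refine subsingleton_of_forall_eq 0 fun x => ?_
      obtain ⟨x, rfl⟩ := (KaehlerDifferential.exact_kerCotangentToTensor_mapBaseChange A B
        (B ⧸ P) Ideal.Quotient.mk_surjective x).mp (Subsingleton.elim _ _)
      obtain ⟨⟨x, hx⟩, rfl⟩ := Ideal.toCotangent_surjective _ x
      simp only [KaehlerDifferential.kerCotangentToTensor_toCotangent]
      have hxP : x ∈ P := by
        rw [RingHom.mem_ker, Ideal.Quotient.algebraMap_eq, Ideal.Quotient.eq_zero_iff_mem] at hx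
        exact hx
      obtain ⟨a, haP, c, rfl⟩ := exists_dvd_of_mem P hcof hA hxP
      rw [Derivation.leibniz, Derivation.map_algebraMap, smul_zero, add_zero,
        TensorProduct.tmul_smul, TensorProduct.smul_tmul', Algebra.smul_def, mul_one,
        Ideal.Quotient.algebraMap_eq, Ideal.Quotient.eq_zero_iff_mem.mpr haP,
        TensorProduct.zero_tmul]
    have e := TensorProduct.quotTensorEquivQuotSMul Ω[B⁄A] P
    have : Subsingleton (Ω[B⁄A] ⧸ (P • (⊤ : Submodule B Ω[B⁄A]))) := e.symm.subsingleton
    exact Submodule.Quotient.subsingleton_iff.mp this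
  exact ⟨subsingleton_of_smul_top_eq P _ h1 h2⟩

end Groth.Agent.Lib.Helper10.ValEtC
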