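import Mathlib
import Groth.Agent.Lib.Helper10.ValEtB

/-!
# Composite étale extensions of valuation rings: finite type (helper10)
-/

set_option linter.style.haveILetI false
set_option linter.unusedSectionVars false
set_option linter.unnecessarySimpa false

universe u

namespace Groth.Agent.Lib.Helper10.ValEtD

open IsLocalRing Groth.Agent.Lib.Helper10.ValEtB

variable {A B : Type u} [CommRing A] [IsDomain A] [ValuationRing A] [CommRing B] [IsDomain B]
  [ValuationRing B] [Algebra A B]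

theorem exists_clear (P : Ideal B) [P.IsPrime]
    (hcof : ∀ s : B, s ∉ P → ∃ u : A, algebraMap A B u ∉ P ∧ s ∣ algebraMap A B u)
    (x : Localization.AtPrime P) :
    ∃ u : A, algebraMap A B u ∉ P ∧ ∃ b : B,
      algebraMap B (Localization.AtPrime P) (algebraMap A B u) * x =
        algebraMap B (Localization.AtPrime P) b := by
  obtain ⟨b₀, s, rfl⟩ := IsLocalization.exists_mk'_eq P.primeCompl x
  obtain ⟨u, hu, s', hs'⟩ := hcof s s.2
  refine ⟨u, hu, b₀ * s', ?_⟩
  rw [hs', map_mul, mul_comm (algebraMap B (Localization.AtPrime P) (s : B)), mul_assoc,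
    IsLocalization.mk'_spec', map_mul, mul_comm]

/-- For a subalgebra `B₀ ⊆ B` whose image generates `B_P` over `A_p` (up to denominators). -/
theorem exists_mul_mem (P : Ideal B) [P.IsPrime]
    (hcof : ∀ s : B, s ∉ P → ∃ u : A, algebraMap A B u ∉ P ∧ s ∣ algebraMap A B u)
    (hA : (Localization.localRingHom (P.comap (algebraMap A B)) P (algebraMap A B) rfl).Etale) :
    ∃ T : Finset B, ∀ b : B, ∃ u : A, algebraMap A B u ∉ P ∧
      algebraMap A B u * b ∈ Algebra.adjoin A (T : Set B) := by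
  classical
  set p := P.comap (algebraMap A B) with hp
  set f := Localization.localRingHom p P (algebraMap A B) rfl with hf
  letI := f.toAlgebra
  haveI : Algebra.Etale (Localization.AtPrime p) (Localization.AtPrime P) := hA
  obtain ⟨S', hS'⟩ := (Algebra.FiniteType.out :
    (⊤ : Subalgebra (Localization.AtPrime p) (Localization.AtPrime P)).FG)
  choose uf huf bf hbf using exists_clear P hcof
  refine ⟨S'.image bf, ?_⟩
  set B₀ := Algebra.adjoin A ((S'.image bf : Finset B) : Set B) with hB₀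
  have claim : ∀ y : Localization.AtPrime P, ∃ u : A, algebraMap A B u ∉ P ∧ ∃ b₀ ∈ B₀,
      algebraMap B (Localization.AtPrime P) (algebraMap A B u) * y =
        algebraMap B (Localization.AtPrime P) b₀ := by
    intro y
    have hy : y ∈ Algebra.adjoin (Localization.AtPrime p) (S' : Set (Localization.AtPrime P)) := by
      rw [hS']; trivial
    induction hy using Algebra.adjoin_induction with
    | mem y hy =>
      exact ⟨uf y, huf y, bf y, Algebra.subset_adjoin (Finset.mem_coe.mpr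
        (Finset.mem_image_of_mem _ hy)), hbf y⟩
    | algebraMap r =>
      obtain ⟨a, v, rfl⟩ := IsLocalization.exists_mk'_eq p.primeCompl r
      refine ⟨v, v.2, algebraMap A B a, Subalgebra.algebraMap_mem _ _, ?_⟩
      have : algebraMap (Localization.AtPrime p) (Localization.AtPrime P)
          (IsLocalization.mk' (Localization.AtPrime p) a v) =
          IsLocalization.mk' (Localization.AtPrime P) (algebraMap A B a)
            (⟨algebraMap A B v, v.2⟩ : P.primeCompl) :=
        Localization.localRingHom_mk' p P (algebraMap A B) rfl a v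
      rw [this]
      exact IsLocalization.mk'_spec' _ _ (⟨algebraMap A B v, v.2⟩ : P.primeCompl)
    | add y₁ y₂ _ _ h₁ h₂ =>
      obtain ⟨u₁, hu₁, b₁, hb₁, e₁⟩ := h₁
      obtain ⟨u₂, hu₂, b₂, hb₂, e₂⟩ := h₂
      refine ⟨u₁ * u₂, ?_, algebraMap A B u₂ * b₁ + algebraMap A B u₁ * b₂,
        B₀.add_mem (B₀.mul_mem (Subalgebra.algebraMap_mem _ _) hb₁)
          (B₀.mul_mem (Subalgebra.algebraMap_mem _ _) hb₂), ?_⟩
      · rw [map_mul]
        exact fun h => (Ideal.IsPrime.mem_or_mem inferInstance h).elim hu₁ hu₂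
      · simp only [map_add, map_mul]
        rw [← e₁, ← e₂]
        ring
    | mul y₁ y₂ _ _ h₁ h₂ =>
      obtain ⟨u₁, hu₁, b₁, hb₁, e₁⟩ := h₁
      obtain ⟨u₂, hu₂, b₂, hb₂, e₂⟩ := h₂
      refine ⟨u₁ * u₂, ?_, b₁ * b₂, B₀.mul_mem hb₁ hb₂, ?_⟩
      · rw [map_mul]
        exact fun h => (Ideal.IsPrime.mem_or_mem inferInstance h).elim hu₁ hu₂
      · simp only [map_mul]
        rw [← e₁, ← e₂]
        ring
  intro b
  obtain ⟨u, hu, b₀, hb₀, e⟩ := claim (algebraMap B (Localization.AtPrime P) b)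
  refine ⟨u, hu, ?_⟩
  rw [← map_mul] at e
  rw [IsLocalization.injective _ P.primeCompl_le_nonZeroDivisors e]
  exact hb₀

theorem exists_sub_mem (P : Ideal B) [P.IsPrime]
    (hB : (Ideal.quotientMap P (algebraMap A B)
      (le_refl (Ideal.comap (algebraMap A B) P))).Etale) :
    ∃ T : Finset B, ∀ b : B, ∃ b₀ ∈ Algebra.adjoin A (T : Set B), b - b₀ ∈ P := by
  classical
  set p := P.comap (algebraMap A B) with hp
  haveI : Algebra.Etale (A ⧸ p) (B ⧸ P) := RingHom.etale_algebraMap.mp hB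
  obtain ⟨S', hS'⟩ := (Algebra.FiniteType.out : (⊤ : Subalgebra (A ⧸ p) (B ⧸ P)).FG)
  choose lift hlift using (Ideal.Quotient.mk_surjective : Function.Surjective (Ideal.Quotient.mk P))
  refine ⟨S'.image lift, ?_⟩
  set B₀ := Algebra.adjoin A ((S'.image lift : Finset B) : Set B) with hB₀
  have claim : ∀ y : B ⧸ P, ∃ b₀ ∈ B₀, Ideal.Quotient.mk P b₀ = y := by
    intro y
    have hy : y ∈ Algebra.adjoin (A ⧸ p) (S' : Set (B ⧸ P)) := by
      rw [hS']; trivial
    induction hy using Algebra.adjoin_induction with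
    | mem y hy =>
      exact ⟨lift y, Algebra.subset_adjoin (Finset.mem_coe.mpr
        (Finset.mem_image_of_mem _ hy)), hlift y⟩
    | algebraMap r =>
      obtain ⟨a, rfl⟩ := Ideal.Quotient.mk_surjective r
      exact ⟨algebraMap A B a, Subalgebra.algebraMap_mem _ _, rfl⟩
    | add y₁ y₂ _ _ h₁ h₂ =>
      obtain ⟨b₁, hb₁, rfl⟩ := h₁
      obtain ⟨b₂, hb₂, rfl⟩ := h₂
      exact ⟨b₁ + b₂, B₀.add_mem hb₁ hb₂, map_add _ _ _⟩
    | mul y₁ y₂ _ _ h₁ h₂ =>
      obtain ⟨b₁, hb₁, rfl⟩ := h₁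
      obtain ⟨b₂, hb₂, rfl⟩ := h₂
      exact ⟨b₁ * b₂, B₀.mul_mem hb₁ hb₂, map_mul _ _ _⟩
  intro b
  obtain ⟨b₀, hb₀, e⟩ := claim (Ideal.Quotient.mk P b)
  refine ⟨b₀, hb₀, ?_⟩
  rw [← Ideal.Quotient.eq_zero_iff_mem, map_sub, e, sub_self]

theorem finiteType (P : Ideal B) [P.IsPrime]
    (hcof : ∀ s : B, s ∉ P → ∃ u : A, algebraMap A B u ∉ P ∧ s ∣ algebraMap A B u)
    (hA : (Localization.localRingHom (P.comap (algebraMap A B)) P (algebraMap A B) rfl).Etale)
    (hB : (Ideal.quotientMap P (algebraMap A B)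
      (le_refl (Ideal.comap (algebraMap A B) P))).Etale) :
    Algebra.FiniteType A B := by
  classical
  obtain ⟨T₁, hT₁⟩ := exists_mul_mem P hcof hA
  obtain ⟨T₂, hT₂⟩ := exists_sub_mem (A := A) P hB
  refine ⟨⟨T₁ ∪ T₂, eq_top_iff.mpr fun b _ => ?_⟩⟩
  have hle₁ : Algebra.adjoin A (T₁ : Set B) ≤ Algebra.adjoin A ((T₁ ∪ T₂ : Finset B) : Set B) :=
    Algebra.adjoin_mono (by simp)
  have hle₂ : Algebra.adjoin A (T₂ : Set B) ≤ Algebra.adjoin A ((T₁ ∪ T₂ : Finset B) : Set B) :=
    Algebra.adjoin_mono (by simp)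
  obtain ⟨b₀, hb₀, hbP⟩ := hT₂ b
  obtain ⟨a, haP, c, hc⟩ := exists_dvd_of_mem P hcof hA hbP
  obtain ⟨u, hu, huc⟩ := hT₁ c
  obtain ⟨a', ha', -⟩ := dvd_of_mem_of_notMem P (a := a) (u := u) haP hu
  have : b = b₀ + algebraMap A B a' * (algebraMap A B u * c) := by
    have : b = b₀ + (b - b₀) := by ring
    rw [this, hc, ha', map_mul]; ring
  rw [this]
  exact Subalgebra.add_mem _ (hle₂ hb₀)
    (Subalgebra.mul_mem _ (Subalgebra.algebraMap_mem _ _) (hle₁ huc))

end Groth.Agent.Lib.Helper10.ValEtD
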