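import Mathlib
import Groth.Agent.Lib.Helper10.ValEtB
import Groth.Agent.Lib.Helper10.ValEtD

/-!
# Composite étale extensions of valuation rings: finite presentation, part 1 (helper10)
-/

set_option linter.style.haveILetI false
set_option linter.unusedSectionVars false
set_option linter.unnecessarySimpa false

universe u

namespace Groth.Agent.Lib.Helper10.ValEtE

open IsLocalRing MvPolynomial Groth.Agent.Lib.Helper10.ValEtB Groth.Agent.Lib.Helper10.ValEtD

attribute [local instance] MvPolynomial.algebraMvPolynomial

variable {A B : Type u} [CommRing A] [IsDomain A] [ValuationRing A] [CommRing B] [IsDomain B]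
  [ValuationRing B] [Algebra A B]

theorem exists_J1 (P : Ideal B) [P.IsPrime]
    (hcof : ∀ s : B, s ∉ P → ∃ u : A, algebraMap A B u ∉ P ∧ s ∣ algebraMap A B u)
    (hA : (Localization.localRingHom (P.comap (algebraMap A B)) P (algebraMap A B) rfl).Etale)
    {r : ℕ} (π : MvPolynomial (Fin r) A →ₐ[A] B) (hπ : Function.Surjective π) :
    ∃ J₁ : Ideal (MvPolynomial (Fin r) A), J₁.FG ∧ J₁ ≤ RingHom.ker π.toRingHom ∧
      ∀ g ∈ RingHom.ker π.toRingHom, ∃ u : A, algebraMap A B u ∉ P ∧ C u * g ∈ J₁ := by
  classical
  set p := P.comap (algebraMap A B) with hp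
  set f := Localization.localRingHom p P (algebraMap A B) rfl with hf
  letI := f.toAlgebra
  haveI : Algebra.Etale (Localization.AtPrime p) (Localization.AtPrime P) := hA
  have hfalg : ∀ a : A, algebraMap (Localization.AtPrime p) (Localization.AtPrime P)
      (algebraMap A (Localization.AtPrime p) a) =
      algebraMap B (Localization.AtPrime P) (algebraMap A B a) := fun a =>
    Localization.localRingHom_to_map p P (algebraMap A B) rfl a
  let φ : MvPolynomial (Fin r) A →+* MvPolynomial (Fin r) (Localization.AtPrime p) :=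
    MvPolynomial.map (algebraMap A (Localization.AtPrime p))
  let π' : MvPolynomial (Fin r) (Localization.AtPrime p) →ₐ[Localization.AtPrime p]
      Localization.AtPrime P :=
    MvPolynomial.aeval (fun i => algebraMap B (Localization.AtPrime P) (π (X i)))
  have hcomm : ∀ g, π' (φ g) = algebraMap B (Localization.AtPrime P) (π g) := by
    intro g
    have : (π'.toRingHom.comp φ) = (algebraMap B (Localization.AtPrime P)).comp π.toRingHom := by
      apply MvPolynomial.ringHom_ext
      · intro a
        simp only [RingHom.comp_apply, φ, π', MvPolynomial.map_C, AlgHom.toRingHom_eq_coe,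
          RingHom.coe_coe, MvPolynomial.aeval_C]
        rw [hfalg, ← MvPolynomial.algebraMap_eq, AlgHom.commutes]
      · intro i
        simp only [RingHom.comp_apply, φ, π', MvPolynomial.map_X, AlgHom.toRingHom_eq_coe,
          RingHom.coe_coe, MvPolynomial.aeval_X]
    exact congrArg (fun h => h g) this
  have hinjBP : Function.Injective (algebraMap B (Localization.AtPrime P)) :=
    IsLocalization.injective _ P.primeCompl_le_nonZeroDivisors
  have hinjφ : Function.Injective φ :=
    MvPolynomial.map_injective _ (IsLocalization.injective _ p.primeCompl_le_nonZeroDivisors)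
  have hsurj : Function.Surjective π' := by
    intro y
    obtain ⟨u, hu, b, hb⟩ := exists_clear P hcof y
    obtain ⟨g, rfl⟩ := hπ b
    have hup : u ∈ p.primeCompl := hu
    refine ⟨C (IsLocalization.mk' (Localization.AtPrime p) 1 ⟨u, hup⟩) * φ g, ?_⟩
    rw [map_mul, hcomm, ← hb, MvPolynomial.aeval_C, ← mul_assoc, ← hfalg, ← map_mul,
      IsLocalization.mk'_spec, map_one, map_one, one_mul]
  have hker := Algebra.FinitePresentation.ker_fG_of_surjective π' hsurj
  obtain ⟨G', hG'⟩ := hker
  have hclear : ∀ g' : MvPolynomial (Fin r) (Localization.AtPrime p), ∃ u : A,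
      algebraMap A B u ∉ P ∧ ∃ g : MvPolynomial (Fin r) A, φ g = φ (C u) * g' := by
    intro g'
    obtain ⟨⟨g, ⟨m, hm⟩⟩, hgm⟩ := IsLocalization.surj (p.primeCompl.map (C (σ := Fin r))) g'
    obtain ⟨u, hu, rfl⟩ := hm
    refine ⟨u, hu, g, ?_⟩
    simp only [MvPolynomial.algebraMap_def] at hgm
    rw [mul_comm]
    exact hgm.symm
  choose uf huf gf hgf using hclear
  have hunit : ∀ u : A, algebraMap A B u ∉ P → IsUnit (φ (C u)) := by
    intro u hu
    have hup : u ∈ p.primeCompl := hu
    simp only [φ, MvPolynomial.map_C]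
    exact (IsLocalization.map_units (Localization.AtPrime p) ⟨u, hup⟩).map C
  refine ⟨Ideal.span ((G'.image gf : Finset _) : Set (MvPolynomial (Fin r) A)),
    ⟨G'.image gf, rfl⟩, ?_, ?_⟩
  · rw [Ideal.span_le]
    intro g hg
    obtain ⟨g', hg', rfl⟩ := Finset.mem_image.mp (Finset.mem_coe.mp hg)
    have hg'ker : π' g' = 0 := by
      have : g' ∈ RingHom.ker π'.toRingHom := by
        rw [← hG']; exact Submodule.subset_span (Finset.mem_coe.mpr hg')
      exact this
    change π (gf g') = 0
    apply hinjBP
    rw [← hcomm, hgf, map_mul, hg'ker, mul_zero, map_zero]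
  · intro h hh
    have hh0 : π h = 0 := hh
    have h1 : φ h ∈ RingHom.ker π'.toRingHom := by
      change π' (φ h) = 0
      rw [hcomm, hh0, map_zero]
    rw [← hG'] at h1
    have h2 : Ideal.span (G' : Set _) ≤ Ideal.map φ
        (Ideal.span ((G'.image gf : Finset _) : Set (MvPolynomial (Fin r) A))) := by
      rw [Ideal.span_le]
      intro g' hg'
      have h3 : φ (gf g') ∈ Ideal.map φ
          (Ideal.span ((G'.image gf : Finset _) : Set (MvPolynomial (Fin r) A))) :=
        Ideal.mem_map_of_mem _ (Ideal.subset_span (Finset.mem_coe.mpr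
          (Finset.mem_image_of_mem _ (Finset.mem_coe.mp hg'))))
      rw [hgf] at h3
      exact (Ideal.unit_mul_mem_iff_mem _ (hunit _ (huf g'))).mp h3
    have h4 := h2 h1
    have hφ : φ = algebraMap (MvPolynomial (Fin r) A)
        (MvPolynomial (Fin r) (Localization.AtPrime p)) := rfl
    rw [hφ, IsLocalization.mem_map_algebraMap_iff (p.primeCompl.map (C (σ := Fin r)))] at h4
    obtain ⟨⟨⟨j, hj⟩, ⟨m, hm⟩⟩, hjm⟩ := h4
    obtain ⟨u, hu, rfl⟩ := hm
    refine ⟨u, hu, ?_⟩
    simp only [← hφ, ← map_mul] at hjm
    have := hinjφ hjm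
    rw [mul_comm, this]
    exact hj

end Groth.Agent.Lib.Helper10.ValEtE
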