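import Mathlib
import Groth.Agent.Lib.Helper10.ValEtB
import Groth.Agent.Lib.Helper10.ValEtC
import Groth.Agent.Lib.Helper10.ValEtD
import Groth.Agent.Lib.Helper10.ValEtE

/-!
# Composite étale extensions of valuation rings: finite presentation and the main theorem (helper10)

`etale_of_etale_atPrime_of_etale_quotient`: `A → B` an injective homomorphism of valuation rings,
`P` a prime of `B` such that `A ∖ p` is cofinal in `B ∖ P` for divisibility; if `A_p → B_P` and
`A/p → B/P` are étale then `A → B` is étale.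
-/

set_option linter.style.haveILetI false
set_option linter.unusedSectionVars false
set_option linter.unnecessarySimpa false

universe u

namespace Groth.Agent.Lib.Helper10.ValEtF

open IsLocalRing MvPolynomial Groth.Agent.Lib.Helper10.ValEtB Groth.Agent.Lib.Helper10.ValEtD
  Groth.Agent.Lib.Helper10.ValEtE

theorem exists_C_mul_of_mem_map_C {A : Type*} [CommRing A] [IsDomain A] [ValuationRing A]
    {σ : Type*} (p : Ideal A) {y : MvPolynomial σ A} (hy : y ∈ p.map (C (σ := σ))) :
    ∃ a ∈ p, ∃ g : MvPolynomial σ A, y = C a * g := by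
  induction hy using Submodule.span_induction with
  | zero => exact ⟨0, p.zero_mem, 0, by simp⟩
  | mem x h => obtain ⟨a, ha, rfl⟩ := h; exact ⟨a, ha, 1, by simp⟩
  | add x y _ _ hx hy =>
    obtain ⟨a, ha, g, rfl⟩ := hx
    obtain ⟨b, hb, h, rfl⟩ := hy
    rcases ValuationRing.dvd_total a b with ⟨c, rfl⟩ | ⟨c, rfl⟩
    · exact ⟨a, ha, g + C c * h, by rw [map_mul]; ring⟩
    · exact ⟨b, hb, C c * g + h, by rw [map_mul]; ring⟩
  | smul c x _ hx =>
    obtain ⟨a, ha, g, rfl⟩ := hx
    exact ⟨a, ha, c * g, by rw [smul_eq_mul]; ring⟩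

variable {A B : Type u} [CommRing A] [IsDomain A] [ValuationRing A] [CommRing B] [IsDomain B]
  [ValuationRing B] [Algebra A B]

theorem exists_J2 (hinj : Function.Injective (algebraMap A B)) (P : Ideal B) [P.IsPrime]
    (hcof : ∀ s : B, s ∉ P → ∃ u : A, algebraMap A B u ∉ P ∧ s ∣ algebraMap A B u)
    (hA : (Localization.localRingHom (P.comap (algebraMap A B)) P (algebraMap A B) rfl).Etale)
    (hB : (Ideal.quotientMap P (algebraMap A B)
      (le_refl (Ideal.comap (algebraMap A B) P))).Etale)
    {r : ℕ} (π : MvPolynomial (Fin r) A →ₐ[A] B) (hπ : Function.Surjective π) :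
    ∃ J₂ : Ideal (MvPolynomial (Fin r) A), J₂.FG ∧ J₂ ≤ RingHom.ker π.toRingHom ∧
      ∀ g ∈ RingHom.ker π.toRingHom, ∃ j ∈ J₂, ∃ a : A, algebraMap A B a ∈ P ∧
        ∃ g' ∈ RingHom.ker π.toRingHom, g = j + C a * g' := by
  classical
  set p := P.comap (algebraMap A B) with hp
  haveI : Algebra.Etale (A ⧸ p) (B ⧸ P) := RingHom.etale_algebraMap.mp hB
  let ψ : MvPolynomial (Fin r) A →+* MvPolynomial (Fin r) (A ⧸ p) :=
    MvPolynomial.map (Ideal.Quotient.mk p)
  let πb : MvPolynomial (Fin r) (A ⧸ p) →ₐ[A ⧸ p] B ⧸ P :=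
    MvPolynomial.aeval (fun i => Ideal.Quotient.mk P (π (X i)))
  have hcomm : ∀ g, πb (ψ g) = Ideal.Quotient.mk P (π g) := by
    intro g
    have : (πb.toRingHom.comp ψ) = (Ideal.Quotient.mk P).comp π.toRingHom := by
      apply MvPolynomial.ringHom_ext
      · intro a
        simp only [RingHom.comp_apply, ψ, πb, MvPolynomial.map_C, AlgHom.toRingHom_eq_coe,
          RingHom.coe_coe, MvPolynomial.aeval_C]
        rw [← MvPolynomial.algebraMap_eq, AlgHom.commutes]
        rfl
      · intro i
        simp only [RingHom.comp_apply, ψ, πb, MvPolynomial.map_X, AlgHom.toRingHom_eq_coe,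
          RingHom.coe_coe, MvPolynomial.aeval_X]
    exact congrArg (fun h => h g) this
  have hψsurj : Function.Surjective ψ := MvPolynomial.map_surjective _ Ideal.Quotient.mk_surjective
  have hsurj : Function.Surjective πb := by
    intro y
    obtain ⟨b, rfl⟩ := Ideal.Quotient.mk_surjective y
    obtain ⟨g, rfl⟩ := hπ b
    exact ⟨ψ g, hcomm g⟩
  have hker := Algebra.FinitePresentation.ker_fG_of_surjective πb hsurj
  obtain ⟨G', hG'⟩ := hker
  have hlift : ∀ gb : MvPolynomial (Fin r) (A ⧸ p), ∃ g : MvPolynomial (Fin r) A,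
      πb gb = 0 → π g = 0 ∧ ψ g = gb := by
    intro gb
    obtain ⟨g₀, rfl⟩ := hψsurj gb
    by_cases h0 : πb (ψ g₀) = 0
    · rw [hcomm, Ideal.Quotient.eq_zero_iff_mem] at h0
      obtain ⟨a, haP, c, hc⟩ := exists_dvd_of_mem P hcof hA h0
      obtain ⟨h, rfl⟩ := hπ c
      refine ⟨g₀ - C a * h, fun _ => ⟨?_, ?_⟩⟩
      · rw [map_sub, map_mul, hc, ← MvPolynomial.algebraMap_eq, AlgHom.commutes, sub_self]
      · have : ψ (C a) = 0 := by
          simp only [ψ, MvPolynomial.map_C]
          rw [Ideal.Quotient.eq_zero_iff_mem.mpr (show a ∈ p from haP), map_zero]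
        rw [map_sub, map_mul, this, zero_mul, sub_zero]
    · exact ⟨0, fun h => absurd h h0⟩
  choose lift hlift using hlift
  refine ⟨Ideal.span ((G'.image lift : Finset _) : Set (MvPolynomial (Fin r) A)),
    ⟨G'.image lift, rfl⟩, ?_, ?_⟩
  · rw [Ideal.span_le]
    intro g hg
    obtain ⟨g', hg', rfl⟩ := Finset.mem_image.mp (Finset.mem_coe.mp hg)
    have hg'ker : πb g' = 0 := by
      have : g' ∈ RingHom.ker πb.toRingHom := by
        rw [← hG']; exact Submodule.subset_span (Finset.mem_coe.mpr hg')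
      exact this
    exact (hlift g' hg'ker).1
  · intro h hh
    have hh0 : π h = 0 := hh
    have h1 : ψ h ∈ RingHom.ker πb.toRingHom := by
      change πb (ψ h) = 0
      rw [hcomm, hh0, map_zero]
    rw [← hG'] at h1
    have h2 : Ideal.span (G' : Set _) ≤ Ideal.map ψ
        (Ideal.span ((G'.image lift : Finset _) : Set (MvPolynomial (Fin r) A))) := by
      rw [Ideal.span_le]
      intro g' hg'
      have hg'ker : πb g' = 0 := by
        have : g' ∈ RingHom.ker πb.toRingHom := by
          rw [← hG']; exact Submodule.subset_span hg'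
        exact this
      have h3 : ψ (lift g') ∈ Ideal.map ψ
          (Ideal.span ((G'.image lift : Finset _) : Set (MvPolynomial (Fin r) A))) :=
        Ideal.mem_map_of_mem _ (Ideal.subset_span (Finset.mem_coe.mpr
          (Finset.mem_image_of_mem _ (Finset.mem_coe.mp hg'))))
      rw [(hlift g' hg'ker).2] at h3
      exact h3
    have h4 := h2 h1
    rw [Ideal.mem_map_iff_of_surjective ψ hψsurj] at h4
    obtain ⟨j, hj, hjh⟩ := h4
    have h5 : h - j ∈ RingHom.ker ψ := by
      rw [RingHom.mem_ker, map_sub, hjh, sub_self]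
    have h6 : RingHom.ker ψ = p.map (C (σ := Fin r)) := by
      simp only [ψ]
      rw [MvPolynomial.ker_map, Ideal.mk_ker]
    rw [h6] at h5
    obtain ⟨a, ha, g', hg'⟩ := exists_C_mul_of_mem_map_C p h5
    have hjker : π j = 0 := by
      have : Ideal.span ((G'.image lift : Finset _) : Set (MvPolynomial (Fin r) A)) ≤
          RingHom.ker π.toRingHom := by
        rw [Ideal.span_le]
        intro g hg
        obtain ⟨g'', hg'', rfl⟩ := Finset.mem_image.mp (Finset.mem_coe.mp hg)
        have hg'ker : πb g'' = 0 := by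
          have : g'' ∈ RingHom.ker πb.toRingHom := by
            rw [← hG']; exact Submodule.subset_span (Finset.mem_coe.mpr hg'')
          exact this
        exact (hlift g'' hg'ker).1
      exact this hj
    by_cases ha0 : a = 0
    · refine ⟨j, hj, 0, by simp [P.zero_mem], 0, Ideal.zero_mem _, ?_⟩
      rw [ha0, map_zero, zero_mul] at hg'
      rw [mul_zero, add_zero]
      exact sub_eq_zero.mp hg'
    · refine ⟨j, hj, a, ha, g', ?_, ?_⟩
      · change π g' = 0
        have h7 : π (h - j) = 0 := by rw [map_sub, hh0, hjker, sub_self]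
        rw [hg', map_mul, ← MvPolynomial.algebraMap_eq, AlgHom.commutes] at h7
        rcases mul_eq_zero.mp h7 with h8 | h8
        · exact absurd ((map_eq_zero_iff _ hinj).mp h8) ha0
        · exact h8
      · rw [← hg']; ring

theorem finitePresentation (hinj : Function.Injective (algebraMap A B)) (P : Ideal B) [P.IsPrime]
    (hcof : ∀ s : B, s ∉ P → ∃ u : A, algebraMap A B u ∉ P ∧ s ∣ algebraMap A B u)
    (hA : (Localization.localRingHom (P.comap (algebraMap A B)) P (algebraMap A B) rfl).Etale)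
    (hB : (Ideal.quotientMap P (algebraMap A B)
      (le_refl (Ideal.comap (algebraMap A B) P))).Etale) :
    Algebra.FinitePresentation A B := by
  have hft := finiteType P hcof hA hB
  obtain ⟨r, π, hπ⟩ := Algebra.FiniteType.iff_quotient_mvPolynomial''.mp hft
  obtain ⟨J₁, hJ₁fg, hJ₁le, hJ₁⟩ := exists_J1 P hcof hA π hπ
  obtain ⟨J₂, hJ₂fg, hJ₂le, hJ₂⟩ := exists_J2 hinj P hcof hA hB π hπ
  refine ⟨⟨r, π, hπ, ?_⟩⟩
  have : RingHom.ker π.toRingHom = J₁ ⊔ J₂ := by
    apply le_antisymm
    · intro g hg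
      obtain ⟨j, hj, a, ha, g', hg', rfl⟩ := hJ₂ g hg
      obtain ⟨u, hu, hug'⟩ := hJ₁ g' hg'
      obtain ⟨a', rfl, -⟩ := dvd_of_mem_of_notMem P ha hu
      have : C (u * a') * g' = C a' * (C u * g') := by rw [map_mul]; ring
      rw [this]
      exact Ideal.add_mem _ (Ideal.mem_sup_right hj)
        (Ideal.mem_sup_left (Ideal.mul_mem_left _ _ hug'))
    · exact sup_le hJ₁le hJ₂le
  rw [this]
  exact Submodule.FG.sup hJ₁fg hJ₂fg

/-- Main theorem. -/
theorem etale_of_etale_atPrime_of_etale_quotient (hinj : Function.Injective (algebraMap A B))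
    (P : Ideal B) [P.IsPrime]
    (hcof : ∀ s : B, s ∉ P → ∃ u : A, algebraMap A B u ∉ P ∧ s ∣ algebraMap A B u)
    (hA : (Localization.localRingHom (P.comap (algebraMap A B)) P (algebraMap A B) rfl).Etale)
    (hB : (Ideal.quotientMap P (algebraMap A B)
      (le_refl (Ideal.comap (algebraMap A B) P))).Etale) :
    Algebra.Etale A B := by
  haveI := finitePresentation hinj P hcof hA hB
  haveI := flat hinj
  haveI := Groth.Agent.Lib.Helper10.ValEtC.formallyUnramified P hcof hA hB
  exact Algebra.Etale.of_formallyUnramified_of_flat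

end Groth.Agent.Lib.Helper10.ValEtF
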