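import Mathlib

/-!
# Basic facts on weakly étale algebras (helper10)

* transfer along algebra isomorphisms,
* flat epimorphisms (e.g. localizations, flat quotient maps) are weakly étale,
* purity of kernels of flat surjections.
-/

namespace Groth.Agent.Lib.Helper10.WE

open TensorProduct

section Basic

variable {R S S' : Type*} [CommRing R] [CommRing S] [CommRing S'] [Algebra R S] [Algebra R S']

/-- weak étaleness transfers along algebra isomorphisms -/
theorem weaklyEtale_of_algEquiv (e : S ≃ₐ[R] S') [Algebra.WeaklyEtale R S] :
    Algebra.WeaklyEtale R S' := by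
  refine ⟨Module.Flat.of_linearEquiv e.toLinearEquiv.symm, ?_⟩
  have h : Algebra.TensorProduct.lmul' R (S := S') =
      (e.toAlgHom.comp (Algebra.TensorProduct.lmul' R (S := S))).comp
        (Algebra.TensorProduct.map e.symm.toAlgHom e.symm.toAlgHom) := by
    ext <;> simp
  rw [h]
  refine RingHom.Flat.comp ?_ (RingHom.Flat.comp (Algebra.WeaklyEtale.flat_lmul' R S) ?_)
  · exact RingHom.Flat.of_bijective
      (Algebra.TensorProduct.congr e.symm e.symm).bijective
  · exact RingHom.Flat.of_bijective e.bijective

/-- a flat epimorphism is weakly étale -/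
theorem weaklyEtale_of_isEpi [Module.Flat R S] [Algebra.IsEpi R S] : Algebra.WeaklyEtale R S := by
  refine ⟨inferInstance, ?_⟩
  apply RingHom.Flat.of_bijective
  constructor
  · exact Algebra.IsEpi.injective_lift_mul (R := R) (A := S)
  · intro s
    exact ⟨s ⊗ₜ 1, by simp⟩

theorem isEpi_of_isLocalization (M : Submonoid R) [IsLocalization M S] : Algebra.IsEpi R S := by
  have := IsLocalization.tensorProduct_compatibleSMul M S S S
  refine ⟨?_⟩
  have : Function.Injective (Algebra.TensorProduct.lmulEquiv R S) :=
    (Algebra.TensorProduct.lmulEquiv R S).injective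
  exact this

theorem weaklyEtale_of_isLocalization (M : Submonoid R) [IsLocalization M S] :
    Algebra.WeaklyEtale R S := by
  have := IsLocalization.flat S M
  have := isEpi_of_isLocalization (S := S) M
  exact weaklyEtale_of_isEpi

theorem weaklyEtale_of_surjective [Module.Flat R S]
    (h : Function.Surjective (algebraMap R S)) : Algebra.WeaklyEtale R S := by
  have := Algebra.isEpi_of_surjective_algebraMap R S h
  exact weaklyEtale_of_isEpi

end Basic

section Pure

variable {T B : Type*} [CommRing T] [CommRing B]

theorem pure_ker_of_flat (f : T →+* B) (hf : Function.Surjective f) (hflat : f.Flat) :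
    (RingHom.ker f).Pure := by
  algebraize [f]
  have : Module.Flat T B := hflat
  let e : (T ⧸ RingHom.ker f) ≃ₗ[T] B :=
    { (RingHom.quotientKerEquivOfSurjective hf).toAddEquiv with
      map_smul' := by
        intro t x
        obtain ⟨x, rfl⟩ := Ideal.Quotient.mk_surjective x
        simp [Algebra.smul_def, RingHom.algebraMap_toAlgebra] }
  exact Module.Flat.of_linearEquiv e

theorem flat_of_pure_ker (f : T →+* B) (hf : Function.Surjective f)
    (hpure : (RingHom.ker f).Pure) : f.Flat := by
  algebraize [f]
  show Module.Flat T B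
  let e : (T ⧸ RingHom.ker f) ≃ₗ[T] B :=
    { (RingHom.quotientKerEquivOfSurjective hf).toAddEquiv with
      map_smul' := by
        intro t x
        obtain ⟨x, rfl⟩ := Ideal.Quotient.mk_surjective x
        simp [Algebra.smul_def, RingHom.algebraMap_toAlgebra] }
  exact Module.Flat.of_linearEquiv e.symm

theorem pure_of_forall_exists_eq_mul (I : Ideal T) (h : ∀ x ∈ I, ∃ y ∈ I, x = x * y) :
    I.Pure := by
  refine Ideal.Pure.of_inf_eq_mul I ?_
  intro J _
  refine le_antisymm ?_ Ideal.mul_le_inf
  intro x hx
  obtain ⟨y, hy, hxy⟩ := h x hx.1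
  have h2 : y * x ∈ I * J := Ideal.mul_mem_mul hy hx.2
  rw [mul_comm y x] at h2
  rw [hxy]
  exact h2

end Pure

end Groth.Agent.Lib.Helper10.WE
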