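import Groth.Agent.Lib.Helper10.WEVnr
import Groth.Agent.S0426

/-!
# Weakly étale algebras over a field (helper10)

* quotients and localizations of weakly étale `K`-algebras are weakly étale,
* residue field extensions of weakly étale local homomorphisms are separable,
* every element of a weakly étale `K`-algebra is killed by a monic separable polynomial,
* conversely a `K`-algebra all of whose elements are killed by monic separable polynomials is weakly étale.
-/

namespace Groth.Agent.Lib.Helper10.WE

open TensorProduct Polynomial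

universe u

section Quotient

variable (K : Type*) [Field K] (B : Type*) [CommRing B] [Algebra K B] [Algebra.WeaklyEtale K B]

include K in
theorem weaklyEtale_quotient_self (I : Ideal B) : Algebra.WeaklyEtale B (B ⧸ I) := by
  have : Module.Flat B (B ⧸ I) := pure_of_vnr (exists_eq_sq_mul_of_field K B) I
  exact weaklyEtale_of_surjective Ideal.Quotient.mk_surjective

theorem weaklyEtale_quotient (I : Ideal B) : Algebra.WeaklyEtale K (B ⧸ I) := by
  have := weaklyEtale_quotient_self K B I
  exact Algebra.WeaklyEtale.trans K B (B ⧸ I)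

/-- a surjective image of a weakly étale `K`-algebra is weakly étale -/
theorem weaklyEtale_of_surjective_algHom {C : Type*} [CommRing C] [Algebra K C] (φ : B →ₐ[K] C)
    (hφ : Function.Surjective φ) : Algebra.WeaklyEtale K C := by
  have := weaklyEtale_quotient K B (RingHom.ker φ)
  exact weaklyEtale_of_algEquiv (Ideal.quotientKerAlgEquivOfSurjective hφ)

theorem weaklyEtale_range {C : Type*} [CommRing C] [Algebra K C] (φ : B →ₐ[K] C) :
    Algebra.WeaklyEtale K φ.range :=
  weaklyEtale_of_surjective_algHom K B φ.rangeRestrict φ.rangeRestrict_surjective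

end Quotient

section Sup

variable (K : Type*) [Field K] {B : Type*} [CommRing B] [Algebra K B]

theorem weaklyEtale_sup (S₁ S₂ : Subalgebra K B) [Algebra.WeaklyEtale K S₁]
    [Algebra.WeaklyEtale K S₂] : Algebra.WeaklyEtale K ↥(S₁ ⊔ S₂) := by
  have h1 : Algebra.WeaklyEtale K (S₁ ⊗[K] S₂) := Algebra.WeaklyEtale.trans K S₁ (S₁ ⊗[K] S₂)
  have h2 := weaklyEtale_range K (S₁ ⊗[K] S₂) (Algebra.TensorProduct.productMap S₁.val S₂.val)
  have h3 : (Algebra.TensorProduct.productMap S₁.val S₂.val).range = S₁ ⊔ S₂ := by
    rw [Algebra.TensorProduct.productMap_range, Subalgebra.range_val, Subalgebra.range_val]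
  rw [h3] at h2
  exact h2

theorem weaklyEtale_bot : Algebra.WeaklyEtale K (⊥ : Subalgebra K B) := by
  have h2 := weaklyEtale_range K K (Algebra.ofId K B)
  have h3 : (Algebra.ofId K B).range = ⊥ := Algebra.range_ofId
  rw [h3] at h2
  exact h2

end Sup

section Residue

/-- the residue field extension of a weakly étale local homomorphism of local rings is weakly étale -/
theorem weaklyEtale_residueField (R S : Type*) [CommRing R] [CommRing S] [IsLocalRing R]
    [IsLocalRing S] [Algebra R S] [IsLocalHom (algebraMap R S)] [Algebra.WeaklyEtale R S] :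
    Algebra.WeaklyEtale (IsLocalRing.ResidueField R) (IsLocalRing.ResidueField S) := by
  let k := IsLocalRing.ResidueField R
  let κ := IsLocalRing.ResidueField S
  let ψ : k ⊗[R] S →ₐ[k] κ :=
    Algebra.TensorProduct.lift (Algebra.ofId k κ) (IsScalarTower.toAlgHom R S κ)
      (fun _ _ => Commute.all _ _)
  have hψ : Function.Surjective ψ := by
    intro x
    obtain ⟨s, rfl⟩ := IsLocalRing.residue_surjective x
    refine ⟨1 ⊗ₜ s, ?_⟩
    simp [ψ]
    rfl
  exact weaklyEtale_of_surjective_algHom k (k ⊗[R] S) ψ hψ

theorem isSeparable_residueField_of_weaklyEtale (R S : Type u) [CommRing R] [CommRing S]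
    [IsLocalRing R] [IsLocalRing S] [Algebra R S] [IsLocalHom (algebraMap R S)]
    [Algebra.WeaklyEtale R S] :
    Algebra.IsSeparable (IsLocalRing.ResidueField R) (IsLocalRing.ResidueField S) := by
  have := weaklyEtale_residueField R S
  exact Groth.Agent.S0426.result

end Residue

section LocBase

/-- if `A'` is a localization of `A` and `S` is an `A'`-algebra weakly étale over `A`, then it is
weakly étale over `A'` -/
theorem weaklyEtale_of_isLocalization_base {A : Type*} [CommRing A] (M : Submonoid A)
    (A' S : Type*) [CommRing A'] [CommRing S] [Algebra A A'] [IsLocalization M A'] [Algebra A S]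
    [Algebra A' S] [IsScalarTower A A' S] [Algebra.WeaklyEtale A S] : Algebra.WeaklyEtale A' S := by
  have hflat : Module.Flat A' S := (Module.flat_iff_of_isLocalization A' M S).mpr inferInstance
  refine ⟨hflat, ?_⟩
  have hc : TensorProduct.CompatibleSMul A A' S S :=
    IsLocalization.tensorProduct_compatibleSMul M A' S S
  let e : S ⊗[A'] S ≃ₐ[A] S ⊗[A] S := Algebra.TensorProduct.equivOfCompatibleSMul A A' A S S
  have h : (Algebra.TensorProduct.lmul' A' (S := S)).toRingHom =
      (Algebra.TensorProduct.lmul' A (S := S)).toRingHom.comp e.toAlgHom.toRingHom := by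
    have h' : (Algebra.TensorProduct.lmul' A' (S := S)).restrictScalars A =
        (Algebra.TensorProduct.lmul' A (S := S)).comp e.toAlgHom := by
      refine AlgHom.ext fun x => ?_
      induction x using TensorProduct.induction_on with
      | zero => simp
      | tmul a b => simp [e, Algebra.TensorProduct.equivOfCompatibleSMul]
      | add a b ha hb => rw [map_add, map_add, ha, hb]
    exact congrArg (fun φ : S ⊗[A'] S →ₐ[A] S => φ.toRingHom) h'
  show (Algebra.TensorProduct.lmul' A' (S := S)).toRingHom.Flat
  rw [h]
  exact RingHom.Flat.comp (RingHom.Flat.of_bijective e.bijective)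
    (Algebra.WeaklyEtale.flat_lmul' A S)

end LocBase

section Elements

variable (K : Type u) [Field K] (B : Type u) [CommRing B] [Algebra K B]

/-- the residue field at a prime of a weakly étale `K`-algebra is separable over `K` -/
theorem isSeparable_residueField_of_field [Algebra.WeaklyEtale K B] (q : Ideal B) [q.IsPrime] :
    Algebra.IsSeparable K q.ResidueField := by
  have h1 : Algebra.WeaklyEtale B (Localization.AtPrime q) :=
    weaklyEtale_of_isLocalization q.primeCompl
  have h2 : Algebra.WeaklyEtale K (Localization.AtPrime q) := Algebra.WeaklyEtale.trans K B _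
  have h3 : Algebra.WeaklyEtale K q.ResidueField :=
    weaklyEtale_of_surjective_algHom K (Localization.AtPrime q)
      (IsScalarTower.toAlgHom K (Localization.AtPrime q) q.ResidueField)
      IsLocalRing.residue_surjective
  exact Groth.Agent.S0426.result

/-- every element of a weakly étale algebra over a field is killed by a monic separable polynomial -/
theorem exists_monic_separable_aeval_eq_zero [Algebra.WeaklyEtale K B] (b : B) :
    ∃ P : K[X], P.Monic ∧ P.Separable ∧ aeval b P = 0 := by
  classical
  have hvnr := exists_eq_sq_mul_of_field K B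
  let m : PrimeSpectrum B → K[X] := fun q => minpoly K (algebraMap B q.asIdeal.ResidueField b)
  have hsep : ∀ q : PrimeSpectrum B, Algebra.IsSeparable K q.asIdeal.ResidueField :=
    fun q => isSeparable_residueField_of_field K B q.asIdeal
  have hint : ∀ q : PrimeSpectrum B, IsIntegral K (algebraMap B q.asIdeal.ResidueField b) :=
    fun q => Algebra.IsSeparable.isIntegral K (algebraMap B q.asIdeal.ResidueField b)
  have hm_sep : ∀ q, (m q).Separable := fun q => Algebra.IsSeparable.isSeparable K (algebraMap B q.asIdeal.ResidueField b)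
  have hm_monic : ∀ q, (m q).Monic := fun q => minpoly.monic (hint q)
  have hm_irr : ∀ q, Irreducible (m q) := fun q => minpoly.irreducible (hint q)
  have hm_mem : ∀ q : PrimeSpectrum B, aeval b (m q) ∈ q.asIdeal := by
    intro q
    rw [← Ideal.algebraMap_residueField_eq_zero, ← aeval_algebraMap_apply]
    exact minpoly.aeval K _
  choose c hc using hvnr
  let t : PrimeSpectrum B → B := fun q => aeval b (m q)
  let s : PrimeSpectrum B → B := fun q => 1 - t q * c (t q)
  have hst : ∀ q, s q * t q = 0 := by
    intro q
    simp only [s]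
    linear_combination hc (t q)
  have hs_notmem : ∀ q : PrimeSpectrum B, s q ∉ q.asIdeal := by
    intro q hq
    have h1 : t q * c (t q) ∈ q.asIdeal := Ideal.mul_mem_right _ _ (hm_mem q)
    have h2 : (1 : B) ∈ q.asIdeal := by
      have := Ideal.add_mem _ hq h1
      simpa [s] using this
    exact q.isPrime.ne_top ((Ideal.eq_top_iff_one _).mpr h2)
  have htop : Ideal.span (Set.range s) = ⊤ := by
    by_contra hne
    obtain ⟨M, hM, hle⟩ := Ideal.exists_le_maximal _ hne
    have := hle (Ideal.subset_span ⟨⟨M, hM.isPrime⟩, rfl⟩)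
    exact hs_notmem ⟨M, hM.isPrime⟩ this
  have h1 : (1 : B) ∈ Ideal.span (Set.range s) := by rw [htop]; trivial
  rw [Finsupp.mem_ideal_span_range_iff_exists_finsupp] at h1
  obtain ⟨a, ha⟩ := h1
  let PF : Finset K[X] := a.support.image m
  refine ⟨∏ p ∈ PF, p, monic_prod_of_monic _ _ (fun p hp => ?_), ?_, ?_⟩
  · obtain ⟨q, _, rfl⟩ := Finset.mem_image.mp hp
    exact hm_monic q
  · apply separable_prod'
    · intro p hp p' hp' hne
      obtain ⟨q, _, rfl⟩ := Finset.mem_image.mp hp
      obtain ⟨q', _, rfl⟩ := Finset.mem_image.mp hp'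
      rcases (hm_irr q).isCoprime_or_dvd (m q') with h | h
      · exact h
      · exfalso
        apply hne
        exact eq_of_monic_of_associated (hm_monic q) (hm_monic q')
          ((hm_irr q).associated_of_dvd (hm_irr q') h)
    · intro p hp
      obtain ⟨q, _, rfl⟩ := Finset.mem_image.mp hp
      exact hm_sep q
  · set y := aeval b (∏ p ∈ PF, p) with hy
    have hkill : ∀ q ∈ a.support, s q * y = 0 := by
      intro q hq
      have hdvd : m q ∣ ∏ p ∈ PF, p := Finset.dvd_prod_of_mem _ (Finset.mem_image_of_mem m hq)
      obtain ⟨r, hr⟩ := hdvd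
      rw [hy, hr, map_mul, ← mul_assoc]
      have := hst q
      simp only [t] at this
      rw [this, zero_mul]
    calc y = 1 * y := (one_mul y).symm
      _ = (a.sum fun i x => x * s i) * y := by rw [ha]
      _ = 0 := by
        rw [Finsupp.sum, Finset.sum_mul]
        refine Finset.sum_eq_zero fun q hq => ?_
        rw [mul_assoc, hkill q hq, mul_zero]

end Elements

section Converse

variable (K : Type*) [Field K] (B : Type*) [CommRing B] [Algebra K B]

/-- an algebra over a field in which every finite subset lies in a weakly étale subalgebra is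
weakly étale -/
theorem weaklyEtale_of_forall_finset_exists_subalgebra
    (h : ∀ F : Finset B, ∃ S : Subalgebra K B, (F : Set B) ⊆ S ∧ Algebra.WeaklyEtale K S) :
    Algebra.WeaklyEtale K B := by
  classical
  refine ⟨inferInstance, ?_⟩
  set μ := Algebra.TensorProduct.lmul' K (S := B) with hμ
  have hμs : Function.Surjective μ.toRingHom := fun s => ⟨s ⊗ₜ 1, by simp [μ]⟩
  refine flat_of_pure_ker _ hμs (pure_of_forall_exists_eq_mul _ ?_)
  intro x hx
  obtain ⟨s, hs⟩ := TensorProduct.exists_finset x
  obtain ⟨S, hFS, hS⟩ := h (s.image Prod.fst ∪ s.image Prod.snd)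
  let ι := S.val
  let Φ : S ⊗[K] S →ₐ[K] B ⊗[K] B := Algebra.TensorProduct.map ι ι
  have hxr : x ∈ Φ.range := by
    rw [hs]
    refine Subalgebra.sum_mem _ fun i hi => ?_
    have h1 : i.1 ∈ S := hFS (by
      rw [Finset.coe_union]
      left
      exact Finset.mem_coe.mpr (Finset.mem_image_of_mem Prod.fst hi))
    have h2 : i.2 ∈ S := hFS (by
      rw [Finset.coe_union]
      right
      exact Finset.mem_coe.mpr (Finset.mem_image_of_mem Prod.snd hi))
    exact ⟨(⟨i.1, h1⟩ : S) ⊗ₜ (⟨i.2, h2⟩ : S), by simp [Φ, ι]⟩
  obtain ⟨xS, rfl⟩ := hxr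
  set μS := Algebra.TensorProduct.lmul' K (S := S) with hμS
  have hcomm : ∀ z, μ (Φ z) = ι (μS z) := by
    intro z
    induction z using TensorProduct.induction_on with
    | zero => simp
    | tmul a b => simp [Φ, ι, μ, μS]
    | add a b ha hb => rw [map_add, map_add, map_add, map_add, ha, hb]
  have hxS : μS xS = 0 := by
    apply Subtype.val_injective
    have h1 : μ (Φ xS) = 0 := hx
    rw [hcomm] at h1
    exact h1
  have hμSs : Function.Surjective μS.toRingHom := fun s => ⟨s ⊗ₜ 1, by simp [μS]⟩
  have hpure : (RingHom.ker μS.toRingHom).Pure :=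
    pure_ker_of_flat _ hμSs (Algebra.WeaklyEtale.flat_lmul' K S)
  obtain ⟨yS, hyS, hxy⟩ := Ideal.exists_eq_mul_of_pure (show xS ∈ RingHom.ker μS.toRingHom from hxS)
  refine ⟨Φ yS, ?_, ?_⟩
  · show μ (Φ yS) = 0
    rw [hcomm]
    have : μS yS = 0 := hyS
    rw [this, map_zero]
  · show Φ xS = Φ xS * Φ yS
    rw [← map_mul, ← hxy]

/-- for finitely many elements killed by monic separable polynomials there is a weakly étale
subalgebra containing them -/
theorem exists_weaklyEtale_subalgebra_of_finset (F : Finset B)
    (hF : ∀ b ∈ F, ∃ P : K[X], P.Monic ∧ P.Separable ∧ aeval b P = 0) :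
    ∃ S : Subalgebra K B, (F : Set B) ⊆ S ∧ Algebra.WeaklyEtale K S := by
  classical
  induction F using Finset.induction_on with
  | empty => exact ⟨⊥, by simp, weaklyEtale_bot K⟩
  | insert b F hb ih =>
    obtain ⟨S, hFS, hS⟩ := ih (fun x hx => hF x (Finset.mem_insert_of_mem hx))
    obtain ⟨P, hPm, hPs, hPb⟩ := hF b (Finset.mem_insert_self b F)
    -- the standard étale pair `(P, 1)`
    obtain ⟨u, v, huv⟩ := hPs
    let E : StandardEtalePair K :=
      { f := P
        monic_f := hPm
        g := 1
        cond := ⟨v, u, 0, by rw [pow_zero, ← huv]; ring⟩ }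
    have hmap : E.HasMap b := ⟨hPb, by simp [E]⟩
    let φ : E.Ring →ₐ[K] B := E.lift b hmap
    have hS' : Algebra.WeaklyEtale K φ.range := weaklyEtale_range K E.Ring φ
    refine ⟨φ.range ⊔ S, ?_, weaklyEtale_sup K φ.range S⟩
    intro x hx
    rw [Finset.coe_insert] at hx
    rcases hx with rfl | hx
    · exact (le_sup_left : φ.range ≤ φ.range ⊔ S) ⟨E.X, E.lift_X _ hmap⟩
    · exact (le_sup_right : S ≤ φ.range ⊔ S) (hFS hx)

/-- a `K`-algebra all of whose elements are killed by monic separable polynomials is weakly étale -/
theorem weaklyEtale_of_forall_separable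
    (h : ∀ b : B, ∃ P : K[X], P.Monic ∧ P.Separable ∧ aeval b P = 0) :
    Algebra.WeaklyEtale K B :=
  weaklyEtale_of_forall_finset_exists_subalgebra K B
    (fun F => exists_weaklyEtale_subalgebra_of_finset K B F (fun b _ => h b))

end Converse

end Groth.Agent.Lib.Helper10.WE
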