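import Groth.Agent.Lib.Helper10.WEMax

/-!
# Finiteness of the maximal weakly étale subalgebra of a finite type algebra over a field (helper10)
-/

namespace Groth.Agent.Lib.Helper10.WE

open TensorProduct Polynomial

universe u

section VNR

variable {R : Type*} [CommRing R]

theorem isMaximal_of_isPrime_of_vnr (h : ∀ b : R, ∃ c : R, b = b * b * c) (q : Ideal R)
    [hq : q.IsPrime] : q.IsMaximal := by
  rw [Ideal.Quotient.maximal_ideal_iff_isField_quotient]
  refine ⟨⟨0, 1, zero_ne_one⟩, mul_comm, ?_⟩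
  intro a ha
  obtain ⟨x, rfl⟩ := Ideal.Quotient.mk_surjective a
  obtain ⟨c, hc⟩ := h x
  refine ⟨Ideal.Quotient.mk q c, ?_⟩
  have h0 : x * (1 - x * c) = 0 := by linear_combination hc
  have h1 : Ideal.Quotient.mk q x * (1 - Ideal.Quotient.mk q x * Ideal.Quotient.mk q c) = 0 := by
    rw [← map_mul, ← map_one (Ideal.Quotient.mk q), ← map_sub, ← map_mul, h0, map_zero]
  rcases mul_eq_zero.mp h1 with h2 | h2
  · exact absurd h2 ha
  · exact (sub_eq_zero.mp h2).symm

theorem eq_zero_of_isNilpotent_of_vnr (h : ∀ b : R, ∃ c : R, b = b * b * c) {x : R}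
    (hn : IsNilpotent x) : x = 0 := by
  obtain ⟨c, hc⟩ := h x
  have hk : ∀ k : ℕ, x = x ^ (k + 1) * c ^ k := by
    intro k
    induction k with
    | zero => simp
    | succ k ih =>
      calc x = x ^ (k + 1) * c ^ k := ih
        _ = x ^ k * x * c ^ k := by rw [pow_succ]
        _ = x ^ k * (x * x * c) * c ^ k := by rw [← hc]
        _ = x ^ (k + 1 + 1) * c ^ (k + 1) := by ring
  obtain ⟨n, hn⟩ := hn
  have := hk n
  rw [pow_succ, hn, zero_mul, zero_mul] at this
  exact this

end VNR

section Finite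

variable (k : Type u) [Field k] (B : Type u) [CommRing B] [Algebra k B] [Algebra.FiniteType k B]

theorem finite_maxWeaklyEtale : Module.Finite k (EtAlgD.maxWeaklyEtale k B) := by
  classical
  set M := EtAlgD.maxWeaklyEtale k B with hM
  have hWE : Algebra.WeaklyEtale k M := weaklyEtale_maxWeaklyEtale k
  have hvnr : ∀ b : M, ∃ c, b = b * b * c := exists_eq_sq_mul_of_field k M
  have hNoeth : IsNoetherianRing B := Algebra.FiniteType.isNoetherianRing k B
  have hcontr : ∀ m : PrimeSpectrum M, ∃ P ∈ minimalPrimes B,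
      P.comap (algebraMap M B) = m.asIdeal := by
    intro m
    have hmin : m.asIdeal ∈ minimalPrimes M := by
      refine ⟨⟨m.isPrime, bot_le⟩, fun q ⟨hq, _⟩ hle => ?_⟩
      have hqmax := isMaximal_of_isPrime_of_vnr hvnr q
      exact (hqmax.eq_of_le m.isPrime.ne_top hle).ge
    have h2 : m.asIdeal ∈ ((⊥ : Ideal B).comap (algebraMap M B)).minimalPrimes := by
      rwa [Ideal.comap_bot_of_injective _ Subtype.val_injective]
    exact Ideal.exists_minimalPrimes_comap_eq (algebraMap M B) m.asIdeal h2
  have hfin : Finite (PrimeSpectrum M) := by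
    have hf : (minimalPrimes B).Finite := minimalPrimes.finite_of_isNoetherianRing B
    choose P hP hPm using hcontr
    have hinj : Function.Injective (fun m => (⟨P m, hP m⟩ : minimalPrimes B)) := by
      intro m m' h
      have h' : P m = P m' := congrArg Subtype.val h
      ext1
      rw [← hPm m, ← hPm m', h']
    haveI := hf.to_subtype
    exact Finite.of_injective _ hinj
  have hres : ∀ m : PrimeSpectrum M, Module.Finite k (M ⧸ m.asIdeal) := by
    intro m
    obtain ⟨P, hP, hPm⟩ := hcontr m
    have hPprime : P.IsPrime := hP.1.1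
    obtain ⟨𝔐, h𝔐, hle⟩ := Ideal.exists_le_maximal P hPprime.ne_top
    have hcomap : 𝔐.comap (algebraMap M B) = m.asIdeal := by
      have hmax := isMaximal_of_isPrime_of_vnr hvnr m.asIdeal
      have h1 : m.asIdeal ≤ 𝔐.comap (algebraMap M B) := by
        rw [← hPm]
        exact Ideal.comap_mono hle
      exact (hmax.eq_of_le (Ideal.comap_ne_top _ h𝔐.ne_top) h1).symm
    letI := Ideal.Quotient.field 𝔐
    have hfinB : Module.Finite k (B ⧸ 𝔐) := finite_of_finite_type_of_isJacobsonRing k (B ⧸ 𝔐)
    let φ : M ⧸ m.asIdeal →ₐ[k] B ⧸ 𝔐 :=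
      Ideal.quotientMapₐ 𝔐 M.val (le_of_eq hcomap.symm)
    have hφ : Function.Injective φ :=
      Ideal.quotientMap_injective' (H := le_of_eq hcomap.symm) (le_of_eq hcomap)
    exact Module.Finite.of_injective φ.toLinearMap hφ
  let ψ : M →ₗ[k] (∀ m : PrimeSpectrum M, M ⧸ m.asIdeal) :=
    LinearMap.pi (fun m => (Ideal.Quotient.mkₐ k m.asIdeal).toLinearMap)
  have hψ : Function.Injective ψ := by
    rw [injective_iff_map_eq_zero]
    intro x hx
    apply eq_zero_of_isNilpotent_of_vnr hvnr
    rw [← mem_nilradical, nilradical_eq_sInf, Ideal.mem_sInf]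
    intro q hq
    have := congrFun hx ⟨q, hq⟩
    simp only [ψ, LinearMap.pi_apply, AlgHom.toLinearMap_apply, Ideal.Quotient.mkₐ_eq_mk,
      Pi.zero_apply] at this
    exact Ideal.Quotient.eq_zero_iff_mem.mp this
  haveI := Fintype.ofFinite (PrimeSpectrum M)
  exact Module.Finite.of_injective ψ hψ

end Finite

end Groth.Agent.Lib.Helper10.WE
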