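import Groth.Agent.Lib.Helper10.WEBasic
import Mathlib

/-!
# A going-down / purity lemma for weakly étale algebras (helper10)

If `B` is weakly étale over `V`, `x, x' ≤ q` are primes of `B` and `B ⧸ x` is flat over `V`,
then `x ≤ x'`.  Over a valuation ring, `B ⧸ x` is flat as soon as `x` lies over `0`, hence every
prime `q` of `B` contains exactly one prime lying over `0`.
-/

namespace Groth.Agent.Lib.Helper10.WE

open TensorProduct

section GoingDown

variable {V : Type*} [CommRing V] {B : Type*} [CommRing B] [Algebra V B]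

/-- purity of the kernel of the multiplication map, in elementwise form -/
theorem exists_eq_mul_of_mem_ker_lmul' [Algebra.WeaklyEtale V B] {z : B ⊗[V] B}
    (hz : Algebra.TensorProduct.lmul' V (S := B) z = 0) :
    ∃ w : B ⊗[V] B, Algebra.TensorProduct.lmul' V (S := B) w = 0 ∧ z = z * w := by
  have hsurj : Function.Surjective (Algebra.TensorProduct.lmul' V (S := B)).toRingHom :=
    fun b => ⟨b ⊗ₜ 1, by simp⟩
  have hpure : (RingHom.ker (Algebra.TensorProduct.lmul' V (S := B)).toRingHom).Pure :=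
    pure_ker_of_flat _ hsurj (Algebra.WeaklyEtale.flat_lmul' V B)
  obtain ⟨w, hw, hzw⟩ := Ideal.exists_eq_mul_of_pure
    (I := RingHom.ker (Algebra.TensorProduct.lmul' V (S := B)).toRingHom) (x := z) hz
  exact ⟨w, hw, hzw⟩

theorem le_of_le_of_flat_quotient [Algebra.WeaklyEtale V B] (q x x' : Ideal B) [q.IsPrime]
    [x.IsPrime] [x'.IsPrime] (hx : x ≤ q) (hx' : x' ≤ q) [Module.Flat V (B ⧸ x)] : x ≤ x' := by
  let φ : B ⊗[V] (B ⧸ x) →ₐ[V] B ⧸ q :=
    Algebra.TensorProduct.productMap (Ideal.Quotient.mkₐ V q) (Ideal.Quotient.factorₐ V hx)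
  let m : B ⊗[V] (B ⧸ x) →ₐ[V] B ⧸ x :=
    Algebra.TensorProduct.productMap (Ideal.Quotient.mkₐ V x) (AlgHom.id V _)
  let π : B ⊗[V] B →ₐ[V] B ⊗[V] (B ⧸ x) :=
    Algebra.TensorProduct.map (AlgHom.id V B) (Ideal.Quotient.mkₐ V x)
  have hφm : ∀ z, φ z = Ideal.Quotient.factor hx (m z) := by
    intro z
    induction z using TensorProduct.induction_on with
    | zero => simp
    | tmul b c =>
      obtain ⟨c, rfl⟩ := Ideal.Quotient.mk_surjective c
      simp [φ, m]
    | add a b ha hb => rw [map_add, map_add, map_add, ha, hb]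
  have hmπ : ∀ z, m (π z) = Ideal.Quotient.mk x (Algebra.TensorProduct.lmul' V (S := B) z) := by
    intro z
    induction z using TensorProduct.induction_on with
    | zero => simp
    | tmul b c => simp [m, π]
    | add a b ha hb => rw [map_add, map_add, map_add, map_add, ha, hb]
  have hπsurj : Function.Surjective π := by
    apply TensorProduct.map_surjective Function.surjective_id
    exact Ideal.Quotient.mk_surjective
  -- purity of `ker m`
  have hpure : ∀ z', m z' = 0 → ∃ w', m w' = 0 ∧ z' = z' * w' := by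
    intro z' hz'
    obtain ⟨z, rfl⟩ := hπsurj z'
    rw [hmπ, Ideal.Quotient.eq_zero_iff_mem] at hz'
    set t := Algebra.TensorProduct.lmul' V (S := B) z with ht
    have h0 : Algebra.TensorProduct.lmul' V (S := B) (z - 1 ⊗ₜ t) = 0 := by
      rw [map_sub, ← ht]; simp
    obtain ⟨w, hw, hzw⟩ := exists_eq_mul_of_mem_ker_lmul' h0
    have h1 : π (z - 1 ⊗ₜ t) = π z := by
      rw [map_sub]
      have : π ((1 : B) ⊗ₜ[V] t) = 0 := by
        simp [π, Ideal.Quotient.eq_zero_iff_mem.mpr hz']
      rw [this, sub_zero]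
    refine ⟨π w, by rw [hmπ, hw, map_zero], ?_⟩
    rw [← h1, ← map_mul, ← hzw]
  -- the prime `Q'` over `q`
  let Q' : Ideal (B ⊗[V] (B ⧸ x)) := RingHom.ker φ.toRingHom
  have hQ'prime : Q'.IsPrime := RingHom.ker_isPrime _
  have hQ'over : Q'.LiesOver q := by
    refine ⟨?_⟩
    ext b
    simp only [Ideal.under, Ideal.mem_comap, Q', RingHom.mem_ker]
    have : φ.toRingHom (algebraMap B (B ⊗[V] (B ⧸ x)) b) = Ideal.Quotient.mk q b := by
      simp [φ, Algebra.TensorProduct.algebraMap_apply]
    rw [this, Ideal.Quotient.eq_zero_iff_mem]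
  obtain ⟨P, hPQ, hP, hPx'⟩ := Ideal.exists_ideal_le_liesOver_of_le (p := x') (q := q) Q' hx'
  have hIP : ∀ z', m z' = 0 → z' ∈ P := by
    intro z' hz'
    obtain ⟨w', hw', hzw'⟩ := hpure z' hz'
    have h1 : z' * (1 - w') ∈ P := by
      have : z' * (1 - w') = 0 := by rw [mul_sub, mul_one, ← hzw', sub_self]
      rw [this]; exact zero_mem _
    rcases hP.mem_or_mem h1 with h | h
    · exact h
    · exfalso
      have hw'Q : w' ∈ Q' := by
        simp only [Q', RingHom.mem_ker]
        change φ w' = 0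
        rw [hφm, hw', map_zero]
      have : (1 : B ⊗[V] (B ⧸ x)) ∈ Q' := by
        have := Q'.add_mem (hPQ h) hw'Q
        simpa using this
      exact hQ'prime.ne_top ((Ideal.eq_top_iff_one _).mpr this)
  intro b hb
  have h1 : (b ⊗ₜ[V] (1 : B ⧸ x)) ∈ P := by
    apply hIP
    simp [m, Ideal.Quotient.eq_zero_iff_mem.mpr hb]
  rw [hPx'.over]
  simpa [Ideal.under, Algebra.TensorProduct.algebraMap_apply] using h1

end GoingDown

section Valuation

variable {V : Type*} [CommRing V] [IsDomain V] [ValuationRing V] {B : Type*} [CommRing B]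
  [Algebra V B]

theorem flat_quotient_of_comap_eq_bot (x : Ideal B) [x.IsPrime]
    (h0 : x.comap (algebraMap V B) = ⊥) : Module.Flat V (B ⧸ x) := by
  rw [Module.Flat.flat_iff_torsion_eq_bot_of_isBezout]
  rw [eq_bot_iff]
  intro y hy
  rw [Submodule.mem_torsion_iff] at hy
  obtain ⟨⟨a, ha⟩, hay⟩ := hy
  obtain ⟨b, rfl⟩ := Ideal.Quotient.mk_surjective y
  have ha0 : a ≠ 0 := nonZeroDivisors.ne_zero ha
  have h1 : algebraMap V B a * b ∈ x := by
    rw [← Ideal.Quotient.eq_zero_iff_mem, map_mul]
    simpa [Algebra.smul_def] using hay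
  have h2 : algebraMap V B a ∉ x := by
    intro h
    have : a ∈ x.comap (algebraMap V B) := h
    rw [h0] at this
    exact ha0 this
  rcases Ideal.IsPrime.mem_or_mem ‹_› h1 with h | h
  · exact absurd h h2
  · simpa using Ideal.Quotient.eq_zero_iff_mem.mpr h

/-- **Unique generic point**: a prime of a weakly étale algebra over a valuation ring contains at
most one prime lying over `0`. -/
theorem eq_of_le_of_comap_eq_bot [Algebra.WeaklyEtale V B] (q x x' : Ideal B) [q.IsPrime]
    [x.IsPrime] [x'.IsPrime] (hx : x ≤ q) (hx' : x' ≤ q)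
    (h0 : x.comap (algebraMap V B) = ⊥) (h0' : x'.comap (algebraMap V B) = ⊥) : x = x' := by
  have := flat_quotient_of_comap_eq_bot x h0
  have := flat_quotient_of_comap_eq_bot x' h0'
  exact le_antisymm (le_of_le_of_flat_quotient (V := V) q x x' hx hx')
    (le_of_le_of_flat_quotient (V := V) q x' x hx' hx)

end Valuation

end Groth.Agent.Lib.Helper10.WE
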