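import Groth.Agent.Lib.Helper10.WEField
import Groth.Prelude.Def_EtAlgD

/-!
# The maximal weakly étale subalgebra of an algebra over a field (helper10)
-/

namespace Groth.Agent.Lib.Helper10.WE

open TensorProduct Polynomial

universe u

variable (K : Type u) [Field K] {A : Type u} [CommRing A] [Algebra K A]

/-- an element is *separable* over `K` if it is killed by a monic separable polynomial -/
def IsSepElem (x : A) : Prop := ∃ P : K[X], P.Monic ∧ P.Separable ∧ aeval x P = 0

theorem weaklyEtale_subalgebra_iff (S : Subalgebra K A) :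
    Algebra.WeaklyEtale K S ↔ ∀ x ∈ S, IsSepElem K x := by
  constructor
  · intro h x hx
    obtain ⟨P, hPm, hPs, hP⟩ := exists_monic_separable_aeval_eq_zero K S ⟨x, hx⟩
    refine ⟨P, hPm, hPs, ?_⟩
    have := congrArg (Subtype.val) hP
    rw [Polynomial.aeval_subalgebra_coe] at this
    exact this
  · intro h
    refine weaklyEtale_of_forall_separable K S ?_
    intro x
    obtain ⟨P, hPm, hPs, hP⟩ := h x x.2
    refine ⟨P, hPm, hPs, ?_⟩
    apply Subtype.val_injective
    rw [Polynomial.aeval_subalgebra_coe, hP]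
    rfl

theorem mem_maxWeaklyEtale_iff (x : A) :
    x ∈ EtAlgD.maxWeaklyEtale K A ↔ IsSepElem K x := by
  classical
  constructor
  · intro hx
    unfold EtAlgD.maxWeaklyEtale at hx
    rw [sSup_eq_iSup'] at hx
    have hne : Nonempty ↥{S : Subalgebra K A | Algebra.WeaklyEtale K S} :=
      ⟨⟨⊥, weaklyEtale_bot K⟩⟩
    have hdir : Directed (· ≤ ·)
        (fun i : ↥{S : Subalgebra K A | Algebra.WeaklyEtale K S} => (i : Subalgebra K A)) := by
      intro S₁ S₂
      have h1 : Algebra.WeaklyEtale K S₁.1 := S₁.2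
      have h2 : Algebra.WeaklyEtale K S₂.1 := S₂.2
      exact ⟨⟨S₁.1 ⊔ S₂.1, weaklyEtale_sup K S₁.1 S₂.1⟩, le_sup_left, le_sup_right⟩
    have hx' : x ∈ ((⨆ i : ↥{S : Subalgebra K A | Algebra.WeaklyEtale K S},
        (i : Subalgebra K A) : Subalgebra K A) : Set A) := hx
    rw [Subalgebra.coe_iSup_of_directed hdir, Set.mem_iUnion] at hx'
    obtain ⟨S, hxS⟩ := hx'
    exact (weaklyEtale_subalgebra_iff K S.1).mp S.2 x hxS
  · rintro ⟨P, hPm, hPs, hP⟩
    -- the subalgebra generated by `x` is weakly étale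
    obtain ⟨S, hxS, hS⟩ := exists_weaklyEtale_subalgebra_of_finset K A {x}
      (fun b hb => by
        rw [Finset.mem_singleton] at hb
        subst hb
        exact ⟨P, hPm, hPs, hP⟩)
    have hle : S ≤ EtAlgD.maxWeaklyEtale K A := le_sSup hS
    exact hle (hxS (by simp))

theorem weaklyEtale_maxWeaklyEtale : Algebra.WeaklyEtale K ↥(EtAlgD.maxWeaklyEtale K A) :=
  (weaklyEtale_subalgebra_iff K _).mpr (fun x hx => (mem_maxWeaklyEtale_iff K x).mp hx)

theorem le_maxWeaklyEtale_iff (S : Subalgebra K A) :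
    S ≤ EtAlgD.maxWeaklyEtale K A ↔ Algebra.WeaklyEtale K S := by
  rw [weaklyEtale_subalgebra_iff]
  exact ⟨fun h x hx => (mem_maxWeaklyEtale_iff K x).mp (h hx),
    fun h x hx => (mem_maxWeaklyEtale_iff K x).mpr (h x hx)⟩

variable {K}

theorem IsSepElem.map {A' : Type u} [CommRing A'] [Algebra K A'] (f : A →ₐ[K] A') {x : A}
    (hx : IsSepElem K x) : IsSepElem K (f x) := by
  obtain ⟨P, hPm, hPs, hP⟩ := hx
  exact ⟨P, hPm, hPs, by rw [Polynomial.aeval_algHom_apply, hP, map_zero]⟩

theorem IsSepElem.of_map_injective {A' : Type u} [CommRing A'] [Algebra K A'] (f : A →ₐ[K] A')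
    (hf : Function.Injective f) {x : A} (hx : IsSepElem K (f x)) : IsSepElem K x := by
  obtain ⟨P, hPm, hPs, hP⟩ := hx
  refine ⟨P, hPm, hPs, hf ?_⟩
  rw [← Polynomial.aeval_algHom_apply, hP, map_zero]

/-- von Neumann regularity of separable elements -/
theorem IsSepElem.exists_eq_sq_mul {x : A} (hx : IsSepElem K x) :
    ∃ c ∈ EtAlgD.maxWeaklyEtale K A, x = x * x * c := by
  have hWE := weaklyEtale_maxWeaklyEtale K (A := A)
  have hx' : x ∈ EtAlgD.maxWeaklyEtale K A := (mem_maxWeaklyEtale_iff K x).mpr hx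
  obtain ⟨c, hc⟩ := exists_eq_sq_mul_of_field K (EtAlgD.maxWeaklyEtale K A) ⟨x, hx'⟩
  exact ⟨c.1, c.2, congrArg Subtype.val hc⟩

theorem IsSepElem.eq_zero_of_isNilpotent {x : A} (hx : IsSepElem K x) (hn : IsNilpotent x) :
    x = 0 := by
  obtain ⟨c, -, hc⟩ := hx.exists_eq_sq_mul
  have h : ∀ k : ℕ, x = x ^ (k + 1) * c ^ k := by
    intro k
    induction k with
    | zero => simp
    | succ k ih =>
      calc x = x ^ (k + 1) * c ^ k := ih
        _ = x ^ k * x * c ^ k := by rw [pow_succ]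
        _ = x ^ k * (x * x * c) * c ^ k := by rw [← hc]
        _ = x ^ (k + 1 + 1) * c ^ (k + 1) := by ring
  obtain ⟨n, hn⟩ := hn
  have := h n
  rw [pow_succ, hn, zero_mul, zero_mul] at this
  exact this

/-- separable elements lift along the quotient by the nilradical -/
theorem IsSepElem.exists_lift_nilradical {y : A ⧸ nilradical A} (hy : IsSepElem K y) :
    ∃ x : A, IsSepElem K x ∧ Ideal.Quotient.mk (nilradical A) x = y := by
  obtain ⟨P, hPm, hPs, hP⟩ := hy
  obtain ⟨x₀, rfl⟩ := Ideal.Quotient.mk_surjective y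
  have hmk : ∀ Q : K[X], Ideal.Quotient.mk (nilradical A) (aeval x₀ Q) =
      aeval (Ideal.Quotient.mk (nilradical A) x₀) Q := by
    intro Q
    exact (Polynomial.aeval_algHom_apply (Ideal.Quotient.mkₐ K (nilradical A)) x₀ Q).symm
  have h1 : IsNilpotent (aeval x₀ P) := by
    rw [← mem_nilradical, ← Ideal.Quotient.eq_zero_iff_mem, hmk, hP]
  have h2 : IsUnit (aeval x₀ (derivative P)) := by
    obtain ⟨u, v, huv⟩ := hPs
    have h3 : aeval x₀ v * aeval x₀ (derivative P) = 1 - aeval x₀ u * aeval x₀ P := by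
      have := congrArg (aeval x₀) huv
      rw [map_add, map_mul, map_mul, map_one] at this
      linear_combination this
    have h4 : IsUnit (1 - aeval x₀ u * aeval x₀ P) :=
      IsNilpotent.isUnit_one_sub (Commute.isNilpotent_mul_left (Commute.all _ _) h1)
    rw [← h3] at h4
    exact isUnit_of_mul_isUnit_right h4
  obtain ⟨r, ⟨hr1, hr2⟩, -⟩ := Polynomial.existsUnique_nilpotent_sub_and_aeval_eq_zero (P := P) h1 h2
  refine ⟨r, ⟨P, hPm, hPs, hr2⟩, ?_⟩
  rw [eq_comm, Ideal.Quotient.eq, mem_nilradical]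
  exact hr1

end Groth.Agent.Lib.Helper10.WE
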