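import Groth.Agent.Lib.Helper10.WEValAlgClosed
import Groth.Agent.Lib.Helper10.FlatZorn
import Mathlib

/-!
# Weakly étale algebras over normal domains (helper10)

If `A` is an integrally closed domain with fraction field `K` and `B` is weakly étale over `A`,
then `B` is integrally closed in `B ⊗[A] K`.
-/

namespace Groth.Agent.Lib.Helper10.WE

open TensorProduct Groth.Agent.Lib.Helper10.FlatZorn

universe u

section AlgClosed

variable {A : Type u} [CommRing A] {Ω : Type u} [Field Ω] [IsAlgClosed Ω] [Algebra A Ω]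
  {B : Type u} [CommRing B] [Algebra A B] [Algebra.WeaklyEtale A B]

/-- the valuation subalgebra case -/
theorem mem_M_of_isVal (R : Subalgebra A Ω) (hR : IsVal R) (z : Ω ⊗[A] B)
    (hz : (Algebra.TensorProduct.includeRight : B →ₐ[A] Ω ⊗[A] B).toRingHom.IsIntegralElem z) :
    z ∈ M B (Subalgebra.toSubmodule R) := by
  let VR : ValuationSubring Ω := { R.toSubring with mem_or_inv_mem' := hR }
  have hmemVR : ∀ t : Ω, t ∈ VR ↔ t ∈ R := fun t => Iff.rfl
  letI algA : Algebra A VR :=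
    ((algebraMap A Ω).codRestrict VR (fun a => (hmemVR _).mpr (R.algebraMap_mem a))).toAlgebra
  haveI : IsScalarTower A VR Ω := IsScalarTower.of_algebraMap_eq (fun a => rfl)
  let θ := Algebra.TensorProduct.cancelBaseChange A VR Ω Ω B
  let ιE : B →+* VR ⊗[A] B :=
    (Algebra.TensorProduct.includeRight : B →ₐ[A] VR ⊗[A] B).toRingHom
  let ιT : VR ⊗[A] B →+* Ω ⊗[VR] (VR ⊗[A] B) :=
    (Algebra.TensorProduct.includeRight : (VR ⊗[A] B) →ₐ[VR] Ω ⊗[VR] (VR ⊗[A] B)).toRingHom
  let ιB : B →+* Ω ⊗[A] B := (Algebra.TensorProduct.includeRight : B →ₐ[A] Ω ⊗[A] B).toRingHom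
  have hcomp : (θ.symm : Ω ⊗[A] B →+* Ω ⊗[VR] (VR ⊗[A] B)).comp ιB = ιT.comp ιE := by
    ext b
    change θ.symm ((1 : Ω) ⊗ₜ[A] b) = (1 : Ω) ⊗ₜ[VR] ((1 : VR) ⊗ₜ[A] b)
    exact Algebra.TensorProduct.cancelBaseChange_symm_tmul A VR Ω Ω B 1 b
  obtain ⟨p, hp, hpz⟩ := hz
  have hint : ιT.IsIntegralElem (θ.symm z) := by
    refine ⟨p.map ιE, hp.map _, ?_⟩
    rw [Polynomial.eval₂_map, ← hcomp]
    have := Polynomial.hom_eval₂ p ιB (θ.symm : Ω ⊗[A] B →+* Ω ⊗[VR] (VR ⊗[A] B)) z
    rw [hpz, map_zero] at this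
    exact this.symm
  obtain ⟨e, he⟩ := exists_eq_one_tmul_of_isIntegralElem (W := VR) (Ω := Ω) (E := VR ⊗[A] B)
    (θ.symm z) hint
  have hz' : z = θ ((1 : Ω) ⊗ₜ[VR] e) := by rw [← he, AlgEquiv.apply_symm_apply]
  rw [hz']
  have key : ∀ e' : VR ⊗[A] B, θ ((1 : Ω) ⊗ₜ[VR] e') ∈ M B (Subalgebra.toSubmodule R) := by
    intro e'
    induction e' using TensorProduct.induction_on with
    | zero => simp
    | tmul r b =>
      have : θ ((1 : Ω) ⊗ₜ[VR] (r ⊗ₜ[A] b)) = (r • (1 : Ω)) ⊗ₜ[A] b :=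
        Algebra.TensorProduct.cancelBaseChange_tmul A VR Ω Ω B 1 r b
      rw [this]
      apply tmul_mem_M
      have : r • (1 : Ω) = (r : Ω) := by rw [Algebra.smul_def, mul_one]; rfl
      rw [this]
      exact (hmemVR _).mp r.2
    | add e₁ e₂ h₁ h₂ =>
      rw [TensorProduct.tmul_add, map_add]
      exact add_mem h₁ h₂
  exact key e

/-- the integrally closed subalgebra case (Zorn reduction) -/
theorem mem_M_of_intClosed (S₀ : Subalgebra A Ω) (hS₀ : IntClosed S₀) (z : Ω ⊗[A] B)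
    (hz : (Algebra.TensorProduct.includeRight : B →ₐ[A] Ω ⊗[A] B).toRingHom.IsIntegralElem z) :
    z ∈ M B (Subalgebra.toSubmodule S₀) :=
  mem_M_of_forall_isVal S₀ hS₀ z fun R _ hR => mem_M_of_isVal R hR z hz

end AlgClosed

section Normal

variable (A : Type u) [CommRing A] [IsDomain A] [IsIntegrallyClosed A]
  (K : Type u) [Field K] [Algebra A K] [IsFractionRing A K] (B : Type u) [CommRing B] [Algebra A B]
  [Algebra.WeaklyEtale A B]

theorem exists_eq_tmul_one_of_isIntegral (x : B ⊗[A] K) (hx : IsIntegral B x) :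
    ∃ b : B, x = b ⊗ₜ[A] (1 : K) := by
  let Ω := AlgebraicClosure K
  let ψ : B ⊗[A] K →ₐ[A] Ω ⊗[A] B :=
    (Algebra.TensorProduct.map (IsScalarTower.toAlgHom A K Ω) (AlgHom.id A B)).comp
      (Algebra.TensorProduct.comm A B K).toAlgHom
  have hψ : ∀ (b : B) (k : K), ψ (b ⊗ₜ[A] k) = (algebraMap K Ω k) ⊗ₜ[A] b := fun b k => by
    simp [ψ]
  have hψinj : Function.Injective ψ := by
    have h1 : Function.Injective (Algebra.TensorProduct.map (IsScalarTower.toAlgHom A K Ω)
        (AlgHom.id A B)) := by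
      have := Module.Flat.rTensor_preserves_injective_linearMap (M := B)
        (IsScalarTower.toAlgHom A K Ω).toLinearMap (algebraMap K Ω).injective
      convert this using 1
      ext t
      induction t using TensorProduct.induction_on with
      | zero => simp
      | tmul k b => simp
      | add a b ha hb => simp only [map_add, ha, hb]
    exact h1.comp (Algebra.TensorProduct.comm A B K).injective
  let ιB : B →+* Ω ⊗[A] B := (Algebra.TensorProduct.includeRight : B →ₐ[A] Ω ⊗[A] B).toRingHom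
  -- integrality of `ψ x`
  have hint : ιB.IsIntegralElem (ψ x) := by
    obtain ⟨p, hp, hpx⟩ := hx
    refine ⟨p, hp, ?_⟩
    have hcomp : (ψ : B ⊗[A] K →+* Ω ⊗[A] B).comp (algebraMap B (B ⊗[A] K)) = ιB := by
      ext b
      change ψ (b ⊗ₜ[A] (1 : K)) = (1 : Ω) ⊗ₜ[A] b
      rw [hψ, map_one]
    rw [← hcomp]
    have := Polynomial.hom_eval₂ p (algebraMap B (B ⊗[A] K)) (ψ : B ⊗[A] K →+* Ω ⊗[A] B) x
    rw [hpx, map_zero] at this
    exact this.symm
  -- `ψ x` comes from the integral closure of `A` in `Ω`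
  have hS₀ : IntClosed (integralClosure A Ω) := fun t ht => isIntegral_trans t ht
  have h1 : ψ x ∈ M B (Subalgebra.toSubmodule (integralClosure A Ω)) :=
    mem_M_of_intClosed _ hS₀ _ hint
  -- `ψ x` comes from `K`
  have h2 : ∀ x' : B ⊗[A] K,
      ψ x' ∈ M B (Subalgebra.toSubmodule (IsScalarTower.toAlgHom A K Ω).range) := by
    intro x'
    induction x' using TensorProduct.induction_on with
    | zero => simp
    | tmul b k =>
      rw [hψ]
      have hk : algebraMap K Ω k ∈ Subalgebra.toSubmodule (IsScalarTower.toAlgHom A K Ω).range :=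
        ⟨k, rfl⟩
      exact tmul_mem_M hk b
    | add a b ha hb =>
      rw [map_add]
      exact add_mem ha hb
  have h3 : ψ x ∈ M B (Subalgebra.toSubmodule (integralClosure A Ω) ⊓
      Subalgebra.toSubmodule (IsScalarTower.toAlgHom A K Ω).range) := by
    rw [M_inf]
    exact ⟨h1, h2 x⟩
  have hle : Subalgebra.toSubmodule (integralClosure A Ω) ⊓
      Subalgebra.toSubmodule (IsScalarTower.toAlgHom A K Ω).range ≤
      Subalgebra.toSubmodule (⊥ : Subalgebra A Ω) := by
    rintro t ⟨ht1, ⟨k, rfl⟩⟩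
    have hk : IsIntegral A k := by
      have : IsIntegral A (algebraMap K Ω k) := ht1
      exact (isIntegral_algebraMap_iff (algebraMap K Ω).injective).mp this
    obtain ⟨a, rfl⟩ := IsIntegrallyClosed.isIntegral_iff.mp hk
    change _ ∈ (⊥ : Subalgebra A Ω)
    rw [Algebra.mem_bot]
    exact ⟨a, by
      change algebraMap A Ω a = algebraMap K Ω (algebraMap A K a)
      rw [← IsScalarTower.algebraMap_apply]⟩
  have h4 : ψ x ∈ M B (Subalgebra.toSubmodule (⊥ : Subalgebra A Ω)) := M_mono hle h3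
  have key2 : ∀ z ∈ M B (Subalgebra.toSubmodule (⊥ : Subalgebra A Ω)),
      ∃ b : B, z = (1 : Ω) ⊗ₜ[A] b := by
    rintro _ ⟨z₀, rfl⟩
    induction z₀ using TensorProduct.induction_on with
    | zero => exact ⟨0, by simp⟩
    | tmul s b =>
      have hs : (s : Ω) ∈ (⊥ : Subalgebra A Ω) := s.2
      rw [Algebra.mem_bot] at hs
      obtain ⟨a, ha⟩ := hs
      refine ⟨a • b, ?_⟩
      rw [LinearMap.rTensor_tmul, Submodule.subtype_apply, ← ha, Algebra.algebraMap_eq_smul_one,
        TensorProduct.smul_tmul]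
    | add z₁ z₂ h₁ h₂ =>
      obtain ⟨b₁, hb₁⟩ := h₁
      obtain ⟨b₂, hb₂⟩ := h₂
      exact ⟨b₁ + b₂, by rw [map_add, hb₁, hb₂, TensorProduct.tmul_add]⟩
  obtain ⟨b, hb⟩ := key2 _ h4
  refine ⟨b, hψinj ?_⟩
  rw [hb, hψ, map_one]

end Normal

end Groth.Agent.Lib.Helper10.WE
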