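import Groth.Agent.Lib.Helper10.WEGoingDown
import Groth.Agent.Lib.Helper10.WEField
import Groth.Agent.Lib.Helper10.WEFinite
import Mathlib

/-!
# Weakly étale algebras over a valuation ring with algebraically closed fraction field (helper10)

If `W` is a valuation ring with algebraically closed fraction field `Ω` and `E` is weakly étale
over `W`, then `E` is integrally closed in `Ω ⊗[W] E`.
-/

namespace Groth.Agent.Lib.Helper10.WE

open TensorProduct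

universe u

variable {W : Type u} [CommRing W] [IsDomain W] [ValuationRing W] {Ω : Type u} [Field Ω]
  [Algebra W Ω] [IsFractionRing W Ω] {E : Type u} [CommRing E] [Algebra W E]

omit [ValuationRing W] in
theorem exists_eq_inv_tmul (t : Ω ⊗[W] E) :
    ∃ w : W, w ≠ 0 ∧ ∃ e : E, t = (algebraMap W Ω w)⁻¹ ⊗ₜ[W] e := by
  have hne : ∀ w : W, w ≠ 0 → algebraMap W Ω w ≠ 0 := fun w hw =>
    (map_ne_zero_iff _ (IsFractionRing.injective W Ω)).mpr hw
  induction t using TensorProduct.induction_on with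
  | zero => exact ⟨1, one_ne_zero, 0, by simp⟩
  | tmul ω e =>
    obtain ⟨a, w, hw, rfl⟩ := IsFractionRing.div_surjective (A := W) ω
    have hw0 : w ≠ 0 := nonZeroDivisors.ne_zero hw
    refine ⟨w, hw0, a • e, ?_⟩
    rw [TensorProduct.tmul_smul, TensorProduct.smul_tmul', Algebra.smul_def, div_eq_mul_inv]
  | add t₁ t₂ h₁ h₂ =>
    obtain ⟨w₁, hw₁, e₁, rfl⟩ := h₁
    obtain ⟨w₂, hw₂, e₂, rfl⟩ := h₂
    refine ⟨w₁ * w₂, mul_ne_zero hw₁ hw₂, w₂ • e₁ + w₁ • e₂, ?_⟩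
    rw [TensorProduct.tmul_add, TensorProduct.tmul_smul, TensorProduct.tmul_smul,
      TensorProduct.smul_tmul', TensorProduct.smul_tmul', Algebra.smul_def, Algebra.smul_def,
      map_mul]
    congr 2
    · field_simp [hne w₁ hw₁, hne w₂ hw₂]
    · field_simp [hne w₁ hw₁, hne w₂ hw₂]

omit [IsDomain W] [ValuationRing W] [IsFractionRing W Ω] in
theorem one_tmul_algebraMap (w : W) :
    (1 : Ω) ⊗ₜ[W] (algebraMap W E w) = algebraMap Ω (Ω ⊗[W] E) (algebraMap W Ω w) := by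
  rw [Algebra.TensorProduct.algebraMap_apply, Algebra.algebraMap_self, RingHom.id_apply,
    Algebra.algebraMap_eq_smul_one, Algebra.algebraMap_eq_smul_one, TensorProduct.tmul_smul,
    TensorProduct.smul_tmul']

variable [Algebra.WeaklyEtale W E]

/-- two primes of `Ω ⊗ E` missing the image of `q.primeCompl` coincide -/
theorem prime_unique (q : Ideal E) [q.IsPrime] (P P' : Ideal (Ω ⊗[W] E)) [P.IsPrime] [P'.IsPrime]
    (hP : ∀ s : E, s ∉ q → (1 : Ω) ⊗ₜ[W] s ∉ P) (hP' : ∀ s : E, s ∉ q → (1 : Ω) ⊗ₜ[W] s ∉ P') :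
    P = P' := by
  let ι : E →+* Ω ⊗[W] E := (Algebra.TensorProduct.includeRight : E →ₐ[W] Ω ⊗[W] E).toRingHom
  have hι : ∀ e, ι e = (1 : Ω) ⊗ₜ[W] e := fun e => rfl
  have key : ∀ (P : Ideal (Ω ⊗[W] E)) [P.IsPrime], (∀ s : E, s ∉ q → (1 : Ω) ⊗ₜ[W] s ∉ P) →
      P.comap ι ≤ q ∧ (P.comap ι).comap (algebraMap W E) = ⊥ := by
    intro P _ hP
    refine ⟨fun s hs => ?_, ?_⟩
    · by_contra hsq
      exact hP s hsq hs
    · rw [eq_bot_iff]
      intro w hw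
      rw [Ideal.mem_bot]
      by_contra hw0
      have h1 : (1 : Ω) ⊗ₜ[W] (algebraMap W E w) ∈ P := hw
      rw [one_tmul_algebraMap] at h1
      have hu : IsUnit (algebraMap Ω (Ω ⊗[W] E) (algebraMap W Ω w)) := by
        apply IsUnit.map
        exact isUnit_iff_ne_zero.mpr
          ((map_ne_zero_iff _ (IsFractionRing.injective W Ω)).mpr hw0)
      exact ‹P.IsPrime›.ne_top (Ideal.eq_top_of_isUnit_mem _ h1 hu)
  obtain ⟨h1, h2⟩ := key P hP
  obtain ⟨h1', h2'⟩ := key P' hP'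
  have hxx : P.comap ι = P'.comap ι :=
    eq_of_le_of_comap_eq_bot (V := W) q (P.comap ι) (P'.comap ι) h1 h1' h2 h2'
  have hle : ∀ (P P' : Ideal (Ω ⊗[W] E)), P.comap ι = P'.comap ι → P ≤ P' := by
    intro P P' hxx t ht
    obtain ⟨w, hw, e, rfl⟩ := exists_eq_inv_tmul t
    have hne : algebraMap W Ω w ≠ 0 := (map_ne_zero_iff _ (IsFractionRing.injective W Ω)).mpr hw
    have h3 : (1 : Ω) ⊗ₜ[W] e ∈ P := by
      have := P.mul_mem_left ((algebraMap W Ω w) ⊗ₜ[W] (1 : E)) ht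
      rwa [Algebra.TensorProduct.tmul_mul_tmul, mul_inv_cancel₀ hne, one_mul] at this
    have h4 : e ∈ P.comap ι := h3
    rw [hxx] at h4
    have h5 : (1 : Ω) ⊗ₜ[W] e ∈ P' := h4
    have := P'.mul_mem_left ((algebraMap W Ω w)⁻¹ ⊗ₜ[W] (1 : E)) h5
    rwa [Algebra.TensorProduct.tmul_mul_tmul, mul_one, one_mul] at this
  exact le_antisymm (hle P P' hxx) (hle P' P hxx.symm)

/-- **Integral closedness over a valuation ring with algebraically closed fraction field.** -/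
theorem exists_eq_one_tmul_of_isIntegralElem [IsAlgClosed Ω] (y : Ω ⊗[W] E)
    (hy : (Algebra.TensorProduct.includeRight : E →ₐ[W] Ω ⊗[W] E).toRingHom.IsIntegralElem y) :
    ∃ e : E, y = (1 : Ω) ⊗ₜ[W] e := by
  classical
  let ι : E →+* Ω ⊗[W] E := (Algebra.TensorProduct.includeRight : E →ₐ[W] Ω ⊗[W] E).toRingHom
  have hι : ∀ e, ι e = (1 : Ω) ⊗ₜ[W] e := fun e => rfl
  have hvnr : ∀ t : Ω ⊗[W] E, ∃ c, t = t * t * c := exists_eq_sq_mul_of_field Ω (Ω ⊗[W] E)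
  have hint : Algebra.IsIntegral Ω (Ω ⊗[W] E) := ⟨fun t => by
    obtain ⟨P, hm, -, h0⟩ := exists_monic_separable_aeval_eq_zero Ω (Ω ⊗[W] E) t
    exact ⟨P, hm, h0⟩⟩
  -- the conductor
  let 𝔠 : Ideal E :=
    { carrier := {s | ∃ b : E, ((1 : Ω) ⊗ₜ[W] s) * y = (1 : Ω) ⊗ₜ[W] b}
      add_mem' := by
        rintro s s' ⟨b, hb⟩ ⟨b', hb'⟩
        exact ⟨b + b', by rw [TensorProduct.tmul_add, add_mul, hb, hb', TensorProduct.tmul_add]⟩
      zero_mem' := ⟨0, by simp⟩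
      smul_mem' := by
        rintro c s ⟨b, hb⟩
        refine ⟨c * b, ?_⟩
        have : (1 : Ω) ⊗ₜ[W] (c • s) = ((1 : Ω) ⊗ₜ[W] c) * ((1 : Ω) ⊗ₜ[W] s) := by
          rw [Algebra.TensorProduct.tmul_mul_tmul, one_mul, smul_eq_mul]
        rw [this, mul_assoc, hb, Algebra.TensorProduct.tmul_mul_tmul, one_mul] }
  have hmem𝔠 : ∀ s, s ∈ 𝔠 ↔ ∃ b : E, ((1 : Ω) ⊗ₜ[W] s) * y = (1 : Ω) ⊗ₜ[W] b := fun s => Iff.rfl
  by_cases htop : 𝔠 = ⊤
  · have : (1 : E) ∈ 𝔠 := by rw [htop]; trivial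
    obtain ⟨b, hb⟩ := (hmem𝔠 1).mp this
    refine ⟨b, ?_⟩
    rw [← hb]
    change y = (1 : Ω ⊗[W] E) * y
    rw [one_mul]
  exfalso
  obtain ⟨q, hqmax, h𝔠q⟩ := Ideal.exists_le_maximal 𝔠 htop
  have hqprime : q.IsPrime := hqmax.isPrime
  by_cases h0 : ∃ s : E, s ∉ q ∧ (1 : Ω) ⊗ₜ[W] s = (0 : Ω ⊗[W] E)
  · obtain ⟨s, hsq, hs0⟩ := h0
    exact hsq (h𝔠q ((hmem𝔠 s).mpr ⟨0, by rw [hs0, zero_mul, TensorProduct.tmul_zero]⟩))
  push Not at h0
  -- the multiplicative set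
  let N : Submonoid (Ω ⊗[W] E) := q.primeCompl.map ι
  have hN : ∀ n ∈ N, ∃ s : E, s ∉ q ∧ n = (1 : Ω) ⊗ₜ[W] s := by
    rintro n ⟨s, hs, rfl⟩
    exact ⟨s, hs, rfl⟩
  have hNmem : ∀ s : E, s ∉ q → (1 : Ω) ⊗ₜ[W] s ∈ N := fun s hs => ⟨s, hs, rfl⟩
  have hdisj0 : Disjoint ((⊥ : Ideal (Ω ⊗[W] E)) : Set (Ω ⊗[W] E)) N := by
    rw [Set.disjoint_left]
    intro n hn hnN
    obtain ⟨s, hs, rfl⟩ := hN n hnN
    exact h0 s hs hn
  obtain ⟨P, hPprime, -, hPdisj⟩ := Ideal.exists_le_prime_disjoint ⊥ N hdisj0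
  have hPN : ∀ s : E, s ∉ q → (1 : Ω) ⊗ₜ[W] s ∉ P := fun s hs hsP =>
    Set.disjoint_left.mp hPdisj hsP (hNmem s hs)
  have hPmax : P.IsMaximal := isMaximal_of_isPrime_of_vnr hvnr P
  letI : Field ((Ω ⊗[W] E) ⧸ P) := Ideal.Quotient.field P
  have hintL : Algebra.IsIntegral Ω ((Ω ⊗[W] E) ⧸ P) :=
    Algebra.IsIntegral.of_surjective (Ideal.Quotient.mkₐ Ω P) Ideal.Quotient.mk_surjective
  have hbij : Function.Bijective (algebraMap Ω ((Ω ⊗[W] E) ⧸ P)) :=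
    IsAlgClosed.algebraMap_bijective_of_isIntegral
  let χ : E →+* (Ω ⊗[W] E) ⧸ P := (Ideal.Quotient.mk P).comp ι
  -- the image of `E` is a valuation subring of the residue field
  let VS : ValuationSubring ((Ω ⊗[W] E) ⧸ P) :=
    { χ.range with
      mem_or_inv_mem' := by
        intro l
        obtain ⟨ω, rfl⟩ := hbij.2 l
        have hW : ∀ a : W, algebraMap Ω ((Ω ⊗[W] E) ⧸ P) (algebraMap W Ω a) ∈ χ.range := by
          intro a
          refine ⟨algebraMap W E a, ?_⟩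
          change Ideal.Quotient.mk P ((1 : Ω) ⊗ₜ[W] (algebraMap W E a)) = _
          rw [one_tmul_algebraMap]
          rfl
        rcases ValuationRing.isInteger_or_isInteger W ω with ⟨a, ha⟩ | ⟨a, ha⟩
        · left
          rw [← ha]; exact hW a
        · right
          rw [← map_inv₀, ← ha]; exact hW a }
  have hVSmem : ∀ l, l ∈ VS ↔ l ∈ χ.range := fun l => Iff.rfl
  -- `χ y` is integral over the image
  obtain ⟨p, hp, hpy⟩ := hy
  have hintVS : IsIntegral VS.toSubring (Ideal.Quotient.mk P y) := by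
    let r : E →+* VS.toSubring :=
      { toFun := fun e => ⟨χ e, (hVSmem _).mpr ⟨e, rfl⟩⟩
        map_one' := by ext; simp
        map_mul' := fun _ _ => by ext; simp
        map_zero' := by ext; simp
        map_add' := fun _ _ => by ext; simp }
    refine ⟨p.map r, hp.map _, ?_⟩
    rw [Polynomial.eval₂_map]
    have : (algebraMap VS.toSubring ((Ω ⊗[W] E) ⧸ P)).comp r = (Ideal.Quotient.mk P).comp ι :=
      RingHom.ext fun e => rfl
    rw [this, ← Polynomial.hom_eval₂, hpy, map_zero]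
  have hVint : IsIntegrallyClosedIn VS.toSubring ((Ω ⊗[W] E) ⧸ P) :=
    inferInstanceAs (IsIntegrallyClosedIn VS ((Ω ⊗[W] E) ⧸ P))
  have hmemVS := (Subring.isIntegrallyClosedIn_iff (S := VS.toSubring)).mp hVint hintVS
  obtain ⟨b, hb⟩ := (hVSmem _).mp hmemVS
  -- `d = y - 1 ⊗ b ∈ P`
  set d := y - (1 : Ω) ⊗ₜ[W] b with hd
  have hdP : d ∈ P := by
    rw [← Ideal.Quotient.eq_zero_iff_mem, hd, map_sub, sub_eq_zero]
    exact hb.symm
  -- some `1 ⊗ s`, `s ∉ q`, kills `d`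
  have hkill : ∃ s : E, s ∉ q ∧ ((1 : Ω) ⊗ₜ[W] s) * d = 0 := by
    by_contra hcon
    push Not at hcon
    let Ann : Ideal (Ω ⊗[W] E) := (Submodule.span (Ω ⊗[W] E) {d}).annihilator
    have hAnn : ∀ t, t ∈ Ann ↔ t * d = 0 := fun t => by
      rw [Submodule.mem_annihilator_span_singleton, smul_eq_mul]
    have hdisj : Disjoint (Ann : Set (Ω ⊗[W] E)) N := by
      rw [Set.disjoint_left]
      intro n hn hnN
      obtain ⟨s, hs, rfl⟩ := hN n hnN
      exact hcon s hs ((hAnn _).mp hn)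
    obtain ⟨P', hP'prime, hAP', hP'disj⟩ := Ideal.exists_le_prime_disjoint Ann N hdisj
    have hP'N : ∀ s : E, s ∉ q → (1 : Ω) ⊗ₜ[W] s ∉ P' := fun s hs hsP =>
      Set.disjoint_left.mp hP'disj hsP (hNmem s hs)
    have hPP' : P' = P := prime_unique q P' P hP'N hPN
    obtain ⟨c, hc⟩ := hvnr d
    have h1 : (1 - d * c) ∈ Ann := by
      rw [hAnn]
      rw [sub_mul, one_mul, sub_eq_zero]
      rw [mul_assoc, mul_comm c d, ← mul_assoc]
      exact hc
    have h2 : (1 - d * c) ∈ P := hPP' ▸ hAP' h1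
    have h3 : d * c ∈ P := P.mul_mem_right c hdP
    have : (1 : Ω ⊗[W] E) ∈ P := by
      have := P.add_mem h2 h3
      simpa using this
    exact hPprime.ne_top ((Ideal.eq_top_iff_one _).mpr this)
  obtain ⟨s, hsq, hsd⟩ := hkill
  apply hsq
  apply h𝔠q
  rw [hmem𝔠]
  refine ⟨s * b, ?_⟩
  rw [hd, mul_sub, sub_eq_zero, Algebra.TensorProduct.tmul_mul_tmul, one_mul] at hsd
  exact hsd

end Groth.Agent.Lib.Helper10.WE
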