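import Groth.Agent.Lib.Helper10.WEBasic

/-!
# Weakly étale algebras over absolutely flat rings are von Neumann regular (helper10)
-/

namespace Groth.Agent.Lib.Helper10.WE

open TensorProduct

/-- von Neumann regularity of a weakly étale algebra when all cyclic quotients are flat over the base
(e.g. over a field). -/
theorem exists_eq_sq_mul (A B : Type*) [CommRing A] [CommRing B] [Algebra A B]
    [Algebra.WeaklyEtale A B]
    (hflat : ∀ b : B, Module.Flat A (B ⧸ Ideal.span {b})) (b : B) : ∃ c : B, b = b * b * c := by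
  classical
  set μ := Algebra.TensorProduct.lmul' A (S := B) with hμ
  have hμs : Function.Surjective μ.toRingHom := fun s => ⟨s ⊗ₜ 1, by simp [μ]⟩
  have hpure : (RingHom.ker μ.toRingHom).Pure :=
    pure_ker_of_flat _ hμs (Algebra.WeaklyEtale.flat_lmul' A B)
  have hj : (b ⊗ₜ[A] (1 : B) - 1 ⊗ₜ b) ∈ RingHom.ker μ.toRingHom := by
    simp [RingHom.mem_ker, μ]
  obtain ⟨y, hy, hjy⟩ := Ideal.exists_eq_mul_of_pure hj
  obtain ⟨S, hS⟩ := TensorProduct.exists_finset (1 - y)
  have hμy : μ y = 0 := hy
  have hμe : ∑ i ∈ S, i.1 * i.2 = 1 := by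
    have h1 : μ (1 - y) = 1 := by rw [map_sub, map_one, hμy, sub_zero]
    rw [hS, map_sum] at h1
    simpa [μ] using h1
  have h0 : (b ⊗ₜ[A] (1 : B) - 1 ⊗ₜ b) * (1 - y) = 0 := by
    rw [mul_sub, mul_one, ← hjy, sub_self]
  let π := Ideal.Quotient.mkₐ A (Ideal.span {b})
  have hπb : π b = 0 := by
    simp only [π, Ideal.Quotient.mkₐ_eq_mk]
    exact Ideal.Quotient.eq_zero_iff_mem.mpr (Ideal.mem_span_singleton_self b)
  let φ : B ⊗[A] B →ₐ[A] B ⊗[A] (B ⧸ Ideal.span {b}) :=
    Algebra.TensorProduct.map (AlgHom.id A B) π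
  have h1 : ∑ i ∈ S, (b * i.1) ⊗ₜ[A] π i.2 = 0 := by
    have h2 := congrArg φ h0
    rw [map_mul, map_sub, map_zero, hS, map_sum] at h2
    simp only [φ, Algebra.TensorProduct.map_tmul, AlgHom.coe_id, id_eq, hπb, map_one,
      tmul_zero, sub_zero, Finset.mul_sum, Algebra.TensorProduct.tmul_mul_tmul, one_mul] at h2
    exact h2
  -- apply the equational criterion
  have h1' : ∑ i : S, (b * i.1.1) ⊗ₜ[A] π i.1.2 = 0 := by
    rw [← h1]
    exact Finset.sum_coe_sort S (fun i => (b * i.1) ⊗ₜ[A] π i.2)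
  have hN : Module.Flat A (B ⧸ Ideal.span {b}) := hflat b
  have hinj : Function.Injective (LinearMap.rTensor (B ⧸ Ideal.span {b})
      (Submodule.span A (Set.range (fun i : S => b * i.1.1))).subtype) :=
    Module.Flat.rTensor_preserves_injective_linearMap _ (Submodule.injective_subtype _)
  obtain ⟨k, a, u, hn, hm⟩ :=
    TensorProduct.vanishesTrivially_of_sum_tmul_eq_zero_of_rTensor_injective A hinj h1'
  choose v hv using fun j => Ideal.Quotient.mk_surjective (u j)
  set z : Fin k → B := fun j => ∑ i : S, a i j • i.1.1 with hz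
  have hbz : ∀ j, b * z j = 0 := by
    intro j
    rw [hz]
    simp only [Finset.mul_sum, mul_smul_comm]
    exact hm j
  have hπ1 : π (∑ j, z j * v j) = 1 := by
    have hv' : ∀ j, π (v j) = u j := hv
    rw [map_sum]
    simp only [map_mul, hv', hz, map_sum, map_smul]
    calc ∑ j, (∑ i : S, a i j • π i.1.1) * u j
        = ∑ j, ∑ i : S, π i.1.1 * (a i j • u j) := by
          refine Finset.sum_congr rfl fun j _ => ?_
          rw [Finset.sum_mul]
          refine Finset.sum_congr rfl fun i _ => ?_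
          rw [smul_mul_assoc, mul_smul_comm]
      _ = ∑ i : S, ∑ j, π i.1.1 * (a i j • u j) := Finset.sum_comm
      _ = ∑ i : S, π i.1.1 * π i.1.2 := by
          refine Finset.sum_congr rfl fun i _ => ?_
          rw [← Finset.mul_sum, ← hn i]
      _ = π (∑ i : S, i.1.1 * i.1.2) := by simp only [map_sum, map_mul]
      _ = 1 := by
          rw [Finset.sum_coe_sort S (fun i => i.1 * i.2), hμe, map_one]
  have hmem : 1 - ∑ j, z j * v j ∈ Ideal.span {b} := by
    rw [← Ideal.Quotient.eq_zero_iff_mem]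
    have : π (1 - ∑ j, z j * v j) = 0 := by rw [map_sub, map_one, hπ1, sub_self]
    exact this
  obtain ⟨c, hc⟩ := Ideal.mem_span_singleton'.mp hmem
  refine ⟨c, ?_⟩
  have h3 : b * ∑ j, z j * v j = 0 := by
    rw [Finset.mul_sum]
    refine Finset.sum_eq_zero fun j _ => ?_
    rw [← mul_assoc, hbz j, zero_mul]
  have h4 : b * (1 - ∑ j, z j * v j) = b := by rw [mul_sub, mul_one, h3, sub_zero]
  rw [← hc] at h4
  calc b = b * (c * b) := h4.symm
    _ = b * b * c := by ring

/-- over a field, weakly étale algebras are von Neumann regular -/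
theorem exists_eq_sq_mul_of_field (K B : Type*) [Field K] [CommRing B] [Algebra K B]
    [Algebra.WeaklyEtale K B] (b : B) : ∃ c : B, b = b * b * c :=
  exists_eq_sq_mul K B (fun _ => inferInstance) b

section VNR

variable {R : Type*} [CommRing R]

theorem isField_of_isLocalRing_of_vnr [IsLocalRing R] (h : ∀ b : R, ∃ c : R, b = b * b * c) :
    IsField R := by
  refine ⟨exists_pair_ne R, mul_comm, ?_⟩
  intro a ha
  obtain ⟨c, hc⟩ := h a
  by_cases hu : IsUnit a
  · obtain ⟨b, hb⟩ := hu.exists_right_inv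
    exact ⟨b, hb⟩
  · exfalso
    have h1 : a * (1 - a * c) = 0 := by
      have : a * (1 - a * c) = a - a * a * c := by ring
      rw [this, ← hc, sub_self]
    have h2 : IsUnit (1 - a * c) := by
      have hmem : a * c ∈ IsLocalRing.maximalIdeal R :=
        Ideal.mul_mem_right _ _ ((IsLocalRing.mem_maximalIdeal a).mpr hu)
      have := IsLocalRing.isUnit_one_sub_self_of_mem_nonunits _ ((IsLocalRing.mem_maximalIdeal _).mp hmem)
      exact this
    exact ha (by simpa using (h2.mul_left_eq_zero).mp h1)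

theorem pure_of_vnr (h : ∀ b : R, ∃ c : R, b = b * b * c) (I : Ideal R) : I.Pure := by
  refine pure_of_forall_exists_eq_mul I ?_
  intro x hx
  obtain ⟨c, hc⟩ := h x
  exact ⟨x * c, Ideal.mul_mem_right _ _ hx, by rw [← mul_assoc]; exact hc⟩

/-- over a von Neumann regular ring all modules are flat -/
theorem flat_of_vnr (h : ∀ b : R, ∃ c : R, b = b * b * c) (M : Type*) [AddCommGroup M]
    [Module R M] : Module.Flat R M := by
  rw [Module.Flat.iff_rTensor_injective]
  intro I hI
  have hpure : I.Pure := pure_of_vnr h I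
  have hidem : IsIdempotentElem I := Ideal.isIdempotentElem_of_pure I
  rw [Ideal.isIdempotentElem_iff_of_fg _ hI] at hidem
  obtain ⟨e, he, rfl⟩ := hidem
  -- retraction `R → span {e}`, `r ↦ r * e`
  let ρ : R →ₗ[R] (Ideal.span {e} : Ideal R) :=
    { toFun := fun r => ⟨r * e, Ideal.mul_mem_left _ _ (Ideal.mem_span_singleton_self e)⟩
      map_add' := fun x y => by ext; simp [add_mul]
      map_smul' := fun x y => by ext; simp [mul_assoc] }
  have hρ : ρ ∘ₗ (Submodule.subtype _) = LinearMap.id := by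
    ext ⟨x, hx⟩
    obtain ⟨r, rfl⟩ := Ideal.mem_span_singleton'.mp hx
    simp only [ρ, LinearMap.coe_comp, Function.comp_apply, Submodule.subtype_apply,
      LinearMap.coe_mk, AddHom.coe_mk, LinearMap.id_apply]
    rw [mul_assoc, he.eq]
  apply Function.LeftInverse.injective (g := LinearMap.rTensor M ρ)
  intro x
  rw [← LinearMap.comp_apply, ← LinearMap.rTensor_comp, hρ, LinearMap.rTensor_id,
    LinearMap.id_apply]

end VNR

end Groth.Agent.Lib.Helper10.WE
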